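import Cfsg.Agent.Lib.LargeFischer.ThompsonModel
import Cfsg.Agent.Lib.Golay.M24

/-!
A group of linear permutations of the model of the Thompson subgroup that preserves the 276 duads and has the
order of the Mathieu group is that group, acting on pairs of the 24 points.
-/

set_option autoImplicit false

namespace CfsgLib.LargeFischer.Thompson

open Cfsg CfsgLib.Golay
open scoped Pointwise

/-- The element of the duad formed by the first point and the point at a bit position. -/
def pointElts : List ℕ :=
  [0, 2, 4, 7, 798, 742, 1580, 775, 1414, 1543, 782, 1656, 790, 519, 710, 1501, 1515, 647, 584, 1457, 628, 570, 1618, 678]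

/-- The element of the duad formed by the first point and `p`. -/
def pointElt (p : GolayPt) : ℕ := pointElts.getD (bit p) 0

/-- The element of the duad `{p, q}`. -/
def duadElt (p q : GolayPt) : ℕ := pointElt p ^^^ pointElt q

/-- The set of duads, as a mask. -/
def duadMask : ℕ := 0x20410800402402010400208802008020880100104802001084020010880200220201020040808088040808001010102950000000065000000005900000000a900009a00a6000000006a00000000005680404040102010100404080402020201801004024020040240100802401004018008011001208004200108400440100140021008041002800240042020088002000000000000000000000000565656a9000000560000005600000056000000a9005900000000950065000000000000a9010101020101010201010102020202010408040440408040201010100202020110084002100480022004400210044001c00c30030c30c00330c00c03030303fc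

theorem foldl_mask_testBit : ∀ (l : List ℕ) (a x : ℕ),
    (l.foldl (fun a i => a ||| 1 <<< i) a).testBit x = (a.testBit x || l.contains x)
  | [], a, x => by simp
  | i :: l, a, x => by
    rw [List.foldl_cons, foldl_mask_testBit l, Nat.testBit_or, Nat.one_shiftLeft, Nat.testBit_two_pow,
      List.contains_cons, Bool.or_assoc]
    congr 2
    rcases eq_or_ne i x with h | h
    · rw [h, beq_self_eq_true, decide_eq_true rfl]
    · rw [decide_eq_false h, beq_eq_false_iff_ne.2 h.symm]

theorem duadMask_checks :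
    (duads.foldl (fun a i => a ||| 1 <<< i) 0) = duadMask ∧
      duads.all (fun x => Nat.blt x 2048) = true ∧
      duads.all (fun x => (List.range 24).any fun i => (List.range 24).any fun j =>
        Nat.blt i j && Nat.beq (pointElts.getD i 0 ^^^ pointElts.getD j 0) x) = true := by
  decide +kernel

theorem duad_checks :
    (allLt 24 fun i => allLt i fun j =>
      duadMask.testBit (pointElts.getD i 0 ^^^ pointElts.getD j 0)) = true ∧
    (allLt 24 fun i => allLt i fun j => allLt 24 fun k => allLt k fun l =>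
      Nat.beq i k || Nat.beq i l || Nat.beq j k || Nat.beq j l ||
        let x := pointElts.getD i 0 ^^^ pointElts.getD j 0 ^^^ pointElts.getD k 0 ^^^
          pointElts.getD l 0
        !(Nat.beq x 0) && !(duadMask.testBit x)) = true := by
  decide +kernel

theorem pointElt_lt (p : GolayPt) : pointElt p < 2 ^ 11 := by
  revert p; decide +kernel

theorem pointElt_base : pointElt (some 0) = 0 := by decide +kernel

theorem duadElt_lt (p q : GolayPt) : duadElt p q < 2 ^ 11 :=
  Nat.xor_lt_two_pow (pointElt_lt p) (pointElt_lt q)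

theorem duadElt_comm (p q : GolayPt) : duadElt p q = duadElt q p := Nat.xor_comm _ _

theorem mem_duads_iff {x : ℕ} (hx : x < 2 ^ 11) : x ∈ duads ↔ duadMask.testBit x = true := by
  rw [← duadMask_checks.1, foldl_mask_testBit, Nat.zero_testBit, Bool.false_or, List.contains_iff_mem]

theorem lt_of_mem_duads {x : ℕ} (hx : x ∈ duads) : x < 2 ^ 11 := by
  simpa using List.all_eq_true.1 duadMask_checks.2.1 x hx

theorem exists_of_mem_duads {x : ℕ} (hx : x ∈ duads) :
    ∃ p q, p ≠ q ∧ duadElt p q = x := by
  have h := List.all_eq_true.1 duadMask_checks.2.2 x hx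
  simp only [List.any_eq_true, List.mem_range, Bool.and_eq_true, Nat.blt_eq, Nat.beq_eq] at h
  obtain ⟨i, hi, j, hj, hij, h⟩ := h
  refine ⟨pt i, pt j, fun e => ?_, ?_⟩
  · have := congrArg bit e
    rw [bit_pt hi, bit_pt hj] at this
    omega
  · rw [duadElt, pointElt, pointElt, bit_pt hi, bit_pt hj]; exact h

theorem duadElt_mem {p q : GolayPt} (h : p ≠ q) : duadElt p q ∈ duads := by
  wlog hpq : bit q < bit p generalizing p q
  · rw [duadElt_comm]
    exact this h.symm ((not_lt.1 hpq).lt_of_ne fun e => h (bit_injective e))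
  rw [mem_duads_iff (duadElt_lt p q)]
  exact allLt_spec (allLt_spec duad_checks.1 _ (bit_lt p)) _ hpq

theorem four_distinct {p q r s : GolayPt} (hpq : p ≠ q) (hrs : r ≠ s) (hpr : p ≠ r) (hps : p ≠ s)
    (hqr : q ≠ r) (hqs : q ≠ s) :
    duadElt p q ^^^ duadElt r s ≠ 0 ∧ duadElt p q ^^^ duadElt r s ∉ duads := by
  wlog h1 : bit q < bit p generalizing p q
  · rw [duadElt_comm p q]
    exact this hpq.symm hqr hqs hpr hps ((not_lt.1 h1).lt_of_ne fun e => hpq (bit_injective e))
  wlog h2 : bit s < bit r generalizing r s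
  · rw [duadElt_comm r s]
    exact this hrs.symm hps hpr hqs hqr ((not_lt.1 h2).lt_of_ne fun e => hrs (bit_injective e))
  have h := allLt_spec (allLt_spec (allLt_spec (allLt_spec duad_checks.2 _ (bit_lt p)) _ h1) _
    (bit_lt r)) _ h2
  have hne : ∀ {a b : GolayPt}, a ≠ b → Nat.beq (bit a) (bit b) = false := fun h =>
    Bool.eq_false_iff.2 fun e => h (bit_injective (Nat.eq_of_beq_eq_true e))
  simp only [hne hpr, hne hps, hne hqr, hne hqs, Bool.false_or, Bool.and_eq_true,
    Bool.not_eq_eq_eq_not, Bool.not_true] at h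
  have hx : duadElt p q ^^^ duadElt r s < 2 ^ 11 :=
    Nat.xor_lt_two_pow (duadElt_lt p q) (duadElt_lt r s)
  rw [mem_duads_iff hx]
  simp only [duadElt, pointElt, ← Nat.xor_assoc]
  exact ⟨fun e => by rw [e] at h; simp at h, by rw [h.2]; simp⟩

theorem zero_notMem_duads : (0 : ℕ) ∉ duads := by decide +kernel

theorem xor_duadElt_common (p q r : GolayPt) : duadElt p q ^^^ duadElt p r = duadElt q r := by
  simp only [duadElt]
  rw [Nat.xor_comm (pointElt p) (pointElt q), Nat.xor_assoc, ← Nat.xor_assoc (pointElt p),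
    Nat.xor_self, Nat.zero_xor]

/-- Two duads with the same element are equal. -/
theorem pair_eq_of_duadElt_eq {p q r s : GolayPt} (hpq : p ≠ q) (hrs : r ≠ s)
    (h : duadElt p q = duadElt r s) : ({p, q} : Finset GolayPt) = {r, s} := by
  have key : ∀ {a b c : GolayPt}, duadElt a b = duadElt a c → b = c := by
    intro a b c e
    by_contra hbc
    have := duadElt_mem hbc
    rw [← xor_duadElt_common a b c, e, Nat.xor_self] at this
    exact zero_notMem_duads this
  by_cases h1 : p = r
  · subst h1; rw [key h]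
  by_cases h2 : p = s
  · subst h2; rw [key (h.trans (duadElt_comm r p)), Finset.pair_comm]
  by_cases h3 : q = r
  · subst h3; rw [key ((duadElt_comm q p).trans h), Finset.pair_comm]
  by_cases h4 : q = s
  · subst h4; rw [key ((duadElt_comm q p).trans (h.trans (duadElt_comm r q)))]
  exact absurd (by rw [h, Nat.xor_self]) (four_distinct hpq hrs h1 h2 h3 h4).1

/-- The element of a two-element set. -/
def pairElt (e : Finset GolayPt) : ℕ := Finset.fold (· ^^^ ·) 0 pointElt e

theorem pairElt_pair {p q : GolayPt} (h : p ≠ q) : pairElt {p, q} = duadElt p q := by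
  rw [pairElt, Finset.fold_insert (by simpa using h), Finset.fold_singleton, Nat.xor_zero]
  rfl

theorem exists_pair {x : ℕ} (hx : x ∈ duads) :
    ∃ e : Finset GolayPt, e.card = 2 ∧ pairElt e = x := by
  obtain ⟨p, q, h, rfl⟩ := exists_of_mem_duads hx
  exact ⟨{p, q}, Finset.card_pair h, pairElt_pair h⟩

theorem pairElt_inj {e f : Finset GolayPt} (he : e.card = 2) (hf : f.card = 2)
    (h : pairElt e = pairElt f) : e = f := by
  obtain ⟨p, q, hpq, rfl⟩ := Finset.card_eq_two.1 he
  obtain ⟨r, s, hrs, rfl⟩ := Finset.card_eq_two.1 hf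
  rw [pairElt_pair hpq, pairElt_pair hrs] at h
  exact pair_eq_of_duadElt_eq hpq hrs h

theorem inter_nonempty_of_xor {e f : Finset GolayPt} (he : e.card = 2) (hf : f.card = 2)
    (h : pairElt e ^^^ pairElt f ∈ duads) : (e ∩ f).Nonempty := by
  obtain ⟨p, q, hpq, rfl⟩ := Finset.card_eq_two.1 he
  obtain ⟨r, s, hrs, rfl⟩ := Finset.card_eq_two.1 hf
  rw [pairElt_pair hpq, pairElt_pair hrs] at h
  by_contra hne
  have hd : ∀ a ∈ ({p, q} : Finset GolayPt), a ∉ ({r, s} : Finset GolayPt) := fun a ha hb =>
    hne ⟨a, Finset.mem_inter.2 ⟨ha, hb⟩⟩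
  refine (four_distinct hpq hrs ?_ ?_ ?_ ?_).2 h <;> intro e
  · exact hd p (by simp) (by simp [e])
  · exact hd p (by simp) (by simp [e])
  · exact hd q (by simp) (by simp [e])
  · exact hd q (by simp) (by simp [e])

/-- A family of at least four pairwise meeting pairs has a common point. -/
theorem exists_common {α : Type*} [DecidableEq α] (F : Finset (Finset α))
    (h2 : ∀ e ∈ F, e.card = 2) (hF : 4 ≤ F.card)
    (hmeet : ∀ e ∈ F, ∀ f ∈ F, e ≠ f → (e ∩ f).Nonempty) : ∃ p, ∀ e ∈ F, p ∈ e := by
  obtain ⟨e₁, he₁, e₂, he₂, h12⟩ := Finset.one_lt_card.1 (show 1 < F.card by omega)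
  obtain ⟨a, ha⟩ := hmeet e₁ he₁ e₂ he₂ h12
  rw [Finset.mem_inter] at ha
  obtain ⟨b, hab, hb⟩ : ∃ b, a ≠ b ∧ e₁ = {a, b} := by
    obtain ⟨x, y, hxy, rfl⟩ := Finset.card_eq_two.1 (h2 e₁ he₁)
    rcases Finset.mem_insert.1 ha.1 with rfl | h
    · exact ⟨y, hxy, rfl⟩
    · rw [Finset.mem_singleton] at h; subst h; exact ⟨x, hxy.symm, Finset.pair_comm _ _⟩
  obtain ⟨c, hac, hc⟩ : ∃ c, a ≠ c ∧ e₂ = {a, c} := by
    obtain ⟨x, y, hxy, rfl⟩ := Finset.card_eq_two.1 (h2 e₂ he₂)
    rcases Finset.mem_insert.1 ha.2 with rfl | h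
    · exact ⟨y, hxy, rfl⟩
    · rw [Finset.mem_singleton] at h; subst h; exact ⟨x, hxy.symm, Finset.pair_comm _ _⟩
  subst hb hc
  have hbc : b ≠ c := fun h => h12 (by rw [h])
  by_contra hno
  push Not at hno
  obtain ⟨e₃, he₃, ha₃⟩ := hno a
  have hb₃ : b ∈ e₃ := by
    obtain ⟨x, hx⟩ := hmeet _ he₁ e₃ he₃ (fun h => ha₃ (h ▸ by simp))
    simp only [Finset.mem_inter, Finset.mem_insert, Finset.mem_singleton] at hx
    rcases hx.1 with rfl | rfl
    · exact absurd hx.2 ha₃
    · exact hx.2
  have hc₃ : c ∈ e₃ := by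
    obtain ⟨x, hx⟩ := hmeet _ he₂ e₃ he₃ (fun h => ha₃ (h ▸ by simp))
    simp only [Finset.mem_inter, Finset.mem_insert, Finset.mem_singleton] at hx
    rcases hx.1 with rfl | rfl
    · exact absurd hx.2 ha₃
    · exact hx.2
  have hbc3 : e₃ = {b, c} := (Finset.eq_of_subset_of_card_le
    (Finset.insert_subset hb₃ (Finset.singleton_subset_iff.2 hc₃))
    (by rw [h2 e₃ he₃, Finset.card_pair hbc])).symm
  obtain ⟨e₄, he₄, hn4⟩ := Finset.exists_mem_notMem_of_card_lt_card
    (show (({{a, b}, {a, c}, e₃} : Finset (Finset α))).card < F.card from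
      lt_of_le_of_lt Finset.card_le_three (by omega))
  simp only [Finset.mem_insert, Finset.mem_singleton, not_or] at hn4
  obtain ⟨x, hx⟩ := hmeet e₄ he₄ _ he₁ hn4.1
  obtain ⟨y, hy⟩ := hmeet e₄ he₄ _ he₂ hn4.2.1
  obtain ⟨z, hz⟩ := hmeet e₄ he₄ _ he₃ hn4.2.2
  subst hbc3
  simp only [Finset.mem_inter, Finset.mem_insert, Finset.mem_singleton] at hx hy hz
  have sub : ∀ u v : α, u ≠ v → u ∈ e₄ → v ∈ e₄ → e₄ = {u, v} := fun u v huv hu hv =>
    (Finset.eq_of_subset_of_card_le (Finset.insert_subset hu (Finset.singleton_subset_iff.2 hv))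
      (by rw [h2 e₄ he₄, Finset.card_pair huv])).symm
  by_cases ha4 : a ∈ e₄
  · rcases hz.2 with rfl | rfl
    · exact hn4.1 (sub a _ hab ha4 hz.1)
    · exact hn4.2.1 (sub a _ hac ha4 hz.1)
  · have hbm : b ∈ e₄ := by
      rcases hx.2 with rfl | rfl
      · exact absurd hx.1 ha4
      · exact hx.1
    have hcm : c ∈ e₄ := by
      rcases hy.2 with rfl | rfl
      · exact absurd hy.1 ha4
      · exact hy.1
    exact hn4.2.2 (sub b c hbc hbm hcm)

/-! ### The permutation of the points -/

/-- An additive bijection of the model preserving the duads. -/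
structure Aut where
  /-- the map -/
  toFun : ℕ → ℕ
  lt : ∀ x, x < 2 ^ 11 → toFun x < 2 ^ 11
  inj : ∀ x y, x < 2 ^ 11 → y < 2 ^ 11 → toFun x = toFun y → x = y
  map_xor : ∀ x y, x < 2 ^ 11 → y < 2 ^ 11 → toFun (x ^^^ y) = toFun x ^^^ toFun y
  map_duad : ∀ x ∈ duads, toFun x ∈ duads

theorem exists_point (f : Aut) (p : GolayPt) : ∃ r : GolayPt, ∀ e : Finset GolayPt,
    e.card = 2 → p ∈ e → ∀ e' : Finset GolayPt, e'.card = 2 → pairElt e' = f.toFun (pairElt e) →
      r ∈ e' := by
  classical
  have hex : ∀ q : GolayPt, q ≠ p → ∃ e' : Finset GolayPt, e'.card = 2 ∧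
      pairElt e' = f.toFun (duadElt p q) := fun q hq =>
    exists_pair (f.map_duad _ (duadElt_mem hq.symm))
  choose g hg2 hg using hex
  set F : Finset (Finset GolayPt) :=
    ((Finset.univ : Finset GolayPt).erase p).attach.image
      fun q => g q.1 (Finset.ne_of_mem_erase q.2) with hF
  have hcard : F.card = 23 := by
    rw [hF, Finset.card_image_of_injOn, Finset.card_attach,
      Finset.card_erase_of_mem (Finset.mem_univ p), Finset.card_univ]
    · rfl
    rintro ⟨q, hq⟩ - ⟨q', hq'⟩ - h
    have h' := congrArg pairElt h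
    rw [hg, hg] at h'
    have h'' := pair_eq_of_duadElt_eq (Finset.ne_of_mem_erase hq).symm
      (Finset.ne_of_mem_erase hq').symm (f.inj _ _ (duadElt_lt p q) (duadElt_lt p q') h')
    have hmem : q ∈ ({p, q'} : Finset GolayPt) := h'' ▸ (by simp)
    simp only [Finset.mem_insert, Finset.mem_singleton, Finset.ne_of_mem_erase hq, false_or] at hmem
    exact Subtype.ext hmem
  obtain ⟨r, hr⟩ := exists_common F
    (fun e he => by
      obtain ⟨q, -, rfl⟩ := Finset.mem_image.1 he
      exact hg2 _ _)
    (by omega)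
    (fun e he e' he' hne => by
      obtain ⟨q, -, rfl⟩ := Finset.mem_image.1 he
      obtain ⟨q', -, rfl⟩ := Finset.mem_image.1 he'
      refine inter_nonempty_of_xor (hg2 _ _) (hg2 _ _) ?_
      rw [hg, hg, ← f.map_xor _ _ (duadElt_lt _ _) (duadElt_lt _ _), xor_duadElt_common]
      exact f.map_duad _ (duadElt_mem fun e => hne (by
        have : q = q' := Subtype.ext e
        rw [this])))
  refine ⟨r, fun e he hpe e' he' h => ?_⟩
  obtain ⟨q, hq, rfl⟩ : ∃ q, q ≠ p ∧ e = {p, q} := by
    obtain ⟨x, y, hxy, rfl⟩ := Finset.card_eq_two.1 he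
    rcases Finset.mem_insert.1 hpe with rfl | hy
    · exact ⟨y, hxy.symm, rfl⟩
    · rw [Finset.mem_singleton] at hy; subst hy; exact ⟨x, hxy, Finset.pair_comm _ _⟩
  rw [pairElt_pair hq.symm, ← hg q hq] at h
  rw [pairElt_inj he' (hg2 q hq) h]
  exact hr _ (Finset.mem_image.2
    ⟨⟨q, Finset.mem_erase.2 ⟨hq, Finset.mem_univ q⟩⟩, Finset.mem_attach _ _, rfl⟩)

theorem exists_pointPerm (f : Aut) : ∃ σ : Equiv.Perm GolayPt,
    ∀ p q, p ≠ q → f.toFun (duadElt p q) = duadElt (σ p) (σ q) := by
  classical
  choose r hr using exists_point f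
  have hinj : Function.Injective r := by
    intro p q hpq
    by_contra hne
    -- all pairs through `p` or `q` have image through `r p`: there are too many
    set P : Finset (Finset GolayPt) :=
      (((Finset.univ : Finset GolayPt).erase p).image fun x => ({p, x} : Finset GolayPt)) ∪
      (((Finset.univ : Finset GolayPt).erase q).image fun x => ({q, x} : Finset GolayPt)) with hP
    have hP2 : ∀ e ∈ P, e.card = 2 ∧ (p ∈ e ∨ q ∈ e) := by
      intro e he
      rcases Finset.mem_union.1 he with h | h <;> obtain ⟨x, hx, rfl⟩ := Finset.mem_image.1 h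
      · exact ⟨Finset.card_pair (Finset.ne_of_mem_erase hx).symm, Or.inl (by simp)⟩
      · exact ⟨Finset.card_pair (Finset.ne_of_mem_erase hx).symm, Or.inr (by simp)⟩
    have hlt : ∀ e : Finset GolayPt, e.card = 2 → pairElt e < 2 ^ 11 := fun e he => by
      obtain ⟨x, y, hxy, rfl⟩ := Finset.card_eq_two.1 he
      rw [pairElt_pair hxy]; exact duadElt_lt x y
    have him : ∀ e ∈ P, ∃ y, y ≠ r p ∧ f.toFun (pairElt e) = duadElt (r p) y := by
      intro e he
      obtain ⟨he2, hpe⟩ := hP2 e he
      obtain ⟨x, y, hxy, rfl⟩ := Finset.card_eq_two.1 he2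
      obtain ⟨e', he', hee⟩ := exists_pair (f.map_duad _
        (show pairElt {x, y} ∈ duads by rw [pairElt_pair hxy]; exact duadElt_mem hxy))
      have hmem : r p ∈ e' := by
        rcases hpe with h | h
        · exact hr p _ he2 h e' he' hee
        · rw [hpq]; exact hr q _ he2 h e' he' hee
      obtain ⟨u, v, huv, rfl⟩ := Finset.card_eq_two.1 he'
      rw [← hee, pairElt_pair huv]
      rcases Finset.mem_insert.1 hmem with h | h
      · exact ⟨v, h ▸ huv.symm, by rw [h]⟩
      · rw [Finset.mem_singleton] at h; exact ⟨u, h ▸ huv, by rw [h, duadElt_comm]⟩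
    choose! y hy1 hy2 using him
    have hle := Finset.card_le_card_of_injOn y
      (s := P) (t := (Finset.univ : Finset GolayPt).erase (r p))
      (fun e he => Finset.mem_erase.2 ⟨hy1 e he, Finset.mem_univ _⟩)
      (fun e he e' he' h => pairElt_inj (hP2 e he).1 (hP2 e' he').1
        (f.inj _ _ (hlt e (hP2 e he).1) (hlt e' (hP2 e' he').1) (by rw [hy2 e he, hy2 e' he', h])))
    rw [Finset.card_erase_of_mem (Finset.mem_univ _), Finset.card_univ] at hle
    have hbig : 24 ≤ P.card := by
      obtain ⟨x, -, hx⟩ := Finset.exists_mem_notMem_of_card_lt_card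
        (show ({p, q} : Finset GolayPt).card < (Finset.univ : Finset GolayPt).card by
          rw [Finset.card_pair hne, Finset.card_univ]; decide)
      simp only [Finset.mem_insert, Finset.mem_singleton, not_or] at hx
      have hnot : ({q, x} : Finset GolayPt) ∉
          ((Finset.univ : Finset GolayPt).erase p).image fun x => ({p, x} : Finset GolayPt) := by
        intro h
        obtain ⟨z, -, hz⟩ := Finset.mem_image.1 h
        have : p ∈ ({q, x} : Finset GolayPt) := hz ▸ (by simp)
        simp only [Finset.mem_insert, Finset.mem_singleton] at this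
        rcases this with h | h
        · exact hne h
        · exact hx.1 h.symm
      have hsub : insert ({q, x} : Finset GolayPt)
          (((Finset.univ : Finset GolayPt).erase p).image fun x => ({p, x} : Finset GolayPt)) ⊆ P := by
        refine Finset.insert_subset ?_ Finset.subset_union_left
        exact Finset.mem_union_right _
          (Finset.mem_image.2 ⟨x, Finset.mem_erase.2 ⟨hx.2, Finset.mem_univ x⟩, rfl⟩)
      have h := Finset.card_le_card hsub
      rw [Finset.card_insert_of_notMem hnot, Finset.card_image_of_injOn,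
        Finset.card_erase_of_mem (Finset.mem_univ _), Finset.card_univ] at h
      · exact h
      intro u hu v hv huv
      have hu' := Finset.ne_of_mem_erase (Finset.mem_coe.1 hu)
      have : u ∈ ({p, v} : Finset GolayPt) := (show ({p, u} : Finset GolayPt) = {p, v} from huv) ▸
        (by simp)
      simpa [hu'] using this
    have h24 : Fintype.card GolayPt = 24 := rfl
    omega
  refine ⟨Equiv.ofBijective r (Finite.injective_iff_bijective.1 hinj), fun p q hpq => ?_⟩
  obtain ⟨e', he', hee⟩ := exists_pair (f.map_duad _ (duadElt_mem hpq))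
  have h1 := hr p {p, q} (Finset.card_pair hpq) (by simp) e' he' (by rw [hee, pairElt_pair hpq])
  have h2 := hr q {p, q} (Finset.card_pair hpq) (by simp) e' he' (by rw [hee, pairElt_pair hpq])
  have hne : r p ≠ r q := fun h => hpq (hinj h)
  have heq : e' = {r p, r q} := (Finset.eq_of_subset_of_card_le
    (Finset.insert_subset h1 (Finset.singleton_subset_iff.2 h2))
    (by rw [he', Finset.card_pair hne])).symm
  rw [← hee, heq, pairElt_pair hne]
  rfl

/-- The point permutation is determined by its action on the duads. -/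
theorem perm_unique {σ τ : Equiv.Perm GolayPt}
    (h : ∀ p q, p ≠ q → duadElt (σ p) (σ q) = duadElt (τ p) (τ q)) : σ = τ := by
  refine Equiv.ext fun p => ?_
  by_contra hne
  obtain ⟨q, -, hq⟩ := Finset.exists_mem_notMem_of_card_lt_card
    (show ({p, σ.symm (τ p)} : Finset GolayPt).card < (Finset.univ : Finset GolayPt).card from
      lt_of_le_of_lt Finset.card_le_two (by rw [Finset.card_univ]; decide))
  simp only [Finset.mem_insert, Finset.mem_singleton, not_or] at hq
  have he := pair_eq_of_duadElt_eq (fun e => hq.1 (σ.injective e).symm)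
    (fun e => hq.1 (τ.injective e).symm) (h p q (Ne.symm hq.1))
  have : τ p ∈ ({σ p, σ q} : Finset GolayPt) := he ▸ (by simp)
  simp only [Finset.mem_insert, Finset.mem_singleton] at this
  rcases this with e | e
  · exact hne e.symm
  · exact hq.2 (by rw [e, Equiv.symm_apply_apply])

/-! ### The code -/

/-- The sum of the elements of the points in a mask. -/
def linAux : List ℕ → ℕ → ℕ
  | [], _ => 0
  | b :: l, n => term 0 b n ^^^ linAux l (n >>> 1)

/-- The element of a mask. -/
def lin (n : ℕ) : ℕ := linAux pointElts n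

theorem linAux_xor : ∀ (l : List ℕ) (x y : ℕ), linAux l (x ^^^ y) = linAux l x ^^^ linAux l y
  | [], _, _ => by simp [linAux]
  | b :: l, x, y => by
    rw [linAux, linAux, linAux, term_xor, Nat.shiftRight_xor_distrib, linAux_xor l]
    ac_rfl

theorem lin_xor (x y : ℕ) : lin (x ^^^ y) = lin x ^^^ lin y := linAux_xor _ _ _

theorem lin_two_pow (p : GolayPt) : lin (2 ^ bit p) = pointElt p := by
  revert p; decide +kernel

theorem lin_zero : lin 0 = 0 := by decide +kernel

theorem code_checks :
    allR (fun x => Nat.beq (lin (comb x)) 0) 12 0 = true ∧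
    allR (fun m => !(Nat.beq (lin (m <<< 12)) 0 && Nat.beq (pc24 (m <<< 12) % 2) 0) || Nat.beq m 0)
      12 0 = true := by
  decide +kernel

theorem mem_code_iff (s : Finset GolayPt) :
    s ∈ supports (golayCode : Set (GolayPt → ZMod 2)) ↔ Even s.card ∧ lin (ofSet s) = 0 := by
  have hs : ofSet s < 2 ^ 24 := bitsOf_lt _ _
  constructor
  · intro h
    obtain ⟨x, hx, rfl⟩ := mem_supports_iff.1 h
    refine ⟨?_, ?_⟩
    · rw [card_toSet]
      rcases (comb_spec hx).2.2 with h | h | h | h | h <;> rw [h] <;> decide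
    · rw [ofSet_toSet (comb_lt hx)]
      exact Nat.eq_of_beq_eq_true (allR_spec code_checks.1 x (Nat.zero_le _) (by simpa using hx))
  · rintro ⟨he, hl⟩
    set n := ofSet s with hn
    have hx : n &&& 4095 < 2 ^ 12 := lt_of_le_of_lt Nat.and_le_right (by norm_num)
    set c := comb (n &&& 4095) with hc
    set d := n ^^^ c with hd
    have hdlt : d < 2 ^ 24 := Nat.xor_lt_two_pow hs (comb_lt hx)
    have hlow : d % 2 ^ 12 = 0 := by
      rw [← Nat.and_two_pow_sub_one_eq_mod, show 2 ^ 12 - 1 = 4095 by norm_num, hd,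
        Nat.and_xor_distrib_right, hc, (comb_spec hx).2.1, Nat.xor_self]
    have hd' : (d / 2 ^ 12) <<< 12 = d := by rw [Nat.shiftLeft_eq]; omega
    have hm : d / 2 ^ 12 < 2 ^ 12 := by omega
    have h := allR_spec code_checks.2 _ (Nat.zero_le _) (by simpa using hm)
    have hlin : lin d = 0 := by
      rw [hd, lin_xor, hl, Nat.zero_xor]
      exact Nat.eq_of_beq_eq_true (allR_spec code_checks.1 _ (Nat.zero_le _) (by simpa using hx))
    have hpar : pc24 d % 2 = 0 := by
      rw [pc24_eq, ← card_toSet, hd, toSet_xor]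
      have h1 : (symmDiff (toSet n) (toSet c)).card = (toSet n \ toSet c).card + (toSet c \ toSet n).card :=
        Finset.card_union_of_disjoint disjoint_sdiff_sdiff
      have h3 := Finset.card_sdiff_add_card_inter (toSet n) (toSet c)
      have h4 := Finset.card_sdiff_add_card_inter (toSet c) (toSet n)
      rw [Finset.inter_comm (toSet c)] at h4
      rw [hn, toSet_ofSet] at h1 h3 h4 ⊢
      have h2 : Even (toSet c).card := by
        rw [card_toSet]
        rcases (comb_spec hx).2.2 with h | h | h | h | h <;> rw [hc, h] <;> decide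
      obtain ⟨a, ha⟩ := he
      obtain ⟨b, hb⟩ := h2
      omega
    norm_num only at hd' h
    rw [hd', hlin, hpar] at h
    simp only [Nat.beq_refl, Bool.and_true, Bool.not_true, Bool.false_or, Nat.beq_eq] at h
    have hd0 : d = 0 := by rw [← hd', h]; rfl
    have hnc : n = c := by
      have := congrArg (· ^^^ c) hd0
      simpa [hd, Nat.xor_assoc] using this
    exact mem_supports_iff.2 ⟨_, hx, by rw [← hc, ← hnc, hn, toSet_ofSet]⟩

theorem lin_ofSet_insert {p : GolayPt} {s : Finset GolayPt} (hp : p ∉ s) :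
    lin (ofSet (insert p s)) = pointElt p ^^^ lin (ofSet s) := by
  have h2 : 2 ^ bit p < 2 ^ 24 := Nat.pow_lt_pow_right (by norm_num) (bit_lt p)
  have : ofSet (insert p s) = 2 ^ bit p ^^^ ofSet s := by
    refine toSet_inj (bitsOf_lt _ _) (Nat.xor_lt_two_pow h2 (bitsOf_lt _ _)) ?_
    rw [toSet_ofSet, toSet_xor, toSet_ofSet, toSet_two_pow (bit_lt p), pt_bit]
    ext q
    simp only [Finset.mem_insert, Finset.mem_symmDiff, Finset.mem_singleton]
    constructor
    · rintro (rfl | h)
      · exact Or.inl ⟨rfl, hp⟩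
      · exact Or.inr ⟨h, fun e => hp (e ▸ h)⟩
    · rintro (⟨h, -⟩ | ⟨h, -⟩)
      · exact Or.inl h
      · exact Or.inr h
  rw [this, lin_xor, lin_two_pow]

theorem lin_ofSet_empty : lin (ofSet (∅ : Finset GolayPt)) = 0 := by decide +kernel

theorem lin_lt (s : Finset GolayPt) : lin (ofSet s) < 2 ^ 11 := by
  induction s using Finset.induction_on with
  | empty => rw [lin_ofSet_empty]; norm_num
  | insert p s hp ih => rw [lin_ofSet_insert hp]; exact Nat.xor_lt_two_pow (pointElt_lt p) ih

theorem map_lin (f : Aut) {σ : Equiv.Perm GolayPt}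
    (hσ : ∀ p q, p ≠ q → f.toFun (duadElt p q) = duadElt (σ p) (σ q)) (s : Finset GolayPt) :
    f.toFun (lin (ofSet s)) = lin (ofSet (σ • s)) ^^^
      (if Even s.card then 0 else pointElt (σ (some 0))) := by
  have h0 : f.toFun 0 = 0 := by
    have h := f.map_xor 0 0 (by norm_num) (by norm_num)
    rwa [Nat.xor_self, Nat.xor_self] at h
  have hpt : ∀ p, f.toFun (pointElt p) = pointElt (σ p) ^^^ pointElt (σ (some 0)) := by
    intro p
    by_cases hp : p = some 0
    · subst hp; rw [pointElt_base, h0, Nat.xor_self]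
    · have h := hσ p (some 0) hp
      rwa [duadElt, pointElt_base, Nat.xor_zero] at h
  induction s using Finset.induction_on with
  | empty => simp [lin_ofSet_empty, h0]
  | insert p s hp ih =>
    have hsm : σ • insert p s = insert (σ p) (σ • s) := Finset.smul_finset_insert _ _ _
    have hp' : σ p ∉ σ • s := by
      rwa [← Equiv.Perm.smul_def, Finset.smul_mem_smul_finset_iff]
    rw [lin_ofSet_insert hp, f.map_xor _ _ (pointElt_lt p) (lin_lt s), hpt, ih, hsm,
      lin_ofSet_insert hp', Finset.card_insert_of_notMem hp]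
    by_cases he : Even s.card
    · rw [if_pos he, if_neg (by rw [Nat.even_add_one]; exact not_not.2 he), Nat.xor_zero]
      ac_rfl
    · rw [if_neg he, if_pos (by rw [Nat.even_add_one]; exact he), Nat.xor_zero]
      rw [Nat.xor_assoc, Nat.xor_comm (pointElt (σ (some 0))), Nat.xor_assoc, Nat.xor_self,
        Nat.xor_zero]

theorem perm_mem_M24 (f : Aut) {σ : Equiv.Perm GolayPt}
    (hσ : ∀ p q, p ≠ q → f.toFun (duadElt p q) = duadElt (σ p) (σ q)) : σ ∈ M24 := by
  rw [MulAction.mem_stabilizer_set]
  intro s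
  rw [mem_code_iff, mem_code_iff, Finset.card_smul_finset]
  refine and_congr_right fun he => ?_
  have h := map_lin f hσ s
  rw [if_pos he, Nat.xor_zero] at h
  have h0 : f.toFun 0 = 0 := by
    have h := f.map_xor 0 0 (by norm_num) (by norm_num)
    rwa [Nat.xor_self, Nat.xor_self] at h
  constructor
  · intro e
    exact f.inj _ _ (lin_lt s) (by norm_num) (by rw [h, e, h0])
  · intro e
    rw [← h, e, h0]

/-- The combinations of point elements giving the unit vectors. -/
def unitExpr : List (List ℕ) :=
  [[1, 2, 3],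
    [1],
    [2],
    [1, 2, 3, 7, 10],
    [4, 10],
    [1, 6, 7, 9, 10],
    [2, 4, 6, 10, 11],
    [1, 2, 7, 8, 9],
    [1, 2, 3, 4, 5, 7, 8, 11],
    [1, 2, 4, 5, 8, 11],
    [1, 2, 3, 4, 5, 8, 9, 11]]

theorem unitExpr_check : allLt 11 (fun t => Nat.beq
    (((unitExpr.getD t []).map fun i => pointElts.getD i 0).foldr (· ^^^ ·) 0) (2 ^ t) &&
      (unitExpr.getD t []).all fun i => Nat.blt i 24) = true := by
  decide +kernel

/-- An additive map of the model fixing every point element fixes everything. -/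
theorem eq_self (f : Aut) (h : ∀ p, f.toFun (pointElt p) = pointElt p) :
    ∀ x, x < 2 ^ 11 → f.toFun x = x := by
  have h0 : f.toFun 0 = 0 := by
    have h := f.map_xor 0 0 (by norm_num) (by norm_num)
    rwa [Nat.xor_self, Nat.xor_self] at h
  have hlist : ∀ l : List ℕ, (∀ i ∈ l, i < 24) →
      (l.map fun i => pointElts.getD i 0).foldr (· ^^^ ·) 0 < 2 ^ 11 ∧
      f.toFun ((l.map fun i => pointElts.getD i 0).foldr (· ^^^ ·) 0) =
        (l.map fun i => pointElts.getD i 0).foldr (· ^^^ ·) 0 := by
    intro l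
    induction l with
    | nil => intro _; exact ⟨by simp, h0⟩
    | cons i l ih =>
      intro hl
      obtain ⟨h1, h2⟩ := ih fun j hj => hl j (List.mem_cons_of_mem _ hj)
      have hi : pointElts.getD i 0 = pointElt (pt i) := by
        rw [pointElt, bit_pt (hl i List.mem_cons_self)]
      simp only [List.map_cons, List.foldr_cons, hi]
      exact ⟨Nat.xor_lt_two_pow (pointElt_lt _) h1,
        by rw [f.map_xor _ _ (pointElt_lt _) h1, h, h2]⟩
  have hunit : ∀ t < 11, f.toFun (2 ^ t) = 2 ^ t := by
    intro t ht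
    have h := allLt_spec unitExpr_check t ht
    simp only [Bool.and_eq_true, Nat.beq_eq, List.all_eq_true, Nat.blt_eq] at h
    rw [← h.1]
    exact (hlist _ h.2).2
  have key : ∀ k ≤ 11, ∀ x < 2 ^ k, f.toFun x = x := by
    intro k
    induction k with
    | zero => intro _ x hx; obtain rfl : x = 0 := by simpa using hx
              exact h0
    | succ k ih =>
      intro hk x hx
      by_cases hlt : x < 2 ^ k
      · exact ih (by omega) x hlt
      have hx11 : x < 2 ^ 11 := lt_of_lt_of_le hx (Nat.pow_le_pow_right two_pos hk)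
      have hp : (2 : ℕ) ^ k < 2 ^ 11 := Nat.pow_lt_pow_right (by norm_num) (by omega)
      have htop : x.testBit k = true := Nat.testBit_of_two_pow_le_and_two_pow_add_one_gt
        (not_lt.1 hlt) hx
      have hsmall : x ^^^ 2 ^ k < 2 ^ k := by
        refine Nat.lt_pow_two_of_testBit _ fun i hi => ?_
        rw [Nat.testBit_xor, Nat.testBit_two_pow]
        rcases eq_or_lt_of_le hi with rfl | hi'
        · simp [htop]
        · rw [Nat.testBit_lt_two_pow (lt_of_lt_of_le hx (Nat.pow_le_pow_right two_pos hi'))]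
          simp [hi'.ne]
      have h1 := f.map_xor _ _ (lt_of_lt_of_le hsmall hp.le) hp
      rw [ih (by omega) _ hsmall, hunit k (by omega), Nat.xor_assoc, Nat.xor_self, Nat.xor_zero] at h1
      exact h1
  exact key 11 le_rfl

/-! ### Identification -/

theorem exists_hom {Mb : Type*} [Group Mb] (phi : Mb →* Equiv.Perm (Fin 2048))
    (hadd : ∀ (m : Mb) (a b : Fin 2048), (phi m (a ^^^ b)).val = (phi m a).val ^^^ (phi m b).val)
    (hduad : ∀ (m : Mb) (d : Fin 2048), d.val ∈ duads → (phi m d).val ∈ duads) :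
    ∃ ψ : Mb →* Equiv.Perm GolayPt, (∀ m, ψ m ∈ M24) ∧
      ∀ m p q, p ≠ q → (phi m ⟨duadElt p q, duadElt_lt p q⟩).val = duadElt (ψ m p) (ψ m q) := by
  classical
  let f : Mb → Aut := fun m =>
    { toFun := fun x => if hx : x < 2 ^ 11 then (phi m ⟨x, hx⟩).val else 0
      lt := fun x hx => by rw [dif_pos hx]; exact (phi m ⟨x, hx⟩).isLt
      inj := fun x y hx hy h => by
        rw [dif_pos hx, dif_pos hy] at h
        exact congrArg Fin.val ((phi m).injective (Fin.ext h))
      map_xor := fun x y hx hy => by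
        have hxy : x ^^^ y < 2 ^ 11 := Nat.xor_lt_two_pow hx hy
        rw [dif_pos hx, dif_pos hy, dif_pos hxy, ← hadd]
        congr 2
        ext
        show x ^^^ y = ((x ^^^ y) % 2048)
        exact (Nat.mod_eq_of_lt hxy).symm
      map_duad := fun x hx => by
        rw [dif_pos (lt_of_mem_duads hx)]; exact hduad m _ hx }
  choose σ hσ using fun m => exists_pointPerm (f m)
  have hval : ∀ m p q, p ≠ q →
      (phi m ⟨duadElt p q, duadElt_lt p q⟩).val = duadElt (σ m p) (σ m q) := fun m p q hpq => by
    have h := hσ m p q hpq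
    simp only [f, dif_pos (duadElt_lt p q)] at h
    exact h
  have hmul : ∀ m n, σ (m * n) = σ m * σ n := fun m n => perm_unique fun p q hpq => by
    rw [← hval _ p q hpq, map_mul, Equiv.Perm.mul_apply, Equiv.Perm.mul_apply, Equiv.Perm.mul_apply,
      ← hval m _ _ fun e => hpq ((σ n).injective e)]
    congr 2
    exact Fin.ext (hval n p q hpq)
  exact ⟨MonoidHom.mk' σ hmul, fun m => perm_mem_M24 (f m) (hσ m), hval⟩

theorem hom_injective {Mb : Type*} [Group Mb] (phi : Mb →* Equiv.Perm (Fin 2048))
    (hinj : Function.Injective phi)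
    (hadd : ∀ (m : Mb) (a b : Fin 2048), (phi m (a ^^^ b)).val = (phi m a).val ^^^ (phi m b).val)
    (hduad : ∀ (m : Mb) (d : Fin 2048), d.val ∈ duads → (phi m d).val ∈ duads)
    (ψ : Mb →* Equiv.Perm GolayPt)
    (hψ : ∀ m p q, p ≠ q → (phi m ⟨duadElt p q, duadElt_lt p q⟩).val = duadElt (ψ m p) (ψ m q)) :
    Function.Injective ψ := by
  rw [injective_iff_map_eq_one]
  intro m hm
  let f : Aut :=
    { toFun := fun x => if hx : x < 2 ^ 11 then (phi m ⟨x, hx⟩).val else 0
      lt := fun x hx => by rw [dif_pos hx]; exact (phi m ⟨x, hx⟩).isLt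
      inj := fun x y hx hy h => by
        rw [dif_pos hx, dif_pos hy] at h
        exact congrArg Fin.val ((phi m).injective (Fin.ext h))
      map_xor := fun x y hx hy => by
        have hxy : x ^^^ y < 2 ^ 11 := Nat.xor_lt_two_pow hx hy
        rw [dif_pos hx, dif_pos hy, dif_pos hxy, ← hadd]
        congr 2
        ext
        show x ^^^ y = ((x ^^^ y) % 2048)
        exact (Nat.mod_eq_of_lt hxy).symm
      map_duad := fun x hx => by
        rw [dif_pos (lt_of_mem_duads hx)]; exact hduad m _ hx }
  have hfix : ∀ p, f.toFun (pointElt p) = pointElt p := by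
    intro p
    by_cases hp : p = some 0
    · subst hp
      rw [pointElt_base]
      have h := f.map_xor 0 0 (by norm_num) (by norm_num)
      rwa [Nat.xor_self, Nat.xor_self] at h
    · have h := hψ m p (some 0) hp
      have hd : duadElt p (some 0) = pointElt p := by rw [duadElt, pointElt_base, Nat.xor_zero]
      rw [hm, Equiv.Perm.one_apply, Equiv.Perm.one_apply] at h
      simp only [f, dif_pos (pointElt_lt p)]
      conv_rhs => rw [← hd, ← h]
      congr 2
      exact Fin.ext hd.symm
  refine hinj (Equiv.ext fun x => Fin.ext ?_)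
  have h := eq_self f hfix x.val x.isLt
  rw [map_one, Equiv.Perm.one_apply]
  exact (dif_pos x.isLt).symm.trans h

/-- A group of the order of `M24` acting linearly and faithfully on the model, preserving the duads, is `M24`;
the stabiliser of a duad is the stabiliser of a pair of points. -/
theorem exists_equiv_M24 {Mb : Type*} [Group Mb] [Finite Mb] (hcard : Nat.card Mb = 244823040)
    (phi : Mb →* Equiv.Perm (Fin 2048)) (hinj : Function.Injective phi)
    (hadd : ∀ (m : Mb) (a b : Fin 2048), (phi m (a ^^^ b)).val = (phi m a).val ^^^ (phi m b).val)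
    (hduad : ∀ (m : Mb) (d : Fin 2048), d.val ∈ duads → (phi m d).val ∈ duads) :
    Nonempty (Mb ≃* ↥M24) ∧ ∀ d : Fin 2048, d.val ∈ duads →
      Nonempty (↥((MulAction.stabilizer (Equiv.Perm (Fin 2048)) d).comap phi) ≃*
        ↥(M24 ⊓ MulAction.stabilizer (Equiv.Perm GolayPt) ({none, some 0} : Set GolayPt))) := by
  obtain ⟨ψ, hψM, hψ⟩ := exists_hom phi hadd hduad
  have hψi := hom_injective phi hinj hadd hduad ψ hψ
  have hrange : ψ.range = M24 := by
    refine Subgroup.eq_of_le_of_card_ge (fun x ⟨m, hm⟩ => hm ▸ hψM m) (le_of_eq ?_)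
    rw [card_M24, ← hcard]
    exact Nat.card_congr (MonoidHom.ofInjective hψi).toEquiv
  refine ⟨⟨(MonoidHom.ofInjective hψi).trans (MulEquiv.subgroupCongr hrange)⟩, fun d hd => ?_⟩
  obtain ⟨p, q, hpq, hd'⟩ := exists_of_mem_duads hd
  obtain ⟨g, hg, hgm⟩ := exists_map_M24 (xs := [p, q]) (ys := [(none : GolayPt), some 0])
    (by simp [hpq]) (by simp) rfl (by simp)
  simp only [List.map_cons, List.map_nil, List.cons.injEq, and_true] at hgm
  let χ : Mb →* Equiv.Perm GolayPt := (MulAut.conj g).toMonoidHom.comp ψ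
  have hχi : Function.Injective χ := (MulAut.conj g).injective.comp hψi
  have hmap : ((MulAction.stabilizer (Equiv.Perm (Fin 2048)) d).comap phi).map χ =
      M24 ⊓ MulAction.stabilizer (Equiv.Perm GolayPt) ({none, some 0} : Set GolayPt) := by
    have hiff : ∀ m : Mb, phi m d = d ↔ (χ m) • ({none, some 0} : Set GolayPt) = {none, some 0} := by
      intro m
      have hd2 : phi m d = d ↔ duadElt (ψ m p) (ψ m q) = duadElt p q := by
        rw [← hψ m p q hpq, Fin.ext_iff]
        have : (⟨duadElt p q, duadElt_lt p q⟩ : Fin 2048) = d := Fin.ext hd'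
        rw [this, hd']
      have hd3 : duadElt (ψ m p) (ψ m q) = duadElt p q ↔
          ({ψ m p, ψ m q} : Finset GolayPt) = {p, q} := by
        have hne : ψ m p ≠ ψ m q := fun e => hpq ((ψ m).injective e)
        refine ⟨pair_eq_of_duadElt_eq hne hpq, fun h => ?_⟩
        rw [← pairElt_pair hne, ← pairElt_pair hpq, h]
      have hd4 : (χ m) • ({none, some 0} : Set GolayPt) = {g (ψ m p), g (ψ m q)} := by
        have hinv : g⁻¹ none = p ∧ g⁻¹ (some 0) = q := by
          rw [← hgm.1, ← hgm.2]; simp [← Equiv.Perm.mul_apply]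
        rw [Set.smul_set_insert, Set.smul_set_singleton, Equiv.Perm.smul_def, Equiv.Perm.smul_def]
        show ({(g * ψ m * g⁻¹) none, (g * ψ m * g⁻¹) (some 0)} : Set GolayPt) = _
        rw [Equiv.Perm.mul_apply, Equiv.Perm.mul_apply, Equiv.Perm.mul_apply, Equiv.Perm.mul_apply,
          hinv.1, hinv.2]
      rw [hd2, hd3, hd4, ← hgm.1, ← hgm.2]
      constructor
      · intro h
        have h' := congrArg (fun s : Finset GolayPt => (g : GolayPt → GolayPt) '' (s : Set GolayPt)) h
        simpa [Set.image_insert_eq] using h'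
      · intro h
        apply Finset.coe_injective
        refine (Set.image_injective.2 g.injective) ?_
        simpa [Set.image_insert_eq] using h
    refine le_antisymm ?_ ?_
    · rintro _ ⟨m, hm, rfl⟩
      exact Subgroup.mem_inf.2 ⟨mul_mem (mul_mem hg (hψM m)) (inv_mem hg), (hiff m).1 hm⟩
    · intro x hx'
      obtain ⟨hx, hxs⟩ := Subgroup.mem_inf.1 hx'
      obtain ⟨m, hm⟩ : g⁻¹ * x * g ∈ ψ.range := hrange ▸ mul_mem (mul_mem (inv_mem hg) hx) hg
      have hχ : χ m = x := by
        show g * ψ m * g⁻¹ = x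
        rw [hm]; group
      exact ⟨m, (hiff m).2 (hχ ▸ hxs), hχ⟩
  exact ⟨(Subgroup.equivMapOfInjective _ χ hχi).trans (MulEquiv.subgroupCongr hmap)⟩

end CfsgLib.LargeFischer.Thompson
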