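import Cfsg.Agent.Lib.LargeFischer.Code

/-!
Products of a list of commuting involutions, indexed by the binary digits of a number.
-/

set_option autoImplicit false

namespace CfsgLib.LargeFischer

open Plane

variable {G : Type*} [Group G]

/-- The product of the members at the binary digits of a number. -/
def apG : List G → ℕ → G
  | [], _ => 1
  | c :: cs, n => (bif Nat.beq (n % 2) 1 then c else 1) * apG cs (n / 2)

theorem beq_zero_one : Nat.beq 0 1 = false := rfl

theorem apG_zero : ∀ cs : List G, apG cs 0 = 1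
  | [] => rfl
  | c :: cs => by simp [apG, apG_zero cs, beq_zero_one]

theorem apG_two_pow : ∀ (cs : List G) (k : ℕ), apG cs (2 ^ k) = cs.getD k 1
  | [], k => by simp [apG]
  | c :: cs, 0 => by simp [apG, apG_zero]
  | c :: cs, k + 1 => by
    have h1 : 2 ^ (k + 1) % 2 = 0 := by rw [pow_succ]; omega
    have h2 : 2 ^ (k + 1) / 2 = 2 ^ k := by rw [pow_succ]; omega
    simp [apG, h1, h2, apG_two_pow cs k, beq_zero_one]

theorem apG_append : ∀ (cs ds : List G) (n : ℕ), apG (cs ++ ds) n = apG cs n * apG ds (n / 2 ^ cs.length)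
  | [], ds, n => by simp [apG]
  | c :: cs, ds, n => by
    simp only [List.cons_append, apG, apG_append cs ds, List.length_cons, mul_assoc]
    rw [Nat.div_div_eq_div_mul, pow_succ, mul_comm 2]

theorem apG_mem {S : Subgroup G} : ∀ {cs : List G}, (∀ c ∈ cs, c ∈ S) → ∀ n, apG cs n ∈ S
  | [], _, _ => one_mem S
  | c :: cs, h, n => by
    refine mul_mem ?_ (apG_mem (fun d hd => h d (List.mem_cons_of_mem _ hd)) _)
    cases Nat.beq (n % 2) 1
    · exact one_mem S
    · exact h c List.mem_cons_self

theorem apG_xor {S : Subgroup G} (hcomm : ∀ a ∈ S, ∀ b ∈ S, a * b = b * a) (hsq : ∀ a ∈ S, a * a = 1) :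
    ∀ {cs : List G}, (∀ c ∈ cs, c ∈ S) → ∀ a b, apG cs (a ^^^ b) = apG cs a * apG cs b
  | [], _, _, _ => by simp [apG]
  | c :: cs, h, a, b => by
    have hcs : ∀ d ∈ cs, d ∈ S := fun d hd => h d (List.mem_cons_of_mem _ hd)
    have ih := apG_xor hcomm hsq hcs (a / 2) (b / 2)
    have hc := h c List.mem_cons_self
    have hA := apG_mem hcs (a / 2)
    simp only [apG]
    rw [show (a ^^^ b) / 2 = a / 2 ^^^ b / 2 from Nat.xor_div_two,
      show (a ^^^ b) % 2 = (a % 2) ^^^ (b % 2) from Nat.xor_mod_two_pow (n := 1), ih]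
    generalize apG cs (a / 2) = A at hA ⊢
    generalize apG cs (b / 2) = B
    rcases Nat.mod_two_eq_zero_or_one a with ha | ha <;> rcases Nat.mod_two_eq_zero_or_one b with hb | hb <;>
      rw [ha, hb]
    · simp [beq_zero_one]
    · simp only [Nat.zero_xor, show Nat.beq 1 1 = true from rfl, show Nat.beq 0 1 = false from rfl, cond_true,
        cond_false, one_mul]
      rw [← mul_assoc, hcomm c hc A hA, mul_assoc]
    · simp [mul_assoc, beq_zero_one]
    · simp only [Nat.xor_self, show Nat.beq 1 1 = true from rfl, show Nat.beq 0 1 = false from rfl, cond_true,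
        cond_false, one_mul]
      rw [mul_assoc c A, ← mul_assoc A c, ← hcomm c hc A hA, mul_assoc c A, ← mul_assoc c c, hsq c hc, one_mul]

/-- The image of a product under a homomorphism. -/
theorem apG_hom {H : Type*} [Group H] (φ : G →* H) : ∀ (cs : List G) (n : ℕ), φ (apG cs n) = apG (cs.map φ) n
  | [], _ => by simp [apG]
  | c :: cs, n => by
    simp only [apG, List.map_cons, map_mul, apG_hom φ cs]
    cases Nat.beq (n % 2) 1 <;> simp

theorem apG_conj (x : G) (cs : List G) (n : ℕ) : x * apG cs n * x⁻¹ = apG (cs.map fun c => x * c * x⁻¹) n :=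
  apG_hom (MulAut.conj x).toMonoidHom cs n

theorem apG_map_ap {S : Subgroup G} (hcomm : ∀ a ∈ S, ∀ b ∈ S, a * b = b * a) (hsq : ∀ a ∈ S, a * a = 1)
    {cs : List G} (h : ∀ c ∈ cs, c ∈ S) : ∀ (L : List ℕ) (n : ℕ), apG (L.map (apG cs)) n = apG cs (ap L n)
  | [], n => by simp [apG, ap_nil, apG_zero]
  | c :: L, n => by
    simp only [List.map_cons, apG, ap_cons, apG_map_ap hcomm hsq h L, apG_xor hcomm hsq h]
    cases Nat.beq (n % 2) 1 <;> simp [apG_zero]

end CfsgLib.LargeFischer
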