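import Cfsg.Agent.Lib.AutPSU.Bridge
import Cfsg.Agent.Lib.Classical.SmallIso.O6Minus
import Cfsg.Agent.Lib.Classical.Herm.Apps
import Cfsg.Agent.Lib.SuzType.Space
import Cfsg.Agent.Lib.Recog.GF4

/-!
The orthogonal group of minus type in dimension six over two elements as an automorphism group.
-/

set_option autoImplicit false
set_option linter.unusedSectionVars false
set_option linter.style.haveILetI false
set_option synthInstance.maxSize 20000
set_option synthInstance.maxHeartbeats 400000
set_option maxRecDepth 10000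

namespace CfsgLib.LargeFischer

open CfsgLib.Recog.GF4 CfsgLib.SuzType
open CfsgLib.Classical.Quad CfsgLib.Orth

/-- A group is the automorphism group of a normal subgroup with trivial centralizer if the orders agree. -/
theorem iso_mulAut {X L : Type*} [Group X] [Finite X] [Group L] [Finite L] (N : Subgroup X) [N.Normal]
    (e : ↥N ≃* L) (hfaith : ∀ x : X, (∀ n : ↥N, x * (n : X) = (n : X) * x) → x = 1)
    (hcard : Nat.card X = Nat.card (MulAut L)) : Nonempty (X ≃* MulAut L) := by
  let f : X →* MulAut L := (MulAut.congr e).toMonoidHom.comp MulAut.conjNormal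
  have hf : Function.Injective f := by
    rw [injective_iff_map_eq_one]
    intro x hx
    have h1 : MulAut.conjNormal (H := N) x = 1 := (MulAut.congr e).map_eq_one_iff.1 hx
    refine hfaith x fun n => ?_
    have h2 := congrArg (fun α : MulAut N => ((α n : N) : X)) h1
    simp only [MulAut.conjNormal_apply, MulAut.one_apply] at h2
    exact mul_inv_eq_iff_eq_mul.1 h2
  exact ⟨MulEquiv.ofBijective f ((Nat.bijective_iff_injective_and_card f).2 ⟨hf, hcard⟩)⟩

theorem card_psu42 : Nat.card (Cfsg.PSU 4 K4 2) = 25920 := by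
  have h := CfsgLib.Classical.Herm.card_psu (F := K4) (q := 2) (by rw [card_K4]; norm_num) (n := 4) (by norm_num)
  simp only [Finset.prod_range_succ, Finset.prod_range_zero, one_mul, show Nat.gcd 4 (2 + 1) = 1 from rfl,
    show Even 0 from ⟨0, rfl⟩, show ¬ Even 1 from by decide, show Even 2 from ⟨1, rfl⟩,
    show ¬ Even 3 from by decide, if_true, if_false] at h
  norm_num at h
  omega

theorem card_mulAut_psu42 : Nat.card (MulAut (Cfsg.PSU 4 K4 2)) = 51840 := by
  haveI : Fact (Nat.Prime 2) := ⟨Nat.prime_two⟩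
  rw [CfsgLib.AutPSU.card_aut (F := K4) (n := 4) (q := 2) 2 1 (by norm_num) (by rw [card_K4]; norm_num)
    (by norm_num) (by norm_num), card_psu42]
  rfl

theorem eq_of_rf : ∀ a b : V6, q6 a = 1 → q6 b = 1 → rf a u0 = rf b u0 → rf a v0 = rf b v0 →
    rf a (emb (1, 0, 0, 0)) = rf b (emb (1, 0, 0, 0)) → rf a (emb (0, 1, 0, 0)) = rf b (emb (0, 1, 0, 0)) →
    rf a (emb w0) = rf b (emb w0) → rf a (emb vd) = rf b (emb vd) → a = b := by
  decide +kernel

theorem eq_one_of_central (g : Orth Q6) (hg : ∀ h : Orth Q6, g * h = h * g) : g = 1 := by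
  have hfix : ∀ a : V6, q6 a = 1 → g.1 a = a := by
    intro a ha
    have hga : q6 (g.1 a) = 1 := by rw [q6_g, ha]
    have h : refl Q6 (g.1 a) = refl Q6 a := by
      rw [← refl_conj, hg, mul_inv_cancel_right]
    have hx : ∀ x, rf (g.1 a) x = rf a x := fun x => by rw [← refl6 hga, ← refl6 ha, h]
    exact eq_of_rf _ _ hga ha (hx _) (hx _) (hx _) (hx _) (hx _) (hx _)
  have hsum : ∀ v : V6, q6 (v + emb w0) = 1 → g.1 v = v := fun v hv => by
    have h1 := hfix _ hv
    rw [g_add, hfix (emb w0) (by decide)] at h1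
    exact add_right_cancel h1
  refine ext6 ?_ ?_ ?_ ?_ ?_ ?_
  · exact hsum u0 (by decide)
  · exact hsum v0 (by decide)
  · exact hsum _ (by decide)
  · exact hsum _ (by decide)
  · exact hfix _ (by decide)
  · exact hfix _ (by decide)

/-- The isometry group is the automorphism group of `PSU 4 2`. -/
theorem o6_mulAut : Nonempty (Cfsg.isometryGroup (ZMod 2) (Cfsg.quadFormMinus 2 (ZMod 2) 1 1) ≃*
    MulAut (Cfsg.PSU 4 K4 2)) := by
  classical
  obtain ⟨e⟩ := CfsgLib.Classical.SmallIso.nonempty_pomega6_minus_equiv (F := ZMod 2) (K := K4) (q := 2)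
    (by simp) (by rw [card_K4]; norm_num) (1 : ZMod 2) 1
    (show CfsgLib.Classical.Quad.IsAniso (1 : ZMod 2) 1 by unfold CfsgLib.Classical.Quad.IsAniso; decide)
  have hc : Nat.card (Subgroup.center (Cfsg.Omega (ZMod 2) (Cfsg.quadFormMinus 2 (ZMod 2) 1 1))) = 1 := by
    have h := Subgroup.card_eq_card_quotient_mul_card_subgroup
      (Subgroup.center (Cfsg.Omega (ZMod 2) (Cfsg.quadFormMinus 2 (ZMod 2) 1 1)))
    rw [card_omega6, Nat.card_congr e.toEquiv, card_psu42] at h
    omega
  have hz := Subgroup.eq_bot_of_card_eq _ hc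
  let eO : ↥(Cfsg.Omega (ZMod 2) (Cfsg.quadFormMinus 2 (ZMod 2) 1 1)) ≃* Cfsg.PSU 4 K4 2 :=
    (MulEquiv.ofBijective (QuotientGroup.mk'
      (Subgroup.center (Cfsg.Omega (ZMod 2) (Cfsg.quadFormMinus 2 (ZMod 2) 1 1))))
      ⟨by rw [← MonoidHom.ker_eq_bot_iff, QuotientGroup.ker_mk', hz], QuotientGroup.mk'_surjective _⟩).trans e
  let eEv : ↥Ev ≃* Cfsg.PSU 4 K4 2 := (commutatorEquiv (isometryEquivModel coord6 coord6_spec)).symm.trans eO
  haveI : Finite (Orth Q6) := Nat.finite_of_card_ne_zero (by rw [card_orth6]; norm_num)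
  haveI : Ev.Normal := Subgroup.normal_of_index_eq_two index_Ev
  refine (iso_mulAut Ev eEv (fun x hx => ?_) (by rw [card_orth6, card_mulAut_psu42])).map
    fun f => (isometryEquivModel coord6 coord6_spec).trans f
  by_cases hxE : x ∈ Ev
  · have h1 : eEv ⟨x, hxE⟩ ∈ Subgroup.center (Cfsg.PSU 4 K4 2) := Subgroup.mem_center_iff.2 fun s => by
      obtain ⟨y, rfl⟩ := eEv.surjective s
      rw [← map_mul, ← map_mul]
      exact congrArg eEv (Subtype.ext (hx y).symm)
    haveI : IsSimpleGroup (Cfsg.PSU 4 K4 2) :=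
      CfsgLib.Classical.Herm.isSimpleGroup_psu (by rw [card_K4]; norm_num) (by norm_num) (by norm_num)
    have hc2 : Subgroup.center (Cfsg.PSU 4 K4 2) = ⊥ := by
      refine (Subgroup.Normal.eq_bot_or_eq_top inferInstance).resolve_right fun ht => ?_
      have hcomm : ∀ a b : Cfsg.PSU 4 K4 2, a * b = b * a := fun a b =>
        Subgroup.mem_center_iff.1 (ht ▸ Subgroup.mem_top b) a
      letI : CommGroup (Cfsg.PSU 4 K4 2) := { (inferInstance : Group (Cfsg.PSU 4 K4 2)) with mul_comm := hcomm }
      have hp := IsSimpleGroup.prime_card (α := Cfsg.PSU 4 K4 2)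
      rw [card_psu42] at hp
      exact absurd hp (by norm_num)
    rw [hc2, Subgroup.mem_bot, MulEquiv.map_eq_one_iff] at h1
    exact congrArg Subtype.val h1
  · refine eq_one_of_central x fun h => ?_
    by_cases hh : h ∈ Ev
    · exact hx ⟨h, hh⟩
    · have hm : x⁻¹ * h ∈ Ev := by
        rw [Subgroup.mul_mem_iff_of_index_two index_Ev]
        exact iff_of_false (fun e => hxE (by simpa using inv_mem e)) hh
      have h2 := hx ⟨_, hm⟩
      simp only at h2
      rw [mul_inv_cancel_left] at h2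
      conv_lhs => rw [h2]
      group

end CfsgLib.LargeFischer
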