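import Cfsg.Agent.Lib.LargeFischer.PlaneData

/-!
The twelve-dimensional module as natural numbers below `4096`: six digits in base four, addition is exclusive or.
-/

set_option autoImplicit false

namespace CfsgLib.LargeFischer.Plane

/-- The low bits of the six digits. -/
def lo (v : ℕ) : ℕ := Nat.land v 1365

/-- The high bits of the six digits. -/
def hi (v : ℕ) : ℕ := Nat.land (Nat.shiftRight v 1) 1365

/-- Multiplication by the element of order three. -/
def wm (v : ℕ) : ℕ := Nat.lor (hi v) (Nat.shiftLeft (Nat.xor (lo v) (hi v)) 1)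

/-- The field automorphism. -/
def cj (v : ℕ) : ℕ := (lo v ^^^ hi v) ||| (hi v <<< 1)

/-- The number of non-zero digits among the low bits. -/
def pc (m : ℕ) : ℕ :=
  (m &&& 1) + ((m >>> 2) &&& 1) + ((m >>> 4) &&& 1) + ((m >>> 6) &&& 1) + ((m >>> 8) &&& 1) + ((m >>> 10) &&& 1)

/-- The weight. -/
def wgt (v : ℕ) : ℕ := pc (lo v ||| hi v)

/-- The quadratic form. -/
def qb (v : ℕ) : Bool := Nat.beq (Nat.land (Nat.shiftRight qMask v) 1) 1

/-- The orbit of a vector of weight two. -/
def sb (v : ℕ) : Bool := Nat.beq (Nat.land (Nat.shiftRight sMask v) 1) 1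

/-- The polar form. -/
def bb (u v : ℕ) : Bool := xor (xor (qb (u ^^^ v)) (qb u)) (qb v)

/-- Scalar multiples. -/
def sm (c v : ℕ) : ℕ :=
  match c with
  | 0 => 0
  | 1 => v
  | 2 => wm v
  | _ => wm (wm v)

/-- The linear map given by the images of the basis bits. -/
def ap : List ℕ → ℕ → ℕ
  | [], _ => 0
  | c :: cs, v => Nat.xor (Nat.mul (Nat.mod v 2) c) (ap cs (Nat.div v 2))

theorem ap_nil (v : ℕ) : ap [] v = 0 := rfl

theorem ap_cons (c : ℕ) (cs : List ℕ) (v : ℕ) :
    ap (c :: cs) v = (if Nat.beq (v % 2) 1 then c else 0) ^^^ ap cs (v / 2) := by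
  show v % 2 * c ^^^ ap cs (v / 2) = _
  rcases Nat.mod_two_eq_zero_or_one v with h | h <;> rw [h] <;> simp [show Nat.beq 0 1 = false from rfl]

/-- Composition of column lists. -/
def comp (g h : List ℕ) : List ℕ := h.map (ap g)

/-- The columns of the identity. -/
def idCols : List ℕ := [1, 2, 4, 8, 16, 32, 64, 128, 256, 512, 1024, 2048]

/-- The columns of the field automorphism. -/
def cjCols : List ℕ := idCols.map cj

/-- The transposition of the first two coordinates. -/
def tau : List ℕ := [4, 8, 1, 2, 16, 32, 64, 128, 256, 512, 1024, 2048]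

/-- The plane: pairs of equal digits. -/
def wOf (i : ℕ) : ℕ := (5 * (i % 4)) + (80 * (i / 4 % 4)) + (1280 * (i / 16))

/-- The sixty-four vectors of the plane. -/
def plane : List ℕ := (List.range 64).map wOf

/-- Membership in the plane. -/
def inPlane (v : ℕ) : Bool :=
  Nat.beq (v % 4) (v / 4 % 4) && Nat.beq (v / 16 % 4) (v / 64 % 4) && Nat.beq (v / 256 % 4) (v / 1024 % 4)

/-- The eighteen vectors of the plane in the orbit of weight two. -/
def special : List ℕ := plane.filter sb

/-- The columns of a map fixing the plane. -/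
def kerCols : ℕ × ℕ × ℕ → List ℕ
  | (x, y, z) => [x, wm x, x ^^^ 5, wm (x ^^^ 5), y, wm y, y ^^^ 80, wm (y ^^^ 80), z, wm z, z ^^^ 1280, wm (z ^^^ 1280)]

/-- A Boolean test on all vectors. -/
def allV (f : ℕ → Bool) : Bool := (List.range 64).all fun a => (List.range 64).all fun b => f (64 * a + b)

theorem allV_spec {f : ℕ → Bool} (h : allV f = true) {v : ℕ} (hv : v < 4096) : f v = true := by
  simp only [allV, List.all_eq_true, List.mem_range] at h
  have := h (v / 64) (by omega) (v % 64) (Nat.mod_lt _ (by norm_num))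
  rwa [Nat.div_add_mod] at this

theorem xor_lt {u v : ℕ} (hu : u < 4096) (hv : v < 4096) : u ^^^ v < 4096 :=
  Nat.xor_lt_two_pow (n := 12) hu hv

theorem wm_facts : allV (fun v => Nat.blt (wm v) 4096 && Nat.blt (cj v) 4096 && Nat.beq (wm (wm (wm v))) v &&
    Nat.beq (cj (cj v)) v && (qb (wm v) == qb v) && (sb (wm v) == sb v) && (!(sb v) || !(qb v)) &&
    (Nat.beq v 0 || !(Nat.beq (wm v) v)) && Nat.beq (v ^^^ wm v ^^^ wm (wm v)) 0 &&
    Nat.beq (ap cjCols v) (cj v) && Nat.beq (ap idCols v) v) = true := by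
  decide +kernel

theorem wm_lt {v : ℕ} (hv : v < 4096) : wm v < 4096 := by
  have h := allV_spec wm_facts hv
  simp only [Bool.and_eq_true, Nat.blt_eq, beq_iff_eq, Nat.beq_eq] at h
  exact h.1.1.1.1.1.1.1.1.1.1

theorem wm_cube {v : ℕ} (hv : v < 4096) : wm (wm (wm v)) = v := by
  have h := allV_spec wm_facts hv
  simp only [Bool.and_eq_true, Nat.blt_eq, beq_iff_eq, Nat.beq_eq] at h
  exact h.1.1.1.1.1.1.1.1.2

theorem qb_wm {v : ℕ} (hv : v < 4096) : qb (wm v) = qb v := by
  have h := allV_spec wm_facts hv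
  simp only [Bool.and_eq_true, Nat.blt_eq, beq_iff_eq, Nat.beq_eq] at h
  exact h.1.1.1.1.1.1.2

theorem sb_wm {v : ℕ} (hv : v < 4096) : sb (wm v) = sb v := by
  have h := allV_spec wm_facts hv
  simp only [Bool.and_eq_true, Nat.blt_eq, beq_iff_eq, Nat.beq_eq] at h
  exact h.1.1.1.1.1.2

theorem qb_of_sb {v : ℕ} (hv : v < 4096) (hs : sb v = true) : qb v = false := by
  have h := allV_spec wm_facts hv
  simp only [Bool.and_eq_true, Bool.or_eq_true, Bool.not_eq_true'] at h
  rcases h.1.1.1.1.2 with e | e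
  · exact absurd hs (by rw [e]; decide)
  · exact e

theorem wm_eq_self {v : ℕ} (hv : v < 4096) (h0 : wm v = v) : v = 0 := by
  have h := allV_spec wm_facts hv
  simp only [Bool.and_eq_true, Bool.or_eq_true, Bool.not_eq_true', Nat.beq_eq] at h
  rcases h.1.1.1.2 with e | e
  · exact e
  · rw [h0] at e; simp at e

theorem wm_sum {v : ℕ} (hv : v < 4096) : v ^^^ wm v ^^^ wm (wm v) = 0 := by
  have h := allV_spec wm_facts hv
  simp only [Bool.and_eq_true, Nat.beq_eq] at h
  exact h.1.1.2

theorem ap_cjCols {v : ℕ} (hv : v < 4096) : ap cjCols v = cj v := by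
  have h := allV_spec wm_facts hv
  simp only [Bool.and_eq_true, Nat.beq_eq] at h
  exact h.1.2

theorem ap_idCols {v : ℕ} (hv : v < 4096) : ap idCols v = v := by
  have h := allV_spec wm_facts hv
  simp only [Bool.and_eq_true, Nat.beq_eq] at h
  exact h.2

theorem ap_zero : ∀ cs : List ℕ, ap cs 0 = 0
  | [] => rfl
  | c :: cs => by simp [ap_cons, ap_zero cs, show Nat.beq 0 1 = false from rfl]

/-- An additive map is given by its columns. -/
theorem eq_ap {f : ℕ → ℕ} (hadd : ∀ u < 4096, ∀ v < 4096, f (u ^^^ v) = f u ^^^ f v) {cs : List ℕ}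
    (hlen : cs.length ≤ 12) : ∀ k : ℕ, k + cs.length = 12 →
      (∀ i (h : i < cs.length), cs[i] = f (2 ^ (k + i))) →
      ∀ v < 2 ^ cs.length, f (2 ^ k * v) = ap cs v := by
  have hf0 : f 0 = 0 := by
    have := hadd 0 (by norm_num) 0 (by norm_num)
    simp at this
    exact this
  induction cs with
  | nil =>
    intro k _ _ v hv
    simp at hv
    subst hv
    simpa [ap_nil] using hf0
  | cons c cs ih =>
    intro k hk hc v hv
    simp only [List.length_cons] at hk hlen hv
    have hc0 : c = f (2 ^ k) := hc 0 (by simp)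
    have h1 := ih (by omega) (k + 1) (by omega) (fun i hi => by
      have := hc (i + 1) (by simpa using hi)
      simpa [show k + 1 + i = k + (i + 1) by omega] using this) (v / 2) (by rw [pow_succ] at hv; omega)
    have hk12 : 2 ^ (k + 1) * 2 ^ cs.length = 4096 := by rw [← pow_add, show k + 1 + cs.length = 12 by omega]; rfl
    have hlt : 2 ^ (k + 1) * (v / 2) < 4096 := by
      rw [← hk12]
      exact Nat.mul_lt_mul_of_pos_left (by rw [pow_succ] at hv; omega) (by positivity)
    rw [ap_cons]
    rw [← h1]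
    rcases Nat.mod_two_eq_zero_or_one v with hm | hm
    · rw [hm]
      simp only [show Nat.beq 0 1 = false from rfl, Bool.false_eq_true, if_false, Nat.zero_xor]
      congr 1
      rw [pow_succ, mul_assoc, show 2 * (v / 2) = v by omega]
    · rw [hm]
      simp only [show Nat.beq 1 1 = true from rfl, if_true]
      have hk' : 2 ^ k < 4096 := by
        calc 2 ^ k < 2 ^ 12 := Nat.pow_lt_pow_right (by norm_num) (by omega)
          _ = 4096 := rfl
      rw [hc0, ← hadd _ hk' _ hlt]
      congr 1
      have h2 : 2 ^ k * v = 2 ^ (k + 1) * (v / 2) + 2 ^ k := by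
        conv_lhs => rw [← Nat.div_add_mod v 2, hm]
        rw [pow_succ]; ring
      rw [h2, Nat.two_pow_add_eq_or_of_lt (Nat.pow_lt_pow_right (by norm_num) (by omega)) (v / 2),
        Nat.xor_comm]
      refine Nat.eq_of_testBit_eq fun i => ?_
      rw [Nat.testBit_or, Nat.testBit_xor, Nat.testBit_two_pow_mul, Nat.testBit_two_pow]
      by_cases hi : k = i
      · subst hi; simp
      · simp [hi]

/-- An additive map is given by the images of the twelve basis bits. -/
theorem eq_ap' {f : ℕ → ℕ} (hadd : ∀ u < 4096, ∀ v < 4096, f (u ^^^ v) = f u ^^^ f v) {v : ℕ} (hv : v < 4096) :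
    f v = ap (idCols.map f) v := by
  have := eq_ap hadd (cs := idCols.map f) (by simp [idCols]) 0 (by simp [idCols]) (fun i hi => by
    simp only [idCols, List.map_cons, List.map_nil, List.length_cons, List.length_nil] at hi
    interval_cases i <;> rfl) v (by simpa [idCols] using hv)
  simpa using this

theorem ap_lt : ∀ {cs : List ℕ}, (∀ c ∈ cs, c < 4096) → ∀ v, ap cs v < 4096
  | [], _, _ => by simp [ap_nil]
  | c :: cs, h, v => by
    rw [ap_cons]
    refine xor_lt ?_ (ap_lt (fun d hd => h d (List.mem_cons_of_mem _ hd)) _)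
    split_ifs
    · exact h c List.mem_cons_self
    · norm_num

theorem ap_add : ∀ (cs : List ℕ) (u v : ℕ), ap cs (u ^^^ v) = ap cs u ^^^ ap cs v
  | [], u, v => by simp [ap_nil]
  | c :: cs, u, v => by
    simp only [ap_cons]
    rw [show (u ^^^ v) / 2 = u / 2 ^^^ v / 2 from Nat.xor_div_two, ap_add cs, show (u ^^^ v) % 2 = (u % 2) ^^^ (v % 2)
      from Nat.xor_mod_two_pow (n := 1)]
    rcases Nat.mod_two_eq_zero_or_one u with hu | hu <;> rcases Nat.mod_two_eq_zero_or_one v with hv | hv <;>
      simp [hu, hv, Nat.xor_assoc, Nat.xor_comm, Nat.xor_left_comm]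

theorem ap_comp (g : List ℕ) : ∀ (h : List ℕ) (v : ℕ), ap (comp g h) v = ap g (ap h v)
  | [], _ => by simp [comp, ap_nil, ap_zero]
  | c :: h, v => by
    have ih := ap_comp g h (v / 2)
    simp only [comp] at ih
    simp only [comp, List.map_cons, ap_cons, ap_add, ih]
    congr 1
    split_ifs <;> simp [ap_zero]

end CfsgLib.LargeFischer.Plane
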