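import Cfsg.Agent.Lib.LargeFischer.Orbits
import Cfsg.Agent.Lib.Recog.GF4
import Cfsg.Prelude.Def_Classical

/-!
The module as a hermitian space over the field with four elements.
-/

set_option autoImplicit false
set_option linter.unusedSectionVars false
set_option linter.style.haveILetI false

namespace CfsgLib.LargeFischer

open CfsgLib.Recog.GF4
open scoped Matrix

/-- The element of order three of the field. -/
def wK : K4 := ⟨2⟩

/-- Coordinates as field elements. -/
def toK : Option (ZMod 3) ≃ K4 where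
  toFun o := o.elim 0 fun j => wK ^ j.val
  invFun a := if a = 0 then none else some (if a = 1 then 0 else if a = wK then 1 else 2)
  left_inv := by decide +kernel
  right_inv := fun ⟨a⟩ => by revert a; decide +kernel

theorem toK_none : toK none = 0 := rfl

theorem toK_isSome : ∀ o, o.isSome ↔ toK o ≠ 0 := by decide +kernel

theorem toK_shift : ∀ o (j : ZMod 3), toK (o.map (· + j)) = wK ^ j.val * toK o := by decide +kernel

theorem forall_K4 {P : K4 → Prop} (h : ∀ i : Fin 4, P ⟨i⟩) (a : K4) : P a := h a.val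

theorem cube_eq_one : ∀ a : K4, a ≠ 0 → a * a * a = 1 := forall_K4 (by decide +kernel)

theorem scalar_cases : ∀ a : K4, a = 0 ∨ a = 1 ∨ a = wK ∨ a = wK + 1 := forall_K4 (by decide +kernel)

/-- The image of a bit. -/
def bit (b : ZMod 2) : K4 := if b = 0 then 0 else 1

theorem bit_add : ∀ a b : ZMod 2, bit (a + b) = bit a + bit b := by decide +kernel

theorem bit_one_if : ∀ a : K4, bit (if a = 0 then 0 else 1) = a * a ^ 2 := forall_K4 (by decide +kernel)

theorem eq_of_traces : ∀ a b : K4, a + a ^ 2 = b + b ^ 2 → wK * a + (wK * a) ^ 2 = wK * b + (wK * b) ^ 2 → a = b :=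
  forall_K4 fun i => forall_K4 (by revert i; decide +kernel)

theorem herm_comm_aux : ∀ a b : K4, (a * b ^ 2) ^ 2 = b * a ^ 2 := forall_K4 fun i => forall_K4 (by revert i; decide +kernel)

theorem sq_add (a b : K4) : (a + b) ^ 2 = a ^ 2 + b ^ 2 := by
  linear_combination a * b * two_eq_zero

theorem herm_comm {n : ℕ} (x y : Fin n → K4) :
    Cfsg.hermForm n K4 2 y x = Cfsg.hermForm n K4 2 x y ^ 2 := by
  have h : ∀ s : Finset (Fin n), (∑ i ∈ s, x i * y i ^ 2) ^ 2 = ∑ i ∈ s, y i * x i ^ 2 := by
    intro s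
    induction s using Finset.induction_on with
    | empty => simp
    | insert a s ha ih => rw [Finset.sum_insert ha, Finset.sum_insert ha, sq_add, ih, herm_comm_aux]
  exact (h Finset.univ).symm

theorem herm_smul_left {n : ℕ} (c : K4) (x y : Fin n → K4) :
    Cfsg.hermForm n K4 2 (c • x) y = c * Cfsg.hermForm n K4 2 x y := by
  simp only [Cfsg.hermForm, Pi.smul_apply, smul_eq_mul, Finset.mul_sum, mul_assoc]

theorem herm_add_left {n : ℕ} (x x' y : Fin n → K4) :
    Cfsg.hermForm n K4 2 (x + x') y = Cfsg.hermForm n K4 2 x y + Cfsg.hermForm n K4 2 x' y := by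
  simp only [Cfsg.hermForm, Pi.add_apply, add_mul, Finset.sum_add_distrib]

theorem herm_add_right {n : ℕ} (x y y' : Fin n → K4) :
    Cfsg.hermForm n K4 2 x (y + y') = Cfsg.hermForm n K4 2 x y + Cfsg.hermForm n K4 2 x y' := by
  simp only [Cfsg.hermForm, Pi.add_apply, sq_add, mul_add, Finset.sum_add_distrib]

namespace Frame

variable {Γ : Type*} [Group Γ] [Finite Γ] {V : Type*} [AddCommGroup V] [Finite V] [DistribMulAction Γ V]
  {L : Type*} [Group L] [IsSimpleGroup L]
  {q : V → ZMod 2} {A T : Subgroup Γ} {ω : Γ} {π : T →* L} (C : Frame q A T ω π) (R : Raw q A T ω π)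
include C R

/-- A single coordinate. -/
def single (_R : Raw q A T ω π) (i : Fin 6) (o : Option (ZMod 3)) : V := C.Φ fun k => if k = i then o else none

theorem single_none (i : Fin 6) : C.single R i none = 0 := by simp [single, C.zero]

theorem single_add (i : Fin 6) (o o' : Option (ZMod 3)) :
    C.single R i o + C.single R i o' = C.single R i (toK.symm (toK o + toK o')) := by
  rcases o with _ | j
  · rw [C.single_none, zero_add, toK_none, zero_add, Equiv.symm_apply_apply]
  rcases o' with _ | j'
  · rw [C.single_none, add_zero, toK_none, add_zero, Equiv.symm_apply_apply]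
  by_cases hj : j = j'
  · subst hj
    rw [R.two, add_self, show toK.symm 0 = none from rfl, C.single_none]
  obtain ⟨k, hk⟩ := exists_ne i
  let x : Fin 6 → ZMod 3 := fun l => if l = i then j' - j else if l = k then j - j' else 0
  obtain ⟨a, ha, had⟩ := C.dsurj x (by
    simp only [x]
    rw [Finset.sum_ite, Finset.sum_ite, Finset.filter_eq', Finset.sum_const_zero, add_zero]
    have hf : (Finset.univ.filter fun l => ¬l = i).filter (fun l => l = k) = {k} := by
      ext l; simp only [Finset.mem_filter, Finset.mem_univ, true_and, Finset.mem_singleton]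
      exact ⟨fun h => h.2, fun h => ⟨h ▸ hk, h⟩⟩
    rw [hf]
    simp)
  have h5 := C.flip (fun l => if l = i then some j else none) a ha
  have h6 : a • C.single R i (some j) = C.single R i (some j') := by
    rw [single, C.smulA a ha, had]
    refine congrArg C.Φ (funext fun l => ?_)
    by_cases hl : l = i <;> simp [shift, x, hl]
  change a • C.single R i (some j) + C.single R i (some j) = _ at h5
  rw [h6] at h5
  rw [add_comm, h5, had]
  refine congrArg C.Φ (funext fun l => ?_)
  have hd : ∀ j j' : ZMod 3, j ≠ j' → (if j' - j = 0 then none else (some j).map fun y => y + 2 * (j' - j)) =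
      toK.symm (toK (some j) + toK (some j')) := by decide +kernel
  by_cases hl : l = i
  · simpa [x, hl] using hd j j' hj
  · simp [x, hl]

theorem sum_single (f : Fin 6 → Option (ZMod 3)) : C.Φ f = ∑ i, C.single R i (f i) := by
  have h : ∀ s : Finset (Fin 6), ∑ i ∈ s, C.single R i (f i) = C.Φ fun k => if k ∈ s then f k else none := by
    intro s
    induction s using Finset.induction_on with
    | empty => simp [C.zero]
    | insert a s ha ih =>
      rw [Finset.sum_insert ha, ih, single, C.add_disj _ _ fun k => by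
        by_cases hk : k = a
        · subst hk; simp [ha]
        · simp [hk]]
      refine congrArg C.Φ (funext fun k => ?_)
      by_cases hk : k = a
      · subst hk; simp [ha]
      · simp [hk]
  rw [h]
  simp

/-- The module as `K4 ^ 6`. -/
def vK (_R : Raw q A T ω π) : (Fin 6 → K4) ≃ V := (Equiv.arrowCongr (Equiv.refl (Fin 6)) toK.symm).trans C.Φ

theorem vK_apply (x : Fin 6 → K4) : C.vK R x = C.Φ fun i => toK.symm (x i) := rfl

theorem vK_add (x y : Fin 6 → K4) : C.vK R (x + y) = C.vK R x + C.vK R y := by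
  rw [C.vK_apply, C.vK_apply, C.vK_apply, C.sum_single R, C.sum_single R, C.sum_single R,
    ← Finset.sum_add_distrib]
  refine Finset.sum_congr rfl fun i _ => ?_
  rw [C.single_add, Equiv.apply_symm_apply, Equiv.apply_symm_apply]
  rfl

theorem vK_zero : C.vK R 0 = 0 := C.zero

theorem smul_omega (x : Fin 6 → K4) : ω • C.vK R x = C.vK R (wK • x) := by
  rw [C.vK_apply, C.vK_apply, C.smulA ω R.ωA]
  refine congrArg C.Φ (funext fun i => toK.injective ?_)
  rw [shift, toK_shift, C.dω, Equiv.apply_symm_apply, Equiv.apply_symm_apply]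
  simp [ZMod.val_one, pow_one]

theorem smul_A {a : Γ} (ha : a ∈ A) (x : Fin 6 → K4) :
    a • C.vK R x = C.vK R fun i => wK ^ (C.d a i).val * x i := by
  rw [C.vK_apply, C.vK_apply, C.smulA a ha]
  refine congrArg C.Φ (funext fun i => toK.injective ?_)
  rw [shift, toK_shift, Equiv.apply_symm_apply, Equiv.apply_symm_apply]

theorem supp_symm (x : Fin 6 → K4) : supp (fun i => toK.symm (x i)) = Finset.univ.filter fun i => x i ≠ 0 := by
  ext i
  simp only [supp, Finset.mem_filter, Finset.mem_univ, true_and]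
  rw [toK_isSome, Equiv.apply_symm_apply]

theorem q_vK (x : Fin 6 → K4) : bit (q (C.vK R x)) = Cfsg.hermForm 6 K4 2 x x := by
  rw [C.vK_apply, C.q_eq, C.supp_symm R, Finset.natCast_card_filter]
  have h : ∀ s : Finset (Fin 6), bit (∑ i ∈ s, if x i ≠ 0 then (1 : ZMod 2) else 0) = ∑ i ∈ s, x i * x i ^ 2 := by
    intro s
    induction s using Finset.induction_on with
    | empty => rfl
    | insert a s ha ih =>
      rw [Finset.sum_insert ha, Finset.sum_insert ha, bit_add, ih, ← bit_one_if (x a)]
      simp only [ne_eq, ite_not]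
  exact h Finset.univ

theorem bil_vK (x y : Fin 6 → K4) : bit (R.bil (C.vK R x) (C.vK R y)) =
    Cfsg.hermForm 6 K4 2 x y + Cfsg.hermForm 6 K4 2 x y ^ 2 := by
  rw [Raw.bil, ← C.vK_add, bit_add, bit_add, C.q_vK, C.q_vK, C.q_vK, herm_add_left, herm_add_right,
    herm_add_right, ← herm_comm x y]
  linear_combination (Cfsg.hermForm 6 K4 2 x x + Cfsg.hermForm 6 K4 2 y y) * two_eq_zero

/-- The coordinate form of the action. -/
def act (γ : Γ) (x : Fin 6 → K4) : Fin 6 → K4 := (C.vK R).symm (γ • C.vK R x)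

theorem vK_act (γ : Γ) (x : Fin 6 → K4) : C.vK R (C.act R γ x) = γ • C.vK R x := Equiv.apply_symm_apply _ _

theorem act_mul (γ δ : Γ) (x : Fin 6 → K4) : C.act R (γ * δ) x = C.act R γ (C.act R δ x) :=
  (C.vK R).injective (by rw [C.vK_act, C.vK_act, C.vK_act, mul_smul])

theorem act_one (x : Fin 6 → K4) : C.act R 1 x = x :=
  (C.vK R).injective (by rw [C.vK_act, one_smul])

theorem act_add (γ : Γ) (x y : Fin 6 → K4) : C.act R γ (x + y) = C.act R γ x + C.act R γ y :=
  (C.vK R).injective (by rw [C.vK_act, C.vK_add, smul_add, C.vK_add, C.vK_act, C.vK_act])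

theorem act_A {a : Γ} (ha : a ∈ A) (x : Fin 6 → K4) : C.act R a x = fun i => wK ^ (C.d a i).val * x i :=
  (C.vK R).injective (by rw [C.vK_act, C.smul_A R ha])

theorem act_inj {γ δ : Γ} (h : ∀ x, C.act R γ x = C.act R δ x) : γ = δ := by
  refine inv_mul_eq_one.1 (R.faithful _ fun v => ?_)
  obtain ⟨x, rfl⟩ := (C.vK R).surjective v
  rw [mul_smul, inv_smul_eq_iff, ← C.vK_act, ← C.vK_act, h]

theorem act_wK {γ : Γ} (hγ : γ * ω = ω * γ) (x : Fin 6 → K4) : C.act R γ (wK • x) = wK • C.act R γ x :=
  (C.vK R).injective (by rw [C.vK_act, ← C.smul_omega, ← mul_smul, hγ, mul_smul, ← C.vK_act, C.smul_omega])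

theorem act_wK_flip {γ : Γ} (hγ : γ * ω = ω⁻¹ * γ) (x : Fin 6 → K4) :
    wK • C.act R γ (wK • x) = C.act R γ x :=
  (C.vK R).injective (by
    rw [← C.smul_omega, C.vK_act, ← C.smul_omega, C.vK_act, ← mul_smul γ, hγ, mul_smul, smul_inv_smul])

theorem act_smul {γ : Γ} (hγ : γ * ω = ω * γ) (c : K4) (x : Fin 6 → K4) :
    C.act R γ (c • x) = c • C.act R γ x := by
  have h0 : C.act R γ 0 = 0 := (C.vK R).injective (by rw [C.vK_act, C.vK_zero, smul_zero])
  rcases scalar_cases c with rfl | rfl | rfl | rfl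
  · simp [h0]
  · simp
  · exact C.act_wK R hγ x
  · rw [add_smul, add_smul, one_smul, one_smul, C.act_add, C.act_wK R hγ]

theorem act_herm {γ : Γ} (hγ : γ * ω = ω * γ) (x y : Fin 6 → K4) :
    Cfsg.hermForm 6 K4 2 (C.act R γ x) (C.act R γ y) = Cfsg.hermForm 6 K4 2 x y := by
  have h : ∀ x y, Cfsg.hermForm 6 K4 2 (C.act R γ x) (C.act R γ y) +
      Cfsg.hermForm 6 K4 2 (C.act R γ x) (C.act R γ y) ^ 2 =
      Cfsg.hermForm 6 K4 2 x y + Cfsg.hermForm 6 K4 2 x y ^ 2 := fun x y => by
    rw [← C.bil_vK R, ← C.bil_vK R, C.vK_act, C.vK_act, R.bil_smul]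
  refine eq_of_traces _ _ (h x y) ?_
  have := h (wK • x) y
  rwa [C.act_wK R hγ, herm_smul_left, herm_smul_left] at this

end Frame

end CfsgLib.LargeFischer
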