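import Cfsg.Agent.Lib.LargeFischer.WStab

/-!
Two facts in coordinates used for the centralizer of the three-element: the element of order three is a product of
commutators of linear elements, and there is no invariant half of a totally singular plane.
-/

set_option autoImplicit false
set_option linter.unusedSectionVars false
set_option linter.style.haveILetI false

namespace CfsgLib.LargeFischer

open CfsgLib.Recog.GF4
open CfsgLib.LargeFischer.Frame (dvec)
open scoped Matrix

/-- The character which is `1` at `i` and `2` at `j`. -/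
def rootVec (i j : Fin 6) : Fin 6 → ZMod 3 := fun n => if n = i then 1 else if n = j then 2 else 0

theorem wK_pow_add : ∀ a b : ZMod 3, wK ^ a.val * wK ^ b.val = wK ^ (a + b).val := by decide +kernel

theorem root_flip : ∀ i j : Fin 6, i ≠ j → (∑ n, rootVec i j n = 0) ∧
    ∃ k l : Fin 6, (Equiv.swap i j * Equiv.swap k l).sign = 1 ∧
      ∀ n, rootVec i j ((Equiv.swap i j * Equiv.swap k l).symm n) = rootVec i j n + rootVec i j n := by
  decide +kernel

theorem root_combine : ∀ n : Fin 6,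
    (1 : ZMod 3) = rootVec 0 1 n + (rootVec 1 2 n + rootVec 1 2 n) + (rootVec 3 4 n + (rootVec 4 5 n + rootVec 4 5 n)) := by
  decide +kernel

theorem exists_move : ∀ i j : Fin 6, i ≠ j → ∃ k l m : Fin 6,
    (Equiv.swap (0 : Fin 6) i * Equiv.swap 1 k * Equiv.swap l m).sign = 1 ∧
      (Equiv.swap (0 : Fin 6) i * Equiv.swap 1 k * Equiv.swap l m) 0 = i ∧
      (Equiv.swap (0 : Fin 6) i * Equiv.swap 1 k * Equiv.swap l m) 1 = j := by
  decide +kernel

theorem three_tau : (Equiv.swap (0 : Fin 6) 1 * Equiv.swap 1 2).sign = 1 ∧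
    (Equiv.swap (0 : Fin 6) 3 * Equiv.swap 4 5).sign = 1 ∧ (Equiv.swap (0 : Fin 6) 1 * Equiv.swap 1 2 : Equiv.Perm (Fin 6)) 0 = 1 ∧
    (∀ n : Fin 6, 3 ≤ n → (Equiv.swap (0 : Fin 6) 1 * Equiv.swap 1 2 : Equiv.Perm (Fin 6)) n = n) := by
  decide +kernel

theorem four_kind : ∀ c : ZMod 3, kind (fun i => toK.symm ((dvec c * ind 0 3) i)) = 0 ∧
    kind (fun i => toK.symm ((dvec c * (ind 0 3 + 1)) i)) = 1 ∧ kind pairVec = 0 := by
  decide +kernel

theorem ind_sum : ind 0 3 + ind 1 2 + ind 4 5 = (1 : Fin 6 → K4) := by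
  funext n; revert n; decide +kernel

namespace Frame

variable {Γ : Type*} [Group Γ] [Finite Γ] {V : Type*} [AddCommGroup V] [Finite V] [DistribMulAction Γ V]
  {L : Type*} [Group L] [IsSimpleGroup L]
  {q : V → ZMod 2} {A T : Subgroup Γ} {ω : Γ} {π : T →* L} (C : Frame q A T ω π) (R : Raw q A T ω π)
  {c : ZMod 3}
include C R

theorem root_mem (c : ZMod 3) {i j : Fin 6} (hij : i ≠ j) : ∃ a ∈ A, C.d a = rootVec i j ∧
    a ∈ ⁅Subgroup.centralizer ({ω} : Set Γ), Subgroup.centralizer ({ω} : Set Γ)⁆ := by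
  obtain ⟨hs, k, l, hsgn, hflip⟩ := root_flip i j hij
  obtain ⟨a, ha, hd⟩ := C.dsurj _ hs
  refine ⟨a, ha, hd, ?_⟩
  obtain ⟨γ, hγ⟩ := C.perms_even R (c := c) (σ := Equiv.swap i j * Equiv.swap k l)
    (Equiv.Perm.mem_alternatingGroup.2 hsgn)
  set σ := Equiv.swap i j * Equiv.swap k l
  have hγω := C.perms_comm R hγ
  have haω : a * ω = ω * a := (R.ωA_comm a ha).symm
  have key : γ * a = a * a * γ := by
    refine C.act_inj R fun y => ?_
    obtain ⟨x, rfl⟩ : ∃ x, dvec c * x = y := ⟨fun n => (dvec c n)⁻¹ * y n, funext fun n => by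
      rw [Pi.mul_apply, mul_inv_cancel_left₀ (dvec_ne c n)]⟩
    have hA : ∀ y', C.act R a (dvec c * y') = dvec c * fun n => wK ^ (C.d a n).val * y' n := fun y' => by
      rw [C.act_A R ha]
      funext n
      simp only [Pi.mul_apply]
      ring
    rw [C.act_mul, C.act_mul, C.act_mul, hA, hγ, hγ, hA, hA]
    refine congrArg (dvec c * ·) (funext fun n => ?_)
    simp only [Function.comp_apply]
    rw [← mul_assoc, wK_pow_add, hd, hflip]
  have e : a = γ * a * γ⁻¹ * a⁻¹ := by rw [key]; group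
  rw [e]
  exact Subgroup.commutator_mem_commutator (Subgroup.mem_centralizer_singleton_iff.2 hγω)
    (Subgroup.mem_centralizer_singleton_iff.2 haω)

/-- The element of order three is a product of commutators of linear elements. -/
theorem omega_commutator :
    ω ∈ ⁅Subgroup.centralizer ({ω} : Set Γ), Subgroup.centralizer ({ω} : Set Γ)⁆ := by
  obtain ⟨a, ha, hda, ham⟩ := C.root_mem R 0 (show (0 : Fin 6) ≠ 1 by decide)
  obtain ⟨b, hb, hdb, hbm⟩ := C.root_mem R 0 (show (1 : Fin 6) ≠ 2 by decide)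
  obtain ⟨e, he, hde, hem⟩ := C.root_mem R 0 (show (3 : Fin 6) ≠ 4 by decide)
  obtain ⟨f, hf, hdf, hfm⟩ := C.root_mem R 0 (show (4 : Fin 6) ≠ 5 by decide)
  suffices h : ω = a * (b * b) * (e * (f * f)) by
    have hm := mul_mem (mul_mem ham (mul_mem hbm hbm)) (mul_mem hem (mul_mem hfm hfm))
    rwa [← h] at hm
  refine C.act_inj R fun x => ?_
  simp only [C.act_mul, C.act_A R ha, C.act_A R hb, C.act_A R he, C.act_A R hf, C.act_A R R.ωA, C.dω]
  funext n
  simp only [hda, hdb, hde, hdf, ← mul_assoc, wK_pow_add]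
  rw [root_combine n]
  congr 3
  ring

/-- No invariant subgroup of order thirty-two contains `w` and is closed in type under adding `w`. -/
theorem no_half (M : AddSubgroup V) (hM : Nat.card M = 32)
    (hinv : ∀ γ σ, σ ∈ alternatingGroup (Fin 6) → C.Perms R c γ σ → ∀ v ∈ M, γ • v ∈ M)
    (h1 : C.sv R c 1 ∈ M)
    (hpair : ∀ v ∈ M, v ≠ 0 → v ≠ C.sv R c 1 → ∃ γ : Γ, γ • v = v + C.sv R c 1) : False := by
  classical
  have hσ : ∀ σ : Equiv.Perm (Fin 6), σ.sign = 1 → ∀ {x}, C.sv R c x ∈ M → C.sv R c (x ∘ σ) ∈ M :=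
    fun σ hs x hx => C.inv_of_perms R M hinv (Equiv.Perm.mem_alternatingGroup.2 hs) hx
  obtain ⟨x, hx, i, j, hij⟩ : ∃ x, C.sv R c x ∈ M ∧ ∃ i j, x i ≠ x j := by
    by_contra hall
    push Not at hall
    have hsub : Nat.card M ≤ Nat.card K4 := by
      refine Nat.card_le_card_of_surjective (fun k => if h : C.sv R c (k • 1) ∈ M then ⟨_, h⟩ else 0) ?_
      rintro ⟨v, hv⟩
      obtain ⟨x, rfl⟩ := C.sv_surj R (c := c) v
      have e : x 0 • (1 : Fin 6 → K4) = x := funext fun n => by simp [hall x hv n 0]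
      exact ⟨x 0, by simp only [e, dif_pos hv]⟩
    rw [hM, Nat.card_eq_fintype_card, card_K4] at hsub
    omega
  have hne' : i ≠ j := fun e => hij (e ▸ rfl)
  obtain ⟨k, l, m, hsgn, hi, hj⟩ := exists_move i j hne'
  set x' := x ∘ ⇑(Equiv.swap (0 : Fin 6) i * Equiv.swap 1 k * Equiv.swap l m) with hx'
  have hx'M : C.sv R c x' ∈ M := hσ _ hsgn hx
  have h01 : x' 0 ≠ x' 1 := by
    simp only [hx', Function.comp_apply]
    rw [hi, hj]; exact hij
  obtain ⟨s1, s2, t0, tfix⟩ := three_tau
  set y := x' + x' ∘ ⇑(Equiv.swap (0 : Fin 6) 1 * Equiv.swap 1 2 : Equiv.Perm (Fin 6)) with hy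
  have hyM : C.sv R c y ∈ M := by rw [hy, map_add]; exact add_mem hx'M (hσ _ s1 hx'M)
  set α := x' 0 + x' 1 with hα
  have hα0 : α ≠ 0 := fun e => h01 (by linear_combination e - x' 1 * two_eq_zero)
  have hy0 : y 0 = α := by rw [hy, Pi.add_apply, Function.comp_apply, t0]
  have hy3 : ∀ n : Fin 6, 3 ≤ n → y n = 0 := fun n hn => by
    rw [hy, Pi.add_apply, Function.comp_apply, tfix n hn, CfsgLib.Recog.GF4.add_self]
  have hind : y + y ∘ ⇑(Equiv.swap (0 : Fin 6) 3 * Equiv.swap 4 5 : Equiv.Perm (Fin 6)) = α • ind 0 3 := by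
    have h3 := hy3 3 (by decide)
    have h4 := hy3 4 (by decide)
    have h5 := hy3 5 (by decide)
    funext n
    fin_cases n <;> simp [ind, hy0, h3, h4, h5, Equiv.swap_apply_def, CfsgLib.Recog.GF4.add_self]
  have hαM : C.sv R c (α • ind 0 3) ∈ M := by rw [← hind, map_add]; exact add_mem hyM (hσ _ s2 hyM)
  have hall : ∀ a b : Fin 6, a ≠ b → C.sv R c (α • ind a b) ∈ M := fun a b hab => by
    have h := C.pair_mem R M hinv hαM 0 1 hab
    simpa [ind] using h
  by_cases hα1 : α = 1
  · subst_vars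
    rw [hα1, one_smul] at hαM
    obtain ⟨γ, hγ⟩ := hpair _ hαM (fun e => by
      rw [← map_zero (C.sv R c)] at e
      exact absurd (congrFun (C.sv_inj R e) 0) (by decide +kernel)) (fun e =>
      absurd (congrFun (C.sv_inj R e) 1) (by decide +kernel))
    rw [← map_add] at hγ
    obtain ⟨k1, k2, k0⟩ := four_kind c
    obtain ⟨S, hS5, hS0, hSiff, hS7, hSd, -⟩ := C.orbit_data R (f := pairVec) (by rw [k0]; decide)
    rw [k0] at hS0
    obtain ⟨hS1, -⟩ := small_sum S hS0 hS5 hS7 hSd
    have hmem : (fun i => toK.symm ((dvec c * (ind 0 3 + 1)) i)) ∈ C.orbSet R pairVec := by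
      obtain ⟨δ, hδ⟩ := C.same_orbit R (f := pairVec) (g := fun i => toK.symm ((dvec c * ind 0 3) i))
        (by rw [k0, k1]) (by rw [k0]; decide)
      refine (C.mem_orbSet R).2 ⟨γ * δ, ?_⟩
      rw [mul_smul, hδ, ← C.vK_apply R, ← C.vK_apply R, ← sv_apply, ← sv_apply, hγ]
    rw [hSiff, k2] at hmem
    exact hS1 hmem
  -- otherwise the multiples of the even subspace and `w` are too many
  have hgen : ∀ t : Fin 5 → ZMod 2,
      C.sv R c (∑ p, bit (t p) • α • ind 0 p.succ) ∈ M := fun t => by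
    rw [map_sum]
    refine sum_mem fun p _ => ?_
    rcases (show ∀ b : ZMod 2, b = 0 ∨ b = 1 by decide) (t p) with e | e <;> rw [e]
    · simp [bit]
    · simp only [bit, one_ne_zero, if_false, one_smul]
      exact hall 0 p.succ (Fin.succ_ne_zero p).symm
  have hcoord : ∀ (t : Fin 5 → ZMod 2) (p : Fin 5),
      (∑ p', bit (t p') • α • ind 0 p'.succ) p.succ = bit (t p) * α := by
    intro t p
    fin_cases p <;> simp [Fin.sum_univ_five, ind]
  let F : Option (Fin 5 → ZMod 2) → M := fun o => match o with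
    | none => ⟨_, h1⟩
    | some t => ⟨_, hgen t⟩
  have hinj : Function.Injective F := by
    intro a b h
    have h' := congrArg (fun v : M => (v : V)) h
    have hbit : ∀ e : ZMod 2, bit e * α ≠ 1 := fun e he => by
      rcases (show ∀ b : ZMod 2, b = 0 ∨ b = 1 by decide) e with rfl | rfl
      · simp [bit] at he
      · simp [bit] at he; exact hα1 he
    rcases a with _ | t <;> rcases b with _ | t'
    · rfl
    · have := congrFun (C.sv_inj R h') (Fin.succ 0)
      rw [hcoord] at this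
      exact absurd this.symm (hbit _)
    · have := congrFun (C.sv_inj R h') (Fin.succ 0)
      rw [hcoord] at this
      exact absurd this (hbit _)
    · refine congrArg some (funext fun p => ?_)
      have := congrFun (C.sv_inj R h') p.succ
      rw [hcoord, hcoord] at this
      have hb : ∀ e e' : ZMod 2, bit e = bit e' → e = e' := bit_inj
      exact hb _ _ (mul_right_cancel₀ hα0 this)
  have := Nat.card_le_card_of_injective F hinj
  rw [hM, Nat.card_eq_fintype_card, Fintype.card_option, Fintype.card_fun, ZMod.card, Fintype.card_fin] at this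
  omega

end Frame

end CfsgLib.LargeFischer
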