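import Cfsg.Agent.Lib.LargeFischer.VStruct
import Cfsg.Agent.Lib.LargeFischer.CoreWitness

/-!
The data needed for the centralizer of the element of order three in a group of large Fischer type.
-/

set_option autoImplicit false
set_option linter.unusedSectionVars false
set_option linter.style.haveILetI false

namespace CfsgLib.LargeFischer

open Cfsg
open CfsgLib.F2Quad (Vec)
open CfsgLib.LargeFischer.Frame (dvec)
open CfsgLib.Recog.GF4

variable {G : Type*} [Group G] [Finite G]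

namespace Hyp

variable {z : G} {Q : Subgroup (Subgroup.centralizer ({z} : Set G))} [Q.Normal]
  {ρ : (Subgroup.centralizer ({z} : Set G)) ⧸ Q →* (Vec 6 ≃ₗ[ZMod 2] Vec 6)} {qf : Vec 6 → ZMod 2}
  {p : G → Vec 6} {u w : Vec 6} (H : Hyp z Q ρ qf p u w)
include H

/-- The image of `Q ∩ Q^g`. -/
theorem exists_interSpace {g : G} (hgQ : g * z * g⁻¹ ∈ big z Q) (hgne : g * z * g⁻¹ ≠ z)
    (hps : p (g * z * g⁻¹) = w) :
    ∃ D₀ : AddSubgroup (Vec 6), Nat.card D₀ = 64 ∧ w ∈ D₀ ∧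
      (∀ x ∈ big z Q, p x ∈ D₀ ↔ x ∈ big z Q ⊓ (big z Q).map (MulAut.conj g).toMonoidHom) ∧
      ∀ δ, ρ δ w = w → ∀ v ∈ D₀, ρ δ v ∈ D₀ := by
  have hs0 : p (g * z * g⁻¹) ≠ 0 := by rw [hps]; exact H.w0
  let D₀ : AddSubgroup (Vec 6) :=
    { carrier := {v | ∃ d ∈ big z Q ⊓ (big z Q).map (MulAut.conj g).toMonoidHom, p d = v}
      add_mem' := by
        rintro a b ⟨d, hd, rfl⟩ ⟨d', hd', rfl⟩
        exact ⟨d * d', mul_mem hd hd', H.pmul d hd.1 d' hd'.1⟩
      zero_mem' := ⟨1, one_mem _, (H.pzero 1 (one_mem _)).2 (Or.inl rfl)⟩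
      neg_mem' := by
        rintro a ⟨d, hd, e⟩
        exact ⟨d, hd, by rw [e]; funext i; exact (CharTwo.neg_eq _).symm⟩ }
  have hpre : ∀ x ∈ big z Q, p x ∈ D₀ ↔ x ∈ big z Q ⊓ (big z Q).map (MulAut.conj g).toMonoidHom := by
    refine fun x hx => ⟨?_, fun h => ⟨x, h, rfl⟩⟩
    rintro ⟨d, hd, hdx⟩
    rcases H.p_eq hd.1 hx hdx with e | e <;> rw [e]
    · exact hd
    · exact mul_mem hd ⟨H.S.mem, H.z_mem hgQ hgne⟩
  refine ⟨D₀, ?_, ⟨_, ⟨hgQ, H.conjQ_mem_s g⟩, hps⟩, hpre, ?_⟩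
  · obtain ⟨P, hP, hPc⟩ := H.card_preimage D₀
    have hPe : P = big z Q ⊓ (big z Q).map (MulAut.conj g).toMonoidHom := by
      ext x
      exact ⟨fun h => (hpre x ((hP x).1 h).1).1 ((hP x).1 h).2, fun h => (hP x).2 ⟨h.1, x, h, rfl⟩⟩
    have e : Nat.card P = 2 ^ 7 := by rw [hPe]; exact (H.stab_structure hgQ hgne).2.1
    omega
  · rintro δ hδ v ⟨d, hd, rfl⟩
    obtain ⟨k, hk, hkm⟩ := H.conj_of_eq hgQ hgQ hs0 (γ := δ) (by rw [hps, hδ])
    have hkc : (k : G) ∈ Subgroup.centralizer ({g * z * g⁻¹} : Set G) :=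
      Subgroup.mem_centralizer_singleton_iff.2 (mul_inv_eq_iff_eq_mul.1 hk)
    refine ⟨(k : G) * d * (k : G)⁻¹, ⟨H.S.normal k (Subgroup.mem_centralizer_singleton_iff.1 k.2) d hd.1,
      H.centralizer_le_normalizer_conjQ hkc hd.2⟩, ?_⟩
    rw [H.pact k d hd.1, show (QuotientGroup.mk k : _ ⧸ Q) = δ from hkm]

/-- The element of order three of the quotient and its properties. -/
theorem exists_omega : ∃ ω : (Subgroup.centralizer ({z} : Set G)) ⧸ Q, orderOf ω = 3 ∧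
    (∀ v, ρ ω v = v → v = 0) ∧ (∀ γ, γ * ω = ω * γ ∨ γ * ω = ω⁻¹ * γ) ∧ (∃ γ, γ * ω ≠ ω * γ) ∧
    ω ∈ ⁅Subgroup.centralizer ({ω} : Set _), Subgroup.centralizer ({ω} : Set _)⁆ ∧
    (∃ ψ : ↥(alternatingGroup (Fin 6)) →* (Subgroup.centralizer ({z} : Set G)) ⧸ Q,
      Function.Injective ψ ∧ ∀ l, ψ l * ω = ω * ψ l ∧ ρ (ψ l) w = w) ∧
    ∀ g : G, g * z * g⁻¹ ∈ big z Q → g * z * g⁻¹ ≠ z → p (g * z * g⁻¹) = w →
      ∀ y ∈ big z Q, p y = ρ ω w → y ∈ (big z Q).map (MulAut.conj g).toMonoidHom := by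
  classical
  obtain ⟨L, _, _, A, T, ω, π, R, C, c, hu, hw⟩ := H.raw
  letI : DistribMulAction ((Subgroup.centralizer ({z} : Set G)) ⧸ Q) (Vec 6) := DistribMulAction.compHom _ ρ
  obtain ⟨g₀, hg₀Q, hg₀ne, hps₀⟩ := H.exists_good_conj
  obtain ⟨-, -, hEX, hEn, -, hE32, -⟩ := H.stab_structure hg₀Q hg₀ne
  have hs0 : p (g₀ * z * g₀⁻¹) ≠ 0 := by rw [hps₀]; exact H.w0
  have hXmem : ∀ δ, δ ∈ MulAction.stabilizer _ (C.Φ (fullRep c)) ↔ δ ∈ xImg z Q (g₀ * z * g₀⁻¹) := by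
    intro δ
    rw [H.mem_xImg hg₀Q hs0, MulAction.mem_stabilizer_iff, ← hw, hps₀]
    rfl
  have hX : Nat.card (MulAction.stabilizer ((Subgroup.centralizer ({z} : Set G)) ⧸ Q) (C.Φ (fullRep c))) = 11520 := by
    rw [← H.wstab, ← Nat.card_coe_set_eq, ← hw]
    rfl
  have hEX' : rImg z Q g₀ ≤ MulAction.stabilizer _ (C.Φ (fullRep c)) := fun e he => (hXmem e).2 (hEX he)
  have hY := C.card_wC R hX _ hEX' hE32 fun γ hγ => hEn γ ((hXmem γ).1 hγ)
  have hw1 : C.sv R c 1 = w := by rw [C.sv_one R, hw]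
  have hne : ¬ ∃ γ : (Subgroup.centralizer ({z} : Set G)) ⧸ Q, γ • C.Φ pairVec = C.Φ (fullRep c) := by
    rw [← hu, ← hw]; exact H.ne
  refine ⟨ω, R.hω, fun v hv => R.fpf hv, C.omega_cases R, ?_, C.omega_commutator R, ?_, ?_⟩
  · by_contra hall
    push Not at hall
    have h : MulAction.stabilizer ((Subgroup.centralizer ({z} : Set G)) ⧸ Q) (C.Φ (fullRep c)) ≤ C.wC R c :=
      fun γ hγ => ⟨hγ, Subgroup.mem_centralizer_singleton_iff.2 (hall γ)⟩
    have := Subgroup.card_le_of_le h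
    omega
  · obtain ⟨ψ, hψ, hψY⟩ := C.exists_psi R (c := c)
    refine ⟨ψ, hψ, fun l => ?_⟩
    obtain ⟨h1, h2⟩ := (C.mem_wC R).1 (hψY l).1
    rw [hw1] at h1
    exact ⟨h2, h1⟩
  · intro g hgQ hgne hps y hy hpy
    obtain ⟨D₀, hD64, hwD, hpre, hinv⟩ := H.exists_interSpace hgQ hgne hps
    have hs0' : p (g * z * g⁻¹) ≠ 0 := by rw [hps]; exact H.w0
    obtain ⟨-, -, hEXg, -, -, hEg32, -⟩ := H.stab_structure hgQ hgne
    obtain ⟨e₁, he₁E, he₁ω, he₁⟩ : ∃ e ∈ rImg z Q g, e * ω = ω * e ∧ e ≠ 1 := by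
      by_contra h
      push Not at h
      have h2 := C.card_le_two_mul R (rImg z Q g)
      rw [hEg32, Subgroup.eq_bot_iff_forall _ |>.2 (fun e he => h e (Subgroup.mem_inf.1 he).1
        (Subgroup.mem_centralizer_singleton_iff.1 (Subgroup.mem_inf.1 he).2)), Subgroup.card_bot] at h2
      omega
    have hmem : C.sv R c (wK • 1) ∈ D₀ := by
      refine C.omega_mem R hne D₀ (fun γ σ _ hγ v hv => hinv γ ?_ v hv) hD64 (by rw [hw1]; exact hwD) he₁ω he₁ ?_ ?_
      · show γ • w = w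
        rw [← hw1, C.perms_smul R hγ]; rfl
      · have h := hEXg he₁E
        rw [H.mem_xImg hgQ hs0', hps] at h
        show e₁ • _ = _
        rw [hw1]; exact h
      · obtain ⟨k, hk, rfl⟩ := he₁E
        intro v hv
        obtain ⟨d, hdQ, rfl⟩ := H.psurj v
        obtain ⟨-, hdg⟩ := (hpre d hdQ).1 hv
        have hpk : p ((k : G) * d * (k : G)⁻¹) = QuotientGroup.mk' Q k • p d := H.pact k d hdQ
        rcases H.conjQ_comm (show (k : G) ∈ (big z Q).map (MulAut.conj g).toMonoidHom from hk.1) hdg with e | e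
        · left; rw [← hpk, e, mul_inv_cancel_right]
        · right
          have hks : (k : G) * (g * z * g⁻¹) = g * z * g⁻¹ * (k : G) := by
            have h1 : g⁻¹ * (k : G) * g ∈ big z Q := mem_conjQ.1 hk.1
            calc (k : G) * (g * z * g⁻¹) = g * ((g⁻¹ * (k : G) * g) * z) * g⁻¹ := by group
              _ = g * z * g⁻¹ * (k : G) := by rw [H.S.le_cent _ h1]; group
          have e2 : (k : G) * d * (k : G)⁻¹ = d * (g * z * g⁻¹) := by
            rw [e, mul_assoc d, hks]; group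
          rw [← hpk, e2, H.pmul d hdQ _ hgQ, hw1, hps]
    have hpy' : p y = C.sv R c (wK • 1) := by
      rw [hpy, ← C.omega_sv R, hw1]
      rfl
    exact ((hpre y hy).1 (by rw [hpy']; exact hmem)).2

/-- No subgroup of index two of `Q ∩ Q^g` containing both centres is invariant under their centralizer. -/
theorem no_invariant_half_std {g : G} (hgQ : g * z * g⁻¹ ∈ big z Q) (hgne : g * z * g⁻¹ ≠ z)
    (hps : p (g * z * g⁻¹) = w) (H₁ : Subgroup G)
    (hle : H₁ ≤ big z Q ⊓ (big z Q).map (MulAut.conj g).toMonoidHom) (hz1 : z ∈ H₁) (hs1 : g * z * g⁻¹ ∈ H₁)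
    (hinv : ∀ y, y * z = z * y → y * (g * z * g⁻¹) = g * z * g⁻¹ * y → ∀ d ∈ H₁, y * d * y⁻¹ ∈ H₁)
    (hcard : 2 * Nat.card H₁ = Nat.card ↥(big z Q ⊓ (big z Q).map (MulAut.conj g).toMonoidHom)) : False := by
  classical
  obtain ⟨L, _, _, A, T, ω, π, R, C, c, hu, hw⟩ := H.raw
  letI : DistribMulAction ((Subgroup.centralizer ({z} : Set G)) ⧸ Q) (Vec 6) := DistribMulAction.compHom _ ρ
  have hw1 : C.sv R c 1 = w := by rw [C.sv_one R, hw]
  have hs0 : p (g * z * g⁻¹) ≠ 0 := by rw [hps]; exact H.w0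
  let M : AddSubgroup (Vec 6) :=
    { carrier := {v | ∃ d ∈ H₁, p d = v}
      add_mem' := by
        rintro a b ⟨d, hd, rfl⟩ ⟨d', hd', rfl⟩
        exact ⟨d * d', mul_mem hd hd', H.pmul d (hle hd).1 d' (hle hd').1⟩
      zero_mem' := ⟨1, one_mem _, (H.pzero 1 (one_mem _)).2 (Or.inl rfl)⟩
      neg_mem' := by
        rintro a ⟨d, hd, e⟩
        exact ⟨d, hd, by rw [e]; funext i; exact (CharTwo.neg_eq _).symm⟩ }
  have hM32 : Nat.card M = 32 := by
    obtain ⟨P, hP, hPc⟩ := H.card_preimage M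
    have hPe : P = H₁ := by
      ext x
      refine ⟨fun h => ?_, fun h => (hP x).2 ⟨(hle h).1, x, h, rfl⟩⟩
      obtain ⟨hxQ, d, hd, hdx⟩ := (hP x).1 h
      rcases H.p_eq (hle hd).1 hxQ hdx with e | e <;> rw [e]
      · exact hd
      · exact mul_mem hd hz1
    rw [(H.stab_structure hgQ hgne).2.1] at hcard
    rw [hPe] at hPc
    omega
  refine C.no_half R (c := c) M hM32 ?_ ⟨_, hs1, by rw [hps, hw1]⟩ ?_
  · rintro γ σ - hγ v ⟨d, hd, rfl⟩
    obtain ⟨k, hk, hkm⟩ := H.conj_of_eq hgQ hgQ hs0 (γ := γ) (by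
      show γ • p (g * z * g⁻¹) = _
      rw [hps, ← hw1, C.perms_smul R hγ]; rfl)
    refine ⟨_, hinv k (Subgroup.mem_centralizer_singleton_iff.1 k.2) (mul_inv_eq_iff_eq_mul.1 hk) d hd, ?_⟩
    rw [H.pact k d (hle hd).1, show (QuotientGroup.mk k : _ ⧸ Q) = γ from hkm]
    rfl
  · rintro v ⟨d, hd, rfl⟩ hv0 hvw
    obtain ⟨hdQ, hdg⟩ := hle hd
    have hd' := mem_conjQ.1 hdg
    have hz' : g⁻¹ * z * g ∈ big z Q := mem_conjQ.1 (H.z_mem hgQ hgne)
    -- an element of `Q` commuting with one but not the other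
    obtain ⟨q₀, hq₀, hq₀z, hq₀d⟩ : ∃ q ∈ big z Q, q * (g⁻¹ * z * g) = g⁻¹ * z * g * q ∧
        q * (g⁻¹ * d * g) ≠ g⁻¹ * d * g * q := by
      by_contra hall
      push Not at hall
      have hb : ∀ v, R.bil v (p (g⁻¹ * z * g)) = 0 → R.bil v (p (g⁻¹ * d * g)) = 0 := fun v hv => by
        obtain ⟨q, hq, rfl⟩ := H.psurj v
        exact (H.comm_iff hq hd').1 (hall q hq ((H.comm_iff hq hz').2 hv))
      have key : p (g⁻¹ * d * g) = 0 ∨ p (g⁻¹ * d * g) = p (g⁻¹ * z * g) := by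
        by_cases hx : ∃ x, R.bil x (p (g⁻¹ * z * g)) ≠ 0
        · obtain ⟨x, hx⟩ := hx
          have hc : ∀ b : ZMod 2, b ≠ 0 → b = 1 := by decide
          rcases (show R.bil x (p (g⁻¹ * d * g)) = 0 ∨ R.bil x (p (g⁻¹ * d * g)) = 1 from
            (show ∀ b : ZMod 2, b = 0 ∨ b = 1 by decide) _) with e | e
          · refine Or.inl (R.bil_eq_zero fun v => ?_)
            rcases (show ∀ b : ZMod 2, b = 0 ∨ b = 1 by decide) (R.bil v (p (g⁻¹ * z * g))) with e' | e'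
            · exact hb v e'
            · have := hb (v + x) (by rw [R.bil_add_left, e', hc _ hx]; rfl)
              rwa [R.bil_add_left, e, add_zero] at this
          · refine Or.inr (add_eq_zero_iff_eq_neg.1 (R.bil_eq_zero fun v => ?_) |>.trans (funext fun i => CharTwo.neg_eq _))
            rw [R.bil_add_right]
            rcases (show ∀ b : ZMod 2, b = 0 ∨ b = 1 by decide) (R.bil v (p (g⁻¹ * z * g))) with e' | e'
            · rw [hb v e', e']; rfl
            · have := hb (v + x) (by rw [R.bil_add_left, e', hc _ hx]; rfl)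
              rw [R.bil_add_left, e] at this
              rw [e', CharTwo.add_eq_zero.1 this]
              rfl
        · push Not at hx
          exact Or.inl (R.bil_eq_zero fun v => hb v (hx v))
      rcases key with e | e
      · rcases (H.pzero _ hd').1 e with e' | e'
        · exact hv0 ((H.pzero d hdQ).2 (Or.inl (by
            calc d = g * (g⁻¹ * d * g) * g⁻¹ := by group
              _ = 1 := by rw [e']; group)))
        · refine hvw ?_
          rw [show d = g * (g⁻¹ * d * g) * g⁻¹ by group, e', hps, hw1]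
      · rcases H.p_eq hz' hd' e.symm with e' | e'
        · exact hv0 ((H.pzero d hdQ).2 (Or.inr (by
            calc d = g * (g⁻¹ * d * g) * g⁻¹ := by group
              _ = z := by rw [e']; group)))
        · refine hvw ?_
          have hde : d = z * (g * z * g⁻¹) := by
            calc d = g * (g⁻¹ * d * g) * g⁻¹ := by group
              _ = _ := by rw [e']; group
          rw [hde, H.pmul z H.S.mem _ hgQ, H.pz, zero_add, hps, hw1]
    have hflip := (H.S.comm_z_left hq₀ hd').resolve_left hq₀d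
    set a := g * q₀ * g⁻¹ with ha
    have haz : a * z = z * a := by
      calc a * z = g * (q₀ * (g⁻¹ * z * g)) * g⁻¹ := by rw [ha]; group
        _ = z * a := by rw [hq₀z, ha]; group
    have had : a * d * a⁻¹ = d * (g * z * g⁻¹) := by
      calc a * d * a⁻¹ = g * ((q₀ * (g⁻¹ * d * g)) * q₀⁻¹) * g⁻¹ := by rw [ha]; group
        _ = g * (g⁻¹ * d * g * (q₀ * z * q₀⁻¹)) * g⁻¹ := by rw [hflip]; group
        _ = _ := by rw [H.S.le_cent _ hq₀]; group
    refine ⟨QuotientGroup.mk (⟨a, Subgroup.mem_centralizer_singleton_iff.2 haz⟩ :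
      Subgroup.centralizer ({z} : Set G)), ?_⟩
    show ρ _ (p d) = _
    rw [← H.pact ⟨a, Subgroup.mem_centralizer_singleton_iff.2 haz⟩ d hdQ, had, H.pmul d hdQ _ hgQ, hps, hw1]

/-- The same for an arbitrary conjugate in the extraspecial subgroup. -/
theorem no_invariant_half {g : G} (hgQ : g * z * g⁻¹ ∈ big z Q) (hgne : g * z * g⁻¹ ≠ z) (H₁ : Subgroup G)
    (hle : H₁ ≤ big z Q ⊓ (big z Q).map (MulAut.conj g).toMonoidHom) (hz1 : z ∈ H₁) (hs1 : g * z * g⁻¹ ∈ H₁)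
    (hinv : ∀ y, y * z = z * y → y * (g * z * g⁻¹) = g * z * g⁻¹ * y → ∀ d ∈ H₁, y * d * y⁻¹ ∈ H₁)
    (hcard : 2 * Nat.card H₁ = Nat.card ↥(big z Q ⊓ (big z Q).map (MulAut.conj g).toMonoidHom)) : False := by
  obtain ⟨γ, hγ⟩ := H.class_of_conj hgQ hgne
  obtain ⟨c, hc⟩ := QuotientGroup.mk_surjective γ⁻¹
  have hcz := Subgroup.mem_centralizer_singleton_iff.1 c.2
  set k := (c : G) with hk
  have e : k * g * z * (k * g)⁻¹ = k * (g * z * g⁻¹) * k⁻¹ := by group
  have hQk : ∀ x, x ∈ big z Q → k * x * k⁻¹ ∈ big z Q := fun x hx => H.S.normal k hcz x hx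
  have hD : (big z Q ⊓ (big z Q).map (MulAut.conj g).toMonoidHom).map (MulAut.conj k).toMonoidHom =
      big z Q ⊓ (big z Q).map (MulAut.conj (k * g)).toMonoidHom := by
    ext x
    rw [mem_conjQ, Subgroup.mem_inf, Subgroup.mem_inf, mem_conjQ, mem_conjQ,
      show (k * g)⁻¹ * x * (k * g) = g⁻¹ * (k⁻¹ * x * k) * g by group]
    refine and_congr_left' ⟨fun h => by simpa [mul_assoc] using hQk _ h, fun h => ?_⟩
    have h' := H.S.normal k⁻¹ ((show Commute k z from hcz).inv_left.eq) x h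
    rwa [inv_inv] at h'
  have hzk : k * z * k⁻¹ = z := by rw [hcz, mul_inv_cancel_right]
  refine H.no_invariant_half_std (g := k * g) (by rw [e]; exact hQk _ hgQ) (fun h => hgne ?_)
    (by rw [e, H.pact c _ hgQ, hc, ← hγ, map_inv]; exact (ρ γ).symm_apply_apply w)
    (H₁.map (MulAut.conj k).toMonoidHom) (by rw [← hD]; exact Subgroup.map_mono hle)
    ⟨z, hz1, hzk⟩ (by rw [e]; exact ⟨_, hs1, rfl⟩) ?_ ?_
  · rw [e] at h
    calc g * z * g⁻¹ = k⁻¹ * (k * (g * z * g⁻¹) * k⁻¹) * k := by group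
      _ = k⁻¹ * (z * k) := by rw [h]; group
      _ = z := by rw [← hcz]; group
  · rintro y hyz hys _ ⟨d, hd, rfl⟩
    refine ⟨k⁻¹ * y * k * d * (k⁻¹ * y * k)⁻¹, hinv _ ?_ ?_ d hd, ?_⟩
    · exact (((show Commute k z from hcz).inv_left.mul_left hyz).mul_left hcz).eq
    · rw [e] at hys
      calc k⁻¹ * y * k * (g * z * g⁻¹) = k⁻¹ * (y * (k * (g * z * g⁻¹) * k⁻¹)) * k := by group
        _ = g * z * g⁻¹ * (k⁻¹ * y * k) := by rw [hys]; group
    · show k * _ * k⁻¹ = y * (k * d * k⁻¹) * y⁻¹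
      group
  · rw [← hD, Subgroup.card_map_of_injective (MulAut.conj k).injective,
      Subgroup.card_map_of_injective (MulAut.conj k).injective]
    exact hcard

end Hyp

end CfsgLib.LargeFischer
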