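import Cfsg.Agent.Lib.LargeFischer.Seven

/-!
Coordinates on the module: six orthogonal anisotropic planes permuted by the alternating group of degree six.
-/

set_option autoImplicit false
set_option linter.unusedSectionVars false
set_option linter.style.haveILetI false

namespace CfsgLib.LargeFischer

/-- The support of a coordinate vector. -/
def supp (f : Fin 6 → Option (ZMod 3)) : Finset (Fin 6) := Finset.univ.filter fun i => (f i).isSome

/-- The product of the coordinates. -/
def clsum (f : Fin 6 → Option (ZMod 3)) : ZMod 3 := ∑ i, (f i).getD 0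

/-- Translation of the non-zero coordinates. -/
def shift (x : Fin 6 → ZMod 3) (f : Fin 6 → Option (ZMod 3)) : Fin 6 → Option (ZMod 3) :=
  fun i => (f i).map (· + x i)

theorem supp_shift (x : Fin 6 → ZMod 3) (f : Fin 6 → Option (ZMod 3)) : supp (shift x f) = supp f := by
  ext i; simp [supp, shift]

theorem clsum_shift {x : Fin 6 → ZMod 3} {f : Fin 6 → Option (ZMod 3)} (h : supp f = Finset.univ)
    (hx : ∑ i, x i = 0) : clsum (shift x f) = clsum f := by
  have h1 : ∀ i, (shift x f i).getD 0 = (f i).getD 0 + x i := fun i => by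
    have hi : i ∈ supp f := h.symm ▸ Finset.mem_univ i
    simp only [supp, Finset.mem_filter, Finset.mem_univ, true_and] at hi
    obtain ⟨a, ha⟩ := Option.isSome_iff_exists.1 hi
    simp [shift, ha]
  simp only [clsum, Finset.sum_congr rfl fun i _ => h1 i, Finset.sum_add_distrib, hx, add_zero]

theorem exists_shift {f g : Fin 6 → Option (ZMod 3)} (hs : supp f = supp g)
    (h : supp f ≠ Finset.univ ∨ clsum f = clsum g) : ∃ x : Fin 6 → ZMod 3, ∑ i, x i = 0 ∧ shift x f = g := by
  classical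
  let y : Fin 6 → ZMod 3 := fun i => (g i).getD 0 - (f i).getD 0
  have key : ∀ x : Fin 6 → ZMod 3, (∀ i ∈ supp f, x i = y i) → shift x f = g := by
    intro x hx
    funext i
    by_cases hi : i ∈ supp f
    · have hg : i ∈ supp g := hs ▸ hi
      rw [shift, hx i hi]
      simp only [supp, Finset.mem_filter, Finset.mem_univ, true_and] at hi hg
      obtain ⟨a, ha⟩ := Option.isSome_iff_exists.1 hi
      obtain ⟨b, hb⟩ := Option.isSome_iff_exists.1 hg
      simp [y, ha, hb]
    · have hg : i ∉ supp g := hs ▸ hi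
      simp only [supp, Finset.mem_filter, Finset.mem_univ, true_and, Bool.not_eq_true,
        Option.isSome_eq_false_iff, Option.isNone_iff_eq_none] at hi hg
      simp [shift, hi, hg]
  by_cases hu : supp f = Finset.univ
  · refine ⟨y, ?_, key y fun i _ => rfl⟩
    simp only [y, Finset.sum_sub_distrib]
    exact sub_eq_zero.2 ((h.resolve_left (not_not.2 hu)).symm)
  · obtain ⟨i₀, hi₀⟩ : ∃ i₀, i₀ ∉ supp f := by
      by_contra hh
      push Not at hh
      exact hu (Finset.eq_univ_of_forall hh)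
    refine ⟨Function.update y i₀ (y i₀ - ∑ i, y i), ?_, key _ fun i hi => ?_⟩
    · rw [Finset.sum_update_of_mem (Finset.mem_univ i₀), ← Finset.sum_erase_add _ _ (Finset.mem_univ i₀),
        Finset.sdiff_singleton_eq_erase]
      ring
    · rw [Function.update_of_ne (fun e : i = i₀ => hi₀ (e ▸ hi))]

theorem decomp (x : Fin 6 → ZMod 3) : x = ∑ i, (x i).val • (Pi.single i (1 : ZMod 3) : Fin 6 → ZMod 3) := by
  funext j
  rw [Finset.sum_apply, Finset.sum_eq_single j (fun b _ hb => by rw [Pi.smul_apply, Pi.single_eq_of_ne hb.symm, smul_zero])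
    (by simp), Pi.smul_apply, Pi.single_eq_same, nsmul_one, ZMod.natCast_zmod_val]

/-- The coordinate system. -/
structure Frame {Γ : Type*} [Group Γ] {V : Type*} [AddCommGroup V] [DistribMulAction Γ V] (q : V → ZMod 2)
    (A T : Subgroup Γ) {L : Type*} [Group L] (ω : Γ) (π : T →* L) where
  /-- The coordinates. -/
  Φ : (Fin 6 → Option (ZMod 3)) ≃ V
  /-- The characters of `A`. -/
  d : Γ → Fin 6 → ZMod 3
  /-- The action on the six planes. -/
  ρ : L →* Equiv.Perm (Fin 6)
  ρ_inj : Function.Injective ρ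
  ρ_range : ρ.range = alternatingGroup (Fin 6)
  zero : Φ (fun _ => none) = 0
  q_eq : ∀ f, q (Φ f) = ((supp f).card : ZMod 2)
  smulA : ∀ a ∈ A, ∀ f, a • Φ f = Φ (shift (d a) f)
  dsum : ∀ a ∈ A, ∑ i, d a i = 0
  dsurj : ∀ x : Fin 6 → ZMod 3, ∑ i, x i = 0 → ∃ a ∈ A, d a = x
  dinj : ∀ a ∈ A, d a = 0 → a = 1
  dω : ∀ i, d ω i = 1
  add_disj : ∀ f g : Fin 6 → Option (ZMod 3), (∀ i, f i = none ∨ g i = none) →
    Φ f + Φ g = Φ fun i => (f i).or (g i)
  flip : ∀ f : Fin 6 → Option (ZMod 3), ∀ a ∈ A, a • Φ f + Φ f =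
    Φ fun i => if d a i = 0 then none else (f i).map fun j => j + 2 * d a i
  smulT : ∀ (t : T) f, supp (Φ.symm ((t : Γ) • Φ f)) = (supp f).image (ρ (π t))

namespace Raw

variable {Γ : Type*} [Group Γ] [Finite Γ] {V : Type*} [AddCommGroup V] [Finite V] [DistribMulAction Γ V]
  {L : Type*} [Group L] [IsSimpleGroup L]
  {q : V → ZMod 2} {A T : Subgroup Γ} {ω : Γ} {π : T →* L} (R : Raw q A T ω π)
include R

/-- Powers of `ω`. -/
def pw (_R : Raw q A T ω π) (j : ZMod 3) : Γ := ω ^ j.val

theorem pw_zero : R.pw 0 = 1 := by simp [pw]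

theorem pw_one : R.pw 1 = ω := by simp [pw, ZMod.val_one]

theorem pw_add (i j : ZMod 3) : R.pw (i + j) = R.pw i * R.pw j := by
  simp only [pw]
  rw [← pow_add, ← pow_mod_orderOf ω (i.val + j.val), R.hω, ZMod.val_add]

theorem pw_two : R.pw 2 = ω⁻¹ := by
  have h := R.pw_add 2 1
  rw [show (2 : ZMod 3) + 1 = 0 from rfl, R.pw_zero, R.pw_one] at h
  exact eq_inv_of_mul_eq_one_left h.symm

theorem pw_mem (j : ZMod 3) : R.pw j ∈ A := pow_mem R.ωA _

theorem pw_comm (j : ZMod 3) {γ : Γ} (h : γ * ω = ω * γ) : γ * R.pw j = R.pw j * γ :=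
  (Commute.pow_right (show Commute γ ω from h) _).eq

theorem pw_notMem {K : Subgroup Γ} (hK : ω ∉ K) {j : ZMod 3} (hj : j ≠ 0) : R.pw j ∉ K := by
  intro h
  fin_cases j
  · exact hj rfl
  · exact hK (by rw [← R.pw_one]; exact h)
  · exact hK (by rw [← inv_inv ω, ← R.pw_two]; exact inv_mem h)

theorem exists_frame : Nonempty (Frame q A T ω π) := by
  classical
  haveI := Fintype.ofFinite V
  obtain ⟨hcard, htop, htrans⟩ := R.structure_wts
  have hV : ∀ v : V, v ∈ R.V₁ := fun v => htop ▸ AddSubgroup.mem_top v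
  have F := R.freeA
  let e6 : Fin 6 ≃ ↥(wts V A R.V₁) := (Fintype.equivFinOfCardEq (by rw [Fintype.card_coe, hcard])).symm
  let K : Fin 6 → Subgroup Γ := fun i => (e6 i : Subgroup Γ)
  have hK : ∀ i, K i ∈ wts V A R.V₁ := fun i => (e6 i).2
  have hKinj : Function.Injective K := Subtype.val_injective.comp e6.injective
  have hKsurj : ∀ K' ∈ wts V A R.V₁, ∃ i, K i = K' := fun K' h => ⟨e6.symm ⟨K', h⟩, by simp [K]⟩
  have hI : ∀ i, Idx A (K i) := fun i => (mem_wts.1 (hK i)).1
  choose e he0 he using fun i => (mem_wts.1 (hK i)).2.imp fun v hv => (show v ≠ 0 ∧ v ∈ (fix (K i) : AddSubgroup V)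
    from ⟨hv.2.1, hv.2.2⟩)
  have hωK : ∀ i, ω ∉ K i := fun i => R.not_mem_wt (hK i)
  -- characters
  have hdex : ∀ i, ∀ a : Γ, a ∈ A → ∃ j : ZMod 3, a * (R.pw j)⁻¹ ∈ K i := by
    intro i a ha
    by_cases h : a ∈ K i
    · exact ⟨0, by rw [R.pw_zero, inv_one, mul_one]; exact h⟩
    rcases (hI i).three a ha h ω R.ωA (hωK i) with h1 | h1
    · exact ⟨2, by rw [R.pw_two, inv_inv]; exact h1⟩
    · exact ⟨1, by rw [R.pw_one]; exact h1⟩
  have hduniq : ∀ i (a : Γ) (j j' : ZMod 3), a * (R.pw j)⁻¹ ∈ K i → a * (R.pw j')⁻¹ ∈ K i → j = j' := by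
    intro i a j j' h h'
    by_contra hne
    refine R.pw_notMem (hωK i) (sub_ne_zero.2 hne) ?_
    have h2 := mul_mem (inv_mem h) h'
    rw [show (a * (R.pw j)⁻¹)⁻¹ * (a * (R.pw j')⁻¹) = R.pw j * (R.pw j')⁻¹ by group] at h2
    have : R.pw j = R.pw (j - j') * R.pw j' := by rw [← R.pw_add, sub_add_cancel]
    rwa [this, mul_inv_cancel_right] at h2
  let d : Γ → Fin 6 → ZMod 3 := fun a i => if h : a ∈ A then (hdex i a h).choose else 0
  have hd : ∀ a ∈ A, ∀ i, a * (R.pw (d a i))⁻¹ ∈ K i := fun a ha i => by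
    simp only [d, dif_pos ha]; exact (hdex i a ha).choose_spec
  have hdeq : ∀ a ∈ A, ∀ i j, a * (R.pw j)⁻¹ ∈ K i → d a i = j := fun a ha i j h =>
    hduniq i a _ _ (hd a ha i) h
  have hdmul : ∀ a ∈ A, ∀ b ∈ A, d (a * b) = d a + d b := by
    intro a ha b hb
    funext i
    refine hdeq _ (mul_mem ha hb) i _ ?_
    have h := mul_mem (hd a ha i) (hd b hb i)
    have hc : (R.pw (d a i))⁻¹ * b = b * (R.pw (d a i))⁻¹ :=
      (Commute.inv_left (R.abelian _ (R.pw_mem _) b hb)).eq
    have hp : R.pw (d b i) * R.pw (d a i) = R.pw (d a i + d b i) := by rw [← R.pw_add, add_comm]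
    have : a * (R.pw (d a i))⁻¹ * (b * (R.pw (d b i))⁻¹) = a * b * (R.pw (d a i + d b i))⁻¹ := by
      rw [← hp, mul_inv_rev, mul_assoc a, ← mul_assoc _ b, hc]; group
    rw [Pi.add_apply, ← this]
    exact h
  have hdinj : ∀ a ∈ A, d a = 0 → a = 1 := fun a ha h => R.eq_one_of_all ha fun K' hK' => by
    obtain ⟨i, rfl⟩ := hKsurj K' hK'
    have := hd a ha i
    rwa [h, Pi.zero_apply, R.pw_zero, inv_one, mul_one] at this
  have hdpw : ∀ j i, d (R.pw j) i = j := fun j i => hdeq _ (R.pw_mem j) i j (by rw [mul_inv_cancel]; exact one_mem _)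
  -- the lines
  let el : Fin 6 → Option (ZMod 3) → V := fun i x => x.elim 0 fun j => R.pw j • e i
  have helA : ∀ a ∈ A, ∀ i x, a • el i x = el i (x.map (· + d a i)) := by
    intro a ha i x
    rcases x with _ | j
    · exact smul_zero a
    show a • R.pw j • e i = R.pw (j + d a i) • e i
    have h1 : a * R.pw j = R.pw (j + d a i) * (a * (R.pw (d a i))⁻¹) := by
      rw [R.pw_add, mul_assoc, R.abelian (R.pw (d a i)) (R.pw_mem _) (a * (R.pw (d a i))⁻¹)
        (mul_mem ha (inv_mem (R.pw_mem _))), inv_mul_cancel_right, R.abelian a ha _ (R.pw_mem _)]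
    rw [← mul_smul, h1, mul_smul, he i _ (hd a ha i)]
  have helfix : ∀ i x, el i x ∈ (fix (K i) : AddSubgroup V) := by
    intro i x
    rcases x with _ | j
    · exact zero_mem _
    exact F.smul_mem_fix (hI i).le (R.pw_mem j) (hV _) (he i)
  have helne : ∀ i j, el i (some j) ≠ 0 := fun i j h => he0 i (by
    simpa [el] using congrArg ((R.pw j)⁻¹ • ·) h)
  have helinj : ∀ i, Function.Injective (el i) := by
    intro i x y h
    rcases x with _ | j <;> rcases y with _ | k
    · rfl
    · exact absurd h.symm (helne i k)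
    · exact absurd h (helne i j)
    congr 1
    by_contra hne
    refine he0 i (F.fixed_of (hI i) (R.pw_mem (j - k)) (R.pw_notMem (hωK i) (sub_ne_zero.2 hne)) (hV _) (he i) ?_)
    have h' : R.pw j • e i = R.pw k • e i := h
    have h2 : R.pw j = R.pw k * R.pw (j - k) := by rw [← R.pw_add, add_sub_cancel]
    rw [h2, mul_smul] at h'
    exact smul_left_cancel _ h'
  have hindep : ∀ w : Fin 6 → V, (∀ i, w i ∈ (fix (K i) : AddSubgroup V)) → ∑ i, w i = 0 → ∀ i, w i = 0 := by
    intro w hw hs i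
    let g : Subgroup Γ → V := fun K' => if h : K' ∈ wts V A R.V₁ then w (e6.symm ⟨K', h⟩) else 0
    have hg : ∀ j, g (K j) = w j := fun j => by simp [g, K]
    have hz := F.indep (wts V A R.V₁) g (fun K' hK' => by
      obtain ⟨j, rfl⟩ := hKsurj K' hK'
      rw [hg]
      exact ⟨hI j, hV _, hw j⟩) (by
        rw [← Finset.sum_coe_sort, ← e6.sum_comp]
        exact (Finset.sum_congr rfl fun j _ => hg j).trans hs) (K i) (hK i)
    rwa [hg] at hz
  let Φf : (Fin 6 → Option (ZMod 3)) → V := fun f => ∑ i, el i (f i)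
  have hΦinj : Function.Injective Φf := by
    intro f g h
    funext i
    have hz := hindep (fun j => el j (f j) - el j (g j)) (fun j => sub_mem (helfix j _) (helfix j _))
      (by rw [Finset.sum_sub_distrib]; exact sub_eq_zero.2 h) i
    exact helinj i (sub_eq_zero.1 hz)
  have hΦbij : Function.Bijective Φf :=
    (Fintype.bijective_iff_injective_and_card Φf).2 ⟨hΦinj, by
      rw [← Nat.card_eq_fintype_card (α := V), R.cardV]; simp⟩
  let Φ := Equiv.ofBijective Φf hΦbij
  have hΦ : ∀ f, Φ f = ∑ i, el i (f i) := fun f => rfl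
  have hline : ∀ i v, v ∈ (fix (K i) : AddSubgroup V) → ∃ x, el i x = v := by
    intro i v hv
    obtain ⟨f, rfl⟩ := Φ.surjective v
    refine ⟨f i, ?_⟩
    have hz := hindep (Function.update (fun j => el j (f j)) i (el i (f i) - Φ f)) (fun j => by
      by_cases hj : j = i
      · subst hj; rw [Function.update_self]; exact sub_mem (helfix j _) hv
      · rw [Function.update_of_ne hj]; exact helfix j _) (by
      rw [Finset.sum_update_of_mem (Finset.mem_univ i), Finset.sdiff_singleton_eq_erase, hΦ,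
        ← Finset.sum_erase_add _ _ (Finset.mem_univ i)]
      abel) i
    rw [Function.update_self] at hz
    exact sub_eq_zero.1 hz
  -- orthogonality
  have horth : ∀ i k, i ≠ k → ∀ x y, R.bil (el i x) (el k y) = 0 := by
    intro i k hik x y
    obtain ⟨a, hai, hak⟩ := SetLike.not_le_iff_exists.1 (fun h => hik (hKinj ((hI i).eq_of_le (hI k) h)))
    have ha := (hI i).le hai
    have hu := helfix i x a hai
    have hl := F.line_zero (hI k) ha hak (hV (el k y)) (helfix k y)
    have h0 := R.bil_zero (el i x)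
    rw [← hl, R.bil_add_right, R.bil_add_right] at h0
    have e1 : R.bil (el i x) (a • el k y) = R.bil (el i x) (el k y) := by
      conv_lhs => rw [← hu, R.bil_smul]
    have e2 : R.bil (el i x) (a • a • el k y) = R.bil (el i x) (el k y) := by
      conv_lhs => rw [← hu, R.bil_smul]
      exact e1
    rw [e1, e2, CharTwo.add_self_eq_zero, zero_add] at h0
    exact h0
  have hq1 : ∀ i j, q (el i (some j)) = 1 := by
    intro i j
    have hsame : ∀ k, q (el i (some k)) = q (e i) := fun k => R.inv _ _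
    rw [hsame]
    rcases (by decide : ∀ a : ZMod 2, a = 0 ∨ a = 1) (q (e i)) with h | h
    swap
    · exact h
    exfalso
    have hqall : ∀ x, q (el i x) = 0 := by
      rintro (_ | k)
      · exact R.q0
      · rw [hsame, h]
    refine he0 i (R.bil_eq_zero fun v => ?_)
    obtain ⟨f, rfl⟩ := Φ.surjective v
    rw [R.bil_comm, hΦ, R.bil_sum]
    refine Finset.sum_eq_zero fun k _ => ?_
    have hei : e i = el i (some 0) := by simp [el, R.pw_zero]
    rw [hei]
    by_cases hk : i = k
    · subst hk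
      obtain ⟨z, hz⟩ := hline i _ (add_mem (helfix i (some 0)) (helfix i (f i)))
      simp only [bil]
      rw [← hz, hqall, hqall, hqall]; simp
    · exact horth i k hk _ _
  have hqΦ : ∀ f, q (Φ f) = ((supp f).card : ZMod 2) := by
    intro f
    have hs : ∀ s : Finset (Fin 6), q (∑ i ∈ s, el i (f i)) = ∑ i ∈ s, q (el i (f i)) := by
      intro s
      induction s using Finset.induction_on with
      | empty => simp [R.q0]
      | insert a s has ih =>
        rw [Finset.sum_insert has, Finset.sum_insert has, ← ih]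
        have hb : R.bil (el a (f a)) (∑ i ∈ s, el i (f i)) = 0 := by
          rw [R.bil_sum]
          exact Finset.sum_eq_zero fun i hi => horth a i (fun e => has (e ▸ hi)) _ _
        simp only [bil] at hb
        linear_combination hb - (q (el a (f a)) + q (∑ i ∈ s, el i (f i))) * CharTwo.two_eq_zero (R := ZMod 2)
    rw [hΦ, hs, supp, Finset.natCast_card_filter]
    refine Finset.sum_congr rfl fun i _ => ?_
    rcases hfi : f i with _ | j
    · simp [el, R.q0]
    · simp [hq1]
  -- the permutations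
  let ρT : T → Fin 6 → Fin 6 := fun t i =>
    e6.symm ⟨conjPerm (t : Γ) (K i), R.wts_T (fun t ht => (R.V_inv (R.ωT_comm t ht).symm).2) (hK i) t.2⟩
  have hρK : ∀ t i, K (ρT t i) = conjPerm (t : Γ) (K i) := fun t i => by simp [ρT, K]
  have hρmul : ∀ s t i, ρT (s * t) i = ρT s (ρT t i) := fun s t i => hKinj (by
    rw [hρK, hρK, hρK, Subgroup.coe_mul, map_mul, Equiv.Perm.mul_apply])
  have hρone : ∀ i, ρT 1 i = i := fun i => hKinj (by rw [hρK, Subgroup.coe_one, map_one]; rfl)
  let ρ₀ : T →* Equiv.Perm (Fin 6) := MonoidHom.mk' (fun t => ⟨ρT t, ρT t⁻¹,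
    fun i => by rw [← hρmul, inv_mul_cancel, hρone], fun i => by rw [← hρmul, mul_inv_cancel, hρone]⟩)
    fun s t => Equiv.ext (hρmul s t)
  have hle : π.ker ≤ ρ₀.ker := by
    intro t ht
    have htA : (t : Γ) ∈ A := R.zω_le ((R.π_ker t).1 ht)
    refine MonoidHom.mem_ker.2 (Equiv.ext fun i => hKinj ?_)
    show K (ρT t i) = K i
    rw [hρK]
    ext x
    rw [mem_conjPerm]
    constructor
    · intro hx
      have hxA := (hI i).le hx
      rwa [← show x = (t : Γ)⁻¹ * x * t from by
        have := R.abelian (t : Γ) htA _ hxA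
        calc x = (t : Γ) * ((t : Γ)⁻¹ * x * t) * (t : Γ)⁻¹ := by group
          _ = (t : Γ)⁻¹ * x * t := by rw [this, mul_inv_cancel_right]] at hx
    · intro hx
      rwa [mul_assoc, ← R.abelian (t : Γ) htA x ((hI i).le hx), inv_mul_cancel_left]
  let ρ : L →* Equiv.Perm (Fin 6) := π.liftOfSurjective R.π_surj ⟨ρ₀, hle⟩
  have hρπ : ∀ t, ρ (π t) = ρ₀ t := fun t => MonoidHom.liftOfRightInverse_comp_apply π _
    (Function.rightInverse_surjInv R.π_surj) ⟨ρ₀, hle⟩ t
  have hρinj : Function.Injective ρ := by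
    rw [← MonoidHom.ker_eq_bot_iff]
    refine (ρ.normal_ker.eq_bot_or_eq_top).resolve_right fun h => ?_
    obtain ⟨t, ht, hte⟩ := htrans (K 0) (hK 0) (K 1) (hK 1)
    have h1 : ρ₀ ⟨t, ht⟩ = 1 := by rw [← hρπ]; exact MonoidHom.mem_ker.1 (h ▸ Subgroup.mem_top _)
    have h2 : ρT ⟨t, ht⟩ 0 = 0 := congrArg (fun p : Equiv.Perm (Fin 6) => p 0) h1
    have := hρK ⟨t, ht⟩ 0
    rw [h2, hte] at this
    exact absurd (hKinj this) (by decide)
  have hρrange : ρ.range = alternatingGroup (Fin 6) := by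
    refine Equiv.Perm.eq_alternatingGroup_of_index_eq_two ?_
    have h := Subgroup.card_mul_index ρ.range
    rw [← Nat.card_congr (MonoidHom.ofInjective hρinj).toEquiv, R.cardL, Nat.card_perm, Nat.card_fin,
      show Nat.factorial 6 = 360 * 2 from rfl] at h
    exact Nat.eq_of_mul_eq_mul_left (by norm_num) h
  have hdρ : ∀ (t : T) (a : Γ), a ∈ A → ∀ i, d ((t : Γ) * a * (t : Γ)⁻¹) (ρT t i) = d a i := by
    intro t a ha i
    refine hdeq _ (R.normA t t.2 a ha) _ _ ?_
    rw [hρK, mem_conjPerm]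
    have hc := R.pw_comm (d a i) (R.ωT_comm t t.2).symm
    have : (t : Γ)⁻¹ * ((t : Γ) * a * (t : Γ)⁻¹ * (R.pw (d a i))⁻¹) * t = a * (R.pw (d a i))⁻¹ := by
      calc _ = a * ((t : Γ)⁻¹ * (R.pw (d a i))⁻¹ * t) := by group
        _ = a * ((R.pw (d a i) * t)⁻¹ * t) := by group
        _ = a * (((t : Γ) * R.pw (d a i))⁻¹ * t) := by rw [hc]
        _ = _ := by group
    rw [this]
    exact hd a ha i
  -- the image of the characters
  let D : Additive A →+ (Fin 6 → ZMod 3) := AddMonoidHom.mk' (fun a => d (a.toMul : Γ))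
    fun a b => hdmul _ a.toMul.2 _ b.toMul.2
  have hDinj : Function.Injective D := by
    rw [injective_iff_map_eq_zero]
    intro a ha
    have := hdinj _ a.toMul.2 ha
    exact Additive.toMul.injective (Subtype.ext this)
  let H := D.range
  have hHmem : ∀ x, x ∈ H ↔ ∃ a ∈ A, d a = x := fun x =>
    ⟨fun ⟨a, ha⟩ => ⟨_, a.toMul.2, ha⟩, fun ⟨a, ha, h⟩ => ⟨Additive.ofMul ⟨a, ha⟩, h⟩⟩
  have hHcard : Nat.card H = 243 := by
    rw [← Nat.card_congr (AddMonoidHom.ofInjective hDinj).toEquiv, Nat.card_congr Additive.toMul, R.cardA]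
  have hQ : Nat.card ((Fin 6 → ZMod 3) ⧸ H) = 3 := by
    have h := AddSubgroup.card_eq_card_quotient_mul_card_addSubgroup H
    rw [hHcard, Nat.card_pi, Finset.prod_const, Nat.card_zmod, Finset.card_univ, Fintype.card_fin] at h
    omega
  let u : Fin 6 → (Fin 6 → ZMod 3) ⧸ H := fun i => (Pi.single i (1 : ZMod 3) : Fin 6 → ZMod 3)
  have hHperm : ∀ (t : T) x, x ∈ H → (fun i => x ((ρ₀ t).symm i)) ∈ H := by
    intro t x hx
    obtain ⟨a, ha, rfl⟩ := (hHmem x).1 hx
    refine (hHmem _).2 ⟨_, R.normA t t.2 a ha, funext fun i => ?_⟩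
    have := hdρ t a ha ((ρ₀ t).symm i)
    rwa [show ρT t ((ρ₀ t).symm i) = i from (ρ₀ t).apply_symm_apply i] at this
  have hueq : ∀ p : Equiv.Perm (Fin 6), p ∈ alternatingGroup (Fin 6) → ∀ i k, u i = u k → u (p i) = u (p k) := by
    intro p hp i k h
    obtain ⟨l, hl⟩ := MonoidHom.mem_range.1 (hρrange.symm ▸ hp : p ∈ ρ.range)
    obtain ⟨t, rfl⟩ := R.π_surj l
    rw [hρπ] at hl
    have h1 := hHperm t _ (QuotientAddGroup.eq.1 h)
    refine QuotientAddGroup.eq.2 ?_
    convert h1 using 1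
    funext j
    subst hl
    have e1 : ∀ i, j = ρ₀ t i ↔ (ρ₀ t).symm j = i := fun i =>
      ⟨fun e => by rw [e, Equiv.symm_apply_apply], fun e => by rw [← e, Equiv.apply_symm_apply]⟩
    simp only [Pi.add_apply, Pi.neg_apply, Pi.single_apply, e1]
  have hu : ∀ i k, u i = u k ∧ u i ≠ 0 := by
    have h3c : ∀ i k l : Fin 6, i ≠ k → k ≠ l → i ≠ l → ∃ p ∈ alternatingGroup (Fin 6),
        p i = k ∧ p k = l ∧ p l = i := by
      intro i k l h1 h2 h3
      refine ⟨Equiv.swap i k * Equiv.swap k l, ?_, ?_, ?_, ?_⟩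
      · rw [Equiv.Perm.mem_alternatingGroup, map_mul, Equiv.Perm.sign_swap h1, Equiv.Perm.sign_swap h2]; rfl
      · rw [Equiv.Perm.mul_apply, Equiv.swap_apply_of_ne_of_ne h1 h3, Equiv.swap_apply_left]
      · rw [Equiv.Perm.mul_apply, Equiv.swap_apply_left, Equiv.swap_apply_of_ne_of_ne h3.symm h2.symm]
      · rw [Equiv.Perm.mul_apply, Equiv.swap_apply_right, Equiv.swap_apply_right]
    have hgen : ∀ x : Fin 6 → ZMod 3,
        (QuotientAddGroup.mk x : (Fin 6 → ZMod 3) ⧸ H) = ∑ i, (x i).val • u i := by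
      intro x
      conv_lhs => rw [decomp x]
      rw [← QuotientAddGroup.mk'_apply, map_sum]
      simp only [map_nsmul, QuotientAddGroup.mk'_apply]
      rfl
    haveI : Fact (Nat.card ((Fin 6 → ZMod 3) ⧸ H)).Prime := ⟨by rw [hQ]; exact Nat.prime_three⟩
    have hother : ∀ i k, u i = u k ∨ u i = 0 ∨ u k = 0 ∨ u i + u k = 0 := by
      intro i k
      by_cases hi : u i = 0
      · exact Or.inr (Or.inl hi)
      have hk : u k ∈ AddSubgroup.zmultiples (u i) := by
        rw [zmultiples_eq_top_of_prime_card rfl hi]; trivial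
      obtain ⟨n, hn⟩ := AddSubgroup.mem_zmultiples_iff.1 hk
      have ho : addOrderOf (u i) = 3 := by
        rw [← Nat.card_zmultiples, zmultiples_eq_top_of_prime_card rfl hi, AddSubgroup.card_top, hQ]
      rw [← mod_addOrderOf_zsmul, ho] at hn
      have hr := Int.emod_emod_of_dvd n (dvd_refl (3 : ℤ))
      rcases (show n % ((3 : ℕ) : ℤ) = 0 ∨ n % ((3 : ℕ) : ℤ) = 1 ∨ n % ((3 : ℕ) : ℤ) = 2 by omega) with e | e | e <;>
        rw [e] at hn
      · exact Or.inr (Or.inr (Or.inl (by rw [← hn, zero_smul])))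
      · exact Or.inl (by rw [← hn, one_smul])
      · refine Or.inr (Or.inr (Or.inr ?_))
        rw [← hn, ← one_add_zsmul, show (1 : ℤ) + 2 = ((3 : ℕ) : ℤ) from rfl, natCast_zsmul]
        have h0 := addOrderOf_nsmul_eq_zero (u i)
        rwa [ho] at h0
    have hall : ∀ i k, u i = u k := by
      by_contra h
      push Not at h
      obtain ⟨i, k, hik⟩ := h
      have hik' : i ≠ k := fun e => hik (by rw [e])
      have hcase : ∀ l, l ≠ i → l ≠ k → u l ≠ u i ∧ u l ≠ u k := by
        intro l hli hlk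
        obtain ⟨p, hp, p1, p2, p3⟩ := h3c i k l hik' hlk.symm hli.symm
        constructor
        · intro e
          have := hueq p hp _ _ e
          rw [p3, p1] at this
          exact hik this
        · intro e
          have e1 := hueq p hp _ _ e
          rw [p3, p2] at e1
          exact hik (e1.trans e)
      have hex : ∀ i k : Fin 6, ∃ l m, l ≠ i ∧ l ≠ k ∧ m ≠ i ∧ m ≠ k ∧ l ≠ m := by decide
      obtain ⟨l, m, l1, l2, m1, m2, lm⟩ := hex i k
      have hlm : u l = u m := by
        by_contra hne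
        haveI := Fintype.ofFinite ((Fin 6 → ZMod 3) ⧸ H)
        have h4 : ({u i, u k, u l, u m} : Finset _).card ≤ 3 :=
          (Finset.card_le_univ _).trans_eq (Nat.card_eq_fintype_card.symm.trans hQ)
        rw [Finset.card_insert_of_notMem (by simp [hik, (hcase l l1 l2).1.symm, (hcase m m1 m2).1.symm]),
          Finset.card_insert_of_notMem (by simp [(hcase l l1 l2).2.symm, (hcase m m1 m2).2.symm]),
          Finset.card_insert_of_notMem (by simpa using hne), Finset.card_singleton] at h4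
        omega
      obtain ⟨p, hp, p1, p2, p3⟩ := h3c l m i lm m1 l1
      have := hueq p hp _ _ hlm
      rw [p1, p2] at this
      exact (hcase m m1 m2).1 this
    have hne : ∀ i, u i ≠ 0 := by
      intro i hi
      haveI : Nontrivial ((Fin 6 → ZMod 3) ⧸ H) := Finite.one_lt_card_iff_nontrivial.1 (by omega)
      obtain ⟨y, hy⟩ := exists_ne (0 : (Fin 6 → ZMod 3) ⧸ H)
      obtain ⟨x, rfl⟩ := QuotientAddGroup.mk_surjective y
      exact hy (by rw [hgen]; simp [hall _ i, hi])
    exact fun i k => ⟨hall i k, hne i⟩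
  have hHiff : ∀ x : Fin 6 → ZMod 3, x ∈ H ↔ ∑ i, x i = 0 := by
    intro x
    rw [← QuotientAddGroup.eq_zero_iff]
    conv_lhs => rw [decomp x]
    rw [← QuotientAddGroup.mk'_apply, map_sum]
    simp only [map_nsmul, QuotientAddGroup.mk'_apply]
    rw [Finset.sum_congr rfl fun i _ => show (x i).val • u i = (x i).val • u 0 by rw [(hu i 0).1],
      ← Finset.sum_smul, ← addOrderOf_dvd_iff_nsmul_eq_zero]
    haveI : Fact (Nat.card ((Fin 6 → ZMod 3) ⧸ H)).Prime := ⟨by rw [hQ]; exact Nat.prime_three⟩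
    rw [← Nat.card_zmultiples, zmultiples_eq_top_of_prime_card rfl (hu 0 0).2, AddSubgroup.card_top, hQ,
      ← ZMod.natCast_eq_zero_iff]
    simp
  have hsmulA : ∀ a ∈ A, ∀ f, a • Φ f = Φ (shift (d a) f) := by
    intro a ha f
    rw [hΦ, hΦ, Finset.smul_sum]
    exact Finset.sum_congr rfl fun i _ => helA a ha i (f i)
  refine ⟨{
    Φ := Φ, d := d, ρ := ρ, ρ_inj := hρinj, ρ_range := hρrange
    zero := by rw [hΦ]; simp [el]
    q_eq := hqΦ
    smulA := hsmulA
    dsum := fun a ha => (hHiff _).1 ((hHmem _).2 ⟨a, ha, rfl⟩)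
    dsurj := fun x hx => (hHmem x).1 ((hHiff x).2 hx)
    dinj := hdinj
    dω := fun i => by rw [← R.pw_one]; exact hdpw 1 i
    add_disj := ?_
    flip := ?_
    smulT := ?_ }⟩
  · intro f g h
    rw [hΦ, hΦ, hΦ, ← Finset.sum_add_distrib]
    refine Finset.sum_congr rfl fun i _ => ?_
    rcases h i with e | e <;> rw [e] <;> simp [el]
  · intro f a ha
    rw [hΦ, hΦ, Finset.smul_sum, ← Finset.sum_add_distrib]
    refine Finset.sum_congr rfl fun i _ => ?_
    rw [helA a ha]
    rcases f i with _ | j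
    · simp [el]
    split_ifs with h0
    · rw [h0]; simpa [el] using R.two _
    · show R.pw (j + d a i) • e i + R.pw j • e i = R.pw (j + 2 * d a i) • e i
      have hl := F.line_zero (hI i) (R.pw_mem (d a i)) (R.pw_notMem (hωK i) h0)
        (hV (R.pw j • e i)) (helfix i (some j))
      simp only [← mul_smul, ← R.pw_add] at hl
      rw [add_comm (R.pw (j + d a i) • e i), show j + 2 * d a i = d a i + (d a i + j) by ring, add_comm j (d a i)]
      rw [← add_eq_zero_iff_eq_neg.1 hl |> fun h => h.trans (R.two' _)]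
  · intro t f
    have hmem : ∀ i, ∃ x : Option (ZMod 3), el (ρT t i) x = (t : Γ) • el i (f i) ∧ x.isSome = (f i).isSome := by
      intro i
      have hf : (t : Γ) • el i (f i) ∈ (fix (K (ρT t i)) : AddSubgroup V) := fun k hk => by
        rw [hρK, mem_conjPerm] at hk
        have := helfix i (f i) _ hk
        rwa [mul_smul, mul_smul, inv_smul_eq_iff] at this
      obtain ⟨x, hx⟩ := hline _ _ hf
      refine ⟨x, hx, ?_⟩
      rcases hfi : f i with _ | j <;> rcases x with _ | k
      · rfl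
      · rw [hfi] at hx
        exact absurd (hx.trans (smul_zero _)) (helne _ k)
      · rw [hfi] at hx
        have h0 : (t : Γ) • el i (some j) = 0 := hx.symm
        exact absurd (by simpa using congrArg ((t : Γ)⁻¹ • ·) h0) (helne i j)
      · rfl
    choose x hx hxs using hmem
    have hg : (t : Γ) • Φ f = Φ fun k => x ((ρ₀ t).symm k) := by
      rw [hΦ, hΦ, Finset.smul_sum]
      refine Fintype.sum_equiv (ρ₀ t) _ _ fun i => ?_
      rw [Equiv.symm_apply_apply]
      exact (hx i).symm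
    rw [hg, Equiv.symm_apply_apply, hρπ]
    ext k
    simp only [supp, Finset.mem_filter, Finset.mem_univ, true_and, Finset.mem_image, hxs]
    exact ⟨fun h => ⟨_, h, Equiv.apply_symm_apply _ k⟩, fun ⟨i, h, e⟩ => by rw [← e, Equiv.symm_apply_apply]; exact h⟩

end Raw

end CfsgLib.LargeFischer
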