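import Cfsg.Agent.Lib.LargeFischer.Setting
import Cfsg.Agent.Lib.LargeExtra.Facts

/-!
Conjugates of the central involution inside the extraspecial subgroup, large Fischer type.
-/

set_option autoImplicit false
set_option linter.unusedSectionVars false
set_option linter.style.haveILetI false

namespace CfsgLib.LargeFischer

open Cfsg
open CfsgLib.F2Quad (Vec)

variable {G : Type*} [Group G] [Finite G]

/-- The extraspecial subgroup inside `G`. -/
abbrev big (z : G) (Q : Subgroup (Subgroup.centralizer ({z} : Set G))) : Subgroup G :=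
  Q.map (Subgroup.centralizer ({z} : Set G)).subtype

theorem mem_conjQ {Q : Subgroup G} {g x : G} :
    x ∈ Q.map (MulAut.conj g).toMonoidHom ↔ g⁻¹ * x * g ∈ Q := by
  rw [Subgroup.mem_map_equiv, MulAut.conj_symm_apply]

/-- The image of `Q^g ∩ C(z)` in the quotient. -/
def rImg (z : G) (Q : Subgroup (Subgroup.centralizer ({z} : Set G))) [Q.Normal] (g : G) :
    Subgroup ((Subgroup.centralizer ({z} : Set G)) ⧸ Q) :=
  (((big z Q).map (MulAut.conj g).toMonoidHom ⊓ Subgroup.centralizer ({z} : Set G)).subgroupOf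
    (Subgroup.centralizer ({z} : Set G))).map (QuotientGroup.mk' Q)

/-- The image of `C(z) ∩ C(s)` in the quotient. -/
def xImg (z : G) (Q : Subgroup (Subgroup.centralizer ({z} : Set G))) [Q.Normal] (s : G) :
    Subgroup ((Subgroup.centralizer ({z} : Set G)) ⧸ Q) :=
  ((Subgroup.centralizer ({z} : Set G) ⊓ Subgroup.centralizer ({s} : Set G)).subgroupOf
    (Subgroup.centralizer ({z} : Set G))).map (QuotientGroup.mk' Q)

namespace Hyp

variable {z : G} {Q : Subgroup (Subgroup.centralizer ({z} : Set G))} [Q.Normal]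
  {ρ : (Subgroup.centralizer ({z} : Set G)) ⧸ Q →* (Vec 6 ≃ₗ[ZMod 2] Vec 6)} {qf : Vec 6 → ZMod 2}
  {p : G → Vec 6} {u w : Vec 6} (H : Hyp z Q ρ qf p u w)
include H

theorem zz : z * z = 1 := H.S.sq_one

theorem le : big z Q ≤ Subgroup.centralizer ({z} : Set G) := Subgroup.map_subtype_le Q

theorem mk_one (h : ↥(Subgroup.centralizer ({z} : Set G))) :
    QuotientGroup.mk' Q h = 1 ↔ (h : G) ∈ big z Q := by
  show (QuotientGroup.mk h : _ ⧸ Q) = 1 ↔ _
  rw [QuotientGroup.eq_one_iff]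
  exact (Subgroup.mem_map_iff_mem (Subgroup.centralizer ({z} : Set G)).subtype_injective).symm

theorem exists_flip {x : G} (hx : x ∈ big z Q) (h1 : x ≠ 1) (hzx : x ≠ z) :
    ∃ q ∈ big z Q, q * x * q⁻¹ = x * z := by
  by_contra hcon
  push Not at hcon
  rcases H.S.center x hx (fun b hb => by
    rcases H.S.comm_z_left hb hx with h | h
    · exact h.symm
    · exact absurd (by rw [h, mul_assoc x b z, H.S.le_cent b hb]
                       rw [show x * (z * b) * b⁻¹ = x * z by group]) (hcon b hb)) with e | e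
  exacts [h1 e, hzx e]

theorem pz : p z = 0 := (H.pzero z H.S.mem).2 (Or.inr rfl)

theorem p_eq {x y : G} (hx : x ∈ big z Q) (hy : y ∈ big z Q) (h : p x = p y) : y = x ∨ y = x * z := by
  have h1 := H.pmul x⁻¹ (inv_mem hx) y hy
  have h2 := H.pmul x hx x⁻¹ (inv_mem hx)
  rw [mul_inv_cancel, (H.pzero 1 (one_mem _)).2 (Or.inl rfl)] at h2
  rw [← h, add_comm, ← h2] at h1
  rcases (H.pzero _ (mul_mem (inv_mem hx) hy)).1 h1 with e | e
  · exact Or.inl (inv_mul_eq_one.1 e).symm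
  · exact Or.inr (inv_mul_eq_iff_eq_mul.1 e)

theorem conj_of_eq {x y : G} (hx : x ∈ big z Q) (hy : y ∈ big z Q) (hy0 : p y ≠ 0)
    {γ : (Subgroup.centralizer ({z} : Set G)) ⧸ Q} (h : ρ γ (p x) = p y) :
    ∃ c : ↥(Subgroup.centralizer ({z} : Set G)), (c : G) * x * (c : G)⁻¹ = y ∧ QuotientGroup.mk' Q c = γ := by
  obtain ⟨c, rfl⟩ := QuotientGroup.mk_surjective γ
  rw [← H.pact c x hx] at h
  have hcx : (c : G) * x * (c : G)⁻¹ ∈ big z Q :=
    H.S.normal c (Subgroup.mem_centralizer_singleton_iff.1 c.2) x hx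
  rcases H.p_eq hcx hy h with e | e
  · exact ⟨c, e.symm, rfl⟩
  · obtain ⟨q, hq, hqy⟩ := H.exists_flip hy (fun e => hy0 ((H.pzero y hy).2 (Or.inl e)))
      (fun e => hy0 ((H.pzero y hy).2 (Or.inr e)))
    refine ⟨⟨q, H.le hq⟩ * c, ?_, ?_⟩
    · show q * (c : G) * x * (q * (c : G))⁻¹ = y
      rw [show q * (c : G) * x * (q * (c : G))⁻¹ = q * ((c : G) * x * (c : G)⁻¹) * q⁻¹ by group,
        show (c : G) * x * (c : G)⁻¹ = y * z by rw [e, mul_assoc ((c : G) * x * (c : G)⁻¹) z z, H.zz, mul_one],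
        show q * (y * z) * q⁻¹ = q * y * q⁻¹ * (q * z * q⁻¹) by group, hqy, H.S.le_cent q hq,
        mul_inv_cancel_right, mul_assoc, H.zz, mul_one]
    · rw [map_mul, (H.mk_one ⟨q, H.le hq⟩).2 hq, one_mul]
      rfl

theorem singular {x : G} (hx : x ∈ big z Q) (hxx : x * x = 1) (h1 : x ≠ 1) (hxz : x ≠ z) :
    qf (p x) = 0 ∧ p x ≠ 0 :=
  ⟨(H.psq x hx).1 hxx, fun e => by rcases (H.pzero x hx).1 e with e | e <;> contradiction⟩

theorem two_orbits : ∃ s t : ↥(Subgroup.centralizer ({z} : Set G)),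
    s ∈ Q ∧ t ∈ Q ∧ orderOf s = 2 ∧ orderOf t = 2 ∧ (s : G) ≠ z ∧ (t : G) ≠ z ∧
    (¬ ∃ h : ↥(Subgroup.centralizer ({z} : Set G)), h * s * h⁻¹ = t) ∧
    ∀ x : ↥(Subgroup.centralizer ({z} : Set G)), x ∈ Q → orderOf x = 2 → (x : G) ≠ z →
      (∃ h : ↥(Subgroup.centralizer ({z} : Set G)), h * s * h⁻¹ = x) ∨
      ∃ h : ↥(Subgroup.centralizer ({z} : Set G)), h * t * h⁻¹ = x := by
  have hpick : ∀ v, qf v = 0 → v ≠ 0 → ∃ s : ↥(Subgroup.centralizer ({z} : Set G)),
      s ∈ Q ∧ orderOf s = 2 ∧ (s : G) ≠ z ∧ p s = v := by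
    intro v hv hv0
    obtain ⟨x, hx, rfl⟩ := H.psurj v
    obtain ⟨s, hs, rfl⟩ := hx
    have hmem : (s : G) ∈ big z Q := ⟨s, hs, rfl⟩
    refine ⟨s, hs, ?_, fun e => hv0 ((H.pzero _ hmem).2 (Or.inr e)), rfl⟩
    refine orderOf_eq_prime (p := 2) (Subtype.ext ?_) fun e => hv0 ((H.pzero _ hmem).2 (Or.inl (congrArg Subtype.val e)))
    rw [pow_two]
    exact (H.psq _ hmem).2 hv
  obtain ⟨s, hs, hs2, hsz, hps⟩ := hpick u H.qu H.u0
  obtain ⟨t, ht, ht2, htz, hpt⟩ := hpick w H.qw H.w0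
  have hsm : (s : G) ∈ big z Q := ⟨s, hs, rfl⟩
  have htm : (t : G) ∈ big z Q := ⟨t, ht, rfl⟩
  refine ⟨s, t, hs, ht, hs2, ht2, hsz, htz, ?_, fun x hx hx2 hxz => ?_⟩
  · rintro ⟨h, rfl⟩
    refine H.ne ⟨QuotientGroup.mk h, ?_⟩
    rw [← hps, ← H.pact h s hsm]
    exact hpt
  · have hxm : (x : G) ∈ big z Q := ⟨x, hx, rfl⟩
    have hxx : (x : G) * x = 1 := by
      have := pow_orderOf_eq_one x
      rw [hx2, pow_two] at this
      exact congrArg Subtype.val this
    obtain ⟨hq, h0⟩ := H.singular hxm hxx (fun e => by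
      rw [show x = 1 from Subtype.ext e, orderOf_one] at hx2; omega) hxz
    rcases H.cover _ hq h0 with ⟨γ, hγ⟩ | ⟨γ, hγ⟩
    · obtain ⟨c, hc, -⟩ := H.conj_of_eq hsm hxm h0 (γ := γ) (by rw [hps, hγ])
      exact Or.inl ⟨c, Subtype.ext hc⟩
    · obtain ⟨c, hc, -⟩ := H.conj_of_eq htm hxm h0 (γ := γ) (by rw [hpt, hγ])
      exact Or.inr ⟨c, Subtype.ext hc⟩

/-- The sign hom recording commutation with a fixed element. -/
noncomputable def sgn {U : Subgroup G} (hU : U ≤ big z Q) {t : G} (ht : t ∈ big z Q) : ↥U →* ℤˣ := by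
  classical
  exact MonoidHom.mk' (fun u => if (u : G) * t = t * (u : G) then 1 else -1) fun a b => by
    have hn : ∀ u : ↥U, ¬ ((u : G) * t = t * (u : G)) → (u : G) * t = t * (u : G) * z := fun u hu =>
      (H.S.comm_z_left (hU u.2) ht).resolve_left hu
    have hzb : z * (b : G) = (b : G) * z := (H.S.le_cent _ (hU b.2)).symm
    have hne : t * ((a : G) * (b : G)) * z ≠ t * ((a : G) * (b : G)) := fun e =>
      H.S.ne_one (mul_left_cancel (e.trans (mul_one _).symm))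
    by_cases ha : (a : G) * t = t * (a : G) <;> by_cases hb : (b : G) * t = t * (b : G) <;>
      simp only [Subgroup.coe_mul, ha, hb, if_true, if_false, mul_one, one_mul, neg_mul_neg]
    · exact if_pos (by rw [mul_assoc, hb, ← mul_assoc, ha, mul_assoc])
    · exact if_neg (by
        rw [mul_assoc, hn b hb, ← mul_assoc, ← mul_assoc, ha, mul_assoc t (a : G) b]
        exact hne)
    · exact if_neg (by
        rw [mul_assoc, hb, ← mul_assoc, hn a ha, mul_assoc (t * (a : G)) z b, hzb]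
        simpa [mul_assoc] using hne)
    · exact if_pos (by
        rw [mul_assoc, hn b hb, ← mul_assoc, ← mul_assoc, hn a ha, mul_assoc (t * (a : G)) z b, hzb]
        simp [mul_assoc, H.zz])

theorem sgn_ker {U : Subgroup G} (hU : U ≤ big z Q) {t : G} (ht : t ∈ big z Q) :
    (H.sgn hU ht).ker = (U ⊓ Subgroup.centralizer ({t} : Set G)).subgroupOf U := by
  classical
  ext u
  rw [MonoidHom.mem_ker, Subgroup.mem_subgroupOf, Subgroup.mem_inf, Subgroup.mem_centralizer_singleton_iff]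
  simp only [sgn, MonoidHom.mk'_apply]
  split_ifs with h <;> simp [h]

theorem card_inf_centralizer {U : Subgroup G} (hU : U ≤ big z Q) {t : G} (ht : t ∈ big z Q) :
    ∃ k : ℕ, (k = 1 ∨ k = 2) ∧ Nat.card U = k * Nat.card ↥(U ⊓ Subgroup.centralizer ({t} : Set G)) ∧
      ((∃ u ∈ U, u * t ≠ t * u) → k = 2) := by
  classical
  have h := Subgroup.index_ker (H.sgn hU ht)
  rw [H.sgn_ker hU ht] at h
  have hk := Subgroup.card_mul_index ((U ⊓ Subgroup.centralizer ({t} : Set G)).subgroupOf U)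
  rw [Nat.card_congr (Subgroup.subgroupOfEquivOfLe inf_le_left).toEquiv, h] at hk
  have hu : Nat.card (H.sgn hU ht).range ∣ 2 := by
    have := Subgroup.card_subgroup_dvd_card (H.sgn hU ht).range
    rwa [Nat.card_eq_fintype_card (α := ℤˣ), Fintype.card_units_int] at this
  refine ⟨_, (Nat.dvd_prime Nat.prime_two).1 hu, by rw [mul_comm]; exact hk.symm, ?_⟩
  rintro ⟨u, huU, hne⟩
  refine ((Nat.dvd_prime Nat.prime_two).1 hu).resolve_left fun h1 => ?_
  have := Subgroup.eq_bot_of_card_eq _ h1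
  rw [MonoidHom.range_eq_bot_iff] at this
  have := DFunLike.congr_fun this ⟨u, huU⟩
  simp [sgn, hne] at this

theorem abelian_card {U : Subgroup G} (hU : U ≤ big z Q) (hab : ∀ a ∈ U, ∀ b ∈ U, a * b = b * a) :
    Nat.card U * Nat.card U ≤ 2 * Nat.card (big z Q) := by
  classical
  let P : Subgroup G → Prop := fun E => U ≤ E ∧ E ≤ big z Q ∧
    Nat.card U * Nat.card U ≤ Nat.card ↥(U ⊓ Subgroup.centralizer (E : Set G)) * Nat.card E
  have hP : P U := ⟨le_rfl, hU, by
    rw [inf_eq_left.2 fun a ha => Subgroup.mem_centralizer_iff.2 fun b hb => hab b hb a ha]⟩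
  obtain ⟨E, hE, hmax⟩ := (Set.toFinite {E : Subgroup G | P E}).exists_maximal ⟨U, hP⟩
  obtain ⟨hUE, hEQ, hcard⟩ := hE
  have heq : E = big z Q := by
    by_contra hne
    obtain ⟨t, htQ, htE⟩ := SetLike.exists_of_lt (lt_of_le_of_ne hEQ hne)
    set E' := E ⊔ Subgroup.zpowers t
    have hlt : E < E' := lt_of_le_of_ne le_sup_left fun e =>
      htE (e.symm ▸ Subgroup.mem_sup_right (Subgroup.mem_zpowers t))
    have h2 := LargeExtra.card_two_mul_le hlt
    obtain ⟨k, hk, hUk, -⟩ := H.card_inf_centralizer (U := U ⊓ Subgroup.centralizer (E : Set G))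
      (inf_le_left.trans hU) htQ
    have hle : (U ⊓ Subgroup.centralizer (E : Set G)) ⊓ Subgroup.centralizer ({t} : Set G) ≤
        U ⊓ Subgroup.centralizer (E' : Set G) := by
      refine le_inf (inf_le_left.trans inf_le_left) fun a ha => ?_
      obtain ⟨⟨-, haE⟩, hat⟩ := ha
      have hle : E' ≤ Subgroup.centralizer ({a} : Set G) := sup_le
        (fun e he => Subgroup.mem_centralizer_singleton_iff.2 (Subgroup.mem_centralizer_iff.1 haE e he))
        (by rw [Subgroup.zpowers_le, Subgroup.mem_centralizer_singleton_iff]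
            exact (Subgroup.mem_centralizer_singleton_iff.1 hat).symm)
      exact Subgroup.mem_centralizer_iff.2 fun b hb => Subgroup.mem_centralizer_singleton_iff.1 (hle hb)
    have h3 := Subgroup.card_le_of_le hle
    have hP' : P E' := ⟨hUE.trans hlt.le, sup_le hEQ ((Subgroup.zpowers_le).2 htQ), by
      refine hcard.trans ?_
      rw [hUk]
      calc k * Nat.card ↥(U ⊓ Subgroup.centralizer (E : Set G) ⊓ Subgroup.centralizer ({t} : Set G)) * Nat.card E
          ≤ 2 * Nat.card ↥(U ⊓ Subgroup.centralizer (E' : Set G)) * Nat.card E :=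
            Nat.mul_le_mul_right _ (Nat.mul_le_mul (by omega) h3)
        _ ≤ Nat.card ↥(U ⊓ Subgroup.centralizer (E' : Set G)) * Nat.card E' := by
            rw [mul_comm 2, mul_assoc]; exact Nat.mul_le_mul_left _ h2⟩
    exact hlt.ne (le_antisymm hlt.le (hmax hP' hlt.le))
  subst heq
  refine hcard.trans (Nat.mul_le_mul_right _ ?_)
  refine le_of_le_of_eq (Subgroup.card_le_of_le (K := Subgroup.zpowers z) fun a ha => ?_) (by rw [Nat.card_zpowers, H.hz])
  rcases H.S.center a (hU ha.1) (fun b hb => (Subgroup.mem_centralizer_iff.1 ha.2 b hb).symm) with e | e <;> rw [e]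
  exacts [one_mem _, Subgroup.mem_zpowers z]

theorem s_facts {g : G} (hgne : g * z * g⁻¹ ≠ z) :
    g * z * g⁻¹ ≠ 1 ∧ g * z * g⁻¹ * (g * z * g⁻¹) = 1 := by
  refine ⟨fun e => ?_, by rw [show g * z * g⁻¹ * (g * z * g⁻¹) = g * (z * z) * g⁻¹ by group, H.zz]; group⟩
  rw [mul_inv_eq_one, mul_eq_left] at e
  exact H.S.ne_one e

theorem conjQ_mem_s (g : G) : g * z * g⁻¹ ∈ (big z Q).map (MulAut.conj g).toMonoidHom :=
  mem_conjQ.2 (by rw [show g⁻¹ * (g * z * g⁻¹) * g = z by group]; exact H.S.mem)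

theorem conjQ_comm {g a b : G} (ha : a ∈ (big z Q).map (MulAut.conj g).toMonoidHom)
    (hb : b ∈ (big z Q).map (MulAut.conj g).toMonoidHom) : a * b = b * a ∨ a * b = b * a * (g * z * g⁻¹) := by
  rw [mem_conjQ] at ha hb
  rcases H.S.comm_z_left ha hb with h | h
  · left
    calc a * b = g * ((g⁻¹ * a * g) * (g⁻¹ * b * g)) * g⁻¹ := by group
      _ = b * a := by rw [h]; group
  · right
    calc a * b = g * ((g⁻¹ * a * g) * (g⁻¹ * b * g)) * g⁻¹ := by group
      _ = b * a * (g * z * g⁻¹) := by rw [h]; group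

theorem centralizer_le_normalizer_conjQ {g y : G} (hy : y ∈ Subgroup.centralizer ({g * z * g⁻¹} : Set G))
    {x : G} (hx : x ∈ (big z Q).map (MulAut.conj g).toMonoidHom) :
    y * x * y⁻¹ ∈ (big z Q).map (MulAut.conj g).toMonoidHom := by
  rw [mem_conjQ] at hx ⊢
  have hyc := Subgroup.mem_centralizer_singleton_iff.1 hy
  have := H.S.normal (g⁻¹ * y * g) (by
    calc g⁻¹ * y * g * z = g⁻¹ * (y * (g * z * g⁻¹)) * g := by group
      _ = z * (g⁻¹ * y * g) := by rw [hyc]; group) _ hx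
  rwa [show g⁻¹ * (y * x * y⁻¹) * g = g⁻¹ * y * g * (g⁻¹ * x * g) * (g⁻¹ * y * g)⁻¹ by group]

theorem card_cent {g : G} (hgQ : g * z * g⁻¹ ∈ big z Q) (hgne : g * z * g⁻¹ ≠ z) :
    Nat.card ↥(big z Q ⊓ Subgroup.centralizer ({g * z * g⁻¹} : Set G)) = 2 ^ 12 := by
  obtain ⟨k, hk, hQk, h2⟩ := H.card_inf_centralizer le_rfl hgQ
  obtain ⟨q, hq, hqs⟩ := H.exists_flip hgQ (H.s_facts hgne).1 hgne
  have hk2 := h2 ⟨q, hq, fun e => by
    rw [e, mul_inv_cancel_right] at hqs
    exact H.S.ne_one (left_eq_mul.1 hqs)⟩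
  rw [H.card, hk2] at hQk
  omega

theorem z_mem {g : G} (hgQ : g * z * g⁻¹ ∈ big z Q) (hgne : g * z * g⁻¹ ≠ z) :
    z ∈ (big z Q).map (MulAut.conj g).toMonoidHom := by
  classical
  set s := g * z * g⁻¹ with hs
  set A := big z Q ⊓ Subgroup.centralizer ({s} : Set G) with hA
  set Qs := (big z Q).map (MulAut.conj g).toMonoidHom
  obtain ⟨hs1, hss⟩ := H.s_facts hgne
  have hc : ∀ a : ↥A, g⁻¹ * (a : G) * g ∈ Subgroup.centralizer ({z} : Set G) := fun a => by
    rw [Subgroup.mem_centralizer_singleton_iff]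
    have h := Subgroup.mem_centralizer_singleton_iff.1 (show (a : G) ∈ Subgroup.centralizer ({s} : Set G) from a.2.2)
    calc g⁻¹ * (a : G) * g * z = g⁻¹ * ((a : G) * s) * g := by rw [hs]; group
      _ = z * (g⁻¹ * (a : G) * g) := by rw [h, hs]; group
  let f : ↥A →* (Subgroup.centralizer ({z} : Set G)) ⧸ Q := (QuotientGroup.mk' Q).comp
    (MonoidHom.mk' (fun a => ⟨g⁻¹ * (a : G) * g, hc a⟩) fun a b =>
      Subtype.ext (by simp only [Subgroup.coe_mul]; group))
  have hker : f.ker = (A ⊓ Qs).subgroupOf A := by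
    ext a
    rw [MonoidHom.mem_ker, Subgroup.mem_subgroupOf, Subgroup.mem_inf, mem_conjQ]
    exact ⟨fun h => ⟨a.2, (H.mk_one _).1 h⟩, fun h => (H.mk_one _).2 h.2⟩
  by_contra hz
  obtain ⟨x, hx, hxs⟩ : ∃ x ∈ A ⊓ Qs, x ∉ Subgroup.zpowers s := by
    by_contra hall
    push Not at hall
    have h1 : Nat.card ↥(A ⊓ Qs) ≤ 2 := le_of_le_of_eq (Subgroup.card_le_of_le hall) (by
      rw [Nat.card_zpowers, show s = (MulAut.conj g).toMonoidHom z from rfl,
        orderOf_injective _ (MulAut.conj g).injective, H.hz])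
    have h2 := Subgroup.card_mul_index f.ker
    rw [Subgroup.index_ker, hker, Nat.card_congr (Subgroup.subgroupOfEquivOfLe inf_le_left).toEquiv,
      H.card_cent hgQ hgne] at h2
    have h3 : Nat.card f.range ∣ Nat.card ((Subgroup.centralizer ({z} : Set G)) ⧸ Q) :=
      Subgroup.card_subgroup_dvd_card _
    rw [H.cardΓ] at h3
    have h4 : 0 < Nat.card ↥(A ⊓ Qs) := Nat.card_pos
    rcases (show Nat.card ↥(A ⊓ Qs) = 1 ∨ Nat.card ↥(A ⊓ Qs) = 2 by omega) with e | e <;> rw [e] at h2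
    · rw [one_mul] at h2; rw [h2] at h3; norm_num at h3
    · rw [show Nat.card f.range = 2 ^ 11 by omega] at h3; norm_num at h3
  obtain ⟨⟨hxQ, hxc⟩, hxQs⟩ := hx
  have hx1 : x ≠ 1 := fun e => hxs (e ▸ one_mem _)
  have hxz : x ≠ z := fun e => hz (e ▸ hxQs)
  by_cases hy : ∃ y ∈ A, y * x ≠ x * y
  · obtain ⟨y, hy, hne⟩ := hy
    have h := mul_mem (H.centralizer_le_normalizer_conjQ hy.2 hxQs) (inv_mem hxQs)
    rw [(H.S.comm_z_left hy.1 hxQ).resolve_left hne,
      show x * y * z * y⁻¹ * x⁻¹ = x * (y * z * y⁻¹) * x⁻¹ by group,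
      H.S.le_cent y hy.1, mul_inv_cancel_right, H.S.le_cent x hxQ, mul_inv_cancel_right] at h
    exact hz h
  · push Not at hy
    have hall : ∀ b ∈ big z Q, x * s * b = b * (x * s) := by
      intro b hb
      rcases H.S.comm_z_left hb hgQ with h | h
      · have hbA : b ∈ A := ⟨hb, Subgroup.mem_centralizer_singleton_iff.2 h⟩
        calc x * s * b = x * (b * s) := by rw [mul_assoc, h]
          _ = b * (x * s) := by rw [← mul_assoc, ← hy b hbA, mul_assoc]
      · have hbx : b * x = x * b * z := by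
          refine (H.S.comm_z_left hb hxQ).resolve_left fun e => ?_
          obtain ⟨k, hk, hQk, h2⟩ := H.card_inf_centralizer le_rfl hxQ
          have hle : A ⊔ Subgroup.zpowers b ≤ big z Q ⊓ Subgroup.centralizer ({x} : Set G) :=
            sup_le (le_inf inf_le_left fun a ha => Subgroup.mem_centralizer_singleton_iff.2 (hy a ha))
              ((Subgroup.zpowers_le).2 ⟨hb, Subgroup.mem_centralizer_singleton_iff.2 e⟩)
          have hlt : A < A ⊔ Subgroup.zpowers b := lt_of_le_of_ne le_sup_left fun e' => by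
            have hbA : b ∈ A := e' ▸ Subgroup.mem_sup_right (Subgroup.mem_zpowers b)
            have := Subgroup.mem_centralizer_singleton_iff.1 hbA.2
            rw [this] at h
            exact H.S.ne_one (left_eq_mul.1 h)
          have h5 := LargeExtra.card_two_mul_le hlt
          have h6 := Subgroup.card_le_of_le hle
          have h7 : Nat.card ↥A = 2 ^ 12 := H.card_cent hgQ hgne
          obtain ⟨q, hq, hqx⟩ := H.exists_flip hxQ hx1 hxz
          have hk2 := h2 ⟨q, hq, fun e => by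
            rw [e, mul_inv_cancel_right] at hqx
            exact H.S.ne_one (left_eq_mul.1 hqx)⟩
          rw [H.card, hk2] at hQk
          omega
        have hsb : s * b = b * s * z := by rw [h, mul_assoc (s * b) z z, H.zz, mul_one]
        calc x * s * b = x * (b * s * z) := by rw [mul_assoc, hsb]
          _ = x * b * (s * z) := by group
          _ = x * b * (z * s) := by rw [H.S.le_cent _ hgQ]
          _ = b * x * s := by rw [hbx]; group
          _ = b * (x * s) := mul_assoc _ _ _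
    rcases H.S.center _ (mul_mem hxQ hgQ) hall with e | e
    · exact hxs (by rw [eq_inv_of_mul_eq_one_left e]; exact inv_mem (Subgroup.mem_zpowers s))
    · exact hz (e ▸ mul_mem hxQs (H.conjQ_mem_s g))

theorem inv_pair {g : G} (hgQ : g * z * g⁻¹ ∈ big z Q) (hgne : g * z * g⁻¹ ≠ z) :
    g⁻¹ * z * g⁻¹⁻¹ ∈ big z Q ∧ g⁻¹ * z * g⁻¹⁻¹ ≠ z := by
  refine ⟨by rw [inv_inv]; exact mem_conjQ.1 (H.z_mem hgQ hgne), fun e => hgne ?_⟩
  conv_lhs => rw [← e]
  group

theorem card_conjQ_cent {g : G} (hgQ : g * z * g⁻¹ ∈ big z Q) (hgne : g * z * g⁻¹ ≠ z) :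
    Nat.card ↥((big z Q).map (MulAut.conj g).toMonoidHom ⊓ Subgroup.centralizer ({z} : Set G)) = 2 ^ 12 := by
  obtain ⟨h1, h2⟩ := H.inv_pair hgQ hgne
  rw [← H.card_cent h1 h2, ← Subgroup.card_map_of_injective
    (K := big z Q ⊓ Subgroup.centralizer ({g⁻¹ * z * g⁻¹⁻¹} : Set G))
    (f := (MulAut.conj g).toMonoidHom) (MulAut.conj g).injective]
  congr 1
  apply congrArg (fun K : Subgroup G => ↥K)
  ext x
  rw [Subgroup.mem_inf, mem_conjQ]
  show _ ↔ x ∈ (big z Q ⊓ Subgroup.centralizer ({g⁻¹ * z * g⁻¹⁻¹} : Set G)).map (MulAut.conj g).toMonoidHom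
  rw [mem_conjQ, Subgroup.mem_inf, Subgroup.mem_centralizer_singleton_iff,
    Subgroup.mem_centralizer_singleton_iff, inv_inv,
    show g⁻¹ * x * g * (g⁻¹ * z * g) = g⁻¹ * (x * z) * g by group,
    show g⁻¹ * z * g * (g⁻¹ * x * g) = g⁻¹ * (z * x) * g by group, mul_left_inj, mul_right_inj]

theorem inter_props {g : G} (hgne : g * z * g⁻¹ ≠ z) :
    (∀ a ∈ big z Q ⊓ (big z Q).map (MulAut.conj g).toMonoidHom,
      ∀ b ∈ big z Q ⊓ (big z Q).map (MulAut.conj g).toMonoidHom, a * b = b * a) ∧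
      ∀ a ∈ big z Q ⊓ (big z Q).map (MulAut.conj g).toMonoidHom, a * a = 1 := by
  constructor
  · intro a ha b hb
    rcases H.S.comm_z_left ha.1 hb.1 with h | h
    · exact h
    rcases H.conjQ_comm ha.2 hb.2 with h' | h'
    · exact h'
    · exact absurd (mul_left_cancel (h.symm.trans h')).symm hgne
  · intro a ha
    rcases H.S.sq a ha.1 with h | h
    · exact h
    rcases H.S.sq _ (mem_conjQ.1 ha.2) with h' | h'
    · calc a * a = g * ((g⁻¹ * a * g) * (g⁻¹ * a * g)) * g⁻¹ := by group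
        _ = 1 := by rw [h']; group
    · refine absurd ?_ hgne
      calc g * z * g⁻¹ = g * ((g⁻¹ * a * g) * (g⁻¹ * a * g)) * g⁻¹ := by rw [h']
        _ = a * a := by group
        _ = z := h

theorem card_inter_mul {g : G} (hgQ : g * z * g⁻¹ ∈ big z Q) (hgne : g * z * g⁻¹ ≠ z) :
    Nat.card ↥(big z Q ⊓ (big z Q).map (MulAut.conj g).toMonoidHom) * Nat.card (rImg z Q g) = 2 ^ 12 := by
  set B := (big z Q).map (MulAut.conj g).toMonoidHom ⊓ Subgroup.centralizer ({z} : Set G)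
  let f : ↥(B.subgroupOf (Subgroup.centralizer ({z} : Set G))) →* (Subgroup.centralizer ({z} : Set G)) ⧸ Q :=
    (QuotientGroup.mk' Q).comp (Subgroup.subtype _)
  have hr : f.range = rImg z Q g := by
    rw [MonoidHom.range_comp, Subgroup.range_subtype]; rfl
  have hk := Subgroup.card_mul_index f.ker
  rw [Subgroup.index_ker, hr, Nat.card_congr (Subgroup.subgroupOfEquivOfLe inf_le_right).toEquiv,
    H.card_conjQ_cent hgQ hgne] at hk
  rw [← hk]
  congr 1
  exact Nat.card_congr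
    { toFun := fun a => ⟨⟨⟨a, H.le a.2.1⟩, ⟨a.2.2, H.le a.2.1⟩⟩, (H.mk_one _).2 a.2.1⟩
      invFun := fun b => ⟨((b.1.1 : ↥(Subgroup.centralizer ({z} : Set G))) : G), (H.mk_one _).1 b.2, b.1.2.1⟩
      left_inv := fun a => rfl
      right_inv := fun b => rfl }

theorem rImg_two (g : G) : IsPGroup 2 (rImg z Q g) := by
  refine IsPGroup.map ?_ _
  refine IsPGroup.of_equiv ?_ (Subgroup.subgroupOfEquivOfLe inf_le_right).symm
  exact (H.S.two.map (MulAut.conj g).toMonoidHom).to_le inf_le_left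

theorem rImg_normal (g : G) : rImg z Q g ≤ xImg z Q (g * z * g⁻¹) ∧
    ∀ a ∈ xImg z Q (g * z * g⁻¹), ∀ b ∈ rImg z Q g, a * b * a⁻¹ ∈ rImg z Q g := by
  constructor
  · refine Subgroup.map_mono fun h hh => ⟨h.2, ?_⟩
    show (h : G) ∈ Subgroup.centralizer ({g * z * g⁻¹} : Set G)
    rw [Subgroup.mem_centralizer_singleton_iff]
    have h1 : g⁻¹ * (h : G) * g ∈ big z Q := mem_conjQ.1 hh.1
    calc (h : G) * (g * z * g⁻¹) = g * ((g⁻¹ * (h : G) * g) * z) * g⁻¹ := by group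
      _ = g * z * g⁻¹ * (h : G) := by rw [H.S.le_cent _ h1]; group
  · rintro _ ⟨a, ha, rfl⟩ _ ⟨b, hb, rfl⟩
    refine ⟨a * b * a⁻¹, ⟨H.centralizer_le_normalizer_conjQ ha.2 hb.1, (a * b * a⁻¹).2⟩, by
      rw [map_mul, map_mul, map_inv]⟩

theorem mem_xImg {s : G} (hs : s ∈ big z Q) (hs0 : p s ≠ 0) {γ : (Subgroup.centralizer ({z} : Set G)) ⧸ Q} :
    γ ∈ xImg z Q s ↔ ρ γ (p s) = p s := by
  constructor
  · rintro ⟨c, hc, rfl⟩
    show ρ (QuotientGroup.mk c) (p s) = p s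
    have hcs := Subgroup.mem_centralizer_singleton_iff.1
      (show (c : G) ∈ Subgroup.centralizer ({s} : Set G) from hc.2)
    rw [← H.pact c s hs, hcs, mul_inv_cancel_right]
  · intro h
    obtain ⟨c, hc, rfl⟩ := H.conj_of_eq hs hs hs0 h
    exact ⟨c, ⟨c.2, Subgroup.mem_centralizer_singleton_iff.2 (mul_inv_eq_iff_eq_mul.1 hc)⟩, rfl⟩

theorem class_of_conj {g : G} (hgQ : g * z * g⁻¹ ∈ big z Q) (hgne : g * z * g⁻¹ ≠ z) :
    ∃ γ, ρ γ w = p (g * z * g⁻¹) := by
  classical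
  obtain ⟨hs1, hss⟩ := H.s_facts hgne
  obtain ⟨hq, h0⟩ := H.singular hgQ hss hs1 hgne
  refine (H.cover _ hq h0).resolve_left ?_
  rintro ⟨γ, hγ⟩
  set D := big z Q ⊓ (big z Q).map (MulAut.conj g).toMonoidHom
  let W : AddSubgroup (Vec 6) :=
    { carrier := {v | ∃ d ∈ D, p d = ρ γ v}
      add_mem' := by
        rintro a b ⟨d, hd, e⟩ ⟨d', hd', e'⟩
        exact ⟨d * d', mul_mem hd hd', by rw [H.pmul d hd.1 d' hd'.1, e, e', map_add]⟩
      zero_mem' := ⟨1, one_mem _, by rw [(H.pzero 1 (one_mem _)).2 (Or.inl rfl), map_zero]⟩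
      neg_mem' := by
        rintro a ⟨d, hd, e⟩
        exact ⟨d, hd, by rw [e]; congr 1; funext i; exact (CharTwo.neg_eq _).symm⟩ }
  have hinv : ∀ δ, ρ δ u = u → ∀ v ∈ W, ρ δ v ∈ W := by
    rintro δ hδ v ⟨d, hd, e⟩
    obtain ⟨c, hc, hcm⟩ := H.conj_of_eq hgQ hgQ h0 (γ := γ * δ * γ⁻¹) (by
      rw [← hγ, map_mul, map_mul, map_inv]
      simp [LinearEquiv.mul_apply, hδ])
    have hcent : (c : G) ∈ Subgroup.centralizer ({g * z * g⁻¹} : Set G) :=
      Subgroup.mem_centralizer_singleton_iff.2 (mul_inv_eq_iff_eq_mul.1 hc)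
    refine ⟨(c : G) * d * (c : G)⁻¹, ⟨H.S.normal c (Subgroup.mem_centralizer_singleton_iff.1 c.2) d hd.1,
      H.centralizer_le_normalizer_conjQ hcent hd.2⟩, ?_⟩
    rw [H.pact c d hd.1, e, show QuotientGroup.mk c = γ * δ * γ⁻¹ from hcm, map_mul, map_mul, map_inv]
    simp [LinearEquiv.mul_apply]
  have hts : ∀ v ∈ W, qf v = 0 := by
    rintro v ⟨d, hd, e⟩
    obtain ⟨x, hx, hpx⟩ := H.psurj v
    obtain ⟨c, rfl⟩ := QuotientGroup.mk_surjective γ
    rw [← hpx, ← H.psq x hx]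
    rw [← hpx, ← H.pact c x hx] at e
    have hdd := (H.inter_props hgne).2 d hd
    have hcx := (H.psq _ (H.S.normal c (Subgroup.mem_centralizer_singleton_iff.1 c.2) x hx)).2
      (e ▸ (H.psq d hd.1).1 hdd)
    calc x * x = (c : G)⁻¹ * (((c : G) * x * (c : G)⁻¹) * ((c : G) * x * (c : G)⁻¹)) * c := by group
      _ = 1 := by rw [hcx]; group
  have h4 := H.small W hinv hts
  have hD : Nat.card D ≤ 2 * Nat.card W := by
    let f : D → W := fun d => ⟨(ρ γ).symm (p d), d, d.2, (LinearEquiv.apply_symm_apply _ _).symm⟩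
    haveI := Fintype.ofFinite D
    haveI := Fintype.ofFinite W
    have := Finset.card_le_mul_card_image (f := f) (Finset.univ : Finset D) 2 fun y _ => by
      by_contra hlt
      push Not at hlt
      obtain ⟨d, hd⟩ := Finset.card_pos.1 (lt_trans (by norm_num) hlt)
      have hsub : ((Finset.univ.filter fun a => f a = y).image fun a : D => (a : G)) ⊆ {(d : G), (d : G) * z} := by
        intro a ha
        obtain ⟨a, ha', rfl⟩ := Finset.mem_image.1 ha
        rw [Finset.mem_filter] at ha' hd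
        have e := congrArg Subtype.val (hd.2.trans ha'.2.symm)
        have e' : p (d : G) = p (a : G) := (ρ γ).symm.injective e
        rcases H.p_eq d.2.1 a.2.1 e' with e | e <;> simp [e]
      have := Finset.card_le_card hsub
      rw [Finset.card_image_of_injective _ Subtype.val_injective] at this
      have h2 : ({(d : G), (d : G) * z} : Finset G).card ≤ 2 := Finset.card_le_two
      omega
    rw [Finset.card_univ, ← Nat.card_eq_fintype_card] at this
    refine this.trans (Nat.mul_le_mul_left _ ?_)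
    rw [Nat.card_eq_fintype_card]
    exact Finset.card_le_univ _
  have hm := H.card_inter_mul hgQ hgne
  haveI : Fact (Nat.Prime 2) := ⟨Nat.prime_two⟩
  obtain ⟨k, hk⟩ := IsPGroup.iff_card.1 (H.rImg_two g)
  have hdvd := Subgroup.card_subgroup_dvd_card (rImg z Q g)
  rw [hk, H.cardΓ] at hdvd
  have hk8 : k ≤ 8 := by
    by_contra hgt
    exact absurd ((Nat.pow_dvd_pow 2 (show 9 ≤ k by omega)).trans hdvd) (by norm_num)
  have hkc := Nat.pow_le_pow_right (show 1 ≤ 2 by norm_num) hk8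
  have hE8 : Nat.card (rImg z Q g) ≤ 2 ^ 8 := by rw [hk]; exact hkc
  have h5 := Nat.mul_le_mul (hD.trans (Nat.mul_le_mul_left 2 h4)) hE8
  rw [hm] at h5
  norm_num at h5

theorem transitive {s t : G} (hsQ : s ∈ big z Q) (htQ : t ∈ big z Q) (hs : IsConj z s) (ht : IsConj z t)
    (hs1 : s ≠ z) (ht1 : t ≠ z) : ∃ h ∈ Subgroup.centralizer ({z} : Set G), h * s * h⁻¹ = t := by
  obtain ⟨g, rfl⟩ := isConj_iff.1 hs
  obtain ⟨g', rfl⟩ := isConj_iff.1 ht
  obtain ⟨γ, hγ⟩ := H.class_of_conj hsQ hs1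
  obtain ⟨γ', hγ'⟩ := H.class_of_conj htQ ht1
  obtain ⟨c, hc, -⟩ := H.conj_of_eq hsQ htQ (by rw [← hγ']; exact fun e => H.w0 ((ρ γ').map_eq_zero_iff.1 e))
    (γ := γ' * γ⁻¹) (by rw [← hγ, ← hγ', map_mul, map_inv]; simp [LinearEquiv.mul_apply])
  exact ⟨c, c.2, hc⟩

/-- The stabilizer of another conjugate and the image of its extraspecial subgroup. -/
theorem stab_structure {g : G} (hgQ : g * z * g⁻¹ ∈ big z Q) (hgne : g * z * g⁻¹ ≠ z) :
    Cfsg.IsElementaryAbelian 2 (big z Q ⊓ (big z Q).map (MulAut.conj g).toMonoidHom) ∧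
    Nat.card ↥(big z Q ⊓ (big z Q).map (MulAut.conj g).toMonoidHom) = 2 ^ 7 ∧
    rImg z Q g ≤ xImg z Q (g * z * g⁻¹) ∧
    (∀ a ∈ xImg z Q (g * z * g⁻¹), ∀ b ∈ rImg z Q g, a * b * a⁻¹ ∈ rImg z Q g) ∧
    Cfsg.IsElementaryAbelian 2 (rImg z Q g) ∧ Nat.card (rImg z Q g) = 32 ∧
    ∃ _ : ((rImg z Q g).subgroupOf (xImg z Q (g * z * g⁻¹))).Normal,
      Nonempty (↥(xImg z Q (g * z * g⁻¹)) ⧸ (rImg z Q g).subgroupOf (xImg z Q (g * z * g⁻¹)) ≃*
        alternatingGroup (Fin 6)) := by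
  classical
  obtain ⟨γ, hγ⟩ := H.class_of_conj hgQ hgne
  have h0 : p (g * z * g⁻¹) ≠ 0 := by rw [← hγ]; exact fun e => H.w0 ((ρ γ).map_eq_zero_iff.1 e)
  set X := xImg z Q (g * z * g⁻¹) with hX
  set E := rImg z Q g with hE
  have hXmem : ∀ δ, δ ∈ X ↔ ρ (γ⁻¹ * δ * γ) w = w := by
    intro δ
    rw [hX, H.mem_xImg hgQ h0, ← hγ, map_mul, map_mul, map_inv]
    simp only [LinearEquiv.mul_apply]
    refine ⟨fun h => by rw [h]; simp, fun h => ?_⟩
    have h' := congrArg (ρ γ) h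
    simpa using h'
  have hXcard : Nat.card X = 11520 := by
    rw [← H.wstab, ← Nat.card_coe_set_eq]
    exact Nat.card_congr
      { toFun := fun δ => ⟨γ⁻¹ * δ * γ, (hXmem δ).1 δ.2⟩
        invFun := fun e => ⟨γ * e * γ⁻¹, (hXmem _).2 (by
          rw [show γ⁻¹ * (γ * (e : _ ⧸ Q) * γ⁻¹) * γ = e by group]; exact e.2)⟩
        left_inv := fun δ => Subtype.ext (by simp [mul_assoc])
        right_inv := fun e => Subtype.ext (by simp [mul_assoc]) }
  obtain ⟨hEX, hEn⟩ := H.rImg_normal g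
  have hnorm : (E.subgroupOf X).Normal := ⟨fun b hb a => by
    rw [Subgroup.mem_subgroupOf] at hb ⊢
    exact hEn a a.2 b hb⟩
  haveI := hnorm
  obtain ⟨ξ, hξ, hξf⟩ := H.comp
  let ξX : ↥(alternatingGroup (Fin 6)) →* X := MonoidHom.mk' (fun l => ⟨γ * ξ l * γ⁻¹, (hXmem _).2 (by
    rw [show γ⁻¹ * (γ * ξ l * γ⁻¹) * γ = ξ l by group]; exact hξf l)⟩) fun l l' => Subtype.ext (by
      show γ * ξ (l * l') * γ⁻¹ = γ * ξ l * γ⁻¹ * (γ * ξ l' * γ⁻¹)
      simp only [map_mul]; group)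
  have hξX : Function.Injective ξX := fun a b h => hξ (mul_left_cancel (mul_right_cancel
    (show γ * ξ a * γ⁻¹ = γ * ξ b * γ⁻¹ from congrArg Subtype.val h)))
  haveI : Fact (Nat.Prime 2) := ⟨Nat.prime_two⟩
  haveI : IsSimpleGroup ↥(alternatingGroup (Fin 6)) := alternatingGroup.isSimpleGroup (by simp)
  let θ := (QuotientGroup.mk' (E.subgroupOf X)).comp ξX
  have hA6 : Nat.card ↥(alternatingGroup (Fin 6)) = 360 := by
    have h := two_mul_nat_card_alternatingGroup (α := Fin 6)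
    rw [Nat.card_perm, Nat.card_fin, show Nat.factorial 6 = 2 * 360 from rfl] at h
    omega
  have hθ : Function.Injective θ := by
    rw [← MonoidHom.ker_eq_bot_iff]
    refine θ.normal_ker.eq_bot_or_eq_top.resolve_right fun h => ?_
    have hle : Subgroup.map ξX ⊤ ≤ E.subgroupOf X := by
      rw [← h]
      rintro _ ⟨l, hl, rfl⟩
      exact (QuotientGroup.eq_one_iff _).1 (MonoidHom.mem_ker.1 hl)
    have hp : IsPGroup 2 ↥(E.subgroupOf X) := (H.rImg_two g).of_equiv (Subgroup.subgroupOfEquivOfLe hEX).symm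
    obtain ⟨k, hk⟩ := IsPGroup.iff_card.1 (hp.to_le hle)
    rw [Subgroup.card_map_of_injective hξX, Subgroup.card_top, hA6] at hk
    exact absurd (Nat.Prime.dvd_of_dvd_pow Nat.prime_three (hk ▸ (by norm_num : 3 ∣ 360))) (by norm_num)
  have h360 := Nat.card_le_card_of_injective θ hθ
  rw [hA6] at h360
  have hq := Subgroup.card_eq_card_quotient_mul_card_subgroup (E.subgroupOf X)
  rw [hXcard, Nat.card_congr (Subgroup.subgroupOfEquivOfLe hEX).toEquiv] at hq
  have hE32 : Nat.card E ≤ 32 := by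
    nlinarith
  obtain ⟨hab, hsq⟩ := H.inter_props hgne
  have hD : Nat.card ↥(big z Q ⊓ (big z Q).map (MulAut.conj g).toMonoidHom) ≤ 2 ^ 7 := by
    have h := H.abelian_card inf_le_left hab
    rw [H.card] at h
    by_contra hlt
    push Not at hlt
    have := Nat.mul_le_mul hlt hlt
    omega
  have hm := H.card_inter_mul hgQ hgne
  rw [← hE] at hm
  have hE32' : Nat.card E = 32 := by
    by_contra hne
    have := Nat.mul_le_mul hD (show Nat.card E ≤ 31 by omega)
    omega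
  refine ⟨⟨⟨⟨fun a b => Subtype.ext (hab a a.2 b b.2)⟩⟩, fun a ha => by rw [pow_two]; exact hsq a ha⟩,
    by rw [hE32'] at hm; omega, hEX, hEn, ⟨⟨⟨fun a b => ?_⟩⟩, fun a ha => ?_⟩, hE32', hnorm, ?_⟩
  · obtain ⟨_, ⟨c, hc, rfl⟩⟩ := a
    obtain ⟨_, ⟨c', hc', rfl⟩⟩ := b
    refine Subtype.ext ?_
    show QuotientGroup.mk' Q c * QuotientGroup.mk' Q c' = QuotientGroup.mk' Q c' * QuotientGroup.mk' Q c
    rcases H.conjQ_comm hc.1 hc'.1 with h | h
    · rw [← map_mul, ← map_mul]; exact congrArg _ (Subtype.ext h)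
    · have he : c * c' = c' * c * ⟨g * z * g⁻¹, H.le hgQ⟩ := Subtype.ext h
      rw [← map_mul, ← map_mul, he, map_mul, (H.mk_one ⟨g * z * g⁻¹, H.le hgQ⟩).2 hgQ, mul_one]
  · obtain ⟨c, hc, rfl⟩ := ha
    rw [← map_pow, H.mk_one, Subgroup.coe_pow, pow_two]
    have hm' : g⁻¹ * (c : G) * g ∈ big z Q := mem_conjQ.1 hc.1
    rcases H.S.sq _ hm' with h | h
    · rw [show (c : G) * c = g * ((g⁻¹ * (c : G) * g) * (g⁻¹ * (c : G) * g)) * g⁻¹ by group, h]
      rw [mul_one, mul_inv_cancel]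
      exact one_mem _
    · rw [show (c : G) * c = g * ((g⁻¹ * (c : G) * g) * (g⁻¹ * (c : G) * g)) * g⁻¹ by group, h]
      exact hgQ
  · refine ⟨(MulEquiv.ofBijective θ ⟨hθ, ?_⟩).symm⟩
    refine (Nat.bijective_iff_injective_and_card θ).2 ⟨hθ, ?_⟩ |>.2
    rw [hA6]
    rw [hE32'] at hq
    omega

end Hyp

theorem mem_big {z s : G} {Q : Subgroup (Subgroup.centralizer ({z} : Set G))}
    (h : ∃ hsc : s ∈ Subgroup.centralizer ({z} : Set G), (⟨s, hsc⟩ : Subgroup.centralizer ({z} : Set G)) ∈ Q) :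
    s ∈ big z Q := ⟨⟨s, h.1⟩, h.2, rfl⟩

end CfsgLib.LargeFischer
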