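import Cfsg.Agent.Lib.LargeFischer.Frame

/-!
The two orbits on singular vectors and their stabilizers.
-/

set_option autoImplicit false
set_option linter.unusedSectionVars false
set_option linter.style.haveILetI false

namespace CfsgLib.LargeFischer

/-- The type from the weight and the class. -/
def kd (c : ℕ) (σ : ZMod 3) : Fin 6 :=
  if c = 2 then 0 else if c = 4 then 1 else if c = 6 then (if σ = 0 then 2 else if σ = 1 then 3 else 4) else 5

/-- The type of a coordinate vector: `0`, `1` for weight two, four; `2`, `3`, `4` for the classes of weight six. -/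
def kind (f : Fin 6 → Option (ZMod 3)) : Fin 6 := kd (supp f).card (clsum f)

theorem kd_eq : ∀ c c' : Fin 7, ∀ σ σ' : ZMod 3, kd c σ = kd c' σ' → kd c σ ≠ 5 →
    (c : ℕ) = c' ∧ ((c : ℕ) = 2 ∨ (c : ℕ) = 4 ∨ (c : ℕ) = 6) ∧ ((c : ℕ) = 6 → σ = σ') := by
  decide +kernel

theorem kd_singular : ∀ c : Fin 7, ∀ σ : ZMod 3, (((c : ℕ) : ZMod 2) = 0 ∧ (c : ℕ) ≠ 0) ↔ kd c σ ≠ 5 := by
  decide +kernel

theorem supp_card_lt (f : Fin 6 → Option (ZMod 3)) : (supp f).card < 7 :=
  Nat.lt_succ_of_le ((Finset.card_le_univ _).trans_eq (Fintype.card_fin 6))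

/-- The number of vectors of each type. -/
def cnt : Fin 6 → ℕ := ![135, 1215, 243, 243, 243, 0]

theorem kind_count : ∀ k : Fin 6, k ≠ 5 → (Finset.univ.filter fun f => kind f = k).card = cnt k := by
  decide +kernel

theorem kind_eq {f g : Fin 6 → Option (ZMod 3)} (h : kind f = kind g) (h5 : kind f ≠ 5) :
    (supp f).card = (supp g).card ∧ ((supp f).card = 2 ∨ (supp f).card = 4 ∨ (supp f).card = 6) ∧
      ((supp f).card = 6 → clsum f = clsum g) :=
  kd_eq ⟨_, supp_card_lt f⟩ ⟨_, supp_card_lt g⟩ _ _ h h5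

theorem singular_iff (f : Fin 6 → Option (ZMod 3)) :
    (((supp f).card : ZMod 2) = 0 ∧ f ≠ fun _ => none) ↔ kind f ≠ 5 := by
  have h0 : f = (fun _ => none) ↔ (supp f).card = 0 := by
    rw [Finset.card_eq_zero, supp, Finset.filter_eq_empty_iff]
    refine ⟨fun h i _ => by simp [h], fun h => funext fun i => ?_⟩
    simpa using h (Finset.mem_univ i)
  rw [ne_eq, h0]
  exact kd_singular ⟨_, supp_card_lt f⟩ (clsum f)

theorem supp_eq_univ {f : Fin 6 → Option (ZMod 3)} (h : (supp f).card = 6) : supp f = Finset.univ :=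
  Finset.eq_univ_of_card _ (h.trans (Fintype.card_fin 6).symm)

/-- Representatives of the classes of full support. -/
def fullRep (c : ZMod 3) : Fin 6 → Option (ZMod 3) := fun i => some (if i = 0 then c else 0)

theorem supp_fullRep (c : ZMod 3) : supp (fullRep c) = Finset.univ := by
  ext i; simp [supp, fullRep]

theorem clsum_fullRep (c : ZMod 3) : clsum (fullRep c) = c := by simp [clsum, fullRep]

theorem exists_even_move {s s' : Finset (Fin 6)} (h : s.card = s'.card) (h2 : 2 ≤ s'.card) :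
    ∃ p ∈ alternatingGroup (Fin 6), s.image p = s' := by
  classical
  obtain ⟨p, hp⟩ : ∃ p : Equiv.Perm (Fin 6), s.image p = s' := by
    refine ⟨(Finset.equivOfCardEq h).extendSubtype, ?_⟩
    refine Finset.eq_of_subset_of_card_le (fun x hx => ?_) ?_
    · obtain ⟨y, hy, rfl⟩ := Finset.mem_image.1 hx
      exact Equiv.extendSubtype_mem _ y hy
    · rw [Finset.card_image_of_injective _ (Equiv.injective _), h]
  by_cases hs : p ∈ alternatingGroup (Fin 6)
  · exact ⟨p, hs, hp⟩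
  obtain ⟨a, ha, b, hb, hab⟩ := Finset.one_lt_card.1 (show 1 < s'.card by omega)
  refine ⟨Equiv.swap a b * p, ?_, ?_⟩
  · rw [Equiv.Perm.mem_alternatingGroup] at hs ⊢
    rw [map_mul, Equiv.Perm.sign_swap hab]
    rcases Int.units_eq_one_or (Equiv.Perm.sign p) with e | e
    · exact absurd e hs
    · rw [e]; rfl
  · rw [Equiv.Perm.coe_mul, ← Finset.image_image, hp]
    refine Finset.eq_of_subset_of_card_le (fun x hx => ?_) ?_
    · obtain ⟨y, hy, rfl⟩ := Finset.mem_image.1 hx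
      rw [Equiv.swap_apply_def]
      split_ifs <;> assumption
    · rw [Finset.card_image_of_injective _ (Equiv.injective _)]

theorem opt_none {f : Fin 6 → Option (ZMod 3)} {i : Fin 6} (h : i ∉ supp f) : f i = none := by
  simpa [supp] using h

/-- The representative of weight two. -/
def pairVec : Fin 6 → Option (ZMod 3) := fun i => if i = 0 ∨ i = 1 then some 0 else none

namespace Frame

variable {Γ : Type*} [Group Γ] [Finite Γ] {V : Type*} [AddCommGroup V] [Finite V] [DistribMulAction Γ V]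
  {L : Type*} [Group L] [IsSimpleGroup L]
  {q : V → ZMod 2} {A T : Subgroup Γ} {ω : Γ} {π : T →* L} (C : Frame q A T ω π) (R : Raw q A T ω π)
include C R

theorem exists_A {f g : Fin 6 → Option (ZMod 3)} (hs : supp f = supp g)
    (h : supp f ≠ Finset.univ ∨ clsum f = clsum g) : ∃ a ∈ A, a • C.Φ f = C.Φ g := by
  obtain ⟨x, hx, rfl⟩ := exists_shift hs h
  obtain ⟨a, ha, rfl⟩ := C.dsurj x hx
  exact ⟨a, ha, C.smulA a ha f⟩

theorem same_orbit {f g : Fin 6 → Option (ZMod 3)} (h : kind f = kind g) (h5 : kind f ≠ 5) :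
    ∃ γ : Γ, γ • C.Φ f = C.Φ g := by
  obtain ⟨hc, hcases, hcl⟩ := kind_eq h h5
  by_cases h6 : (supp f).card = 6
  · obtain ⟨a, -, ha⟩ := C.exists_A R ((supp_eq_univ h6).trans (supp_eq_univ (hc ▸ h6)).symm)
      (Or.inr (hcl h6))
    exact ⟨a, ha⟩
  obtain ⟨p, hp, hpi⟩ := exists_even_move hc (by omega)
  obtain ⟨l, hl⟩ := MonoidHom.mem_range.1 (C.ρ_range.symm ▸ hp : p ∈ C.ρ.range)
  obtain ⟨t, rfl⟩ := R.π_surj l
  have h1 := C.smulT t f
  rw [hl, hpi] at h1
  obtain ⟨a, -, ha⟩ := C.exists_A R h1 (Or.inl fun e => h6 (by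
    rw [h1] at e; rw [hc, e, Finset.card_univ, Fintype.card_fin]))
  rw [Equiv.apply_symm_apply, ← mul_smul] at ha
  exact ⟨_, ha⟩

theorem supp_T_full (t : T) {f : Fin 6 → Option (ZMod 3)} (hf : supp f = Finset.univ) :
    supp (C.Φ.symm ((t : Γ) • C.Φ f)) = Finset.univ := by
  rw [C.smulT, hf, Finset.image_univ_equiv]

theorem clsum_T (t : T) {f : Fin 6 → Option (ZMod 3)} (hf : supp f = Finset.univ) :
    clsum (C.Φ.symm ((t : Γ) • C.Φ f)) = clsum f := by
  classical
  let act : T → ZMod 3 → ZMod 3 := fun s c => clsum (C.Φ.symm ((s : Γ) • C.Φ (fullRep c)))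
  have hwell : ∀ (s : T) (g : Fin 6 → Option (ZMod 3)), supp g = Finset.univ →
      clsum (C.Φ.symm ((s : Γ) • C.Φ g)) = act s (clsum g) := by
    intro s g hg
    obtain ⟨a, ha, hag⟩ := C.exists_A R (f := fullRep (clsum g)) (g := g)
      ((supp_fullRep _).trans hg.symm) (Or.inr (clsum_fullRep _))
    rw [← hag, ← mul_smul, show (s : Γ) * a = (s : Γ) * a * (s : Γ)⁻¹ * s by group, mul_smul]
    have ha' := R.normA s s.2 a ha
    obtain ⟨g', hg'⟩ := C.Φ.surjective ((s : Γ) • C.Φ (fullRep (clsum g)))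
    have hs' : supp g' = Finset.univ := by
      have := C.supp_T_full R s (supp_fullRep (clsum g))
      rwa [← hg', Equiv.symm_apply_apply] at this
    rw [← hg', C.smulA _ ha', Equiv.symm_apply_apply, clsum_shift hs' (C.dsum _ ha')]
    simp only [act]
    rw [← hg', Equiv.symm_apply_apply]
  letI : MulAction T (ZMod 3) :=
    { smul := act
      one_smul := fun c => by
        show act 1 c = c
        simp [act, clsum_fullRep]
      mul_smul := fun s s' c => by
        show act (s * s') c = act s (act s' c)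
        have h1 := hwell s _ (C.supp_T_full R s' (supp_fullRep c))
        rw [Equiv.apply_symm_apply, ← mul_smul] at h1
        exact h1 }
  have hω : ∀ c : ZMod 3, (⟨ω, R.ωT⟩ : T) • c = c := by
    intro c
    show clsum (C.Φ.symm (ω • C.Φ (fullRep c))) = c
    rw [C.smulA ω R.ωA, Equiv.symm_apply_apply, clsum_shift (supp_fullRep c) (C.dsum _ R.ωA), clsum_fullRep]
  rw [hwell t f hf]
  exact R.small (by rw [Nat.card_zmod]; norm_num) hω t (clsum f)

theorem unique_A {g : Fin 6 → Option (ZMod 3)} (hg : supp g = Finset.univ) {a b : Γ} (ha : a ∈ A) (hb : b ∈ A)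
    (h : a • C.Φ g = b • C.Φ g) : a = b := by
  rw [C.smulA a ha, C.smulA b hb] at h
  have h' := C.Φ.injective h
  have hd : C.d a = C.d b := by
    funext i
    have hi : i ∈ supp g := hg.symm ▸ Finset.mem_univ i
    simp only [supp, Finset.mem_filter, Finset.mem_univ, true_and] at hi
    obtain ⟨x, hx⟩ := Option.isSome_iff_exists.1 hi
    have := congrFun h' i
    simpa [shift, hx] using this
  have h1 : (a⁻¹ * b) • C.Φ (fullRep 0) = C.Φ (fullRep 0) := by
    rw [mul_smul, inv_smul_eq_iff, C.smulA a ha, C.smulA b hb, hd]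
  have hm : a⁻¹ * b ∈ A := mul_mem (inv_mem ha) hb
  rw [C.smulA _ hm] at h1
  have h1' := C.Φ.injective h1
  have hd0 : C.d (a⁻¹ * b) = 0 := by
    funext i
    have := congrFun h1' i
    simpa [shift, fullRep] using this
  exact inv_mul_eq_one.1 (C.dinj _ hm hd0)

/-- The complement fixing a vector of full support. -/
theorem exists_xi (c : ZMod 3) : ∃ ξ : ↥(alternatingGroup (Fin 6)) →* Γ,
    Function.Injective ξ ∧ ∀ l, ξ l • C.Φ (fullRep c) = C.Φ (fullRep c) := by
  classical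
  set w := C.Φ (fullRep c) with hw
  let P : L → Γ → Prop := fun l γ => (∃ a ∈ A, ∃ t : T, π t = l ∧ γ = a * t) ∧ γ • w = w
  have hex : ∀ l, ∃ γ, P l γ := by
    intro l
    obtain ⟨t, rfl⟩ := R.π_surj l
    obtain ⟨g, hg⟩ := C.Φ.surjective ((t : Γ) • w)
    have hgs : C.Φ.symm ((t : Γ) • w) = g := by rw [← hg, Equiv.symm_apply_apply]
    obtain ⟨a, ha, hag⟩ := C.exists_A R (f := g) (g := fullRep c)
      (by rw [← hgs, hw, C.supp_T_full R t (supp_fullRep c), supp_fullRep])
      (Or.inr (by rw [← hgs, hw, C.clsum_T R t (supp_fullRep c)]))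
    refine ⟨a * t, ⟨a, ha, t, rfl, rfl⟩, ?_⟩
    rw [mul_smul, ← hg, hag]
  have huniq : ∀ l γ γ', P l γ → P l γ' → γ = γ' := by
    rintro l γ γ' ⟨⟨a, ha, t, ht, rfl⟩, h⟩ ⟨⟨a', ha', t', ht', rfl⟩, h'⟩
    have hz : ((t' * t⁻¹ : T) : Γ) ∈ Subgroup.zpowers ω := (R.π_ker _).1 (by
      rw [map_mul, map_inv, ht, ht', mul_inv_cancel])
    have hb : a' * ((t' * t⁻¹ : T) : Γ) ∈ A := mul_mem ha' (R.zω_le hz)
    have e : a' * (t' : Γ) = a' * ((t' * t⁻¹ : T) : Γ) * t := by
      simp [mul_assoc]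
    rw [e] at h' ⊢
    obtain ⟨g, hg⟩ := C.Φ.surjective ((t : Γ) • w)
    have hgs : supp g = Finset.univ := by
      have := C.supp_T_full R t (supp_fullRep c)
      rwa [← hw, ← hg, Equiv.symm_apply_apply] at this
    rw [C.unique_A R hgs ha hb (by rw [hg, ← mul_smul, ← mul_smul, h, h'])]
  choose ξ hξ using hex
  let ξ' : L →* Γ := MonoidHom.mk' ξ fun l l' => by
    refine (huniq (l * l') _ _ ⟨?_, ?_⟩ (hξ _)).symm
    · obtain ⟨a, ha, t, ht, e⟩ := (hξ l).1
      obtain ⟨a', ha', t', ht', e'⟩ := (hξ l').1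
      refine ⟨a * ((t : Γ) * a' * (t : Γ)⁻¹), mul_mem ha (R.normA t t.2 a' ha'), t * t', by rw [map_mul, ht, ht'], ?_⟩
      rw [e, e', Subgroup.coe_mul]; group
    · rw [mul_smul, (hξ l').2, (hξ l).2]
  have hinj : Function.Injective ξ' := by
    rw [injective_iff_map_eq_one]
    intro l hl
    obtain ⟨a, ha, t, rfl, e⟩ := (hξ l).1
    have h1 : ξ (π t) = 1 := hl
    rw [h1] at e
    rw [R.π_ker]
    refine R.inter t t.2 ?_
    rw [eq_inv_of_mul_eq_one_right e.symm]
    exact inv_mem ha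
  let eL : L ≃* ↥(alternatingGroup (Fin 6)) :=
    (MonoidHom.ofInjective C.ρ_inj).trans (MulEquiv.subgroupCongr C.ρ_range)
  exact ⟨ξ'.comp eL.symm.toMonoidHom, hinj.comp eL.symm.injective, fun l => (hξ _).2⟩

theorem small_stable {f : Fin 6 → Option (ZMod 3)} (hf : supp f = {0, 1}) (D : AddSubgroup V)
    (hinv : ∀ γ : Γ, γ • C.Φ f = C.Φ f → ∀ d ∈ D, γ • d ∈ D) (hts : ∀ d ∈ D, q d = 0) :
    Nat.card D ≤ 4 := by
  classical
  have hA : ∀ x : Fin 6 → ZMod 3, ∑ i, x i = 0 → x 0 = 0 → x 1 = 0 → ∀ g, C.Φ g ∈ D →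
      C.Φ (fun i => if x i = 0 then none else (g i).map fun j => j + 2 * x i) ∈ D := by
    intro x hx h0 h1 g hg
    obtain ⟨a, ha, rfl⟩ := C.dsurj x hx
    have hfix : a • C.Φ f = C.Φ f := by
      rw [C.smulA a ha]
      congr 1
      funext i
      by_cases hi : i ∈ supp f
      · rw [hf, Finset.mem_insert, Finset.mem_singleton] at hi
        rcases hi with rfl | rfl <;> simp [shift, h0, h1]
      · simp [shift, opt_none hi]
    rw [← C.flip g a ha]
    exact add_mem (hinv a hfix _ hg) hg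
  have hsupp : ∀ g, C.Φ g ∈ D → supp g ⊆ {0, 1} := by
    intro g hg i hi
    by_contra hni
    have hdec : ∀ i : Fin 6, i ∉ ({0, 1} : Finset (Fin 6)) → ∃ k l : Fin 6, k ≠ i ∧ l ≠ i ∧ k ≠ l ∧
        k ≠ 0 ∧ k ≠ 1 ∧ l ≠ 0 ∧ l ≠ 1 ∧ i ≠ 0 ∧ i ≠ 1 := by decide
    obtain ⟨k, l, hki, hli, hkl, k0, k1, l0, l1, i0, i1⟩ := hdec i hni
    let x : Fin 6 → Fin 6 → ZMod 3 := fun k j => if j = i then 1 else if j = k then 2 else 0
    have hx : ∀ k, k ≠ i → ∑ j, x k j = 0 := by
      intro k hk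
      have : ∀ j, x k j = (if j = i then 1 else 0) + (if j = k then 2 else 0) := fun j => by
        simp only [x]; split_ifs with a b <;> simp_all
      simp only [this, Finset.sum_add_distrib, Finset.sum_ite_eq', Finset.mem_univ, if_true]
      rfl
    have h1 := hA (x k) (hx k hki) (by simp [x, i0.symm, k0.symm]) (by simp [x, i1.symm, k1.symm]) g hg
    have h2 := hA (x l) (hx l hli) (by simp [x, i0.symm, l0.symm]) (by simp [x, i1.symm, l1.symm]) _ h1
    have h3 := hts _ h2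
    rw [C.q_eq] at h3
    have hsi : supp (fun j => if x l j = 0 then none else
        ((if x k j = 0 then none else (g j).map fun y => y + 2 * x k j).map fun y => y + 2 * x l j)) = {i} := by
      ext j
      simp only [supp, Finset.mem_filter, Finset.mem_univ, true_and, Finset.mem_singleton]
      simp only [supp, Finset.mem_filter, Finset.mem_univ, true_and] at hi
      by_cases hj : j = i
      · subst hj
        simp [x, hi]
      · simp only [x, hj, if_false, iff_false]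
        by_cases hjl : j = l
        · subst hjl; simp [hkl.symm]
        · simp [hjl]
    rw [hsi, Finset.card_singleton] at h3
    exact absurd h3 (by decide)
  have hpair : ∀ g, C.Φ g ∈ D → g 0 = none → g = fun _ => none := by
    intro g hg h0
    have hs := hsupp g hg
    have h0' : (0 : Fin 6) ∉ supp g := by simp [supp, h0]
    have h3 := hts _ hg
    rw [C.q_eq] at h3
    funext i
    refine opt_none fun hi => ?_
    have hsing : supp g = {1} := by
      refine Finset.eq_singleton_iff_unique_mem.2 ⟨?_, fun j hj => ?_⟩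
      · have := hs hi
        rw [Finset.mem_insert, Finset.mem_singleton] at this
        rcases this with rfl | rfl
        · exact absurd hi h0'
        · exact hi
      · have := hs hj
        rw [Finset.mem_insert, Finset.mem_singleton] at this
        exact this.resolve_left fun e => h0' (e ▸ hj)
    rw [hsing, Finset.card_singleton] at h3
    exact absurd h3 (by decide)
  let m : D → Option (ZMod 3) := fun d => C.Φ.symm (d : V) 0
  have hm : Function.Injective m := by
    intro d d' h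
    obtain ⟨g, hg⟩ := C.Φ.surjective (d : V)
    obtain ⟨g', hg'⟩ := C.Φ.surjective (d' : V)
    have hgD : C.Φ g ∈ D := hg ▸ d.2
    have hgD' : C.Φ g' ∈ D := hg' ▸ d'.2
    simp only [m, ← hg, ← hg', Equiv.symm_apply_apply] at h
    refine Subtype.ext ?_
    rw [← hg, ← hg']
    by_contra hne
    have hsum : C.Φ g + C.Φ g' ∈ D := add_mem hgD hgD'
    obtain ⟨r, hr⟩ := C.Φ.surjective (C.Φ g + C.Φ g')
    have hr0 : r 0 = none := by
      have hsp : ∀ p, C.Φ p ∈ D → C.Φ p = C.Φ (fun i => if i = 0 then p 0 else none) +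
          C.Φ (fun i => if i = 1 then p 1 else none) := by
        intro p hp
        rw [C.add_disj _ _ fun i => by by_cases hi : i = 0 <;> simp [hi]]
        congr 1
        funext i
        by_cases hi : i = 0
        · subst hi; simp
        by_cases hi1 : i = 1
        · subst hi1; simp
        · have : i ∉ supp p := fun h' => by
            have := hsupp p hp h'
            simp [hi, hi1] at this
          simp [hi, hi1, opt_none this]
      have hr1 : C.Φ r = C.Φ (fun i => if i = 1 then g 1 else none) + C.Φ (fun i => if i = 1 then g' 1 else none) := by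
        rw [hr, hsp g hgD, hsp g' hgD', h]
        set X := C.Φ (fun i => if i = 0 then g' 0 else none)
        set Y := C.Φ (fun i => if i = 1 then g 1 else none)
        set Z := C.Φ (fun i => if i = 1 then g' 1 else none)
        rw [show X + Y + (X + Z) = (X + X) + (Y + Z) by abel, R.two, zero_add]
      rcases hg1 : g 1 with _ | j <;> rcases hg1' : g' 1 with _ | j'
      · rw [hg1, hg1'] at hr1
        simp only [ite_self, C.zero, add_zero] at hr1
        rw [C.Φ.injective (hr1.trans C.zero.symm)]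
      · rw [hg1] at hr1
        simp only [ite_self, C.zero, zero_add] at hr1
        rw [C.Φ.injective hr1]; simp
      · rw [hg1'] at hr1
        simp only [ite_self, C.zero, add_zero] at hr1
        rw [C.Φ.injective hr1]; simp
      · by_cases hj : j = j'
        · subst hj
          rw [hg1, hg1', R.two] at hr1
          rw [C.Φ.injective (hr1.trans C.zero.symm)]
        · let x : Fin 6 → ZMod 3 := fun i => if i = 1 then j' - j else if i = 2 then j - j' else 0
          obtain ⟨a, ha, had⟩ := C.dsurj x (by simp [x, Fin.sum_univ_six])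
          have h5 := C.flip (fun i => if i = 1 then some j else none) a ha
          have h6 : a • C.Φ (fun i => if i = 1 then some j else none) =
              C.Φ (fun i => if i = 1 then some j' else none) := by
            rw [C.smulA a ha, had]
            congr 1
            funext i
            by_cases hi : i = 1 <;> simp [shift, x, hi]
          rw [h6, add_comm, ← hg1'] at h5
          rw [hg1] at hr1
          rw [C.Φ.injective (hr1.trans h5), had]
          simp [x]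
    have hrz := hpair r (hr ▸ hsum) hr0
    rw [hrz, C.zero] at hr
    exact hne (by rw [eq_neg_of_add_eq_zero_left hr.symm, R.two'])
  have h4 := Nat.card_le_card_of_injective m hm
  rw [Nat.card_eq_fintype_card (α := Option (ZMod 3)), Fintype.card_option, ZMod.card] at h4
  exact h4

/-- The set of coordinates of an orbit. -/
noncomputable def orbSet (_R : Raw q A T ω π) (f : Fin 6 → Option (ZMod 3)) : Finset (Fin 6 → Option (ZMod 3)) := by
  classical
  exact Finset.univ.filter fun g => ∃ γ : Γ, γ • C.Φ f = C.Φ g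

theorem mem_orbSet {f g : Fin 6 → Option (ZMod 3)} : g ∈ C.orbSet R f ↔ ∃ γ : Γ, γ • C.Φ f = C.Φ g := by
  simp [orbSet]

theorem orbit_data {f : Fin 6 → Option (ZMod 3)} (hf : kind f ≠ 5) :
    ∃ S : Finset (Fin 6), 5 ∉ S ∧ kind f ∈ S ∧ (∀ g, g ∈ C.orbSet R f ↔ kind g ∈ S) ∧
      7 ∣ ∑ k ∈ S, cnt k ∧ (∑ k ∈ S, cnt k) ∣ 19595520 ∧
      Nat.card (MulAction.orbit Γ (C.Φ f)) = ∑ k ∈ S, cnt k := by
  classical
  have hsing : ∀ g ∈ C.orbSet R f, kind g ≠ 5 := by
    intro g hg
    obtain ⟨γ, hγ⟩ := (C.mem_orbSet R).1 hg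
    obtain ⟨h1, h2⟩ := (singular_iff f).2 hf
    refine (singular_iff g).1 ⟨?_, fun e => h2 ?_⟩
    · rw [← C.q_eq, ← hγ, R.inv, C.q_eq, h1]
    · rw [e, C.zero] at hγ
      exact C.Φ.injective ((by simpa using congrArg (γ⁻¹ • ·) hγ : C.Φ f = 0).trans C.zero.symm)
  let S := (C.orbSet R f).image kind
  have hiff : ∀ g, g ∈ C.orbSet R f ↔ kind g ∈ S := by
    refine fun g => ⟨fun h => Finset.mem_image_of_mem _ h, fun h => ?_⟩
    obtain ⟨g', hg', he⟩ := Finset.mem_image.1 h
    obtain ⟨γ, hγ⟩ := (C.mem_orbSet R).1 hg'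
    obtain ⟨δ, hδ⟩ := C.same_orbit R he (hsing g' hg')
    exact (C.mem_orbSet R).2 ⟨δ * γ, by rw [mul_smul, hγ, hδ]⟩
  have h5 : (5 : Fin 6) ∉ S := fun h => by
    obtain ⟨g, hg, he⟩ := Finset.mem_image.1 h
    exact hsing g hg he
  have hcard : (C.orbSet R f).card = ∑ k ∈ S, cnt k := by
    rw [Finset.card_eq_sum_card_fiberwise (t := S) (f := kind) fun g hg => (hiff g).1 hg]
    refine Finset.sum_congr rfl fun k hk => ?_
    rw [← kind_count k fun e => h5 (e ▸ hk)]
    congr 1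
    ext g
    simp only [Finset.mem_filter, Finset.mem_univ, true_and, hiff]
    exact ⟨fun h => h.2, fun h => ⟨h ▸ hk, h⟩⟩
  have horb : MulAction.orbit Γ (C.Φ f) = C.Φ '' ↑(C.orbSet R f) := by
    ext v
    simp only [Set.mem_image, Finset.mem_coe, C.mem_orbSet R, MulAction.mem_orbit_iff]
    exact ⟨fun ⟨γ, h⟩ => ⟨C.Φ.symm v, ⟨γ, by rw [h, Equiv.apply_symm_apply]⟩, Equiv.apply_symm_apply _ _⟩,
      fun ⟨g, ⟨γ, h⟩, e⟩ => ⟨γ, h.trans e⟩⟩
  have hn : Nat.card (MulAction.orbit Γ (C.Φ f)) = ∑ k ∈ S, cnt k := by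
    rw [Nat.card_coe_set_eq, horb, Set.ncard_image_of_injective _ C.Φ.injective, Set.ncard_coe_finset, hcard]
  refine ⟨S, h5, (hiff f).1 ((C.mem_orbSet R).2 ⟨1, one_smul _ _⟩), hiff, ?_, ?_, hn⟩
  · obtain ⟨x, hx7, hfpf⟩ := R.seven_fpf
    rw [← hcard]
    have h7 := prime_dvd_card (Γ := Γ) (by norm_num) hx7 ((C.orbSet R f).map C.Φ.toEmbedding) (fun v hv => by
      rw [Finset.mem_map_equiv] at hv ⊢
      obtain ⟨γ, hγ⟩ := (C.mem_orbSet R).1 hv
      rw [Equiv.apply_symm_apply] at hγ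
      exact (C.mem_orbSet R).2 ⟨x * γ, by rw [mul_smul, hγ, Equiv.apply_symm_apply]⟩) (fun v hv e => by
      rw [Finset.mem_map_equiv] at hv
      obtain ⟨h1, h2⟩ := (singular_iff _).2 (hsing _ hv)
      refine h2 (C.Φ.injective ?_)
      rw [Equiv.apply_symm_apply, C.zero]
      exact hfpf v e)
    rwa [Finset.card_map] at h7
  · rw [← hn, show (19595520 : ℕ) = Nat.card Γ by rw [R.cardΓ], Nat.card_coe_set_eq, ← MulAction.index_stabilizer]
    exact Subgroup.index_dvd_card _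

end Frame

theorem small_sum : ∀ S : Finset (Fin 6), (0 : Fin 6) ∈ S → (5 : Fin 6) ∉ S → 7 ∣ ∑ k ∈ S, cnt k →
    (∑ k ∈ S, cnt k) ∣ 19595520 → (1 : Fin 6) ∉ S ∧ ∑ k ∈ S, cnt k = 378 := by
  decide +kernel

theorem big_sum : ∀ S : Finset (Fin 6), (1 : Fin 6) ∈ S → (0 : Fin 6) ∉ S → (5 : Fin 6) ∉ S →
    7 ∣ ∑ k ∈ S, cnt k → (∑ k ∈ S, cnt k) ∣ 19595520 →
    ∑ k ∈ S, cnt k = 1701 ∧ ((2 : Fin 6) ∈ S ∨ (3 : Fin 6) ∈ S ∨ (4 : Fin 6) ∈ S) := by
  decide +kernel

theorem cover_sum : ∀ S S' : Finset (Fin 6), Disjoint S S' → (5 : Fin 6) ∉ S → (5 : Fin 6) ∉ S' →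
    ∑ k ∈ S, cnt k = 378 → ∑ k ∈ S', cnt k = 1701 → ∀ k : Fin 6, k ≠ 5 → k ∈ S ∨ k ∈ S' := by
  decide +kernel

namespace Raw

variable {Γ : Type*} [Group Γ] [Finite Γ] {V : Type*} [AddCommGroup V] [Finite V] [DistribMulAction Γ V]
  {L : Type*} [Group L] [IsSimpleGroup L]
  {q : V → ZMod 2} {A T : Subgroup Γ} {ω : Γ} {π : T →* L} (R : Raw q A T ω π)
include R

/-- The two orbits and their stabilizers. -/
theorem orbits : ∃ u w : V, q u = 0 ∧ u ≠ 0 ∧ q w = 0 ∧ w ≠ 0 ∧ (¬ ∃ γ : Γ, γ • u = w) ∧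
    (∀ v, q v = 0 → v ≠ 0 → (∃ γ : Γ, γ • u = v) ∨ ∃ γ : Γ, γ • w = v) ∧
    (∀ D : AddSubgroup V, (∀ γ : Γ, γ • u = u → ∀ d ∈ D, γ • d ∈ D) → (∀ d ∈ D, q d = 0) → Nat.card D ≤ 4) ∧
    Nat.card (MulAction.stabilizer Γ w) = 11520 ∧
    (∃ (C : Frame q A T ω π) (c : ZMod 3), u = C.Φ pairVec ∧ w = C.Φ (fullRep c)) ∧
    ∃ ξ : ↥(alternatingGroup (Fin 6)) →* Γ, Function.Injective ξ ∧ ∀ l, ξ l • w = w := by
  classical
  obtain ⟨C⟩ := R.exists_frame
  let f2 : Fin 6 → Option (ZMod 3) := fun i => if i = 0 ∨ i = 1 then some 0 else none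
  let f4 : Fin 6 → Option (ZMod 3) := fun i => if i = 4 ∨ i = 5 then none else some 0
  have k2 : kind f2 = 0 := by simp only [f2]; decide
  have k4 : kind f4 = 1 := by simp only [f4]; decide
  obtain ⟨S, hS5, hS0, hSiff, hS7, hSd, hSn⟩ := C.orbit_data R (f := f2) (by rw [k2]; decide)
  obtain ⟨S', hS5', hS1', hSiff', hS7', hSd', hSn'⟩ := C.orbit_data R (f := f4) (by rw [k4]; decide)
  rw [k2] at hS0
  rw [k4] at hS1'
  obtain ⟨hS1, hS378⟩ := small_sum S hS0 hS5 hS7 hSd
  have hdis : Disjoint S S' := by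
    rw [Finset.disjoint_left]
    intro k hk hk'
    obtain ⟨g, rfl⟩ : ∃ g, kind g = k := by
      have hc := kind_count k (fun e => hS5 (e ▸ hk))
      have hpos : 0 < (Finset.univ.filter fun f => kind f = k).card := by
        rw [hc]
        have : k ≠ 5 := fun e => hS5 (e ▸ hk)
        fin_cases k <;> first | (exact absurd rfl this) | decide
      obtain ⟨g, hg⟩ := Finset.card_pos.1 hpos
      exact ⟨g, (Finset.mem_filter.1 hg).2⟩
    obtain ⟨γ, hγ⟩ := (C.mem_orbSet R).1 ((hSiff g).2 hk)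
    obtain ⟨δ, hδ⟩ := (C.mem_orbSet R).1 ((hSiff' g).2 hk')
    refine hS1 (k4 ▸ (hSiff f4).1 ((C.mem_orbSet R).2 ⟨δ⁻¹ * γ, ?_⟩))
    rw [mul_smul, hγ, inv_smul_eq_iff, hδ]
  obtain ⟨hS1701, hfull⟩ := big_sum S' hS1' (Finset.disjoint_left.1 hdis hS0) hS5' hS7' hSd'
  obtain ⟨c, hc⟩ : ∃ c : ZMod 3, kind (fullRep c) ∈ S' := by
    rcases hfull with h | h | h
    · exact ⟨0, (show kind (fullRep 0) = 2 by decide) ▸ h⟩
    · exact ⟨1, (show kind (fullRep 1) = 3 by decide) ▸ h⟩
    · exact ⟨2, (show kind (fullRep 2) = 4 by decide) ▸ h⟩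
  obtain ⟨δ, hδ⟩ := (C.mem_orbSet R).1 ((hSiff' _).2 hc)
  have hsing : ∀ g, kind g ≠ 5 → q (C.Φ g) = 0 ∧ C.Φ g ≠ 0 := fun g hg => by
    obtain ⟨h1, h2⟩ := (singular_iff g).2 hg
    exact ⟨by rw [C.q_eq, h1], fun e => h2 (C.Φ.injective (e.trans C.zero.symm))⟩
  obtain ⟨ξ, hξi, hξf⟩ := C.exists_xi R c
  have hc5 : kind (fullRep c) ≠ 5 := fun e => hS5' (e ▸ hc)
  refine ⟨C.Φ f2, C.Φ (fullRep c), (hsing f2 (by rw [k2]; decide)).1, (hsing f2 (by rw [k2]; decide)).2,
    (hsing _ hc5).1, (hsing _ hc5).2, ?_, ?_,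
    fun D h1 h2 => C.small_stable R (f := f2) (by simp only [f2]; decide) D h1 h2, ?_, ⟨C, c, rfl, rfl⟩, ξ, hξi, hξf⟩
  · rintro ⟨γ, hγ⟩
    exact Finset.disjoint_left.1 hdis ((hSiff _).1 ((C.mem_orbSet R).2 ⟨γ, hγ⟩)) hc
  · intro v hv hv0
    obtain ⟨g, rfl⟩ := C.Φ.surjective v
    have hg5 : kind g ≠ 5 := (singular_iff g).1 ⟨by rw [← C.q_eq, hv], fun e => hv0 (by rw [e, C.zero])⟩
    rcases cover_sum S S' hdis hS5 hS5' hS378 hS1701 _ hg5 with h | h
    · exact Or.inl ((C.mem_orbSet R).1 ((hSiff g).2 h))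
    · obtain ⟨γ, hγ⟩ := (C.mem_orbSet R).1 ((hSiff' g).2 h)
      exact Or.inr ⟨γ * δ⁻¹, by rw [mul_smul, ← hδ, inv_smul_smul, hγ]⟩
  · have horb : MulAction.orbit Γ (C.Φ (fullRep c)) = MulAction.orbit Γ (C.Φ f4) :=
      MulAction.orbit_eq_iff.2 ⟨δ, hδ⟩
    have h := Subgroup.card_mul_index (MulAction.stabilizer Γ (C.Φ (fullRep c)))
    rw [MulAction.index_stabilizer, horb, ← Nat.card_coe_set_eq, hSn', hS1701, R.cardΓ] at h
    omega

end Raw

end CfsgLib.LargeFischer
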