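import Cfsg.Agent.Lib.LargeFischer.Psu
import Cfsg.Agent.Lib.LargeFischer.Orbits
import Cfsg.Agent.Lib.LargeExtra.Setting
import Cfsg.Agent.Lib.Components.GenFitting
import Cfsg.Agent.Lib.KSteps.GFit
import Cfsg.Agent.Lib.Extraspecial.OuterIso
import Cfsg.Agent.Lib.Classical.Herm.Apps
import Cfsg.Prelude.Def_MonsterType

/-!
The data of the centralizer of large Fischer type.
-/

set_option autoImplicit false
set_option linter.unusedSectionVars false
set_option linter.style.haveILetI false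

namespace CfsgLib.LargeFischer

open Cfsg
open CfsgLib.F2Quad (Vec)

variable {G : Type*} [Group G]

/-- The situation inside `G`. -/
structure Hyp (z : G) (Q : Subgroup (Subgroup.centralizer ({z} : Set G))) [Q.Normal]
    (ρ : (Subgroup.centralizer ({z} : Set G)) ⧸ Q →* (Vec 6 ≃ₗ[ZMod 2] Vec 6))
    (qf : Vec 6 → ZMod 2) (p : G → Vec 6) (u w : Vec 6) : Prop where
  hz : orderOf z = 2
  S : LargeExtra.Setting z (Q.map (Subgroup.centralizer ({z} : Set G)).subtype)
  card : Nat.card (Q.map (Subgroup.centralizer ({z} : Set G)).subtype) = 2 ^ 13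
  nwc : ∃ g : G, g * z * g⁻¹ ∈ Q.map (Subgroup.centralizer ({z} : Set G)).subtype ∧ g * z * g⁻¹ ≠ z
  cardΓ : Nat.card ((Subgroup.centralizer ({z} : Set G)) ⧸ Q) = 2 * 3 * 3265920
  pmul : ∀ x ∈ Q.map (Subgroup.centralizer ({z} : Set G)).subtype,
    ∀ y ∈ Q.map (Subgroup.centralizer ({z} : Set G)).subtype, p (x * y) = p x + p y
  pzero : ∀ x ∈ Q.map (Subgroup.centralizer ({z} : Set G)).subtype, (p x = 0 ↔ x = 1 ∨ x = z)
  psurj : ∀ v, ∃ x ∈ Q.map (Subgroup.centralizer ({z} : Set G)).subtype, p x = v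
  psq : ∀ x ∈ Q.map (Subgroup.centralizer ({z} : Set G)).subtype, (x * x = 1 ↔ qf (p x) = 0)
  pact : ∀ c : ↥(Subgroup.centralizer ({z} : Set G)), ∀ x ∈ Q.map (Subgroup.centralizer ({z} : Set G)).subtype,
    p ((c : G) * x * (c : G)⁻¹) = ρ (QuotientGroup.mk c) (p x)
  qu : qf u = 0
  u0 : u ≠ 0
  qw : qf w = 0
  w0 : w ≠ 0
  ne : ¬ ∃ γ, ρ γ u = w
  cover : ∀ v, qf v = 0 → v ≠ 0 → (∃ γ, ρ γ u = v) ∨ ∃ γ, ρ γ w = v
  small : ∀ D : AddSubgroup (Vec 6), (∀ γ, ρ γ u = u → ∀ d ∈ D, ρ γ d ∈ D) →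
    (∀ d ∈ D, qf d = 0) → Nat.card D ≤ 4
  wstab : {γ | ρ γ w = w}.ncard = 11520
  comp : ∃ ξ : ↥(alternatingGroup (Fin 6)) →* (Subgroup.centralizer ({z} : Set G)) ⧸ Q,
    Function.Injective ξ ∧ ∀ l, ρ (ξ l) w = w
  raw : letI : DistribMulAction ((Subgroup.centralizer ({z} : Set G)) ⧸ Q) (Vec 6) := DistribMulAction.compHom _ ρ
    ∃ (L : Type) (_ : Group L) (_ : IsSimpleGroup L) (A T : Subgroup ((Subgroup.centralizer ({z} : Set G)) ⧸ Q))
      (ω : (Subgroup.centralizer ({z} : Set G)) ⧸ Q) (π : T →* L) (_ : Raw qf A T ω π)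
      (C : Frame qf A T ω π) (c : ZMod 3), u = C.Φ pairVec ∧ w = C.Φ (fullRep c)

theorem card_psu43 {K : Type*} [Field K] [Fintype K] (hK : Fintype.card K = 9) :
    Nat.card (Cfsg.PSU 4 K 3) = 3265920 := by
  have h := CfsgLib.Classical.Herm.card_psu (F := K) (q := 3) (by rw [hK]; norm_num) (n := 4) (by norm_num)
  simp only [Finset.prod_range_succ, Finset.prod_range_zero, one_mul, show Nat.gcd 4 (3 + 1) = 4 from rfl,
    show Even 0 from ⟨0, rfl⟩, show ¬ Even 1 from by decide, show Even 2 from ⟨1, rfl⟩,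
    show ¬ Even 3 from by decide, if_true, if_false] at h
  norm_num at h
  omega

theorem eq_or_inv_of_three {Γ : Type*} [Group Γ] {ω x : Γ} (hω : orderOf ω = 3)
    (hx : x ∈ Subgroup.zpowers ω) (h1 : x ≠ 1) : x = ω ∨ x = ω⁻¹ := by
  obtain ⟨i, rfl⟩ := Subgroup.mem_zpowers_iff.1 hx
  have h3 : ω ^ ((3 : ℕ) : ℤ) = 1 := by rw [zpow_natCast, ← hω]; exact pow_orderOf_eq_one ω
  obtain ⟨k, r, hr, rfl⟩ : ∃ k r : ℤ, (r = 0 ∨ r = 1 ∨ r = 2) ∧ i = ((3 : ℕ) : ℤ) * k + r :=
    ⟨i / 3, i % 3, by omega, by push_cast; omega⟩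
  rw [zpow_add, zpow_mul, h3, one_zpow, one_mul] at h1 ⊢
  rcases hr with rfl | rfl | rfl
  · simp at h1
  · simp
  · right
    refine eq_inv_of_mul_eq_one_left ?_
    calc ω ^ (2 : ℤ) * ω = ω ^ ((3 : ℕ) : ℤ) := by rw [show ((3 : ℕ) : ℤ) = 2 + 1 from rfl, zpow_add, zpow_one]
      _ = 1 := h3

/-- The data supplied by the frozen hypothesis. -/
theorem exists_hyp [Finite G] {z : G} {Q : Subgroup (Subgroup.centralizer ({z} : Set G))} [Q.Normal]
    (hF : Cfsg.IsOfLargeFischerTypeAt z Q) : ∃ ρ qf p u w, Hyp z Q ρ qf p u w := by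
  classical
  obtain ⟨⟨hz, hFit, hext, hcard, g₀, ⟨hg₀C, hg₀Q⟩, hg₀ne⟩, N, M, hN, hM, hQN, hNM, hNcard,
    ⟨K, _, _, hK, ⟨e⟩⟩, hMidx⟩ := hF
  let C₀ := Subgroup.centralizer ({z} : Set G)
  have hzC : z ∈ C₀ := Subgroup.mem_centralizer_singleton_iff.2 rfl
  have hzQ : (⟨z, hzC⟩ : C₀) ∈ Q := hFit ▸ CfsgLib.KSteps.center_le_gfit _
    (Subgroup.mem_center_iff.2 fun g => Subtype.ext (Subgroup.mem_centralizer_singleton_iff.1 g.2))
  have hfaith : Subgroup.centralizer (Q : Set C₀) ≤ Q := by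
    have h := CfsgLib.Components.centralizer_genFitting_le (G := ↥(Subgroup.centralizer ({z} : Set G)))
    rwa [hFit] at h
  have hinj : Function.Injective C₀.subtype := C₀.subtype_injective
  have hmemQ : ∀ h : C₀, (h : G) ∈ Q.map C₀.subtype ↔ h ∈ Q := fun h => Subgroup.mem_map_iff_mem hinj
  have hsetting : LargeExtra.Setting z (Q.map C₀.subtype) := by
    refine LargeExtra.setting_of_extraspecial hz (Subgroup.map_subtype_le _) (fun h hh x hx => ?_) ?_ ?_
    · obtain ⟨y, hy, rfl⟩ := hx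
      exact ⟨⟨h, LargeExtra.mem_centralizer_z.2 hh⟩ * y * ⟨h, LargeExtra.mem_centralizer_z.2 hh⟩⁻¹,
        Subgroup.Normal.conj_mem ‹_› y hy _, rfl⟩
    · let eQ := Q.equivMapOfInjective C₀.subtype hinj
      have hc : Subgroup.center ↥(Q.map C₀.subtype) = (Subgroup.center Q).map eQ.toMonoidHom := by
        ext x
        rw [Subgroup.mem_map_equiv, Subgroup.mem_center_iff, Subgroup.mem_center_iff]
        constructor
        · intro h a
          have := h (eQ a)
          apply eQ.injective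
          simpa using this
        · intro h a
          have := congrArg eQ (h (eQ.symm a))
          simpa using this
      refine ⟨⟨hext.1.1.of_equiv eQ, ?_, ?_⟩, ?_⟩
      · rw [hc, ← hext.1.2.1]
        refine le_antisymm (fun x hx => ?_) (Subgroup.map_le_iff_le_comap.2
          (frattini_le_comap_frattini_of_surjective eQ.surjective))
        rw [Subgroup.mem_map_equiv]
        exact frattini_le_comap_frattini_of_surjective (φ := eQ.symm.toMonoidHom) eQ.symm.surjective hx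
      · rw [hc, ← hext.1.2.2, commutator_def, commutator_def, Subgroup.map_commutator,
          Subgroup.map_top_of_surjective eQ.toMonoidHom eQ.surjective]
      · rw [hc, Subgroup.card_map_of_injective (K := Subgroup.center Q) eQ.injective, hext.2]
    · intro x hx
      have hxC : x ∈ C₀ := Subgroup.mem_centralizer_singleton_iff.2
        (Subgroup.mem_centralizer_iff.1 hx z ((hmemQ ⟨z, hzC⟩).2 hzQ)).symm
      exact (hmemQ ⟨x, hxC⟩).2 (hfaith (Subgroup.mem_centralizer_iff.2 fun q hq =>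
        Subtype.ext (Subgroup.mem_centralizer_iff.1 hx _ ((hmemQ q).2 hq))))
  -- the module
  obtain ⟨Co⟩ := CfsgLib.Extraspecial.exists_coords hext 6 hcard
  let ρC : C₀ →* Co.Iso := Co.autHom.comp (MulAut.conjNormal (H := Q))
  have hker : ρC.ker = Q := by
    ext c
    rw [MonoidHom.mem_ker]
    show Co.autHom (MulAut.conjNormal c) = 1 ↔ c ∈ Q
    rw [← MonoidHom.mem_ker, Co.autHom_ker]
    constructor
    · rintro ⟨a, ha⟩
      have hmem : (a : C₀)⁻¹ * c ∈ Q := hfaith (Subgroup.mem_centralizer_iff.2 fun b hb => by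
        have h := congrArg (fun α : MulAut Q => ((α ⟨b, hb⟩ : Q) : C₀)) ha
        simp only [MulAut.conj_apply, MulAut.conjNormal_apply, Subgroup.coe_mul, InvMemClass.coe_inv] at h
        calc b * ((a : C₀)⁻¹ * c) = (a : C₀)⁻¹ * ((a : C₀) * b * (a : C₀)⁻¹) * c := by group
          _ = (a : C₀)⁻¹ * (c * b * c⁻¹) * c := by rw [h]
          _ = (a : C₀)⁻¹ * c * b := by group)
      simpa using mul_mem a.2 hmem
    · intro hc
      exact ⟨⟨c, hc⟩, MulEquiv.ext fun b => Subtype.ext (by simp [MulAut.conjNormal_apply])⟩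
  let φ : C₀ ⧸ Q →* Co.Iso := QuotientGroup.lift Q ρC hker.ge
  let ρ : C₀ ⧸ Q →* (Vec 6 ≃ₗ[ZMod 2] Vec 6) := Co.Iso.subtype.comp φ
  letI : DistribMulAction (C₀ ⧸ Q) (Vec 6) := DistribMulAction.compHom _ ρ
  have hsm : ∀ γ (v : Vec 6), γ • v = ρ γ v := fun _ _ => rfl
  have hproj : ∀ (c : C₀) (y : Q), ρ (QuotientGroup.mk c) (Co.proj y) = Co.proj (MulAut.conjNormal c y) :=
    fun c y => Co.autHom_apply (MulAut.conjNormal c) y
  let p : G → Vec 6 := fun x =>
    if h : x ∈ Q.map C₀.subtype then Co.proj ⟨⟨x, (Subgroup.map_subtype_le Q) h⟩, (hmemQ _).1 h⟩ else 0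
  have hp : ∀ (y : Q), p ((y : C₀) : G) = Co.proj y := fun y => by
    simp only [p, dif_pos ((hmemQ y).2 y.2)]
  -- the two normal subgroups
  haveI := hN
  haveI := hM
  let mk := QuotientGroup.mk' Q
  let mkM : M →* C₀ ⧸ Q := mk.comp M.subtype
  let ψ : M →* Cfsg.PSU 4 K 3 := e.toMonoidHom.comp (QuotientGroup.mk' (N.subgroupOf M))
  have hψs : Function.Surjective ψ := e.surjective.comp (QuotientGroup.mk'_surjective _)
  have hψk : ∀ m : M, ψ m = 1 ↔ (m : C₀) ∈ N := fun m => by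
    show e (QuotientGroup.mk m) = 1 ↔ _
    rw [MulEquiv.map_eq_one_iff, QuotientGroup.eq_one_iff, Subgroup.mem_subgroupOf]
  have hmk : ∀ c, mk c = 1 ↔ c ∈ Q := fun c => QuotientGroup.eq_one_iff c
  have hwell : ∀ m m' : M, mkM m = mkM m' → ψ m = ψ m' := fun m m' h => by
    rw [← inv_mul_eq_one, ← map_inv, ← map_mul, hψk]
    exact hQN ((hmk _).1 (by
      show mkM (m⁻¹ * m') = 1
      rw [map_mul, map_inv, h, inv_mul_cancel]))
  let img : Subgroup (Cfsg.PSU 4 K 3) → Subgroup (C₀ ⧸ Q) := fun S => ((S.comap ψ).map M.subtype).map mk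
  have himg : ∀ S γ, γ ∈ img S ↔ ∃ m : M, ψ m ∈ S ∧ mkM m = γ := by
    intro S γ
    constructor
    · rintro ⟨_, ⟨m, hm, rfl⟩, rfl⟩
      exact ⟨m, hm, rfl⟩
    · rintro ⟨m, hm, rfl⟩
      exact ⟨m, ⟨m, hm, rfl⟩, rfl⟩
  have himgψ : ∀ S (m : M), mkM m ∈ img S → ψ m ∈ S := fun S m h => by
    obtain ⟨m', hm', he⟩ := (himg S _).1 h
    rwa [← hwell m' m he]
  have hQC : Nat.card Q * Nat.card (C₀ ⧸ Q) = Nat.card C₀ := by
    rw [mul_comm, ← Subgroup.card_eq_card_quotient_mul_card_subgroup]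
  have hMc : Nat.card M = Nat.card (Cfsg.PSU 4 K 3) * (3 * Nat.card Q) := by
    rw [Subgroup.card_eq_card_quotient_mul_card_subgroup (N.subgroupOf M), Nat.card_congr e.toEquiv,
      Nat.card_congr (Subgroup.subgroupOfEquivOfLe hNM).toEquiv, hNcard]
  have hΓ : Nat.card (C₀ ⧸ Q) = 2 * 3 * 3265920 := by
    have h := Subgroup.card_mul_index M
    rw [hMidx, hMc, card_psu43 hK, ← hQC, hcard] at h
    omega
  have hcardimg : ∀ S : Subgroup (Cfsg.PSU 4 K 3), Nat.card (img S) = 3 * Nat.card S := by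
    intro S
    set H₀ := (S.comap ψ).map M.subtype with hH₀
    have hQH : mk.ker ≤ H₀ := by
      rw [QuotientGroup.ker_mk']
      intro c hc
      refine ⟨⟨c, hNM (hQN hc)⟩, ?_, rfl⟩
      show ψ _ ∈ S
      rw [(hψk _).2 (hQN hc)]
      exact one_mem _
    have h1 := Subgroup.card_mul_index (H₀.map mk)
    rw [Subgroup.index_map_eq _ (QuotientGroup.mk'_surjective Q) hQH] at h1
    have h2 := Subgroup.card_mul_index H₀
    have h3 := Subgroup.card_mul_index (S.comap ψ)
    rw [Subgroup.index_comap_of_surjective _ hψs, hMc, ← Subgroup.card_mul_index S] at h3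
    have h4 : Nat.card H₀ = Nat.card (S.comap ψ) := Subgroup.card_map_of_injective M.subtype_injective
    have h5 : Nat.card (S.comap ψ) = Nat.card S * (3 * Nat.card Q) := by
      refine Nat.eq_of_mul_eq_mul_right (Nat.pos_of_ne_zero S.index_ne_zero_of_finite) ?_
      rw [h3]; ring
    rw [← hQC, h4, h5, ← h1] at h2
    refine (Nat.eq_of_mul_eq_mul_right (Nat.mul_pos (Nat.card_pos (α := Q))
      (Nat.pos_of_ne_zero H₀.index_ne_zero_of_finite)) ?_).symm
    show 3 * Nat.card S * (Nat.card Q * H₀.index) = Nat.card (H₀.map mk) * (Nat.card Q * H₀.index)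
    calc _ = Nat.card S * (3 * Nat.card Q) * H₀.index := by ring
      _ = _ := by rw [h2]; ring
  -- the element of order three
  have hN3 : Nat.card (img ⊥) = 3 := by rw [hcardimg, Subgroup.card_bot]
  haveI : Fact (Nat.Prime 3) := ⟨Nat.prime_three⟩
  obtain ⟨ω', hω'⟩ := exists_prime_orderOf_dvd_card' (G := img ⊥) 3 (by rw [hN3])
  set ω : C₀ ⧸ Q := (ω' : C₀ ⧸ Q)
  have hω : orderOf ω = 3 := by rw [Subgroup.orderOf_coe]; exact hω'
  have hωbot : Subgroup.zpowers ω = img ⊥ :=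
    Subgroup.eq_of_le_of_card_ge ((Subgroup.zpowers_le).2 ω'.2) (by rw [hN3, Nat.card_zpowers, hω])
  have hωmem : ∀ m : M, mkM m ∈ Subgroup.zpowers ω ↔ ψ m = 1 := fun m => by
    rw [hωbot]
    exact ⟨fun h => Subgroup.mem_bot.1 (himgψ ⊥ m h), fun h => (himg ⊥ _).2 ⟨m, Subgroup.mem_bot.2 h, rfl⟩⟩
  have hconj : ∀ m : M, mkM m * ω * (mkM m)⁻¹ ∈ Subgroup.zpowers ω := fun m => by
    obtain ⟨n, hn, he⟩ := (himg ⊥ ω).1 ω'.2
    rw [Subgroup.mem_bot] at hn
    have h := (hωmem (m * n * m⁻¹)).2 (by simp [hn])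
    rwa [map_mul, map_mul, map_inv, he] at h
  have hcentral : ∀ m : M, mkM m * ω = ω * mkM m := by
    let Cw : Subgroup M := (Subgroup.centralizer ({ω} : Set (C₀ ⧸ Q))).comap mkM
    have hCw : ∀ m, m ∈ Cw ↔ mkM m * ω = ω * mkM m := fun m => by
      rw [Subgroup.mem_comap, Subgroup.mem_centralizer_singleton_iff]
    have hcase : ∀ m : M, mkM m * ω * (mkM m)⁻¹ = ω ∨ mkM m * ω * (mkM m)⁻¹ = ω⁻¹ := fun m => by
      refine eq_or_inv_of_three hω (hconj m) fun h => ?_
      rw [mul_inv_eq_one, mul_eq_left] at h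
      rw [h, orderOf_one] at hω
      omega
    have hnorm : Cw.Normal := ⟨fun a ha m => by
      rw [hCw] at ha ⊢
      simp only [map_mul, map_inv]
      rcases hcase m⁻¹ with h | h <;> rw [map_inv, inv_inv] at h
      · calc mkM m * mkM a * (mkM m)⁻¹ * ω = mkM m * mkM a * ((mkM m)⁻¹ * ω * mkM m) * (mkM m)⁻¹ := by group
          _ = mkM m * (mkM a * ω) * (mkM m)⁻¹ := by rw [h]; group
          _ = mkM m * ((mkM m)⁻¹ * ω * mkM m) * mkM a * (mkM m)⁻¹ := by rw [ha, h]; group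
          _ = _ := by group
      · have ha' : mkM a * ω⁻¹ = ω⁻¹ * mkM a := (show Commute (mkM a) ω from ha).inv_right.eq
        calc mkM m * mkM a * (mkM m)⁻¹ * ω = mkM m * mkM a * ((mkM m)⁻¹ * ω * mkM m) * (mkM m)⁻¹ := by group
          _ = mkM m * (mkM a * ω⁻¹) * (mkM m)⁻¹ := by rw [h]; group
          _ = mkM m * ((mkM m)⁻¹ * ω * mkM m) * mkM a * (mkM m)⁻¹ := by rw [ha', h]; group
          _ = _ := by group⟩
    haveI : IsSimpleGroup (Cfsg.PSU 4 K 3) :=
      CfsgLib.Classical.Herm.isSimpleGroup_psu (by rw [hK]; norm_num) (by norm_num) (by norm_num)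
    have hsq : ∀ m, m * m ∈ Cw := fun m => by
      rw [hCw, map_mul]
      rcases hcase m with h | h
      · have hm : Commute (mkM m) ω := mul_inv_eq_iff_eq_mul.1 h
        exact (hm.mul_left hm).eq
      · have h2 : mkM m * ω⁻¹ * (mkM m)⁻¹ = ω := by
          rw [show mkM m * ω⁻¹ * (mkM m)⁻¹ = (mkM m * ω * (mkM m)⁻¹)⁻¹ by group, h, inv_inv]
        calc mkM m * mkM m * ω = mkM m * (mkM m * ω * (mkM m)⁻¹) * (mkM m)⁻¹ * (mkM m * mkM m) := by group
          _ = _ := by rw [h, h2]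
    rcases (hnorm.map ψ hψs).eq_bot_or_eq_top with h | h
    · exfalso
      have hx : ∀ x : Cfsg.PSU 4 K 3, x * x = 1 := fun x => by
        obtain ⟨m, rfl⟩ := hψs x
        have := Subgroup.mem_map_of_mem ψ (hsq m)
        rwa [h, Subgroup.mem_bot, map_mul] at this
      obtain ⟨x, hx3⟩ := exists_prime_orderOf_dvd_card' (G := Cfsg.PSU 4 K 3) 3 (by rw [card_psu43 hK]; norm_num)
      have := orderOf_dvd_of_pow_eq_one (show x ^ 2 = 1 by rw [pow_two]; exact hx x)
      rw [hx3] at this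
      norm_num at this
    · intro m
      obtain ⟨m', hm', he⟩ := (h ▸ Subgroup.mem_top (ψ m) : ψ m ∈ Cw.map ψ)
      have hz' : mkM (m'⁻¹ * m) ∈ Subgroup.zpowers ω := (hωmem _).2 (by rw [map_mul, map_inv, he, inv_mul_cancel])
      obtain ⟨i, hi⟩ := Subgroup.mem_zpowers_iff.1 hz'
      have h1 : Commute (mkM m') ω := (hCw m').1 hm'
      have h2 : mkM m = mkM m' * ω ^ i := by rw [hi, ← map_mul, mul_inv_cancel_left]
      rw [h2]
      exact (h1.mul_left (Commute.zpow_self ω i)).eq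
  -- the Siegel piece
  obtain ⟨U, Lg, hUc, hUab, hU3, hLs, hLc, hLU, hUL, hirr⟩ := exists_piece (K := K) hK
  let π₀ : ↥(img Lg) → Lg := fun t =>
    ⟨ψ ((himg Lg t).1 t.2).choose, ((himg Lg t).1 t.2).choose_spec.1⟩
  have hπ₀ : ∀ (t : ↥(img Lg)) (m : M), mkM m = t → (π₀ t : Cfsg.PSU 4 K 3) = ψ m := fun t m h =>
    hwell _ _ (((himg Lg t).1 t.2).choose_spec.2.trans h.symm)
  let π : ↥(img Lg) →* Lg := MonoidHom.mk' π₀ fun s t => by
    obtain ⟨m, -, hm⟩ := (himg Lg s).1 s.2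
    obtain ⟨m', -, hm'⟩ := (himg Lg t).1 t.2
    refine Subtype.ext ?_
    rw [Subgroup.coe_mul, hπ₀ s m hm, hπ₀ t m' hm', hπ₀ (s * t) (m * m') (by
      rw [map_mul, hm, hm', Subgroup.coe_mul]), map_mul]
  haveI := hLs
  have R : Raw (Γ := C₀ ⧸ Q) (V := Vec 6) Co.form (img U) (img Lg) ω π :=
    { two := fun v => funext fun i => CharTwo.add_self_eq_zero _
      cardV := by simp [Nat.card_eq_fintype_card]
      q0 := by
        have h := (Co.sq_eq_one 1).1 (mul_one 1)
        rwa [Co.proj_one] at h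
      pol_add := fun u u' v => by
        have h1 := Co.polar_form (u + u') v
        have h2 := Co.polar_form u v
        have h3 := Co.polar_form u' v
        rw [CfsgLib.F2Quad.pol_add_left, h2, h3] at h1
        linear_combination h1 + (Co.form (u + u' + v) + Co.form u + Co.form u' + Co.form v) * CharTwo.two_eq_zero (R := ZMod 2)
      nondeg := fun v hv => by
        obtain ⟨y, rfl⟩ := Co.proj_surj v
        rw [Co.proj_eq_zero, Subgroup.mem_center_iff]
        intro x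
        rw [← commutatorElement_eq_one_iff_mul_comm, Co.comm_eq_one, Co.polar_form, hv]
        ring
      inv := fun γ v => (φ γ).2 v
      faithful := fun γ h => by
        obtain ⟨c, rfl⟩ := QuotientGroup.mk_surjective γ
        rw [QuotientGroup.eq_one_iff, ← hker, MonoidHom.mem_ker]
        exact Subtype.ext (LinearEquiv.ext h)
      cardΓ := hΓ
      hω := hω
      ωA := (hωbot.le.trans fun γ hγ => by
        obtain ⟨m, hm, rfl⟩ := (himg ⊥ γ).1 hγ
        exact (himg U _).2 ⟨m, by rw [Subgroup.mem_bot.1 hm]; exact one_mem _, rfl⟩) (Subgroup.mem_zpowers ω)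
      ωT := (hωbot.le.trans fun γ hγ => by
        obtain ⟨m, hm, rfl⟩ := (himg ⊥ γ).1 hγ
        exact (himg Lg _).2 ⟨m, by rw [Subgroup.mem_bot.1 hm]; exact one_mem _, rfl⟩) (Subgroup.mem_zpowers ω)
      cardA := by rw [hcardimg, hUc]
      ωA_comm := fun a ha => by
        obtain ⟨m, -, rfl⟩ := (himg U a).1 ha
        exact (hcentral m).symm
      ωT_comm := fun t ht => by
        obtain ⟨m, -, rfl⟩ := (himg Lg t).1 ht
        exact (hcentral m).symm
      normA := fun t ht a ha => by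
        obtain ⟨m, hm, rfl⟩ := (himg U a).1 ha
        obtain ⟨m', hm', rfl⟩ := (himg Lg t).1 ht
        exact (himg U _).2 ⟨m' * m * m'⁻¹, by simpa using hLU _ hm' _ hm, by simp⟩
      comm_mod := fun a ha b hb => by
        obtain ⟨m, hm, rfl⟩ := (himg U a).1 ha
        obtain ⟨m', hm', rfl⟩ := (himg U b).1 hb
        rw [← map_inv, ← map_inv, ← map_mul, ← map_mul, ← map_mul, hωmem, map_mul, map_mul, map_mul,
          map_inv, map_inv, hUab _ hm _ hm', mul_inv_cancel_right, mul_inv_cancel]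
      cube_mod := fun a ha => by
        obtain ⟨m, hm, rfl⟩ := (himg U a).1 ha
        rw [← map_pow, hωmem, map_pow, hU3 _ hm]
      irr := fun W hW hωW hinv => by
        have hW' : ∀ {γ}, γ ∈ W → ∃ m : M, ψ m ∈ U ∧ mkM m = γ := fun h => (himg U _).1 (hW h)
        rcases hirr ((W.comap mkM).map ψ) (by
            rintro _ ⟨m, hm, rfl⟩
            exact himgψ U m (hW hm))
          (by
            rintro l hl _ ⟨m, hm, rfl⟩
            obtain ⟨m', rfl⟩ := hψs l
            refine ⟨m' * m * m'⁻¹, ?_, by simp⟩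
            show mkM (m' * m * m'⁻¹) ∈ W
            simpa using hinv _ ((himg Lg _).2 ⟨m', hl, rfl⟩) _ hm) with h | h
        · refine Or.inl (le_antisymm (fun γ hγ => ?_) ((Subgroup.zpowers_le).2 hωW))
          obtain ⟨m, -, rfl⟩ := hW' hγ
          rw [hωmem, ← Subgroup.mem_bot, ← h]
          exact Subgroup.mem_map_of_mem ψ (show m ∈ W.comap mkM from hγ)
        · refine Or.inr (le_antisymm hW fun γ hγ => ?_)
          obtain ⟨m, hm, rfl⟩ := (himg U γ).1 hγ
          rw [← h] at hm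
          obtain ⟨m', hm', he⟩ := hm
          have hz' : mkM (m'⁻¹ * m) ∈ W := (Subgroup.zpowers_le).2 hωW
            ((hωmem _).2 (by rw [map_mul, map_inv, he, inv_mul_cancel]))
          have := mul_mem (show mkM m' ∈ W from hm') hz'
          rwa [← map_mul, mul_inv_cancel_left] at this
      π_surj := fun l => by
        obtain ⟨m, hm⟩ := hψs l
        exact ⟨⟨mkM m, (himg Lg _).2 ⟨m, hm ▸ l.2, rfl⟩⟩, Subtype.ext ((hπ₀ _ m rfl).trans hm)⟩
      π_ker := fun t => by
        obtain ⟨m, -, hm⟩ := (himg Lg t).1 t.2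
        rw [← hm, hωmem, ← hπ₀ t m hm]
        exact ⟨fun h => congrArg Subtype.val h, fun h => Subtype.ext h⟩
      inter := fun t ht hta => by
        obtain ⟨m, hm, rfl⟩ := (himg Lg t).1 ht
        rw [hωmem, ← Subgroup.mem_bot, ← hUL]
        exact ⟨himgψ U m hta, hm⟩
      cardL := hLc
      ωnorm := fun γ => by
        obtain ⟨c, rfl⟩ := QuotientGroup.mk_surjective γ
        obtain ⟨n, hn, he⟩ := (himg ⊥ ω).1 ω'.2
        rw [Subgroup.mem_bot, hψk] at hn
        have hc : c * (n : C₀) * c⁻¹ ∈ N := hN.conj_mem _ hn c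
        have h := (hωmem ⟨_, hNM hc⟩).2 ((hψk ⟨_, hNM hc⟩).2 hc)
        have he2 : mkM ⟨_, hNM hc⟩ = mk c * ω * (mk c)⁻¹ := by
          show mk (c * (n : C₀) * c⁻¹) = _
          rw [map_mul, map_mul, map_inv, show mk (n : C₀) = ω from he]
        rw [he2] at h
        exact h
      seven := by
        haveI : Fact (Nat.Prime 7) := ⟨by norm_num⟩
        obtain ⟨m, hm⟩ := exists_prime_orderOf_dvd_card' (G := M) 7 (by
          rw [hMc, card_psu43 hK]
          exact Dvd.dvd.mul_right (by norm_num) _)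
        refine ⟨mkM m, fun h => ?_, by rw [← map_pow, ← hm, pow_orderOf_eq_one, map_one], hcentral m⟩
        have h2 := orderOf_dvd_natCard (⟨(m : C₀), (hmk _).1 h⟩ : Q)
        rw [Subgroup.orderOf_mk, Subgroup.orderOf_coe, hm, hcard] at h2
        exact absurd ((Nat.Prime.dvd_of_dvd_pow (by norm_num) h2)) (by norm_num) }
  obtain ⟨u, w, qu, u0, qw, w0, hne, hcov, hsmall, hwst, ⟨C, c, hu, hw⟩, ξ, hξ, hξf⟩ := R.orbits
  refine ⟨ρ, Co.form, p, u, w, ?_⟩
  exact
    { hz := hz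
      S := hsetting
      card := by rw [Subgroup.card_map_of_injective hinj, hcard]
      nwc := ⟨g₀, (hmemQ ⟨_, hg₀C⟩).2 hg₀Q, hg₀ne⟩
      cardΓ := hΓ
      pmul := fun x hx y hy => by
        obtain ⟨a, ha, rfl⟩ := hx
        obtain ⟨b, hb, rfl⟩ := hy
        have h := hp (⟨a, ha⟩ * ⟨b, hb⟩)
        rw [Co.proj_mul] at h
        rw [show C₀.subtype a = ((⟨a, ha⟩ : Q) : C₀) from rfl, show C₀.subtype b = ((⟨b, hb⟩ : Q) : C₀) from rfl,
          hp, hp, ← h]
        rfl
      pzero := fun x hx => by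
        obtain ⟨a, ha, rfl⟩ := hx
        show p ((⟨a, ha⟩ : Q) : C₀) = 0 ↔ _
        rw [hp, Co.proj_eq_zero]
        constructor
        · intro h
          refine hsetting.center (a : G) ((hmemQ a).2 ha) fun b hb => ?_
          obtain ⟨b', hb', rfl⟩ := hb
          exact congrArg (fun y : Q => ((y : C₀) : G)) (Subgroup.mem_center_iff.1 h ⟨b', hb'⟩).symm
        · intro h
          refine Subgroup.mem_center_iff.2 fun y => Subtype.ext (Subtype.ext ?_)
          rcases h with h | h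
          · show ((y : C₀) : G) * (a : G) = (a : G) * _
            rw [show (a : G) = 1 from h]; simp
          · show ((y : C₀) : G) * (a : G) = (a : G) * _
            rw [show (a : G) = z from h]
            exact Subgroup.mem_centralizer_singleton_iff.1 (y : C₀).2
      psurj := fun v => by
        obtain ⟨y, rfl⟩ := Co.proj_surj v
        exact ⟨_, (hmemQ y).2 y.2, hp y⟩
      psq := fun x hx => by
        obtain ⟨a, ha, rfl⟩ := hx
        show _ ↔ Co.form (p ((⟨a, ha⟩ : Q) : C₀)) = 0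
        rw [hp, ← Co.sq_eq_one]
        exact ⟨fun h => Subtype.ext (Subtype.ext h), fun h => congrArg (fun y : Q => ((y : C₀) : G)) h⟩
      pact := fun c x hx => by
        obtain ⟨a, ha, rfl⟩ := hx
        show _ = ρ _ (p ((⟨a, ha⟩ : Q) : C₀))
        rw [hp, hproj, ← hp]
        congr 1
      qu := qu, u0 := u0, qw := qw, w0 := w0, ne := hne, cover := hcov, small := hsmall
      wstab := by
        rw [← hwst, ← Nat.card_coe_set_eq]
        rfl
      comp := ⟨ξ, hξ, hξf⟩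
      raw := ⟨↥Lg, inferInstance, inferInstance, img U, img Lg, ω, π, R, C, c, hu, hw⟩ }

end CfsgLib.LargeFischer
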