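import Cfsg.Agent.Lib.LargeFischer.Coord
import Cfsg.Agent.Lib.LargeFischer.Setting
import Cfsg.Agent.Lib.LargeFischer.AutO6
import Cfsg.Agent.Lib.MinIndexPSU4.Main

/-!
The stabilizer of a vector of weight two.
-/

set_option autoImplicit false
set_option linter.unusedSectionVars false
set_option linter.style.haveILetI false

namespace CfsgLib.LargeFischer

open CfsgLib.Recog.GF4
open scoped Matrix

/-- The vector of weight two. -/
def uK : Fin 6 → K4 := ![1, 1, 0, 0, 0, 0]

/-- The last four coordinates as a subspace. -/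
def emb4 (x : Fin 4 → K4) : Fin 6 → K4 := ![0, 0, x 0, x 1, x 2, x 3]

/-- The last four coordinates. -/
def prj4 (y : Fin 6 → K4) : Fin 4 → K4 := ![y 2, y 3, y 4, y 5]

theorem emb4_add (x y : Fin 4 → K4) : emb4 (x + y) = emb4 x + emb4 y := by
  funext i; fin_cases i <;> simp [emb4]

theorem emb4_smul (c : K4) (x : Fin 4 → K4) : emb4 (c • x) = c • emb4 x := by
  funext i; fin_cases i <;> simp [emb4]

theorem prj4_emb_add (x : Fin 4 → K4) (c : K4) : prj4 (emb4 x + c • uK) = x := by
  funext i; fin_cases i <;> simp [prj4, emb4, uK]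

theorem emb4_prj4 {y : Fin 6 → K4} (h : y 0 = y 1) : y = emb4 (prj4 y) + y 0 • uK := by
  funext i; fin_cases i <;> simp [prj4, emb4, uK, h]

theorem herm_emb (a b : Fin 4 → K4) (c d : K4) :
    Cfsg.hermForm 6 K4 2 (emb4 a + c • uK) (emb4 b + d • uK) = Cfsg.hermForm 4 K4 2 a b := by
  simp [Cfsg.hermForm, Fin.sum_univ_six, Fin.sum_univ_four, emb4, uK]
  linear_combination (c * d ^ 2) * two_eq_zero

theorem herm_uK (y : Fin 6 → K4) : Cfsg.hermForm 6 K4 2 y uK = y 0 + y 1 := by
  simp [Cfsg.hermForm, Fin.sum_univ_six, uK]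

theorem pair_weight : ∀ i j : Fin 4, i ≠ j → ∀ t c : K4, t ≠ 0 →
    (Finset.univ.filter fun l => (emb4 (Pi.single i 1 + Pi.single j t) + c • uK) l ≠ 0).card =
      if c = 0 then 2 else 4 := by
  intro i j hij t c
  obtain ⟨t⟩ := t
  obtain ⟨c⟩ := c
  revert i j t c
  decide +kernel

theorem two_points : ∀ a b : K4, a + b = 1 → a * a ^ 2 + b * b ^ 2 = 1 → (a = 1 ∧ b = 0) ∨ (a = 0 ∧ b = 1) :=
  forall_K4 fun i => forall_K4 (by revert i; decide +kernel)

theorem flip_coord : ∀ j : ZMod 3, j ≠ 2 → ∀ a : K4, wK * (wK ^ j.val * a) = a → a = 0 := by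
  intro j hj a
  obtain ⟨a⟩ := a
  revert j a
  decide +kernel

theorem perm_central : ∀ n : Equiv.Perm (Fin 6),
    (Equiv.swap 0 1 * Equiv.swap 1 2 : Equiv.Perm (Fin 6)) * n = n * (Equiv.swap 0 1 * Equiv.swap 1 2) →
    (Equiv.swap 1 2 * Equiv.swap 2 3 : Equiv.Perm (Fin 6)) * n = n * (Equiv.swap 1 2 * Equiv.swap 2 3) →
    (Equiv.swap 3 4 * Equiv.swap 4 5 : Equiv.Perm (Fin 6)) * n = n * (Equiv.swap 3 4 * Equiv.swap 4 5) →
    n = 1 := by
  decide +kernel

theorem card_su42 : Nat.card (Cfsg.SU 4 K4 2) = 25920 ∧ Subgroup.center (Cfsg.SU 4 K4 2) = ⊥ := by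
  have h1 : Nat.card (Subgroup.center (Cfsg.SU 4 K4 2)) = 1 := by
    rw [CfsgLib.Classical.Herm.card_center_su (F := K4) (q := 2) card_K4 (by norm_num)]; rfl
  refine ⟨?_, Subgroup.eq_bot_of_card_eq _ h1⟩
  rw [Subgroup.card_eq_card_quotient_mul_card_subgroup (Subgroup.center (Cfsg.SU 4 K4 2)), h1, mul_one]
  exact card_psu42

namespace Frame

variable {Γ : Type*} [Group Γ] [Finite Γ] {V : Type*} [AddCommGroup V] [Finite V] [DistribMulAction Γ V]
  {L : Type*} [Group L] [IsSimpleGroup L]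
  {q : V → ZMod 2} {A T : Subgroup Γ} {ω : Γ} {π : T →* L} (C : Frame q A T ω π) (R : Raw q A T ω π)
include C R

/-- The elements of the stabilizer commuting with `ω`. -/
abbrev stabC (_R : Raw q A T ω π) : Subgroup Γ := MulAction.stabilizer Γ (C.Φ pairVec) ⊓ Subgroup.centralizer ({ω} : Set Γ)

theorem vK_uK : C.vK R uK = C.Φ pairVec := by
  have h : ∀ i, toK.symm (uK i) = pairVec i := by decide +kernel
  rw [C.vK_apply]
  exact congrArg C.Φ (funext h)

theorem comm_of_mem (γ : C.stabC R) : (γ : Γ) * ω = ω * γ :=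
  Subgroup.mem_centralizer_singleton_iff.1 γ.2.2

theorem act_uK (γ : C.stabC R) : C.act R γ uK = uK :=
  (C.vK R).injective (by rw [C.vK_act, C.vK_uK R]; exact MulAction.mem_stabilizer_iff.1 γ.2.1)

theorem act_emb (γ : C.stabC R) (x : Fin 4 → K4) :
    C.act R γ (emb4 x) = emb4 (prj4 (C.act R γ (emb4 x))) + (C.act R γ (emb4 x)) 0 • uK := by
  refine emb4_prj4 ?_
  have h := C.act_herm R (C.comm_of_mem R γ) (emb4 x) uK
  rw [C.act_uK R, herm_uK, herm_uK] at h
  have h0 : emb4 x 0 + emb4 x 1 = 0 := by simp [emb4]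
  rw [h0] at h
  linear_combination h - (C.act R γ (emb4 x) 1) * two_eq_zero

/-- The induced map on the four-dimensional space. -/
def nLin (γ : C.stabC R) : (Fin 4 → K4) →ₗ[K4] (Fin 4 → K4) where
  toFun x := prj4 (C.act R γ (emb4 x))
  map_add' x y := by
    rw [emb4_add, C.act_add]
    funext i; fin_cases i <;> simp [prj4]
  map_smul' c x := by
    rw [emb4_smul, C.act_smul R (C.comm_of_mem R γ)]
    funext i; fin_cases i <;> simp [prj4]

theorem nLin_apply (γ : C.stabC R) (x : Fin 4 → K4) : C.nLin R γ x = prj4 (C.act R γ (emb4 x)) := rfl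

/-- The matrix of the induced map. -/
noncomputable def nMat : C.stabC R →* Matrix (Fin 4) (Fin 4) K4 where
  toFun γ := LinearMap.toMatrix' (C.nLin R γ)
  map_one' := by
    rw [← LinearMap.toMatrix'_id]
    congr 1
    refine LinearMap.ext fun x => ?_
    rw [nLin_apply, Subgroup.coe_one, C.act_one]
    have := prj4_emb_add x 0
    rwa [zero_smul, add_zero] at this
  map_mul' γ δ := by
    rw [← LinearMap.toMatrix'_comp]
    congr 1
    refine LinearMap.ext fun x => ?_
    rw [LinearMap.comp_apply, nLin_apply, nLin_apply, nLin_apply, Subgroup.coe_mul, C.act_mul]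
    conv_lhs => rw [C.act_emb R δ x, C.act_add, C.act_smul R (C.comm_of_mem R γ), C.act_uK R]
    funext i; fin_cases i <;> simp [prj4, uK]

theorem nMat_mulVec (γ : C.stabC R) (x : Fin 4 → K4) :
    C.nMat R γ *ᵥ x = prj4 (C.act R γ (emb4 x)) :=
  LinearMap.toMatrix'_mulVec _ x

theorem nMat_herm (γ : C.stabC R) (x y : Fin 4 → K4) :
    Cfsg.hermForm 4 K4 2 (C.nMat R γ *ᵥ x) (C.nMat R γ *ᵥ y) = Cfsg.hermForm 4 K4 2 x y := by
  rw [C.nMat_mulVec R, C.nMat_mulVec R, ← herm_emb _ _ ((C.act R γ (emb4 x)) 0) ((C.act R γ (emb4 y)) 0),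
    ← C.act_emb R, ← C.act_emb R, C.act_herm R (C.comm_of_mem R γ)]
  have h := herm_emb x y 0 0
  rwa [zero_smul, add_zero, add_zero] at h

theorem det_cube (γ : C.stabC R) : (C.nMat R γ).det * (C.nMat R γ).det * (C.nMat R γ).det = 1 := by
  refine cube_eq_one _ fun h => ?_
  have h1 : (C.nMat R (γ * γ⁻¹)).det = 1 := by rw [mul_inv_cancel, map_one, Matrix.det_one]
  rw [map_mul, Matrix.det_mul, h, zero_mul] at h1
  exact zero_ne_one h1

/-- The map into the special unitary group. -/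
noncomputable def toSU : C.stabC R →* Cfsg.SU 4 K4 2 where
  toFun γ := ⟨⟨(C.nMat R γ).det ^ 2 • C.nMat R γ, by
      rw [Matrix.det_smul, Fintype.card_fin]
      linear_combination ((C.nMat R γ).det ^ 6 + (C.nMat R γ).det ^ 3 + 1) * C.det_cube R γ⟩, fun u v => by
    show Cfsg.hermForm 4 K4 2 (((C.nMat R γ).det ^ 2 • C.nMat R γ) *ᵥ u)
      (((C.nMat R γ).det ^ 2 • C.nMat R γ) *ᵥ v) = _
    rw [Matrix.smul_mulVec, Matrix.smul_mulVec, herm_smul_left, ← C.nMat_herm R γ u v]
    simp only [Cfsg.hermForm, Pi.smul_apply, smul_eq_mul, Finset.mul_sum]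
    refine Finset.sum_congr rfl fun i _ => ?_
    linear_combination ((C.nMat R γ *ᵥ u) i * (C.nMat R γ *ᵥ v) i ^ 2) *
      ((C.nMat R γ).det ^ 3 + 1) * C.det_cube R γ⟩
  map_one' := Subtype.ext (Subtype.ext (by simp))
  map_mul' γ δ := Subtype.ext (Subtype.ext (by
    show (C.nMat R (γ * δ)).det ^ 2 • C.nMat R (γ * δ) =
      ((C.nMat R γ).det ^ 2 • C.nMat R γ) * ((C.nMat R δ).det ^ 2 • C.nMat R δ)
    rw [map_mul, Matrix.det_mul, mul_pow, smul_mul_smul_comm]))

theorem no_weight_four {γ : Γ} {f : Fin 6 → Option (ZMod 3)} (hf : (supp f).card = 4) :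
    γ • C.Φ pairVec ≠ C.Φ f := by
  intro h
  have k0 : kind pairVec = 0 := by decide
  obtain ⟨S, hS5, hS0, hSiff, hS7, hSd, -⟩ := C.orbit_data R (f := pairVec) (by rw [k0]; decide)
  rw [k0] at hS0
  have h1 : kind f = 1 := by simp [kind, kd, hf]
  exact (small_sum S hS0 hS5 hS7 hSd).1 (h1 ▸ (hSiff f).1 ((C.mem_orbSet R).2 ⟨γ, h⟩))

theorem pair_fix {γ : C.stabC R} (hγ : C.nMat R γ = 1) {i j : Fin 4} (hij : i ≠ j) {t : K4} (ht : t ≠ 0) :
    C.act R γ (emb4 (Pi.single i 1 + Pi.single j t)) = emb4 (Pi.single i 1 + Pi.single j t) := by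
  classical
  set x : Fin 4 → K4 := Pi.single i 1 + Pi.single j t with hx
  have hy := C.act_emb R γ x
  rw [← C.nMat_mulVec R, hγ, Matrix.one_mulVec] at hy
  by_cases hc : C.act R γ (emb4 x) 0 = 0
  · rwa [hc, zero_smul, add_zero] at hy
  exfalso
  have h2 := pair_weight i j hij t 0 ht
  rw [if_pos rfl, zero_smul, add_zero] at h2
  have h4 := pair_weight i j hij t (C.act R γ (emb4 x) 0) ht
  rw [if_neg hc, ← hx, ← hy] at h4
  rw [← hx] at h2
  have k0 : kind pairVec = 0 := by decide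
  have k2 : kind pairVec = kind (fun l => toK.symm (emb4 x l)) := by
    rw [k0, kind, C.supp_symm R, h2]; rfl
  obtain ⟨δ, hδ⟩ := C.same_orbit R k2 (by rw [k0]; decide)
  refine C.no_weight_four R (γ := (γ : Γ) * δ) (f := fun l => toK.symm (C.act R γ (emb4 x) l)) ?_ ?_
  · rw [C.supp_symm R]; exact h4
  · rw [mul_smul, hδ, ← C.vK_apply R, ← C.vK_apply R, C.vK_act]

theorem emb_fix {γ : C.stabC R} (hγ : C.nMat R γ = 1) (x : Fin 4 → K4) : C.act R γ (emb4 x) = emb4 x := by
  have hw : wK + 1 ≠ (0 : K4) := by decide +kernel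
  have hs : ∀ j : Fin 4, C.act R γ (emb4 (Pi.single j 1)) = emb4 (Pi.single j 1) := by
    intro j
    obtain ⟨i, hi⟩ := exists_ne j
    have h1 := C.pair_fix R hγ hi (t := 1) one_ne_zero
    have h2 := C.pair_fix R hγ hi (t := wK) (by decide +kernel)
    have e : emb4 (Pi.single i 1 + Pi.single j 1) + emb4 (Pi.single i 1 + Pi.single j wK) =
        (wK + 1) • emb4 (Pi.single j 1) := by
      rw [← emb4_add, ← emb4_smul]
      congr 1
      funext l
      simp only [Pi.add_apply, Pi.smul_apply, Pi.single_apply, smul_eq_mul]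
      split_ifs <;> first | ring1 | linear_combination two_eq_zero | linear_combination -two_eq_zero |
        (subst_vars; exact absurd rfl hi)
    have h3 := C.act_add R γ (emb4 (Pi.single i 1 + Pi.single j 1)) (emb4 (Pi.single i 1 + Pi.single j wK))
    rw [h1, h2, e, C.act_smul R (C.comm_of_mem R γ)] at h3
    exact smul_right_injective _ hw h3
  have he : emb4 x = x 0 • emb4 (Pi.single 0 1) + x 1 • emb4 (Pi.single 1 1) + x 2 • emb4 (Pi.single 2 1)
      + x 3 • emb4 (Pi.single 3 1) := by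
    funext l; fin_cases l <;> simp [emb4]
  rw [he, C.act_add, C.act_add, C.act_add]
  simp only [C.act_smul R (C.comm_of_mem R γ), hs]

theorem ker_cases {γ : C.stabC R} (hγ : C.nMat R γ = 1) :
    γ = 1 ∨ ∀ x : Fin 6 → K4, C.act R γ x = x ∘ ⇑(Equiv.swap (0 : Fin 6) 1) := by
  have hc := C.comm_of_mem R γ
  set e : Fin 6 → K4 := Pi.single 0 1 with he
  set y := C.act R γ e with hy
  have hx : ∀ x : Fin 6 → K4, x = (x 0 + x 1) • e + x 1 • uK + emb4 (prj4 x) := by
    intro x; funext l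
    rw [Pi.add_apply, Pi.add_apply, Pi.smul_apply, Pi.smul_apply]
    fin_cases l <;> simp [he, uK, emb4, prj4]
    linear_combination -x 1 * two_eq_zero
  have hform : ∀ x : Fin 6 → K4, C.act R γ x = (x 0 + x 1) • y + x 1 • uK + emb4 (prj4 x) := by
    intro x
    conv_lhs => rw [hx x]
    rw [C.act_add, C.act_add, C.act_smul R hc, C.act_smul R hc, C.act_uK R, C.emb_fix R hγ]
  have hh : ∀ j : Fin 4, Cfsg.hermForm 6 K4 2 y (emb4 (Pi.single j 1)) =
      Cfsg.hermForm 6 K4 2 e (emb4 (Pi.single j 1)) := fun j => by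
    conv_lhs => rw [← C.emb_fix R hγ (Pi.single j 1)]
    exact C.act_herm R hc _ _
  have y2 : ∀ l : Fin 6, l ≠ 0 → l ≠ 1 → y l = 0 := by
    have a := hh 0; have b := hh 1; have c := hh 2; have d := hh 3
    simp [Cfsg.hermForm, Fin.sum_univ_six, emb4, he] at a b c d
    intro l l0 l1
    fin_cases l <;> first | exact absurd rfl l0 | exact absurd rfl l1 | assumption
  have h1 := C.act_herm R hc e uK
  rw [C.act_uK R, ← hy, herm_uK, herm_uK] at h1
  have h2 := C.act_herm R hc e e
  rw [← hy] at h2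
  simp [Cfsg.hermForm, Fin.sum_univ_six, he, y2] at h1 h2
  rcases two_points _ _ h1 h2 with ⟨a, b⟩ | ⟨a, b⟩
  · left
    refine Subtype.ext (C.act_inj R fun x => ?_)
    rw [Subgroup.coe_one, C.act_one, hform]
    conv_rhs => rw [hx x]
    congr 3
    funext l
    by_cases l0 : l = 0
    · subst l0; simp [he, a]
    by_cases l1 : l = 1
    · subst l1; simp [he, b]
    simp [he, y2 l l0 l1, l0]
  · right
    intro x
    rw [hform]
    funext l
    rw [Pi.add_apply, Pi.add_apply, Pi.smul_apply, Pi.smul_apply]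
    by_cases l0 : l = 0
    · subst l0; simp [uK, emb4, a]
    by_cases l1 : l = 1
    · subst l1
      simp [uK, emb4, b]
      linear_combination x 1 * two_eq_zero
    fin_cases l <;> first | exact absurd rfl l0 | exact absurd rfl l1 | simp [uK, emb4, prj4, y2, Equiv.swap_apply_def]

theorem card_nker : Nat.card (C.nMat R).ker ≤ 2 := by
  classical
  let g : (C.nMat R).ker → Fin 2 := fun γ => if (γ : C.stabC R) = 1 then 0 else 1
  have hg : Function.Injective g := by
    intro γ δ h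
    simp only [g] at h
    refine Subtype.ext ?_
    split_ifs at h with a b b
    · rw [a, b]
    · exact absurd h (by decide)
    · exact absurd h (by decide)
    · refine Subtype.ext (C.act_inj R fun x => ?_)
      rw [((C.ker_cases R (MonoidHom.mem_ker.1 γ.2)).resolve_left a) x,
        ((C.ker_cases R (MonoidHom.mem_ker.1 δ.2)).resolve_left b) x]
  exact (Nat.card_le_card_of_injective g hg).trans (Nat.card_fin 2).le

theorem card_toSU_ker : Nat.card (C.toSU R).ker ≤ 6 := by
  classical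
  let g : (C.toSU R).ker →* K4ˣ :=
    MonoidHom.toHomUnits ((Matrix.detMonoidHom.comp (C.nMat R)).comp (C.toSU R).ker.subtype)
  have hle : g.ker.map (C.toSU R).ker.subtype ≤ (C.nMat R).ker := by
    rintro _ ⟨γ, hγ, rfl⟩
    have h1 : (C.nMat R (γ : C.stabC R)).det = 1 := congrArg Units.val (MonoidHom.mem_ker.1 hγ)
    have h2 : (C.nMat R (γ : C.stabC R)).det ^ 2 • C.nMat R (γ : C.stabC R) = 1 :=
      congrArg (fun s : Cfsg.SU 4 K4 2 => (s : Matrix.SpecialLinearGroup (Fin 4) K4).1) (MonoidHom.mem_ker.1 γ.2)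
    rw [h1, one_pow, one_smul] at h2
    exact MonoidHom.mem_ker.2 h2
  have h3 := Subgroup.card_le_of_le hle
  rw [Subgroup.card_map_of_injective (Subgroup.subtype_injective _)] at h3
  rw [← Subgroup.card_mul_index g.ker, Subgroup.index_ker]
  refine (Nat.mul_le_mul (h3.trans (C.card_nker R)) (Subgroup.card_le_card_group g.range)).trans ?_
  rw [Nat.card_eq_fintype_card, Fintype.card_units, card_K4]

theorem stab_card : Nat.card (MulAction.stabilizer Γ (C.Φ pairVec)) = 51840 := by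
  have k0 : kind pairVec = 0 := by decide
  obtain ⟨S, hS5, hS0, -, hS7, hSd, hSn⟩ := C.orbit_data R (f := pairVec) (by rw [k0]; decide)
  rw [k0] at hS0
  rw [(small_sum S hS0 hS5 hS7 hSd).2] at hSn
  have h := Subgroup.card_mul_index (MulAction.stabilizer Γ (C.Φ pairVec))
  rw [MulAction.index_stabilizer, ← Nat.card_coe_set_eq, hSn, R.cardΓ] at h
  omega

theorem omega_cases (γ : Γ) : γ * ω = ω * γ ∨ γ * ω = ω⁻¹ * γ := by
  rcases eq_or_inv_of_three R.hω (R.ωnorm γ) (fun h => by
    rw [mul_inv_eq_one, mul_eq_left] at h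
    have := R.hω
    rw [h, orderOf_one] at this
    omega) with h | h
  · exact Or.inl (mul_inv_eq_iff_eq_mul.1 h)
  · exact Or.inr (mul_inv_eq_iff_eq_mul.1 h)

theorem stab_card_le : Nat.card (MulAction.stabilizer Γ (C.Φ pairVec)) ≤ 2 * Nat.card (C.stabC R) := by
  classical
  by_cases hx : ∃ x ∈ MulAction.stabilizer Γ (C.Φ pairVec), ¬ (x * ω = ω * x)
  swap
  · push Not at hx
    refine le_trans (Subgroup.card_le_of_le ?_) (Nat.le_mul_of_pos_left _ two_pos)
    exact fun γ hγ => ⟨hγ, Subgroup.mem_centralizer_singleton_iff.2 (hx γ hγ)⟩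
  obtain ⟨x, hxS, hxω⟩ := hx
  have hxi := (C.omega_cases R x).resolve_left hxω
  let g : MulAction.stabilizer Γ (C.Φ pairVec) → Fin 2 × C.stabC R := fun γ =>
    if h : (γ : Γ) * ω = ω * γ then (0, ⟨γ, γ.2, Subgroup.mem_centralizer_singleton_iff.2 h⟩)
    else (1, ⟨x * γ, mul_mem hxS γ.2, Subgroup.mem_centralizer_singleton_iff.2 (by
      have hi := (C.omega_cases R γ).resolve_left h
      have hx2 : x * ω⁻¹ = ω * x := by
        rw [mul_inv_eq_iff_eq_mul, mul_assoc, hxi, mul_inv_cancel_left]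
      rw [mul_assoc, hi, ← mul_assoc, hx2, mul_assoc])⟩)
  have hg : Function.Injective g := by
    intro γ δ h
    simp only [g] at h
    split_ifs at h with a b b
    · exact Subtype.ext (congrArg (fun p : Fin 2 × C.stabC R => (p.2 : Γ)) h)
    · exact absurd (congrArg Prod.fst h) (show (0 : Fin 2) ≠ 1 by decide)
    · exact absurd (congrArg Prod.fst h) (show (1 : Fin 2) ≠ 0 by decide)
    · exact Subtype.ext (mul_left_cancel (congrArg (fun p : Fin 2 × C.stabC R => (p.2 : Γ)) h))
  refine (Nat.card_le_card_of_injective g hg).trans ?_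
  rw [Nat.card_prod, Nat.card_fin]

theorem toSU_surj : Function.Surjective (C.toSU R) := by
  have h1 := C.stab_card_le R
  rw [C.stab_card R] at h1
  have h2 := Subgroup.card_mul_index (C.toSU R).range
  rw [card_su42.1] at h2
  have h3 := Subgroup.card_mul_index (C.toSU R).ker
  rw [Subgroup.index_ker] at h3
  have h4 := C.card_toSU_ker R
  have h6 : (C.toSU R).range.index ≤ 6 := by
    by_contra hgt
    push Not at hgt
    have := Nat.mul_le_mul h4 (le_refl (Nat.card (C.toSU R).range))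
    have := Nat.mul_le_mul (le_refl (Nat.card (C.toSU R).range)) hgt
    omega
  have hs := QuotientGroup.mk'_surjective (Subgroup.center (Cfsg.SU 4 K4 2))
  have h7 : ((C.toSU R).range.map (QuotientGroup.mk' (Subgroup.center (Cfsg.SU 4 K4 2)))).index =
      (C.toSU R).range.index :=
    Subgroup.index_map_eq _ hs (by rw [QuotientGroup.ker_mk', card_su42.2]; exact bot_le)
  rw [← MonoidHom.range_eq_top, ← Subgroup.index_eq_one, ← h7, Subgroup.index_eq_one]
  by_contra hne
  have h27 := (CfsgLib.MinIndexPSU4.psu_four_min_index (K := K4) (q := 2) card_K4).1 _ hne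
  rw [h7] at h27
  omega

section NoSwap

/-- The scaling making a vector of full support constant. -/
def dvec (c : ZMod 3) : Fin 6 → K4 := fun i => if i = 0 then wK ^ c.val else 1

theorem vK_dvec (c : ZMod 3) : C.vK R (dvec c) = C.Φ (fullRep c) := by
  have h : ∀ c : ZMod 3, ∀ i, toK.symm (dvec c i) = fullRep c i := by decide +kernel
  rw [C.vK_apply]
  exact congrArg C.Φ (funext (h c))

/-- `γ` acts as the permutation `σ` in scaled coordinates. -/
def Perms (c : ZMod 3) (γ : Γ) (σ : Equiv.Perm (Fin 6)) : Prop :=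
  ∀ x : Fin 6 → K4, C.act R γ (dvec c * x) = dvec c * (x ∘ σ.symm)

theorem perms_mul {c : ZMod 3} {γ δ : Γ} {σ τ : Equiv.Perm (Fin 6)} (h : C.Perms R c γ σ) (h' : C.Perms R c δ τ) :
    C.Perms R c (γ * δ) (σ * τ) := fun x => by
  rw [C.act_mul, h', h]; rfl

theorem perms_unique {c : ZMod 3} {γ δ : Γ} {σ : Equiv.Perm (Fin 6)} (h : C.Perms R c γ σ) (h' : C.Perms R c δ σ) :
    γ = δ := by
  refine C.act_inj R fun x => ?_
  have hd : dvec c * (fun i => (dvec c i)⁻¹ * x i) = x := by
    funext i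
    have : ∀ c : ZMod 3, ∀ i, dvec c i ≠ 0 := by decide +kernel
    simp [mul_inv_cancel₀ (this c i), ← mul_assoc]
  rw [← hd, h, h']

theorem perms_swap {c : ZMod 3} {k : C.stabC R}
    (hk : ∀ x : Fin 6 → K4, C.act R k x = x ∘ ⇑(Equiv.swap (0 : Fin 6) 1)) :
    ∃ γ, C.Perms R c γ (Equiv.swap 0 1) := by
  obtain ⟨a, ha, had⟩ := C.dsurj (fun i => if i = 0 then c else if i = 1 then -c else 0) (by
    simp [Fin.sum_univ_six])
  refine ⟨a * k, fun x => ?_⟩
  rw [C.act_mul, hk, C.act_A R ha, had]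
  funext i
  have hc : ∀ c : ZMod 3, wK ^ (-c).val * wK ^ c.val = 1 := by decide +kernel
  by_cases h0 : i = 0
  · subst h0; simp [dvec]
  by_cases h1 : i = 1
  · subst h1; simp [dvec, ← mul_assoc, hc]
  simp [dvec, h0, h1, Equiv.swap_apply_of_ne_of_ne h0 h1]

theorem perms_even {c : ZMod 3} {σ : Equiv.Perm (Fin 6)} (hσ : σ ∈ alternatingGroup (Fin 6)) :
    ∃ γ, C.Perms R c γ σ := by
  classical
  obtain ⟨l, hl⟩ := MonoidHom.mem_range.1 (C.ρ_range.symm ▸ hσ : σ ∈ C.ρ.range)
  obtain ⟨t, rfl⟩ := R.π_surj l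
  obtain ⟨g, hg⟩ := C.Φ.surjective ((t : Γ) • C.Φ (fullRep c))
  have hgs : C.Φ.symm ((t : Γ) • C.Φ (fullRep c)) = g := by rw [← hg, Equiv.symm_apply_apply]
  obtain ⟨a, ha, hag⟩ := C.exists_A R (f := g) (g := fullRep c)
    (by rw [← hgs, C.supp_T_full R t (supp_fullRep c), supp_fullRep])
    (Or.inr (by rw [← hgs, C.clsum_T R t (supp_fullRep c)]))
  refine ⟨a * t, fun x => ?_⟩
  have hc : a * (t : Γ) * ω = ω * (a * t) :=
    ((show Commute ω a from R.ωA_comm a ha).mul_right (show Commute ω (t : Γ) from R.ωT_comm t t.2)).eq.symm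
  have hfix : C.act R (a * t) (dvec c) = dvec c :=
    (C.vK R).injective (by rw [C.vK_act, mul_smul, C.vK_dvec R, ← hg, hag])
  have hone : ∀ i l : Fin 6, l ≠ σ i → C.act R (a * t) (Pi.single i 1) l = 0 := by
    intro i l hne
    rw [C.act_mul, C.act_A R ha]
    have h := C.smulT t (fun k => toK.symm ((Pi.single i 1 : Fin 6 → K4) k))
    rw [hl, ← C.vK_apply R, ← C.vK_act] at h
    rw [show C.Φ.symm (C.vK R (C.act R t (Pi.single i 1))) =
      fun k => toK.symm (C.act R t (Pi.single i 1) k) by rw [C.vK_apply, Equiv.symm_apply_apply],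
      C.supp_symm R, C.supp_symm R] at h
    have hl' : l ∉ (Finset.univ.filter fun k => (Pi.single i (1 : K4) : Fin 6 → K4) k ≠ 0).image σ := by
      simp only [Finset.mem_image, Finset.mem_filter, Finset.mem_univ, true_and, not_exists, not_and]
      intro k hk e
      by_cases hki : k = i
      · exact hne (hki ▸ e.symm)
      · exact hk (Pi.single_eq_of_ne hki 1)
    rw [← h] at hl'
    simp only [Finset.mem_filter, Finset.mem_univ, true_and, not_not] at hl'
    show _ * C.act R t (Pi.single i 1) l = 0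
    rw [hl', mul_zero]
  let F : (Fin 6 → K4) →+ (Fin 6 → K4) := AddMonoidHom.mk' (C.act R (a * t)) (C.act_add R _)
  have hexp : ∀ y : Fin 6 → K4, ∀ l, C.act R (a * t) y l =
      y (σ.symm l) * C.act R (a * t) (Pi.single (σ.symm l) 1) l := by
    intro y l
    have hy : y = ∑ i, y i • (Pi.single i (1 : K4) : Fin 6 → K4) := by
      funext k
      rw [Finset.sum_apply, Finset.sum_eq_single k (fun b _ hb => by simp [Pi.single_eq_of_ne hb.symm]) (by simp)]
      simp
    have h1 : C.act R (a * t) y = ∑ i, y i • C.act R (a * t) (Pi.single i 1) := by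
      conv_lhs => rw [hy]
      show F _ = _
      rw [map_sum]
      exact Finset.sum_congr rfl fun i _ => C.act_smul R hc _ _
    rw [h1, Finset.sum_apply, Finset.sum_eq_single (σ.symm l) (fun b _ hb => by
      rw [Pi.smul_apply, hone b l (fun e => hb (by rw [e, Equiv.symm_apply_apply])), smul_zero]) (by simp)]
    rfl
  funext l
  have h2 := hexp (dvec c) l
  rw [hfix] at h2
  rw [hexp, Pi.mul_apply, Pi.mul_apply, Function.comp_apply]
  conv_rhs => rw [h2]
  ring

theorem no_swap {c : ZMod 3} (hX : Nat.card (MulAction.stabilizer Γ (C.Φ (fullRep c))) = 11520)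
    (E : Subgroup Γ) (hEX : E ≤ MulAction.stabilizer Γ (C.Φ (fullRep c))) (hE : Nat.card E = 32)
    (hEn : ∀ γ ∈ MulAction.stabilizer Γ (C.Φ (fullRep c)), ∀ e ∈ E, γ * e * γ⁻¹ ∈ E)
    (k : C.stabC R) : ¬ ∀ x : Fin 6 → K4, C.act R k x = x ∘ ⇑(Equiv.swap (0 : Fin 6) 1) := by
  classical
  intro hk
  have hex : ∀ σ, ∃ γ, C.Perms R c γ σ := by
    intro σ
    by_cases hσ : σ ∈ alternatingGroup (Fin 6)
    · exact C.perms_even R hσ
    obtain ⟨γ, hγ⟩ := C.perms_even R (c := c) (σ := σ * Equiv.swap 0 1) (by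
      rw [Equiv.Perm.mem_alternatingGroup] at hσ ⊢
      rw [map_mul, Equiv.Perm.sign_swap (by decide : (0 : Fin 6) ≠ 1)]
      rcases Int.units_eq_one_or (Equiv.Perm.sign σ) with e | e
      · exact absurd e hσ
      · rw [e]; rfl)
    obtain ⟨δ, hδ⟩ := C.perms_swap R (c := c) hk
    refine ⟨γ * δ, ?_⟩
    have := C.perms_mul R hγ hδ
    rwa [mul_assoc, Equiv.swap_mul_self, mul_one] at this
  choose ψ₀ hψ₀ using hex
  let ψ : Equiv.Perm (Fin 6) →* Γ := MonoidHom.mk' ψ₀ fun σ τ =>
    C.perms_unique R (hψ₀ (σ * τ)) (C.perms_mul R (hψ₀ σ) (hψ₀ τ))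
  have hψ : ∀ σ, C.Perms R c (ψ σ) σ := hψ₀
  have hinj : Function.Injective ψ := by
    rw [injective_iff_map_eq_one]
    intro σ h
    refine Equiv.ext fun i => ?_
    have h1 := hψ σ (Pi.single i 1)
    rw [h, C.act_one] at h1
    have h2 := congrFun h1 (σ i)
    have hd : ∀ c : ZMod 3, ∀ j, dvec c j ≠ 0 := by decide +kernel
    rw [Pi.mul_apply, Pi.mul_apply, Function.comp_apply, Equiv.symm_apply_apply, Pi.single_eq_same] at h2
    by_contra hne
    rw [Pi.single_eq_of_ne (show σ i ≠ i from hne), mul_zero, mul_one] at h2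
    exact hd c (σ i) h2.symm
  have hmem : ∀ σ, ψ σ ∈ MulAction.stabilizer Γ (C.Φ (fullRep c)) := by
    intro σ
    rw [MulAction.mem_stabilizer_iff, ← C.vK_dvec R, ← C.vK_act]
    have h1 := hψ σ 1
    rw [mul_one, show (1 : Fin 6 → K4) ∘ σ.symm = 1 from rfl, mul_one] at h1
    rw [h1]
  set N := E.comap ψ
  haveI hN : N.Normal := ⟨fun n hn g => by
    rw [Subgroup.mem_comap] at hn ⊢
    rw [map_mul, map_mul, map_inv]
    exact hEn _ (hmem g) _ hn⟩
  have hA6 : Nat.card ↥(alternatingGroup (Fin 6)) = 360 := by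
    have h := two_mul_nat_card_alternatingGroup (α := Fin 6)
    rw [Nat.card_perm, Nat.card_fin, show Nat.factorial 6 = 2 * 360 from rfl] at h
    omega
  haveI : IsSimpleGroup ↥(alternatingGroup (Fin 6)) := alternatingGroup.isSimpleGroup (by simp)
  rcases (hN.subgroupOf (alternatingGroup (Fin 6))).eq_bot_or_eq_top with hb | ht
  · have hN1 : ∀ n ∈ N, n = 1 := by
      intro n hn
      have hcomm : ∀ τ ∈ alternatingGroup (Fin 6), τ * n = n * τ := by
        intro τ hτ
        have h1 : n * τ * n⁻¹ * τ⁻¹ ∈ N := by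
          rw [show n * τ * n⁻¹ * τ⁻¹ = n * (τ * n⁻¹ * τ⁻¹) by group]
          exact mul_mem hn (hN.conj_mem _ (inv_mem hn) τ)
        have h2 : n * τ * n⁻¹ * τ⁻¹ ∈ alternatingGroup (Fin 6) :=
          mul_mem ((alternatingGroup.normal).conj_mem _ hτ n) (inv_mem hτ)
        have h3 : (⟨_, h2⟩ : alternatingGroup (Fin 6)) ∈ N.subgroupOf (alternatingGroup (Fin 6)) := h1
        rw [hb, Subgroup.mem_bot] at h3
        exact (mul_inv_eq_iff_eq_mul.1 (mul_inv_eq_one.1 (congrArg Subtype.val h3))).symm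
      refine perm_central n (hcomm _ ?_) (hcomm _ ?_) (hcomm _ ?_) <;>
        simp [Equiv.Perm.mem_alternatingGroup]
    let g : Equiv.Perm (Fin 6) × E → MulAction.stabilizer Γ (C.Φ (fullRep c)) :=
      fun p => ⟨ψ p.1 * (p.2 : Γ), mul_mem (hmem _) (hEX p.2.2)⟩
    have hg : Function.Injective g := by
      rintro ⟨σ, e⟩ ⟨σ', e'⟩ h
      have h1 : ψ σ * (e : Γ) = ψ σ' * (e' : Γ) := congrArg Subtype.val h
      have h2 : σ'⁻¹ * σ ∈ N := by
        rw [Subgroup.mem_comap, map_mul, map_inv,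
          show (ψ σ')⁻¹ * ψ σ = (e' : Γ) * (e : Γ)⁻¹ by rw [eq_mul_inv_iff_mul_eq, mul_assoc, h1, inv_mul_cancel_left]]
        exact mul_mem e'.2 (inv_mem e.2)
      have h3 : σ' = σ := inv_mul_eq_one.1 (hN1 _ h2)
      subst h3
      rw [Subtype.ext (mul_left_cancel h1)]
    have := Nat.card_le_card_of_injective g hg
    rw [Nat.card_prod, Nat.card_perm, Nat.card_fin, hE, hX, show Nat.factorial 6 = 720 from rfl] at this
    omega
  · have hle : (alternatingGroup (Fin 6)).map ψ ≤ E :=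
      Subgroup.map_le_iff_le_comap.2 (Subgroup.subgroupOf_eq_top.1 ht)
    have := Subgroup.card_le_of_le hle
    rw [Subgroup.card_map_of_injective hinj, hA6, hE] at this
    omega

end NoSwap

theorem toSU_inj {c : ZMod 3} (hX : Nat.card (MulAction.stabilizer Γ (C.Φ (fullRep c))) = 11520)
    (E : Subgroup Γ) (hEX : E ≤ MulAction.stabilizer Γ (C.Φ (fullRep c))) (hE : Nat.card E = 32)
    (hEn : ∀ γ ∈ MulAction.stabilizer Γ (C.Φ (fullRep c)), ∀ e ∈ E, γ * e * γ⁻¹ ∈ E) :
    Function.Injective (C.toSU R) := by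
  classical
  set S := MulAction.stabilizer Γ (C.Φ pairVec) with hS
  have hsurj := C.toSU_surj R
  have hn1 : ∀ γ, C.nMat R γ = 1 → γ = 1 := fun γ hγ =>
    (C.ker_cases R hγ).resolve_right (C.no_swap R hX E hEX hE hEn γ)
  have hinj : Function.Injective (C.toSU R) := by
    rw [injective_iff_map_eq_one]
    intro γ hγ
    have h2 : (C.nMat R γ).det ^ 2 • C.nMat R γ = 1 :=
      congrArg (fun s : Cfsg.SU 4 K4 2 => (s : Matrix.SpecialLinearGroup (Fin 4) K4).1) hγ
    have hscal : C.nMat R γ = (C.nMat R γ).det • (1 : Matrix (Fin 4) (Fin 4) K4) := by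
      conv_rhs => rw [← h2, smul_smul,
        show (C.nMat R γ).det * (C.nMat R γ).det ^ 2 = 1 by rw [pow_two, ← mul_assoc]; exact C.det_cube R γ,
        one_smul]
    by_contra hne
    have hker : 2 ≤ Nat.card (C.toSU R).ker := by
      haveI : Nontrivial (C.toSU R).ker := ⟨⟨1, one_mem _⟩, ⟨γ, hγ⟩, fun e => hne (congrArg Subtype.val e).symm⟩
      exact Finite.one_lt_card
    have hk3 : Nat.card (C.toSU R).ker ≤ 3 := by
      let g : (C.toSU R).ker → {a : K4 // a ≠ 0} := fun δ => ⟨(C.nMat R δ.1).det, fun h0 => by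
        have := C.det_cube R δ.1
        rw [h0, zero_mul, zero_mul] at this
        exact zero_ne_one this⟩
      have hg : Function.Injective g := by
        intro δ δ' h
        have hd : (C.nMat R δ.1).det = (C.nMat R δ'.1).det := congrArg Subtype.val h
        have hM : ∀ δ : (C.toSU R).ker, (C.nMat R δ.1).det ^ 2 • C.nMat R δ.1 = 1 := fun δ =>
          congrArg (fun s : Cfsg.SU 4 K4 2 => (s : Matrix.SpecialLinearGroup (Fin 4) K4).1)
            (MonoidHom.mem_ker.1 δ.2)
        have he : C.nMat R δ.1 = C.nMat R δ'.1 := by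
          have h1 := hM δ
          rw [hd, ← hM δ'] at h1
          refine smul_right_injective _ (pow_ne_zero 2 fun h0 => ?_) h1
          exact (g δ').2 h0
        have h1 : C.nMat R (δ.1⁻¹ * δ'.1) = 1 := by rw [map_mul, ← he, ← map_mul, inv_mul_cancel, map_one]
        exact Subtype.ext (inv_mul_eq_one.1 (hn1 _ h1))
      refine (Nat.card_le_card_of_injective g hg).trans_eq ?_
      rw [Nat.card_eq_fintype_card, Fintype.card_subtype_compl, Fintype.card_subtype_eq, card_K4]
    have h1 := C.stab_card_le R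
    have h3 := Subgroup.card_mul_index (C.toSU R).ker
    rw [Subgroup.index_ker, MonoidHom.range_eq_top.2 hsurj, Subgroup.card_top, card_su42.1] at h3
    have h5 := Subgroup.card_le_of_le (show C.stabC R ≤ S from inf_le_left)
    rw [C.stab_card R] at h5
    have hkey : Nat.card (C.toSU R).ker = 2 := by omega
    have hord : γ ^ 2 = 1 := by
      have := pow_card_eq_one' (x := (⟨γ, hγ⟩ : (C.toSU R).ker))
      rw [hkey] at this
      exact congrArg Subtype.val this
    have hd1 : (C.nMat R γ).det = 1 := by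
      have h6 := congrArg (fun δ => (C.nMat R δ).det) hord
      simp only [map_pow, Matrix.det_pow, map_one, Matrix.det_one] at h6
      have h7 := C.det_cube R γ
      rw [← pow_two, h6, one_mul] at h7
      exact h7
    rw [hd1, one_smul] at hscal
    exact hne (hn1 γ hscal)
  exact hinj

/-- The stabilizer of a vector of weight two is the automorphism group of `PSU 4 2`. -/
theorem ustab {c : ZMod 3} (hX : Nat.card (MulAction.stabilizer Γ (C.Φ (fullRep c))) = 11520)
    (E : Subgroup Γ) (hEX : E ≤ MulAction.stabilizer Γ (C.Φ (fullRep c))) (hE : Nat.card E = 32)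
    (hEn : ∀ γ ∈ MulAction.stabilizer Γ (C.Φ (fullRep c)), ∀ e ∈ E, γ * e * γ⁻¹ ∈ E) :
    Nonempty (↥(MulAction.stabilizer Γ (C.Φ pairVec)) ≃* MulAut (Cfsg.PSU 4 K4 2)) := by
  classical
  set S := MulAction.stabilizer Γ (C.Φ pairVec) with hS
  have hsurj := C.toSU_surj R
  have hinj := C.toSU_inj R hX E hEX hE hEn
  let eSU := MulEquiv.ofBijective (C.toSU R) ⟨hinj, hsurj⟩
  let ePSU : Cfsg.SU 4 K4 2 ≃* Cfsg.PSU 4 K4 2 :=
    MulEquiv.ofBijective (QuotientGroup.mk' (Subgroup.center (Cfsg.SU 4 K4 2)))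
      ⟨by rw [← MonoidHom.ker_eq_bot_iff, QuotientGroup.ker_mk', card_su42.2], QuotientGroup.mk'_surjective _⟩
  let N : Subgroup S := (C.stabC R).subgroupOf S
  have hNn : N.Normal := ⟨fun n hn g => by
    rw [Subgroup.mem_subgroupOf] at hn ⊢
    refine ⟨(g * n * g⁻¹).2, Subgroup.mem_centralizer_singleton_iff.2 ?_⟩
    have hn' : (n : Γ) * ω = ω * (n : Γ) := Subgroup.mem_centralizer_singleton_iff.1 hn.2
    have hg : ∀ a b : Γ, (g : Γ) * a = b * g → (g : Γ)⁻¹ * b = a * (g : Γ)⁻¹ := fun a b h => by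
      rw [inv_mul_eq_iff_eq_mul, ← mul_assoc, h, mul_inv_cancel_right]
    simp only [Subgroup.coe_mul, InvMemClass.coe_inv]
    rcases C.omega_cases R g with h | h
    · calc (g : Γ) * n * (g : Γ)⁻¹ * ω = g * ((n : Γ) * ω) * (g : Γ)⁻¹ := by
            rw [mul_assoc _ _ ω, hg _ _ h]; group
        _ = g * ω * n * (g : Γ)⁻¹ := by rw [hn']; group
        _ = _ := by rw [h]; group
    · have hni : (n : Γ) * ω⁻¹ = ω⁻¹ * (n : Γ) := (show Commute (n : Γ) ω from hn').inv_right.eq
      have hgi : (g : Γ) * ω⁻¹ = ω * g := by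
        rw [mul_inv_eq_iff_eq_mul, mul_assoc, h, mul_inv_cancel_left]
      calc (g : Γ) * n * (g : Γ)⁻¹ * ω = g * ((n : Γ) * ω⁻¹) * (g : Γ)⁻¹ := by
            rw [mul_assoc _ _ ω, hg _ _ hgi]; group
        _ = g * ω⁻¹ * n * (g : Γ)⁻¹ := by rw [hni]; group
        _ = _ := by rw [hgi]; group⟩
  let eN : ↥N ≃* Cfsg.PSU 4 K4 2 :=
    ((Subgroup.subgroupOfEquivOfLe (show C.stabC R ≤ S from inf_le_left)).trans eSU).trans ePSU
  refine iso_mulAut N eN (fun x hx => ?_) ?_
  · by_cases hxω : (x : Γ) * ω = ω * x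
    · have hxN : x ∈ N := ⟨x.2, Subgroup.mem_centralizer_singleton_iff.2 hxω⟩
      have hz : eSU ⟨x, x.2, Subgroup.mem_centralizer_singleton_iff.2 hxω⟩ ∈ Subgroup.center (Cfsg.SU 4 K4 2) := by
        refine Subgroup.mem_center_iff.2 fun s => ?_
        obtain ⟨y, rfl⟩ := eSU.surjective s
        rw [← map_mul, ← map_mul]
        exact congrArg eSU (Subtype.ext (congrArg Subtype.val (hx ⟨⟨y, y.2.1⟩, y.2⟩)).symm)
      rw [card_su42.2, Subgroup.mem_bot, MulEquiv.map_eq_one_iff] at hz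
      have h9 := congrArg Subtype.val hz
      exact Subtype.ext h9
    exfalso
    have hflip := (C.omega_cases R x).resolve_left hxω
    have key : ∀ d : Fin 6 → ZMod 3, ∑ i, d i = 0 → d 0 = 0 → d 1 = 0 → d 2 = 1 →
        ∀ i, d i ≠ 2 → C.act R x (Pi.single 2 1) i = 0 := by
      intro d hd h0 h1 h2 i hi
      obtain ⟨a, ha, rfl⟩ := C.dsurj d hd
      have hau : a • C.Φ pairVec = C.Φ pairVec := by
        rw [C.smulA a ha]
        refine congrArg C.Φ (funext fun l => ?_)
        fin_cases l <;> simp [shift, pairVec, h0, h1]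
      have haω : a * ω = ω * a := (R.ωA_comm a ha).symm
      have hax : a * (x : Γ) = x * a := congrArg Subtype.val
        (hx ⟨⟨a, hau⟩, hau, Subgroup.mem_centralizer_singleton_iff.2 haω⟩).symm
      have h := congrFun (C.act_wK_flip R hflip (Pi.single 2 1)) i
      have he : wK • (Pi.single 2 1 : Fin 6 → K4) = C.act R a (Pi.single 2 1) := by
        rw [C.act_A R ha]
        funext l
        by_cases hl : l = 2
        · subst hl; simp [h2, ZMod.val_one]
        · simp [Pi.single_eq_of_ne hl]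
      rw [he, ← C.act_mul, ← hax, C.act_mul, C.act_A R ha, Pi.smul_apply, smul_eq_mul] at h
      exact flip_coord _ hi _ h
    have hy : C.act R x (Pi.single 2 1) = 0 := by
      funext i
      by_cases hi : i = 3
      · subst hi
        exact key ![0, 0, 1, 0, 2, 0] (by decide) rfl rfl rfl 3 (by decide)
      · refine key ![0, 0, 1, 2, 0, 0] (by decide) rfl rfl rfl i ?_
        revert i; decide
    have h0 : C.vK R (Pi.single 2 1) = 0 := by
      have := congrArg (C.vK R) hy
      rwa [C.vK_act, C.vK_zero, smul_eq_zero_iff_eq] at this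
    rw [← C.vK_zero R] at h0
    exact (one_ne_zero : (1 : K4) ≠ 0) (by simpa using congrFun ((C.vK R).injective h0) 2)
  · rw [C.stab_card R, card_mulAut_psu42]

end Frame

end CfsgLib.LargeFischer
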