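import Cfsg.Agent.Lib.LargeFischer.Fusion
import Cfsg.Agent.Lib.LargeFischer.UStab
import Cfsg.Agent.Lib.LargeFischer.Code

/-!
The module of a group of large Fischer type as natural numbers below `4096`.
-/

set_option autoImplicit false
set_option linter.unusedSectionVars false
set_option linter.style.haveILetI false

namespace CfsgLib.LargeFischer

open Cfsg
open CfsgLib.F2Quad (Vec)
open CfsgLib.Recog.GF4

namespace Plane

/-- The permutations of the coordinates supplied by the monomial piece. -/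
def permList : List (List ℕ) := [[2, 3, 0, 1, 4, 5], [2, 3, 4, 5, 0, 1], [1, 0, 3, 2, 4, 5], [1, 0, 2, 3, 5, 4]]

/-- The columns of a permutation of the coordinates. -/
def colsOfPerm (l : List ℕ) : List ℕ := l.flatMap fun i => [4 ^ i, 2 * 4 ^ i]

/-- An action in coordinates with the properties of the centralizer modulo its extraspecial subgroup. -/
structure Model {Γ : Type*} [Group Γ] (f : Γ → ℕ → ℕ) : Prop where
  lt : ∀ γ v, v < 4096 → f γ v < 4096
  one : ∀ v, v < 4096 → f 1 v = v
  mul : ∀ γ δ v, v < 4096 → f (γ * δ) v = f γ (f δ v)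
  add : ∀ γ u, u < 4096 → ∀ v, v < 4096 → f γ (u ^^^ v) = f γ u ^^^ f γ v
  inj : ∀ γ, (∀ v, v < 4096 → f γ v = v) → γ = 1
  qinv : ∀ γ v, v < 4096 → qb (f γ v) = qb v
  sinv : ∀ γ v, v < 4096 → sb (f γ v) = sb v
  semi : ∀ γ, (∀ v, v < 4096 → f γ (wm v) = wm (f γ v)) ∨ ∀ v, v < 4096 → wm (f γ (wm v)) = f γ v
  trans : ∀ v, v < 4096 → sb v = true → ∃ γ, f γ 5 = v
  perm : ∀ l ∈ permList, ∃ γ, ∀ v, v < 4096 → f γ v = ap (colsOfPerm l) v
  noTau : ¬ ∃ γ, ∀ v, v < 4096 → f γ v = ap tau v
  card : Nat.card Γ = 19595520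

/-- The digits. -/
def dec (n : ℕ) : Fin 6 → K4 := fun i => ⟨⟨n / 4 ^ (i : ℕ) % 4, Nat.mod_lt _ (by norm_num)⟩⟩

/-- The number with the given digits. -/
def enc (x : Fin 6 → K4) : ℕ :=
  (x 0).val.1 + 4 * (x 1).val.1 + 16 * (x 2).val.1 + 64 * (x 3).val.1 + 256 * (x 4).val.1 + 1024 * (x 5).val.1

theorem enc_lt (x : Fin 6 → K4) : enc x < 4096 := by
  unfold enc; omega

theorem dec_enc (x : Fin 6 → K4) : dec (enc x) = x := by
  funext i
  have h : enc x / 4 ^ (i : ℕ) % 4 = (x i).val.1 := by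
    fin_cases i <;> simp [enc] <;> omega
  exact congrArg K4.mk (Fin.ext h)

theorem enc_dec {n : ℕ} (hn : n < 4096) : enc (dec n) = n := by
  simp [enc, dec]; omega

theorem dec_add (u v : ℕ) : dec (u ^^^ v) = dec u + dec v := by
  funext i
  have h : (u ^^^ v) / 4 ^ (i : ℕ) % 4 = ((u / 4 ^ (i : ℕ) % 4) ^^^ (v / 4 ^ (i : ℕ) % 4)) % 4 := by
    rw [show (4 : ℕ) ^ (i : ℕ) = 2 ^ (2 * (i : ℕ)) by rw [pow_mul]; rfl, Nat.xor_div_two_pow,
      Nat.xor_mod_two_pow (n := 2),
      Nat.mod_eq_of_lt (Nat.xor_lt_two_pow (n := 2) (Nat.mod_lt _ (by norm_num)) (Nat.mod_lt _ (by norm_num)))]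
  exact congrArg K4.mk (Fin.ext h)

/-- The scaling with a given class. -/
theorem wm_dec_check : allV (fun v => (List.finRange 6).all fun i =>
    decide (dec (wm v) i = wK * dec v i)) = true := by
  decide +kernel

theorem dec_wm {v : ℕ} (hv : v < 4096) : dec (wm v) = wK • dec v := by
  have h := allV_spec wm_dec_check hv
  simp only [List.all_eq_true, decide_eq_true_eq] at h
  exact funext fun i => h i (List.mem_finRange i)

theorem wgt_check : allV (fun v => decide (qb v = decide ((Finset.univ.filter fun i : Fin 6 => dec v i ≠ 0).card % 2 = 1))) =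
    true := by
  decide +kernel

theorem sb_check : ∀ k : ZMod 3, allV (fun v => decide (sb v =
    (decide (kind (fun i => toK.symm (Frame.dvec k i * dec v i)) = 0) ||
      decide (kind (fun i => toK.symm (Frame.dvec k i * dec v i)) = ⟨k.val + 2, by have := k.val_lt; omega⟩)))) = true := by
  decide +kernel

theorem orbit_kinds : ∀ S : Finset (Fin 6), (0 : Fin 6) ∈ S → (1 : Fin 6) ∉ S → (5 : Fin 6) ∉ S →
    ∑ k ∈ S, cnt k = 378 → ∃ k : ZMod 3, S = {0, ⟨k.val + 2, by have := k.val_lt; omega⟩} := by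
  decide +kernel

/-- The permutation of a list. -/
def permOf : Fin 4 → Equiv.Perm (Fin 6) := ![Equiv.swap 0 2 * Equiv.swap 1 3,
  Equiv.swap 0 2 * Equiv.swap 2 4 * (Equiv.swap 1 3 * Equiv.swap 3 5), Equiv.swap 0 1 * Equiv.swap 2 3,
  Equiv.swap 0 1 * Equiv.swap 4 5]

theorem permOf_even : ∀ j, Equiv.Perm.sign (permOf j) = 1 := by
  decide +kernel

theorem perm_check : ∀ j : Fin 4, allV (fun v => Nat.beq (enc (dec v ∘ (permOf j).symm))
    (ap (colsOfPerm (permList.getD j.val [])) v)) = true := by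
  decide +kernel

theorem tau_check : allV (fun v => Nat.beq (ap tau v) (enc (dec v ∘ Equiv.swap (0 : Fin 6) 1))) = true := by
  decide +kernel

end Plane

variable {G : Type*} [Group G] [Finite G]

/-- The coordinates inside `G`. -/
structure Coord (z : G) (Q : Subgroup (Subgroup.centralizer ({z} : Set G))) [Q.Normal]
    (f : (Subgroup.centralizer ({z} : Set G)) ⧸ Q → ℕ → ℕ) (P : G → ℕ) : Prop where
  model : Plane.Model f
  P_lt : ∀ x, P x < 4096
  P_mul : ∀ x ∈ big z Q, ∀ y ∈ big z Q, P (x * y) = P x ^^^ P y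
  P_eq_zero : ∀ x ∈ big z Q, (P x = 0 ↔ x = 1 ∨ x = z)
  P_surj : ∀ v, v < 4096 → ∃ x ∈ big z Q, P x = v
  P_sq : ∀ x ∈ big z Q, (x * x = 1 ↔ Plane.qb (P x) = false)
  P_act : ∀ c : ↥(Subgroup.centralizer ({z} : Set G)), ∀ x ∈ big z Q,
    P ((c : G) * x * (c : G)⁻¹) = f (QuotientGroup.mk c) (P x)
  conj_sb : ∀ g : G, g * z * g⁻¹ ∈ big z Q → g * z * g⁻¹ ≠ z → Plane.sb (P (g * z * g⁻¹)) = false

namespace Hyp

variable {z : G} {Q : Subgroup (Subgroup.centralizer ({z} : Set G))} [Q.Normal]
  {ρ : (Subgroup.centralizer ({z} : Set G)) ⧸ Q →* (Vec 6 ≃ₗ[ZMod 2] Vec 6)} {qf : Vec 6 → ZMod 2}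
  {p : G → Vec 6} {u w : Vec 6} (H : Hyp z Q ρ qf p u w)
include H

theorem exists_coord : ∃ f P, Coord z Q f P ∧
    ∀ x ∈ big z Q, x * x = 1 → x ≠ 1 → x ≠ z → Plane.sb (P x) = false →
      ∃ g : G, g * z * g⁻¹ = x := by
  classical
  obtain ⟨L, _, _, A, T, ω, π, R, C, c, hu, hw⟩ := H.raw
  letI : DistribMulAction ((Subgroup.centralizer ({z} : Set G)) ⧸ Q) (Vec 6) := DistribMulAction.compHom _ ρ
  obtain ⟨S, hS5, hS0, hSiff, hS7, hSd, hSn⟩ := C.orbit_data R (f := pairVec) (by decide)
  rw [show kind pairVec = 0 by decide] at hS0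
  obtain ⟨hS1, hS378⟩ := small_sum S hS0 hS5 hS7 hSd
  obtain ⟨k, hk⟩ := Plane.orbit_kinds S hS0 hS1 hS5 hS378
  have hd0 : ∀ i, Frame.dvec k i ≠ 0 := fun i => (by decide +kernel : ∀ k : ZMod 3, ∀ i, Frame.dvec k i ≠ 0) k i
  let d' : Fin 6 → K4 := fun i => (Frame.dvec k i)⁻¹
  have hdd : ∀ x : Fin 6 → K4, Frame.dvec k * (d' * x) = x := fun x => funext fun i => by
    simp [d', ← mul_assoc, mul_inv_cancel₀ (hd0 i)]
  have hdd' : ∀ x : Fin 6 → K4, d' * (Frame.dvec k * x) = x := fun x => funext fun i => by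
    simp [d', ← mul_assoc, inv_mul_cancel₀ (hd0 i)]
  let f : (Subgroup.centralizer ({z} : Set G)) ⧸ Q → ℕ → ℕ := fun γ v =>
    Plane.enc (d' * C.act R γ (Frame.dvec k * Plane.dec v))
  let P : G → ℕ := fun x => Plane.enc (d' * (C.vK R).symm (p x))
  have hfd : ∀ γ v, Frame.dvec k * Plane.dec (f γ v) = C.act R γ (Frame.dvec k * Plane.dec v) := fun γ v => by
    simp only [f, Plane.dec_enc, hdd]
  have hvKS : ∀ v, v < 4096 → (Plane.sb v = true ↔ ∃ γ, ρ γ u = C.vK R (Frame.dvec k * Plane.dec v)) := by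
    intro v hv
    rw [hu, C.vK_apply]
    have h1 := (hSiff (fun i => toK.symm ((Frame.dvec k * Plane.dec v) i))).trans
      (by rw [hk, Finset.mem_insert, Finset.mem_singleton])
    rw [C.mem_orbSet R] at h1
    have h2 := Plane.allV_spec (Plane.sb_check k) hv
    rw [decide_eq_true_eq] at h2
    rw [h2, Bool.or_eq_true, decide_eq_true_eq, decide_eq_true_eq]
    exact h1.symm
  have hvq : ∀ v, v < 4096 → (Plane.qb v = false ↔ qf (C.vK R (Frame.dvec k * Plane.dec v)) = 0) := by
    intro v hv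
    rw [C.vK_apply, C.q_eq, C.supp_symm R]
    have h2 := Plane.allV_spec Plane.wgt_check hv
    rw [decide_eq_true_eq] at h2
    rw [h2, decide_eq_false_iff_not]
    have he : (Finset.univ.filter fun i : Fin 6 => (Frame.dvec k * Plane.dec v) i ≠ 0) =
        Finset.univ.filter fun i : Fin 6 => Plane.dec v i ≠ 0 := by
      ext i; simp [hd0 i]
    rw [he, ZMod.natCast_eq_zero_iff_even, Nat.even_iff]
    omega
  have hcomm : ∀ γ, (∀ x, C.act R γ (wK • x) = wK • C.act R γ x) → γ * ω = ω * γ := by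
    intro γ h
    refine C.act_inj R fun x => ?_
    have hω : ∀ y, C.act R ω y = wK • y := fun y => (C.vK R).injective (by rw [C.vK_act, C.smul_omega])
    rw [C.act_mul, C.act_mul, hω, hω, h]
  have hsmul : ∀ x : Fin 6 → K4, Frame.dvec k * (wK • x) = wK • (Frame.dvec k * x) := fun x => mul_smul_comm _ _ _
  have hM : Plane.Model f :=
    { lt := fun γ v _ => Plane.enc_lt _
      one := fun v hv => by simp only [f, C.act_one, hdd', Plane.enc_dec hv]
      mul := fun γ δ v hv => by
        show Plane.enc _ = Plane.enc _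
        rw [C.act_mul, hfd]
      add := fun γ a ha b hb => by
        have h : Plane.dec (f γ (a ^^^ b)) = Plane.dec (f γ a ^^^ f γ b) := by
          simp only [f, Plane.dec_enc, Plane.dec_add, mul_add, C.act_add]
        have h' := congrArg Plane.enc h
        rwa [Plane.enc_dec (Plane.enc_lt _), Plane.enc_dec (Plane.xor_lt (Plane.enc_lt _) (Plane.enc_lt _))] at h'
      inj := fun γ h => C.act_inj R fun x => by
        rw [C.act_one]
        have h' := congrArg (fun n => Frame.dvec k * Plane.dec n) (h (Plane.enc (d' * x)) (Plane.enc_lt _))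
        simpa only [hfd, Plane.dec_enc, hdd] using h'
      qinv := fun γ v hv => by
        have h1 := hvq (f γ v) (Plane.enc_lt _)
        rw [hfd, C.vK_act, R.inv, ← hvq v hv] at h1
        rcases hb : Plane.qb v <;> rcases hb' : Plane.qb (f γ v) <;> simp_all
      sinv := fun γ v hv => by
        have h1 := hvKS (f γ v) (Plane.enc_lt _)
        have h2 := hvKS v hv
        rw [hfd, C.vK_act] at h1
        have h3 : (∃ δ, ρ δ u = γ • C.vK R (Frame.dvec k * Plane.dec v)) ↔ ∃ δ, ρ δ u = C.vK R (Frame.dvec k * Plane.dec v) :=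
          ⟨fun ⟨δ, h⟩ => ⟨γ⁻¹ * δ, by
            show (γ⁻¹ * δ) • u = _
            rw [mul_smul, show δ • u = _ from h, inv_smul_smul]⟩,
          fun ⟨δ, h⟩ => ⟨γ * δ, by
            show (γ * δ) • u = _
            rw [mul_smul, show δ • u = _ from h]⟩⟩
        rw [h3, ← h2] at h1
        rcases hb : Plane.sb v <;> rcases hb' : Plane.sb (f γ v) <;> simp_all
      semi := fun γ => by
        rcases C.omega_cases R γ with h | h
        · refine Or.inl fun v hv => ?_
          have h1 : Plane.dec (f γ (Plane.wm v)) = Plane.dec (Plane.wm (f γ v)) := by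
            rw [Plane.dec_wm (Plane.enc_lt _)]
            simp only [f, Plane.dec_enc, Plane.dec_wm hv, hsmul, C.act_wK R h]
            exact mul_smul_comm _ _ _
          have h' := congrArg Plane.enc h1
          rwa [Plane.enc_dec (Plane.enc_lt _), Plane.enc_dec (Plane.wm_lt (Plane.enc_lt _))] at h'
        · refine Or.inr fun v hv => ?_
          have h1 : Plane.dec (Plane.wm (f γ (Plane.wm v))) = Plane.dec (f γ v) := by
            rw [Plane.dec_wm (Plane.enc_lt _)]
            simp only [f, Plane.dec_enc, Plane.dec_wm hv, hsmul]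
            rw [← mul_smul_comm wK d', C.act_wK_flip R h]
          have h' := congrArg Plane.enc h1
          rwa [Plane.enc_dec (Plane.enc_lt _), Plane.enc_dec (Plane.wm_lt (Plane.enc_lt _))] at h'
      trans := fun v hv hs => by
        obtain ⟨δ, hδ⟩ := (hvKS v hv).1 hs
        obtain ⟨δ0, hδ0⟩ := (hvKS 5 (by norm_num)).1 (by decide)
        refine ⟨δ * δ0⁻¹, ?_⟩
        have h : C.act R (δ * δ0⁻¹) (Frame.dvec k * Plane.dec 5) = Frame.dvec k * Plane.dec v :=
          (C.vK R).injective (by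
            rw [C.vK_act, ← hδ, ← hδ0, mul_smul]
            exact congrArg (δ • ·) (inv_smul_smul δ0 u))
        simp only [f, h, hdd', Plane.enc_dec hv]
      perm := fun l hl => by
        obtain ⟨j, rfl⟩ : ∃ j : Fin 4, Plane.permList.getD j.val [] = l := by
          simp only [Plane.permList, List.mem_cons, List.not_mem_nil, or_false] at hl
          rcases hl with rfl | rfl | rfl | rfl
          exacts [⟨0, rfl⟩, ⟨1, rfl⟩, ⟨2, rfl⟩, ⟨3, rfl⟩]
        obtain ⟨γ, hγ⟩ := C.perms_even R (c := k) (σ := Plane.permOf j)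
          (Equiv.Perm.mem_alternatingGroup.2 (Plane.permOf_even j))
        refine ⟨γ, fun v hv => ?_⟩
        have h2 := Plane.allV_spec (Plane.perm_check j) hv
        rw [Nat.beq_eq] at h2
        simp only [f]
        rw [hγ, hdd']
        exact h2
      noTau := by
        rintro ⟨γ, hγ⟩
        have hact : ∀ x, C.act R γ x = Frame.dvec k * ((d' * x) ∘ Equiv.swap (0 : Fin 6) 1) := by
          intro x
          have h1 := congrArg (fun n => Frame.dvec k * Plane.dec n) (hγ (Plane.enc (d' * x)) (Plane.enc_lt _))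
          have h2 := Plane.allV_spec Plane.tau_check (Plane.enc_lt (d' * x))
          rw [Nat.beq_eq] at h2
          simp only [hfd, Plane.dec_enc, hdd, h2] at h1
          exact h1
        obtain ⟨a, ha, had⟩ := C.dsurj (fun i => if i = 0 then -k else if i = 1 then k else 0) (by
          simp [Fin.sum_univ_six])
        have hswap : ∀ x, C.act R (a * γ) x = x ∘ Equiv.swap (0 : Fin 6) 1 := by
          intro x
          rw [C.act_mul, hact, C.act_A R ha, had]
          funext i
          have hc : ∀ k : ZMod 3, wK ^ (-k).val * wK ^ k.val = 1 ∧ (wK ^ k.val)⁻¹ * wK ^ k.val = 1 := by decide +kernel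
          by_cases h0 : i = 0
          · subst h0; simp [Frame.dvec, d', ← mul_assoc, (hc k).1]
          by_cases h1 : i = 1
          · subst h1; simp [Frame.dvec, d', ← mul_assoc, mul_comm _ ((wK ^ k.val)⁻¹), (hc k).2]
          simp [Frame.dvec, d', h0, h1, Equiv.swap_apply_of_ne_of_ne h0 h1]
        have hωγ : a * γ * ω = ω * (a * γ) := hcomm _ fun x => by
          rw [hswap, hswap]; rfl
        have hmem : a * γ ∈ C.stabC R := ⟨MulAction.mem_stabilizer_iff.2 (by
            rw [← C.vK_uK R, ← C.vK_act, hswap]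
            refine congrArg _ (funext fun i => ?_)
            fin_cases i <;> rfl),
          Subgroup.mem_centralizer_singleton_iff.2 hωγ⟩
        obtain ⟨g, hgQ, hgne⟩ := H.nwc
        obtain ⟨γw, hγw⟩ := H.class_of_conj hgQ hgne
        obtain ⟨-, -, hEX, hEn, -, hE32, -⟩ := H.stab_structure hgQ hgne
        have hs0 : p (g * z * g⁻¹) ≠ 0 := by rw [← hγw]; exact fun e => H.w0 ((ρ γw).map_eq_zero_iff.1 e)
        have hXmem : ∀ δ, δ ∈ MulAction.stabilizer _ (C.Φ (fullRep c)) ↔
            γw * δ * γw⁻¹ ∈ xImg z Q (g * z * g⁻¹) := by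
          intro δ
          rw [H.mem_xImg hgQ hs0, MulAction.mem_stabilizer_iff, ← hw, ← hγw, map_mul, map_mul, map_inv]
          simp only [LinearEquiv.mul_apply]
          refine ⟨fun h => ?_, fun h => ?_⟩
          · simp [show ρ δ w = w from h]
          · have h' := congrArg (ρ γw).symm h
            show ρ δ w = w
            simpa using h'
        have hX : Nat.card (MulAction.stabilizer ((Subgroup.centralizer ({z} : Set G)) ⧸ Q) (C.Φ (fullRep c))) =
            11520 := by
          rw [← H.wstab, ← Nat.card_coe_set_eq, ← hw]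
          rfl
        exact C.no_swap R hX ((rImg z Q g).map (MulAut.conj γw⁻¹).toMonoidHom) (by
            rintro _ ⟨e, he, rfl⟩
            rw [hXmem]
            simpa [mul_assoc] using hEX he)
          (by rw [Subgroup.card_map_of_injective (MulAut.conj γw⁻¹).injective, hE32])
          (by
            rintro δ hδ _ ⟨e, he, rfl⟩
            refine ⟨γw * δ * γw⁻¹ * e * (γw * δ * γw⁻¹)⁻¹, hEn _ ((hXmem δ).1 hδ) e he, ?_⟩
            simp [MulAut.conj_apply, mul_assoc])
          ⟨a * γ, hmem⟩ hswap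
      card := by rw [H.cardΓ] }
  have hvP : ∀ x, C.vK R (Frame.dvec k * Plane.dec (P x)) = p x := fun x => by
    simp only [P, Plane.dec_enc, hdd, Equiv.apply_symm_apply]
  refine ⟨f, P, ⟨hM, fun x => Plane.enc_lt _, fun x hx y hy => ?_, fun x hx => ?_, fun v hv => ?_, fun x hx => ?_,
    fun c' x hx => ?_, fun g hgQ hgne => ?_⟩, fun x hx hxx hx1 hxz hs => ?_⟩
  · have h : Plane.dec (P (x * y)) = Plane.dec (P x ^^^ P y) := by
      have e : p (x * y) = p x + p y := H.pmul x hx y hy
      have h0 : (C.vK R).symm (p x + p y) = (C.vK R).symm (p x) + (C.vK R).symm (p y) :=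
        (C.vK R).injective (by rw [Equiv.apply_symm_apply, C.vK_add, Equiv.apply_symm_apply, Equiv.apply_symm_apply])
      simp only [P, Plane.dec_enc, Plane.dec_add, e, h0, mul_add]
    have h' := congrArg Plane.enc h
    rwa [Plane.enc_dec (Plane.enc_lt _), Plane.enc_dec (Plane.xor_lt (Plane.enc_lt _) (Plane.enc_lt _))] at h'
  · rw [← H.pzero x hx]
    constructor
    · intro h
      rw [← hvP x, h, show Plane.dec 0 = 0 from funext fun i => (by decide +kernel : ∀ i, Plane.dec 0 i = 0) i,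
        mul_zero, C.vK_zero]
    · intro h
      simp only [P, h]
      rw [show (C.vK R).symm 0 = 0 from (Equiv.symm_apply_eq _).2 (C.vK_zero R).symm, mul_zero]
      rfl
  · obtain ⟨x, hx, e⟩ := H.psurj (C.vK R (Frame.dvec k * Plane.dec v))
    exact ⟨x, hx, by simp only [P, e, Equiv.symm_apply_apply, hdd', Plane.enc_dec hv]⟩
  · rw [H.psq x hx, hvq _ (Plane.enc_lt _), hvP]
  · have e : p ((c' : G) * x * (c' : G)⁻¹) = ρ (QuotientGroup.mk c') (p x) := H.pact c' x hx
    show Plane.enc (d' * (C.vK R).symm (p ((c' : G) * x * (c' : G)⁻¹))) = Plane.enc _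
    rw [e]
    simp only [f, P, Plane.dec_enc, hdd, Frame.act, Equiv.apply_symm_apply]
    rfl
  · obtain ⟨γ, hγ⟩ := H.class_of_conj hgQ hgne
    rw [Bool.eq_false_iff]
    intro hs
    obtain ⟨δ, hδ⟩ := (hvKS _ (Plane.enc_lt _)).1 hs
    rw [hvP, ← hγ] at hδ
    exact H.ne ⟨γ⁻¹ * δ, by
      show (γ⁻¹ * δ) • u = w
      rw [mul_smul, show δ • u = ρ γ w from hδ]
      exact inv_smul_smul γ w⟩
  · obtain ⟨hq, h0⟩ := H.singular hx hxx hx1 hxz
    rcases H.cover _ hq h0 with h | ⟨γ, hγ⟩
    · rw [← hvP x, ← hvKS _ (Plane.enc_lt _), hs] at h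
      exact absurd h (by decide)
    · obtain ⟨g, hgQ, hgne⟩ := H.nwc
      obtain ⟨γw, hγw⟩ := H.class_of_conj hgQ hgne
      obtain ⟨c', hc', -⟩ := H.conj_of_eq hgQ hx h0 (γ := γ * γw⁻¹) (by
        rw [← hγw, map_mul, map_inv]
        simpa [LinearEquiv.mul_apply] using hγ)
      exact ⟨(c' : G) * g, by rw [← hc']; group⟩

end Hyp

end CfsgLib.LargeFischer
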