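import Cfsg.Agent.Lib.LargeFischer.Code

/-!
The finite checks on the coordinates: the maps fixing the plane, the stabilizer of the special vectors, the lines.
-/

set_option autoImplicit false

namespace CfsgLib.LargeFischer.Plane

/-- `x` has the same pattern against the plane as the coordinate vector `e`. -/
def candOk (e x : ℕ) : Bool :=
  plane.all fun w => (qb (x ^^^ w) == qb (e ^^^ w)) && (sb (x ^^^ w) == sb (e ^^^ w))

/-- The candidates for the image of a coordinate vector. -/
def cands (e : ℕ) : List ℕ := (plane.map fun w => e ^^^ w).filter (candOk e)

/-- Two candidates have the same pattern as two coordinate vectors. -/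
def pairOk (x e y f : ℕ) : Bool :=
  [1, 2, 3].all fun c => (qb (x ^^^ sm c y) == qb (e ^^^ sm c f)) && (sb (x ^^^ sm c y) == sb (e ^^^ sm c f))

/-- A linear map preserving the form and the orbit and stabilizing the plane. -/
def good (h : List ℕ) : Bool :=
  allV (fun v => (sb (ap h v) == sb v) && (qb (ap h v) == qb v) && Nat.beq (ap h (wm v)) (wm (ap h v)) &&
    Nat.blt (ap h v) 4096) && plane.all fun w => inPlane (ap h w)

/-- The map of the plane with the given images of three vectors. -/
def planeMap (t : ℕ × ℕ × ℕ) (w : ℕ) : ℕ := sm (w % 4) t.1 ^^^ sm (w / 16 % 4) t.2.1 ^^^ sm (w / 256 % 4) t.2.2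

/-- Four vectors of the plane detecting the stabilizer of the special vectors. -/
def testVecs : List ℕ := [1455, 1530, 1525, 1535]

/-- The maps of the plane preserving the special vectors. -/
def planeStab : List (ℕ × ℕ × ℕ) :=
  ((special.flatMap fun i => special.flatMap fun j => special.map fun k => (i, j, k))).filter fun t =>
    testVecs.all fun w => sb (planeMap t w) == sb w

/-- The sixteen vectors of a line. -/
def lineOf (p : ℕ × ℕ) : List ℕ :=
  [0, 1, 2, 3].flatMap fun c => [0, 1, 2, 3].map fun d => sm c p.1 ^^^ sm d p.2

theorem plane_check : allV (fun v => !(inPlane v) || plane.contains v) && plane.all inPlane &&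
    plane.all (fun w => Nat.blt w 4096 && !(qb w) && Nat.beq (cj w) (ap cjCols w) && inPlane (cj w) && inPlane (wm w)) &&
    Nat.beq special.length 18 && special.all (fun v => sb v) = true := by
  decide +kernel

theorem cands_check : [1, 16, 256].all (fun e => allV fun x => !(candOk e x) || inPlane (e ^^^ x)) = true := by
  decide +kernel

theorem ker_check : (cands 1).all (fun x => (cands 16).all fun y => !(pairOk x 1 y 16) ||
    (cands 256).all fun z => !(pairOk x 1 z 256) || !(pairOk y 16 z 256) || ker32.contains (x, y, z)) = true := by
  decide +kernel

theorem ker32_check : (Nat.beq ker32.length 32 && Nat.beq even16.length 16 &&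
    ker32.all (fun t => (kerCols t).all (fun c => Nat.blt c 4096) &&
      plane.all (fun w => Nat.beq (ap (kerCols t) w) w) &&
      ker32.all fun t' => comp (kerCols t) (kerCols t') == comp (kerCols t') (kerCols t)) &&
    ker32.all (fun t => comp (kerCols t) (kerCols t) == idCols &&
      (even16.contains t != (even16.map fun e => comp (kerCols e) tau).contains (kerCols t))) &&
    even16.all (fun t => ker32.contains t)) = true := by
  decide +kernel

theorem stab_check : (Nat.ble planeStab.length 1080) = true := by
  decide +kernel

theorem line_check : ((List.range 256).all fun i => Nat.beq i 0 || qb (16 * i) ||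
    (List.range 256).all fun j => qb (16 * j) || bb (16 * i) (16 * j) || bb (wm (16 * i)) (16 * j) ||
      [0, 1, 2, 3].any (fun c => Nat.beq (16 * j) (sm c (16 * i))) ||
      lineGens.any fun p => (lineOf p).contains (16 * i) && (lineOf p).contains (16 * j)) = true := by
  decide +kernel

end CfsgLib.LargeFischer.Plane
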