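import Cfsg.Agent.Lib.LargeFischer.PlaneChecks

/-!
Finite checks relating the plane, its lines and the thirty-two maps fixing it.
-/

set_option autoImplicit false

namespace CfsgLib.LargeFischer.Plane

/-- The sixty-four vectors through the vector of weight two and a line. -/
def spanU (p : ℕ × ℕ) : List ℕ := [0, 1, 2, 3].flatMap fun c => (lineOf p).map fun l => sm c 5 ^^^ l

theorem perp_check : allV (fun v => bb v 5 || bb v 10 || Nat.beq ((v ^^^ sm (v % 4) 5) % 16) 0) = true := by
  decide +kernel

theorem span_check : (lineGens.all fun p => decide ((spanU p).Nodup) && Nat.beq (spanU p).length 64 &&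
    Nat.blt p.1 4096 && Nat.blt p.2 4096 &&
    (lineOf p).all fun a => (lineOf p).all fun b => [0, 1, 2, 3].any (fun c => Nat.beq b (sm c a)) || Nat.beq a 0 ||
      ([p.1, p.2].all fun g => [0, 1, 2, 3].any fun c => [0, 1, 2, 3].any fun d => Nat.beq g (sm c a ^^^ sm d b))) =
    true := by
  decide +kernel

theorem plane_basis : (plane.all fun w =>
    Nat.beq w (sm (w % 4) 5 ^^^ sm (w / 16 % 4) 80 ^^^ sm (w / 256 % 4) 1280)) = true := by
  decide +kernel

theorem count_check : ((List.range 4096).filter sb).length = 378 ∧ (plane.Nodup ∧ plane.length = 64) ∧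
    even16.toFinset.card = 16 := by
  decide +kernel

theorem cj_check : allV (fun v => (sb (cj v) == sb v) && (qb (cj v) == qb v) &&
    Nat.beq (cj (wm v)) (wm (wm (cj v)))) = true := by
  decide +kernel

theorem cj_plane : (plane.all fun w => inPlane (cj w)) = true ∧ cj 5 = 5 := by
  decide +kernel

theorem tau_mem : (ker32.all fun t => (ker32.map kerCols).contains (comp (kerCols t) tau) &&
    comp (kerCols t) tau == comp tau (kerCols t) &&
    (even16.all fun e => comp (comp (kerCols e) tau) (kerCols e) == tau)) = true ∧ comp tau tau = idCols ∧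
    (cjCols.all fun c => Nat.blt c 4096) = true ∧ (tau.all fun c => Nat.blt c 4096) = true := by
  decide +kernel

end CfsgLib.LargeFischer.Plane
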