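import Cfsg.Agent.Lib.LargeFischer.PlaneChecks

/-!
The generators inside the stabilizer of the plane and the elementary abelian subgroups of the Sylow subgroup.
-/

set_option autoImplicit false

namespace CfsgLib.LargeFischer.Plane

/-- The columns of a permutation of the coordinates. -/
def permCols (l : List ℕ) : List ℕ := l.flatMap fun i => [4 ^ i, 2 * 4 ^ i]

/-- The first, third and fifth images. -/
def triOf (h : List ℕ) : ℕ × ℕ × ℕ := (h.getD 0 0, h.getD 4 0, h.getD 8 0)

/-- An element of order three whose twist by the transposition has an odd cube. -/
def oddCubeCheck (h : List ℕ) : Bool :=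
  let ht := comp h tau
  let c := comp ht (comp ht ht)
  good h && ker32.contains (triOf c) && !(even16.contains (triOf c)) && kerCols (triOf c) == c

theorem gen_check : (gM == permCols [2, 3, 0, 1, 4, 5] && gCyc == permCols [2, 3, 4, 5, 0, 1] &&
    good gM && good gG && good gCyc && oddCubeCheck gG1 && oddCubeCheck gG2 && comp gG1 gG2 == gG) = true := by
  decide +kernel

theorem trans_check : (transData.all (fun p => good p.2 && ker32.contains (triOf p.1) &&
      kerCols (triOf p.1) == p.1 && comp p.2 p.1 == comp tau p.2) &&
    (permCols [0, 1, 3, 2, 4, 5] :: permCols [0, 1, 2, 3, 5, 4] :: transData.map (fun p => p.1)).map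
      (fun t => comp tau t) == [permCols [1, 0, 3, 2, 4, 5], permCols [1, 0, 2, 3, 5, 4]] ++
        transData.map (fun p => comp tau p.1) &&
    evenGens.all (fun e => ((permCols [1, 0, 3, 2, 4, 5] :: permCols [1, 0, 2, 3, 5, 4] ::
      transData.map (fun p => comp tau p.1))).contains e)) = true := by
  decide +kernel

/-- The span of the generators of the even maps. -/
def evenSpan : List (List ℕ) := evenGens.foldl (fun l g => l ++ l.map (comp g)) [idCols]

theorem even_check : (even16.all (fun t => evenSpan.contains (kerCols t)) &&
    evenSpan.all (fun e => kerCols (triOf e) == e && even16.contains (triOf e))) = true := by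
  decide +kernel

/-- Conjugators along the walk. -/
def walkGens : List (List ℕ) := [gM, gG, gCyc, gG1]

theorem walk_check : (Nat.beq evenWalk.length 15 &&
    evenWalk.all (fun e => evenSpan.contains e && !(e == idCols)) &&
    evenSpan.all (fun e => e == idCols || evenWalk.contains e) &&
    ((List.range 14).all fun n =>
      let s := evenSteps.getD n (0, 0)
      Nat.blt s.1 (n + 1) && Nat.blt s.2 4 &&
        comp (walkGens.getD s.2 []) (evenWalk.getD s.1 []) == comp (evenWalk.getD (n + 1) []) (walkGens.getD s.2 []))) =
    true := by
  decide +kernel

/-- The code of a column list. -/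
def colCode (h : List ℕ) : ℕ := h.foldl (fun a c => a * 4096 + c) 0

/-- Closure and description of one of the two lists. -/
def sylCheck (P : List (List ℕ)) (steps : List (ℕ × ℕ)) (succ : List (List ℕ)) (x : List ℕ) : Bool :=
  let gens := evenGens ++ [gM, gG, x]
  Nat.beq P.length 256 && (P.getD 0 [] == idCols) &&
    ((List.range 255).all fun n =>
      let s := steps.getD n (0, 0)
      Nat.blt s.1 (n + 1) && Nat.blt s.2 7 &&
        Nat.beq ((succ.getD s.1 []).getD s.2 0) (n + 1)) &&
    ((List.range 256).all fun n => (List.range 7).all fun k =>
      let j := (succ.getD n []).getD k 0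
      Nat.blt j 256 && P.getD j [] == comp (gens.getD k []) (P.getD n [])) &&
    decide ((P.map colCode).Nodup)

theorem sylA_check : sylCheck sylA sylASteps sylASucc cjCols = true := by
  decide +kernel

theorem sylB_check : sylCheck sylB sylBSteps sylBSucc (comp cjCols tau) = true := by
  decide +kernel

/-- The elements of order two of a list. -/
def invols (P : List (List ℕ)) : List (List ℕ) := P.filter fun g => !(g == idCols) && comp g g == idCols

/-- The condition on an elementary abelian subgroup with its fixed vectors. -/
def nodeOk (span : List (List ℕ)) (fx : List ℕ) : Bool :=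
  if Nat.ble 64 span.length then false
  else if Nat.ble 16 span.length then Nat.ble fx.length 8 || (Nat.beq span.length 16 && span.all fun e => evenSpan.contains e)
  else true

/-- Walk through the elementary abelian subgroups by least generators. -/
def search : ℕ → List (List ℕ) → List ℕ → List (List ℕ) → Bool
  | 0, _, _, _ => false
  | _ + 1, span, fx, [] => nodeOk span fx
  | d + 1, span, fx, j :: rest =>
    (if span.all (fun s => (j :: rest).contains (comp j s)) then
      search d (span ++ span.map (comp j)) (fx.filter fun v => Nat.beq (ap j v) v)
        (rest.filter fun k => comp j k == comp k j && !((span.map (comp j)).contains k))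
    else true) && search d span fx rest

theorem searchA : search 256 [idCols] (List.range 4096) (invols sylA) = true := by
  decide +kernel

theorem searchB : search 256 [idCols] (List.range 4096) (invols sylB) = true := by
  decide +kernel

end CfsgLib.LargeFischer.Plane
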