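import Cfsg.Agent.Lib.LargeFischer.Weights

/-!
The weights of the elementary abelian group of order `3^5` on the twelve-dimensional module.
-/

set_option autoImplicit false
set_option linter.unusedSectionVars false
set_option linter.style.haveILetI false

namespace CfsgLib.LargeFischer

variable {Γ : Type*} [Group Γ] [Finite Γ] {V : Type*} [AddCommGroup V] [Finite V] [DistribMulAction Γ V]
  {L : Type*} [Group L] [IsSimpleGroup L]

/-- The data read off from the centralizer. -/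
structure Raw (q : V → ZMod 2) (A T : Subgroup Γ) (ω : Γ) (π : T →* L) : Prop where
  two : ∀ v : V, v + v = 0
  cardV : Nat.card V = 4096
  q0 : q 0 = 0
  pol_add : ∀ u u' v : V, q (u + u' + v) + q (u + u') + q (u + v) + q (u' + v) + q u + q u' + q v = 0
  nondeg : ∀ v : V, (∀ u, q (u + v) = q u + q v) → v = 0
  inv : ∀ (γ : Γ) (v : V), q (γ • v) = q v
  faithful : ∀ γ : Γ, (∀ v : V, γ • v = v) → γ = 1
  cardΓ : Nat.card Γ = 2 * 3 * 3265920
  hω : orderOf ω = 3
  ωA : ω ∈ A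
  ωT : ω ∈ T
  cardA : Nat.card A = 243
  ωA_comm : ∀ a ∈ A, ω * a = a * ω
  ωT_comm : ∀ t ∈ T, ω * t = t * ω
  normA : ∀ t ∈ T, ∀ a ∈ A, t * a * t⁻¹ ∈ A
  comm_mod : ∀ a ∈ A, ∀ b ∈ A, a * b * a⁻¹ * b⁻¹ ∈ Subgroup.zpowers ω
  cube_mod : ∀ a ∈ A, a ^ 3 ∈ Subgroup.zpowers ω
  irr : ∀ W : Subgroup Γ, W ≤ A → ω ∈ W → (∀ t ∈ T, ∀ w ∈ W, t * w * t⁻¹ ∈ W) →
    W = Subgroup.zpowers ω ∨ W = A
  π_surj : Function.Surjective π
  π_ker : ∀ t : T, π t = 1 ↔ (t : Γ) ∈ Subgroup.zpowers ω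
  inter : ∀ t ∈ T, t ∈ A → t ∈ Subgroup.zpowers ω
  cardL : Nat.card L = 360
  seven : ∃ x : Γ, x ≠ 1 ∧ x ^ 7 = 1 ∧ x * ω = ω * x
  ωnorm : ∀ γ : Γ, γ * ω * γ⁻¹ ∈ Subgroup.zpowers ω

/-- Conjugation on subgroups. -/
def conjPerm : Γ →* Equiv.Perm (Subgroup Γ) where
  toFun γ :=
    { toFun := fun K => K.map (MulAut.conj γ).toMonoidHom
      invFun := fun K => K.map (MulAut.conj γ⁻¹).toMonoidHom
      left_inv := fun K => by
        ext x
        simp only [Subgroup.mem_map_equiv, MulAut.conj_symm_apply, inv_inv]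
        rw [show γ⁻¹ * (γ * x * γ⁻¹) * γ = x by group]
      right_inv := fun K => by
        ext x
        simp only [Subgroup.mem_map_equiv, MulAut.conj_symm_apply, inv_inv]
        rw [show γ * (γ⁻¹ * x * γ) * γ⁻¹ = x by group] }
  map_one' := by
    ext K x
    simp
  map_mul' a b := by
    ext K x
    simp only [Equiv.Perm.mul_apply, Equiv.coe_fn_mk, Subgroup.mem_map_equiv, MulAut.conj_symm_apply]
    rw [show (a * b)⁻¹ * x * (a * b) = b⁻¹ * (a⁻¹ * x * a) * b by group]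

theorem mem_conjPerm {γ : Γ} {K : Subgroup Γ} {x : Γ} : x ∈ conjPerm γ K ↔ γ⁻¹ * x * γ ∈ K := by
  show x ∈ K.map (MulAut.conj γ).toMonoidHom ↔ _
  rw [Subgroup.mem_map_equiv, MulAut.conj_symm_apply]

theorem Idx.card_le {A K : Subgroup Γ} (h : Idx A K) : Nat.card A ≤ 3 * Nat.card K := by
  classical
  obtain ⟨a, ha, haK⟩ := h.proper
  let g : Fin 3 → ↥A ⧸ K.subgroupOf A :=
    ![QuotientGroup.mk 1, QuotientGroup.mk ⟨a, ha⟩, QuotientGroup.mk ⟨a⁻¹, inv_mem ha⟩]
  have hg : Function.Surjective g := by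
    intro x
    obtain ⟨⟨b, hb⟩, rfl⟩ := QuotientGroup.mk_surjective x
    by_cases hbK : b ∈ K
    · exact ⟨0, QuotientGroup.eq.2 (Subgroup.mem_subgroupOf.2 (by simpa using hbK))⟩
    rcases h.three b⁻¹ (inv_mem hb) (fun e => hbK (by simpa using inv_mem e)) a ha haK with h1 | h1
    · exact ⟨1, QuotientGroup.eq.2 (Subgroup.mem_subgroupOf.2 (by simpa using inv_mem h1))⟩
    · exact ⟨2, (QuotientGroup.eq.2 (Subgroup.mem_subgroupOf.2 (by simpa using h1))).symm⟩
  have h3 := Nat.card_le_card_of_surjective g hg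
  rw [Nat.card_fin] at h3
  rw [← Subgroup.card_mul_index (K.subgroupOf A), Nat.card_congr (Subgroup.subgroupOfEquivOfLe h.le).toEquiv,
    mul_comm 3]
  exact Nat.mul_le_mul_left _ h3

/-- The weights on `W`. -/
noncomputable def wts (V : Type*) [AddCommGroup V] [DistribMulAction Γ V] (A : Subgroup Γ) (W : AddSubgroup V) :
    Finset (Subgroup Γ) :=
  Set.Finite.toFinset (Set.toFinite {K | Idx A K ∧ ∃ v ∈ W, v ≠ 0 ∧ v ∈ (fix K : AddSubgroup V)})

theorem mem_wts {A K : Subgroup Γ} {W : AddSubgroup V} :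
    K ∈ wts V A W ↔ Idx A K ∧ ∃ v ∈ W, v ≠ 0 ∧ v ∈ (fix K : AddSubgroup V) := by simp [wts]

theorem wts_conj {A K : Subgroup Γ} {W : AddSubgroup V} {γ : Γ} (hA : ∀ x, x ∈ A ↔ γ * x * γ⁻¹ ∈ A)
    (hW : ∀ w ∈ W, γ • w ∈ W) (hK : K ∈ wts V A W) : conjPerm γ K ∈ wts V A W := by
  obtain ⟨hi, v, hv, hv0, hvK⟩ := mem_wts.1 hK
  refine mem_wts.2 ⟨hi.conj hA, γ • v, hW v hv, fun e => hv0 ?_, fun k hk => ?_⟩
  · simpa using congrArg (fun x => γ⁻¹ • x) e
  · have := hvK _ (mem_conjPerm.1 hk)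
    rwa [mul_smul, mul_smul, inv_smul_eq_iff] at this

namespace Raw

variable {q : V → ZMod 2} {A T : Subgroup Γ} {ω : Γ} {π : T →* L} (R : Raw q A T ω π)
include R

theorem card_zω : Nat.card (Subgroup.zpowers ω) = 3 := by rw [Nat.card_zpowers, R.hω]

theorem ω3 : ω ^ 3 = 1 := by rw [← R.hω]; exact pow_orderOf_eq_one ω

theorem zω_le : Subgroup.zpowers ω ≤ A := (Subgroup.zpowers_le).2 R.ωA

theorem zω_comm {c a : Γ} (hc : c ∈ Subgroup.zpowers ω) (ha : a ∈ A) : c * a = a * c := by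
  obtain ⟨i, rfl⟩ := Subgroup.mem_zpowers_iff.1 hc
  exact ((show Commute ω a from R.ωA_comm a ha).zpow_left i).eq

theorem zω_cube {c : Γ} (hc : c ∈ Subgroup.zpowers ω) : c ^ 3 = 1 := by
  have := pow_card_eq_one' (x := (⟨c, hc⟩ : Subgroup.zpowers ω))
  rw [R.card_zω] at this
  exact congrArg Subtype.val this

theorem normA_iff {t : Γ} (ht : t ∈ T) (x : Γ) : x ∈ A ↔ t * x * t⁻¹ ∈ A := by
  refine ⟨R.normA t ht x, fun h => ?_⟩
  have := R.normA t⁻¹ (inv_mem ht) _ h
  rwa [show t⁻¹ * (t * x * t⁻¹) * t⁻¹⁻¹ = x by group] at this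

/-- `T` fixes a point as soon as its orbit has at most five points. -/
theorem small {α : Type*} [MulAction T α] [Finite α] (hα : Nat.card α ≤ 5)
    (hω : ∀ x : α, (⟨ω, R.ωT⟩ : T) • x = x) (t : T) (x : α) : t • x = x := by
  let f : T →* Equiv.Perm α := MulAction.toPermHom T α
  have hle : π.ker ≤ f.ker := by
    intro s hs
    obtain ⟨i, hi⟩ := Subgroup.mem_zpowers_iff.1 ((R.π_ker s).1 hs)
    rw [show s = (⟨ω, R.ωT⟩ : T) ^ i from Subtype.ext (by simp [hi]), MonoidHom.mem_ker, map_zpow,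
      show f ⟨ω, R.ωT⟩ = 1 from Equiv.ext hω, one_zpow]
  let g : L →* Equiv.Perm α := π.liftOfSurjective R.π_surj ⟨f, hle⟩
  have h := MonoidHom.liftOfRightInverse_comp_apply π (Function.surjInv R.π_surj)
    (Function.rightInverse_surjInv R.π_surj) ⟨f, hle⟩ t
  have h1 : f t = 1 := h.symm.trans (small_action_trivial R.cardL hα g (π t))
  exact congrArg (fun e : Equiv.Perm α => e x) h1

/-- The conjugates under `T` of a subgroup of `A`. -/
noncomputable def orbitT (_R : Raw q A T ω π) (K : Subgroup Γ) : Finset (Subgroup Γ) :=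
  Set.Finite.toFinset (Set.toFinite (Set.range fun t : T => conjPerm (t : Γ) K))

theorem mem_orbitT {K K' : Subgroup Γ} : K' ∈ R.orbitT K ↔ ∃ t ∈ T, conjPerm t K = K' := by
  simp [orbitT]

theorem orbitT_big {K : Subgroup Γ} (hK : K ≤ A) (hne : ∃ t ∈ T, conjPerm t K ≠ K) :
    6 ≤ (R.orbitT K).card := by
  classical
  by_contra hlt
  letI : MulAction T (Subgroup Γ) := MulAction.compHom _ (conjPerm.comp T.subtype)
  let O := ↥(MulAction.orbit T K)
  have hO : Nat.card O ≤ 5 := by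
    have : Nat.card O = (R.orbitT K).card := by
      rw [Raw.orbitT, ← Set.ncard_eq_toFinset_card]
      exact Nat.card_coe_set_eq _
    omega
  have hω : ∀ x : O, (⟨ω, R.ωT⟩ : T) • x = x := by
    rintro ⟨x, t, rfl⟩
    refine Subtype.ext ?_
    show conjPerm ω (conjPerm (t : Γ) K) = conjPerm (t : Γ) K
    ext y
    rw [mem_conjPerm, mem_conjPerm, mem_conjPerm]
    have hcomm : (t : Γ)⁻¹ * (ω⁻¹ * y * ω) * t = ω⁻¹ * ((t : Γ)⁻¹ * y * t) * ω := by
      have hc := R.ωT_comm t t.2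
      calc (t : Γ)⁻¹ * (ω⁻¹ * y * ω) * t = (ω * t)⁻¹ * y * (ω * t) := by group
        _ = (t * ω)⁻¹ * y * (t * ω) := by rw [hc]
        _ = _ := by group
    rw [hcomm]
    constructor <;> intro h
    · have := R.ωA_comm _ (hK h)
      rwa [show (t : Γ)⁻¹ * y * t = ω * (ω⁻¹ * ((t : Γ)⁻¹ * y * t) * ω) * ω⁻¹ by group, this, mul_inv_cancel_right]
    · rwa [mul_assoc, ← R.ωA_comm _ (hK h), inv_mul_cancel_left]
  obtain ⟨t, ht, htne⟩ := hne
  exact htne (congrArg Subtype.val (R.small hO hω ⟨t, ht⟩ (⟨K, MulAction.mem_orbit_self K⟩ : O)))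

theorem cube {a : Γ} (ha : a ∈ A) : a ^ 3 = 1 := by
  have hmul : ∀ x ∈ A, ∀ y ∈ A, (x * y) ^ 3 = x ^ 3 * y ^ 3 := by
    intro x hx y hy
    set c := x⁻¹ * y⁻¹ * x⁻¹⁻¹ * y⁻¹⁻¹ with hc
    have hcz := hc ▸ R.comm_mod x⁻¹ (inv_mem hx) y⁻¹ (inv_mem hy)
    have h1 : x * y = y * x * (x⁻¹ * y⁻¹ * x * y) := by group
    have h2 : c = x⁻¹ * y⁻¹ * x * y := by rw [hc]; group
    rw [← h2] at h1
    have cx := R.zω_comm hcz hx
    have cy := R.zω_comm hcz hy
    have hyx : y * x = x * y * c⁻¹ := by rw [h1, mul_inv_cancel_right]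
    have ex := R.zω_comm (inv_mem hcz) hx
    have ey := R.zω_comm (inv_mem hcz) hy
    have p1 : ∀ r, c⁻¹ * (x * r) = x * (c⁻¹ * r) := fun r => by rw [← mul_assoc, ex, mul_assoc]
    have p2 : ∀ r, c⁻¹ * (y * r) = y * (c⁻¹ * r) := fun r => by rw [← mul_assoc, ey, mul_assoc]
    have p3 : ∀ r, y * (x * r) = x * (y * (c⁻¹ * r)) := fun r => by rw [← mul_assoc, hyx]; simp only [mul_assoc]
    calc (x * y) ^ 3 = x * (y * (x * (y * (x * y)))) := by simp [pow_succ, mul_assoc]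
      _ = x * (x * (x * (y * (y * (y * (c⁻¹ * (c⁻¹ * c⁻¹))))))) := by simp only [p1, p2, p3, ey]
      _ = x ^ 3 * y ^ 3 * (c⁻¹) ^ 3 := by simp [pow_succ, mul_assoc]
      _ = x ^ 3 * y ^ 3 := by rw [R.zω_cube (inv_mem hcz), mul_one]
  let f : A →* Subgroup.zpowers ω := MonoidHom.mk' (fun x => ⟨(x : Γ) ^ 3, R.cube_mod x x.2⟩)
    fun x y => Subtype.ext (hmul x x.2 y y.2)
  set W := f.ker.map A.subtype with hW
  have hWA : W ≤ A := Subgroup.map_subtype_le _
  have hmem : ∀ x : Γ, x ∈ W ↔ x ∈ A ∧ x ^ 3 = 1 := by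
    intro x
    constructor
    · rintro ⟨y, hy, rfl⟩
      exact ⟨y.2, congrArg Subtype.val (MonoidHom.mem_ker.1 hy)⟩
    · rintro ⟨hx, h3⟩
      exact ⟨⟨x, hx⟩, MonoidHom.mem_ker.2 (Subtype.ext h3), rfl⟩
  rcases R.irr W hWA ((hmem ω).2 ⟨R.ωA, R.ω3⟩) (fun t ht w hw => by
    obtain ⟨hwA, hw3⟩ := (hmem w).1 hw
    refine (hmem _).2 ⟨R.normA t ht w hwA, ?_⟩
    rw [conj_pow, hw3, mul_one, mul_inv_cancel]) with e | e
  · exfalso
    have h := Subgroup.card_mul_index f.ker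
    rw [Subgroup.index_ker, R.cardA] at h
    have h1 : Nat.card f.ker = 3 := by
      rw [← Subgroup.card_map_of_injective (K := f.ker) A.subtype_injective, ← hW, e, R.card_zω]
    have h2 := Subgroup.card_le_card_group f.range
    rw [R.card_zω] at h2
    rw [h1] at h
    omega
  · exact ((hmem a).1 (e ▸ ha)).2

theorem two' (v : V) : -v = v := neg_eq_of_add_eq_zero_left (R.two v)

/-- The fixed space of `ω`. -/
def V₀ (_R : Raw q A T ω π) : AddSubgroup V := fix (Subgroup.zpowers ω)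

/-- The commutator space of `ω`. -/
def V₁ (_R : Raw q A T ω π) : AddSubgroup V where
  carrier := {v | v + ω • v + ω • ω • v = 0}
  add_mem' {a b} ha hb := by
    simp only [Set.mem_ofPred_eq, smul_add] at ha hb ⊢
    rw [show a + b + (ω • a + ω • b) + (ω • ω • a + ω • ω • b) =
      (a + ω • a + ω • ω • a) + (b + ω • b + ω • ω • b) by abel, ha, hb, add_zero]
  zero_mem' := by simp
  neg_mem' {a} ha := by
    simp only [Set.mem_ofPred_eq, smul_neg] at ha ⊢
    rw [← neg_zero, ← ha]; abel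

theorem mem_V₁ {v : V} : v ∈ R.V₁ ↔ v + ω • v + ω • ω • v = 0 := Iff.rfl

theorem mem_V₀ {v : V} : v ∈ R.V₀ ↔ ω • v = v := by
  refine ⟨fun h => h ω (Subgroup.mem_zpowers ω), fun h k hk => ?_⟩
  exact MulAction.mem_stabilizer_iff.1
    ((Subgroup.zpowers_le).2 (MulAction.mem_stabilizer_iff.2 h) hk)

theorem ω_cube (v : V) : ω • ω • ω • v = v := by
  rw [← mul_smul, ← mul_smul, show ω * ω * ω = 1 from (by rw [← R.ω3]; simp [pow_succ]), one_smul]

theorem comm_smul {γ : Γ} (h : γ * ω = ω * γ) (v : V) : γ • ω • v = ω • γ • v := by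
  rw [← mul_smul, h, mul_smul]

theorem V_inv {γ : Γ} (h : γ * ω = ω * γ) : (∀ v ∈ R.V₀, γ • v ∈ R.V₀) ∧ ∀ v ∈ R.V₁, γ • v ∈ R.V₁ := by
  refine ⟨fun v hv => ?_, fun v hv => ?_⟩
  · rw [R.mem_V₀] at hv ⊢
    rw [← R.comm_smul h, hv]
  · rw [R.mem_V₁] at hv ⊢
    rw [← R.comm_smul h, ← R.comm_smul h, ← smul_add, ← smul_add, hv, smul_zero]

theorem split (v : V) : v + ω • v + ω • ω • v ∈ R.V₀ ∧ ω • v + ω • ω • v ∈ R.V₁ := by
  refine ⟨R.mem_V₀.2 ?_, R.mem_V₁.2 ?_⟩
  · rw [smul_add, smul_add, R.ω_cube]; abel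
  · rw [smul_add, smul_add, R.ω_cube]
    rw [show ω • v + ω • ω • v + (ω • ω • v + v) + (v + ω • v) =
      (ω • v + ω • v) + (ω • ω • v + ω • ω • v) + (v + v) by abel]
    simp [R.two]

theorem ext_split {γ : Γ} (h0 : ∀ v ∈ R.V₀, γ • v = v) (h1 : ∀ v ∈ R.V₁, γ • v = v) : γ = 1 :=
  R.faithful γ fun v => by
    have hv : v = (v + ω • v + ω • ω • v) + (ω • v + ω • ω • v) := by
      rw [show (v + ω • v + ω • ω • v) + (ω • v + ω • ω • v) =
        v + ((ω • v + ω • v) + (ω • ω • v + ω • ω • v)) by abel, R.two, R.two]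
      simp
    rw [hv, smul_add, h0 _ (R.split v).1, h1 _ (R.split v).2]

theorem wts_T {W : AddSubgroup V} (hW : ∀ t ∈ T, ∀ w ∈ W, t • w ∈ W) {K : Subgroup Γ}
    (hK : K ∈ wts V A W) {t : Γ} (ht : t ∈ T) : conjPerm t K ∈ wts V A W :=
  wts_conj (R.normA_iff ht) (hW t ht) hK

theorem six_wts {W : AddSubgroup V} (hW : ∀ t ∈ T, ∀ w ∈ W, t • w ∈ W) {K : Subgroup Γ}
    (hK : K ∈ wts V A W) (hne : ∃ t ∈ T, conjPerm t K ≠ K) :
    R.orbitT K ⊆ wts V A W ∧ 6 ≤ (R.orbitT K).card := by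
  refine ⟨fun K' h => ?_, R.orbitT_big (mem_wts.1 hK).1.le hne⟩
  obtain ⟨t, ht, rfl⟩ := R.mem_orbitT.1 h
  exact R.wts_T hW hK ht

theorem eq_top_of_card {W : AddSubgroup V} (h : 4 ^ 6 ≤ Nat.card W) : W = ⊤ :=
  AddSubgroup.eq_top_of_le_card W (by rw [R.cardV]; norm_num at h ⊢; exact h)

theorem trivial_V₀ {a : Γ} (ha : a ∈ A) {v : V} (hv : v ∈ R.V₀) : a • v = v := by
  classical
  haveI := Fintype.ofFinite A
  by_contra hne
  let N : V →+ V := ∑ b : A, DistribSMul.toAddMonoidHom V (b : Γ)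
  have hN : ∀ w, N w = ∑ b : A, (b : Γ) • w := fun w => by simp [N]
  have hNa : ∀ b ∈ A, ∀ w, N (b • w) = N w := fun b hb w => by
    rw [hN, hN]
    exact Fintype.sum_equiv (Equiv.mulRight (⟨b, hb⟩ : A)) _ _ fun c => by simp [mul_smul]
  let W : AddSubgroup V := R.V₀ ⊓ N.ker
  have hinvA : ∀ b ∈ A, ∀ w ∈ W, b • w ∈ W := fun b hb w hw =>
    ⟨(R.V_inv (R.ωA_comm b hb).symm).1 w hw.1, by
      show N (b • w) = 0
      rw [hNa b hb]; exact hw.2⟩
  have F : FreeAct A W :=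
    { two := R.two
      inv := hinvA
      comm := fun b hb c hc w hw => by
        have h := (R.comm_mod b hb c hc)
        have hfix : ∀ k ∈ Subgroup.zpowers ω, ∀ u ∈ R.V₀, k • u = u := fun k hk u hu => hu k hk
        have := hfix _ h (c • b • w) ((R.V_inv (R.ωA_comm c hc).symm).1 _
          ((R.V_inv (R.ωA_comm b hb).symm).1 w hw.1))
        rw [← this]
        simp only [← mul_smul]
        congr 1
        group
      cube := fun b hb w _ => by
        rw [← mul_smul, ← mul_smul, show b * b * b = b ^ 3 by simp [pow_succ], R.cube hb, one_smul]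
      free := fun w hw hf => by
        have h : N w = 0 := hw.2
        rw [hN, Finset.sum_congr rfl fun (b : A) _ => hf b b.2, Finset.sum_const,
          Finset.card_univ, ← Nat.card_eq_fintype_card, R.cardA, show 243 = 121 * 2 + 1 by rfl, add_nsmul,
          mul_nsmul, two_nsmul, R.two] at h
        simpa using h }
  have hw : v + a • v ∈ W := ⟨add_mem hv ((R.V_inv (R.ωA_comm a ha).symm).1 v hv), by
    show N (v + a • v) = 0
    rw [map_add, hNa a ha, R.two]⟩
  have hw0 : v + a • v ≠ 0 := fun e => hne (by rw [eq_neg_of_add_eq_zero_right e, R.two'])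
  obtain ⟨K, hK, u, hu, hu0, huK⟩ := F.exists_wt hw hw0 le_rfl hw hinvA
  have hmem : K ∈ wts V A W := mem_wts.2 ⟨hK, u, hu, hu0, huK⟩
  have hWT : ∀ t ∈ T, ∀ w ∈ W, t • w ∈ W := fun t ht w hw' => ⟨(R.V_inv (R.ωT_comm t ht).symm).1 w hw'.1, by
    show N (t • w) = 0
    rw [hN]
    have h2 : ∑ b : A, (b : Γ) • t • w = t • ∑ b : A, (b : Γ) • w := by
      rw [Finset.smul_sum]
      refine Fintype.sum_equiv ((MulAut.conj t⁻¹).toEquiv.subtypeEquiv fun x => ?_) _ _ fun b => ?_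
      · show x ∈ A ↔ t⁻¹ * x * t⁻¹⁻¹ ∈ A
        exact R.normA_iff (inv_mem ht) x
      · show (b : Γ) • t • w = t • (t⁻¹ * (b : Γ) * t⁻¹⁻¹) • w
        rw [← mul_smul, ← mul_smul]
        congr 1
        group
    rw [h2, ← hN, show N w = 0 from hw'.2, smul_zero]⟩
  have hωK : ω ∈ K := by
    by_contra hωK
    exact hu0 (F.fixed_of hK R.ωA hωK hu huK (R.mem_V₀.1 hu.1))
  by_cases hfix : ∀ t ∈ T, conjPerm t K = K
  · rcases R.irr K hK.le hωK (fun t ht w hw' => by
      rw [← hfix t ht, mem_conjPerm, show t⁻¹ * (t * w * t⁻¹) * t = w by group]; exact hw') with e | e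
    · have := hK.card_le
      rw [e, R.card_zω, R.cardA] at this
      omega
    · obtain ⟨b, hb, hbK⟩ := hK.proper
      exact hbK (e ▸ hb)
  push Not at hfix
  obtain ⟨h1, h2⟩ := R.six_wts hWT hmem hfix
  have h3 := F.card_bound _ fun K' hK' => mem_wts.1 (h1 hK')
  have h4 : W = ⊤ := R.eq_top_of_card (le_trans (Nat.pow_le_pow_right (by norm_num) h2) h3)
  have h5 : ω = 1 := R.faithful ω fun u' => R.mem_V₀.1 ((h4 ▸ AddSubgroup.mem_top u' : u' ∈ W)).1
  have := R.hω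
  rw [h5, orderOf_one] at this
  omega

/-- An abelian subgroup of `A` through `ω` acts freely on the commutator space of `ω`. -/
theorem freeV₁ {B : Subgroup Γ} (hB : B ≤ A) (hω : ω ∈ B) (hc : ∀ a ∈ B, ∀ b ∈ B, a * b = b * a) :
    FreeAct B R.V₁ where
  two := R.two
  inv b hb := (R.V_inv (R.ωA_comm b (hB hb)).symm).2
  comm a ha b hb w _ := by rw [← mul_smul, hc a ha b hb, mul_smul]
  cube b hb w _ := by
    rw [← mul_smul, ← mul_smul, show b * b * b = b ^ 3 by simp [pow_succ], R.cube (hB hb), one_smul]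
  free w hw hf := by
    have h := R.mem_V₁.1 hw
    rwa [hf ω hω, hf ω hω, R.two, zero_add] at h

theorem V₁_ne : ∃ v ∈ R.V₁, v ≠ 0 := by
  by_contra h
  push Not at h
  have h5 : ω = 1 := R.ext_split (fun v hv => R.mem_V₀.1 hv) fun v hv => by rw [h v hv, smul_zero]
  have := R.hω
  rw [h5, orderOf_one] at this
  omega

theorem abelian : ∀ a ∈ A, ∀ b ∈ A, a * b = b * a := by
  classical
  by_contra hab
  let S : Set (Subgroup Γ) := {B | B ≤ A ∧ ω ∈ B ∧ ∀ a ∈ B, ∀ b ∈ B, a * b = b * a}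
  obtain ⟨B, ⟨hBA, hωB, hBc⟩, hmax⟩ := (Set.toFinite S).exists_maximal ⟨Subgroup.zpowers ω,
    R.zω_le, Subgroup.mem_zpowers ω, fun a ha b hb => R.zω_comm ha (R.zω_le hb)⟩
  have hcB : ∀ a ∈ A, (∀ b ∈ B, a * b = b * a) → a ∈ B := by
    intro a ha hc
    have hcl : B ⊔ Subgroup.zpowers a = Subgroup.closure ((B : Set Γ) ∪ {a}) := by
      rw [Subgroup.closure_union, Subgroup.closure_eq, Subgroup.zpowers_eq_closure]
    have hmem : B ⊔ Subgroup.zpowers a ∈ S := ⟨sup_le hBA ((Subgroup.zpowers_le).2 ha),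
      Subgroup.mem_sup_left hωB, by
        haveI : IsMulCommutative ↥(Subgroup.closure ((B : Set Γ) ∪ {a})) :=
          Subgroup.isMulCommutative_closure (by
            rintro x (hx | hx) y (hy | hy)
            · exact hBc x hx y hy
            · rw [Set.mem_singleton_iff.1 hy]; exact (hc x hx).symm
            · rw [Set.mem_singleton_iff.1 hx]; exact hc y hy
            · rw [Set.mem_singleton_iff.1 hx, Set.mem_singleton_iff.1 hy])
        intro x hx y hy
        rw [hcl] at hx hy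
        exact congrArg Subtype.val (mul_comm' (⟨x, hx⟩ : ↥(Subgroup.closure ((B : Set Γ) ∪ {a}))) ⟨y, hy⟩)⟩
    exact (hmax hmem le_sup_left) (Subgroup.mem_sup_right (Subgroup.mem_zpowers a))
  -- the centre is generated by ω
  have hZ : ∀ z ∈ A, (∀ a ∈ A, z * a = a * z) → z ∈ Subgroup.zpowers ω := by
    intro z hz hzc
    let Z : Subgroup Γ := A ⊓ Subgroup.centralizer (A : Set Γ)
    have hzZ : z ∈ Z := ⟨hz, Subgroup.mem_centralizer_iff.2 fun a ha => (hzc a ha).symm⟩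
    rcases R.irr Z inf_le_left ⟨R.ωA, Subgroup.mem_centralizer_iff.2 fun a ha => (R.ωA_comm a ha).symm⟩
      (fun t ht w hw => ⟨R.normA t ht w hw.1, Subgroup.mem_centralizer_iff.2 fun a ha => by
        have := Subgroup.mem_centralizer_iff.1 hw.2 _ (R.normA t⁻¹ (inv_mem ht) a ha)
        calc a * (t * w * t⁻¹) = t * ((t⁻¹ * a * t⁻¹⁻¹) * w) * t⁻¹ := by group
          _ = t * w * t⁻¹ * a := by rw [this]; group⟩) with e | e
    · exact e ▸ hzZ
    · exact absurd (fun a ha b hb => (Subgroup.mem_centralizer_iff.1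
        ((e.symm ▸ hb : b ∈ Z)).2 a ha)) hab
  have hBsmall : Nat.card B ≤ 27 := by
    have hd : Nat.card B ∣ 243 := R.cardA ▸ Subgroup.card_dvd_of_le hBA
    obtain ⟨k, hk, hBk⟩ := (Nat.dvd_prime_pow Nat.prime_three).1 (show Nat.card B ∣ 3 ^ 5 from hd)
    by_contra hlt
    have hk4 : 4 ≤ k := by
      by_contra hk4
      have := Nat.pow_le_pow_right (show 1 ≤ 3 by norm_num) (show k ≤ 3 by omega)
      omega
    have hne : ∃ a ∈ A, a ∉ B := by
      by_contra h
      push Not at h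
      exact hab fun a ha b hb => hBc a (h a ha) b (h b hb)
    obtain ⟨a, ha, haB⟩ := hne
    have hgen : B ⊔ Subgroup.zpowers a = A := by
      refine Subgroup.eq_of_le_of_card_ge (sup_le hBA ((Subgroup.zpowers_le).2 ha)) ?_
      have hlt' : B < B ⊔ Subgroup.zpowers a := lt_of_le_of_ne le_sup_left fun e =>
        haB (e.symm ▸ Subgroup.mem_sup_right (Subgroup.mem_zpowers a))
      have hd2 : Nat.card ↥(B ⊔ Subgroup.zpowers a) ∣ 3 ^ 5 :=
        (show Nat.card A = 3 ^ 5 from R.cardA) ▸ Subgroup.card_dvd_of_le (sup_le hBA ((Subgroup.zpowers_le).2 ha))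
      obtain ⟨j, hj, hjc⟩ := (Nat.dvd_prime_pow Nat.prime_three).1 hd2
      have hkj : k < j := by
        by_contra hjk
        refine hlt'.ne (Subgroup.eq_of_le_of_card_ge hlt'.le ?_)
        rw [hjc, hBk]
        exact Nat.pow_le_pow_right (by norm_num) (by omega)
      rw [hjc, R.cardA, show j = 5 by omega]
      norm_num
    let f : B →* Subgroup.zpowers ω := MonoidHom.mk'
      (fun b => ⟨(b : Γ) * a * (b : Γ)⁻¹ * a⁻¹, R.comm_mod b (hBA b.2) a ha⟩) fun b c => Subtype.ext (by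
        have h1 := R.zω_comm (R.comm_mod c (hBA c.2) a ha) (hBA b.2)
        calc ((b : Γ) * c) * a * ((b : Γ) * c)⁻¹ * a⁻¹
            = (b : Γ) * (((c : Γ) * a * (c : Γ)⁻¹ * a⁻¹)) * (a * (b : Γ)⁻¹ * a⁻¹) := by group
          _ = (c : Γ) * a * (c : Γ)⁻¹ * a⁻¹ * ((b : Γ) * a * (b : Γ)⁻¹ * a⁻¹) := by rw [← h1]; group
          _ = (b : Γ) * a * (b : Γ)⁻¹ * a⁻¹ * ((c : Γ) * a * (c : Γ)⁻¹ * a⁻¹) :=
            R.zω_comm (R.comm_mod c (hBA c.2) a ha) (R.zω_le (R.comm_mod b (hBA b.2) a ha)))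
    have hker : f.ker.map B.subtype ≤ Subgroup.zpowers ω := by
      rintro _ ⟨b, hb, rfl⟩
      refine hZ _ (hBA b.2) fun x hx => ?_
      have hba : (b : Γ) * a = a * b := by
        have := congrArg Subtype.val (MonoidHom.mem_ker.1 hb)
        exact mul_inv_eq_iff_eq_mul.1 (mul_inv_eq_one.1 this)
      have hle : A ≤ Subgroup.centralizer ({(b : Γ)} : Set Γ) := hgen ▸ sup_le
        (fun y hy => Subgroup.mem_centralizer_singleton_iff.2 (hBc y hy b b.2))
        ((Subgroup.zpowers_le).2 (Subgroup.mem_centralizer_singleton_iff.2 hba.symm))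
      exact (Subgroup.mem_centralizer_singleton_iff.1 (hle hx)).symm
    have h1 := Subgroup.card_le_of_le hker
    rw [Subgroup.card_map_of_injective B.subtype_injective, R.card_zω] at h1
    have h2 := Subgroup.card_le_card_group f.range
    rw [R.card_zω] at h2
    have h3 := Subgroup.card_mul_index f.ker
    rw [Subgroup.index_ker] at h3
    have := Nat.mul_le_mul h1 h2
    omega
  have F := R.freeV₁ hBA hωB hBc
  obtain ⟨v, hv, hv0⟩ := R.V₁_ne
  obtain ⟨K, hK, u, hu, hu0, huK⟩ := F.exists_wt hv hv0 le_rfl hv F.inv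
  have hωK : ω ∉ K := fun h => hu0 (by
    have h1 := R.mem_V₁.1 hu
    rwa [huK ω h, huK ω h, R.two, zero_add] at h1)
  have hnB : ∀ a ∈ A, ∀ x, x ∈ B ↔ a * x * a⁻¹ ∈ B := by
    intro a ha x
    constructor
    · intro hx
      have := mul_mem (R.zω_le.trans le_rfl |> fun _ => (Subgroup.zpowers_le).2 hωB (R.comm_mod a ha x (hBA hx))) hx
      rwa [inv_mul_cancel_right] at this
    · intro hx
      have hxA : x ∈ A := by
        have := mul_mem (mul_mem (inv_mem ha) (hBA hx)) ha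
        rwa [show a⁻¹ * (a * x * a⁻¹) * a = x by group] at this
      have := mul_mem (inv_mem ((Subgroup.zpowers_le).2 hωB (R.comm_mod a ha x hxA))) hx
      rwa [show (a * x * a⁻¹ * x⁻¹)⁻¹ * (a * x * a⁻¹) = x by group] at this
  have hmem : K ∈ wts V B R.V₁ := mem_wts.2 ⟨hK, u, hu, hu0, huK⟩
  let Ω : Finset (Subgroup Γ) := Set.Finite.toFinset (Set.toFinite (Set.range fun a : A => conjPerm (a : Γ) K))
  have hΩ : ∀ K' ∈ Ω, Idx B K' ∧ ∃ v ∈ R.V₁, v ≠ 0 ∧ v ∈ (fix K' : AddSubgroup V) := by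
    intro K' hK'
    obtain ⟨a, rfl⟩ : ∃ a : A, conjPerm (a : Γ) K = K' := by simpa [Ω] using hK'
    exact mem_wts.1 (wts_conj (hnB a a.2) ((R.V_inv (R.ωA_comm a a.2).symm).2) hmem)
  let g : ↥A ⧸ B.subgroupOf A → Ω := fun c => ⟨conjPerm (c.out : Γ) K, by simp [Ω]⟩
  have hg : Function.Injective g := by
    intro c d h
    have h' : conjPerm (c.out : Γ) K = conjPerm (d.out : Γ) K := congrArg Subtype.val h
    rw [← QuotientGroup.out_eq' c, ← QuotientGroup.out_eq' d, QuotientGroup.eq, Subgroup.mem_subgroupOf]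
    set a : Γ := ((c.out⁻¹ * d.out : A) : Γ) with ha'
    have ha : a ∈ A := (c.out⁻¹ * d.out).2
    have hfix : conjPerm a K = K := by
      rw [ha', Subgroup.coe_mul, InvMemClass.coe_inv, map_mul, map_inv, Equiv.Perm.mul_apply, ← h']
      simp
    refine hcB a ha fun b hb => ?_
    have hk : ∀ k ∈ K, a * k = k * a := by
      intro k hk
      have h1 : a * k * a⁻¹ ∈ K := by
        rw [← hfix, mem_conjPerm, show a⁻¹ * (a * k * a⁻¹) * a = k by group]; exact hk
      have h2 := R.comm_mod a ha k (hBA (hK.le hk))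
      have h3 : a * k * a⁻¹ * k⁻¹ ∈ K := mul_mem h1 (inv_mem hk)
      have h4 : a * k * a⁻¹ * k⁻¹ = 1 := by
        by_contra hne
        refine hωK ((Subgroup.zpowers_le (g := ω)).1 ?_)
        haveI : Fact (Nat.card (Subgroup.zpowers ω)).Prime := ⟨by rw [R.card_zω]; exact Nat.prime_three⟩
        intro x hx
        obtain ⟨i, hi⟩ := Subgroup.mem_zpowers_iff.1 (show (⟨x, hx⟩ : Subgroup.zpowers ω) ∈
          Subgroup.zpowers (⟨_, h2⟩ : Subgroup.zpowers ω) by
            rw [zpowers_eq_top_of_prime_card rfl (fun e => hne (congrArg Subtype.val e))]; trivial)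
        have := congrArg Subtype.val hi
        simp only [SubgroupClass.coe_zpow] at this
        rw [← this]
        exact zpow_mem h3 i
      exact mul_inv_eq_iff_eq_mul.1 (mul_inv_eq_one.1 h4)
    by_cases hbK : b ∈ K
    · exact hk b hbK
    have hω' : ω ∉ K := hωK
    have hca : Commute a ω := (R.ωA_comm a ha).symm
    rcases hK.three b hb hbK ω hωB hω' with h1 | h1
    · have h2 : Commute a (b * ω) := hk _ h1
      have h5 := h2.mul_right hca.inv_right
      rwa [mul_inv_cancel_right] at h5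
    · have h2 : Commute a (b * ω⁻¹) := hk _ h1
      have h5 := h2.mul_right hca
      rwa [inv_mul_cancel_right] at h5
  have h9 : 9 ≤ Ω.card := by
    have := Nat.card_le_card_of_injective g hg
    rw [Nat.card_eq_fintype_card (α := Ω), Fintype.card_coe] at this
    refine le_trans ?_ this
    have h := Subgroup.card_mul_index (B.subgroupOf A)
    rw [Nat.card_congr (Subgroup.subgroupOfEquivOfLe hBA).toEquiv, R.cardA, Subgroup.index_eq_card] at h
    nlinarith
  have h10 := (Nat.pow_le_pow_right (by norm_num : 1 ≤ 4) h9).trans (F.card_bound Ω hΩ)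
  have h11 := Nat.card_le_card_of_injective _ (R.V₁.subtype_injective)
  rw [R.cardV] at h11
  omega

theorem freeA : FreeAct A R.V₁ := R.freeV₁ le_rfl R.ωA R.abelian

theorem not_mem_wt {K : Subgroup Γ} (hK : K ∈ wts V A R.V₁) : ω ∉ K := by
  obtain ⟨-, u, hu, hu0, huK⟩ := mem_wts.1 hK
  intro h
  have h1 := R.mem_V₁.1 hu
  rw [huK ω h, huK ω h, R.two, zero_add] at h1
  exact hu0 h1

theorem eq_one_of_all {a : Γ} (ha : a ∈ A) (h : ∀ K ∈ wts V A R.V₁, a ∈ K) : a = 1 := by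
  refine R.ext_split (fun v hv => R.trivial_V₀ ha hv) fun v hv => ?_
  by_contra hne
  have F := R.freeA
  let W : AddSubgroup V :=
    { carrier := {w | w ∈ R.V₁ ∧ w + a • w + a • a • w = 0}
      add_mem' := fun {x y} hx hy => ⟨add_mem hx.1 hy.1, by
        rw [smul_add, smul_add,
          show x + y + (a • x + a • y) + (a • a • x + a • a • y) =
            (x + a • x + a • a • x) + (y + a • y + a • a • y) by abel, hx.2, hy.2, add_zero]⟩
      zero_mem' := ⟨zero_mem _, by simp⟩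
      neg_mem' := fun {x} hx => ⟨neg_mem hx.1, by
        rw [smul_neg, smul_neg, ← neg_zero, ← hx.2]; abel⟩ }
  have hw : v + a • v ∈ W := ⟨add_mem hv (F.inv a ha v hv), by
    rw [smul_add, smul_add, F.cube a ha v hv,
      show v + a • v + (a • v + a • a • v) + (a • a • v + v) =
        (v + v) + (a • v + a • v) + (a • a • v + a • a • v) by abel]
    simp [R.two]⟩
  have hw0 : v + a • v ≠ 0 := fun e => hne (by rw [eq_neg_of_add_eq_zero_right e, R.two'])
  obtain ⟨K, hK, u, hu, hu0, huK⟩ := F.exists_wt hw.1 hw0 (W' := W) (fun w hw' => hw'.1) hw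
    (fun b hb w hw' => ⟨F.inv b hb w hw'.1, by
      have hc : ∀ x ∈ R.V₁, a • b • x = b • a • x := F.comm a ha b hb
      rw [hc w hw'.1, hc (a • w) (F.inv a ha w hw'.1), ← smul_add, ← smul_add, hw'.2, smul_zero]⟩)
  have hak := h K (mem_wts.2 ⟨hK, u, hu.1, hu0, huK⟩)
  have h2 := hu.2
  rw [huK a hak, huK a hak, R.two, zero_add] at h2
  exact hu0 h2

theorem exists_moved : ∃ K ∈ wts V A R.V₁, ∃ t ∈ T, conjPerm t K ≠ K := by
  by_contra hfix
  push Not at hfix
  have hcent : ∀ t ∈ T, ∀ a ∈ A, t * a * t⁻¹ = a := by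
    intro t ht a ha
    refine mul_inv_eq_one.1 (R.eq_one_of_all (mul_mem (R.normA t ht a ha) (inv_mem ha)) fun K hK => ?_)
    have hKi := (mem_wts.1 hK).1
    have hnK : ∀ k ∈ K, t * k * t⁻¹ ∈ K := fun k hk => by
      rw [← hfix K hK t ht, mem_conjPerm, show t⁻¹ * (t * k * t⁻¹) * t = k by group]; exact hk
    have hωc := R.ωA_comm
    have hωt : t * ω * t⁻¹ = ω := by rw [← R.ωT_comm t ht, mul_inv_cancel_right]
    by_cases haK : a ∈ K
    · exact mul_mem (hnK a haK) (inv_mem haK)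
    rcases hKi.three a ha haK ω R.ωA (R.not_mem_wt hK) with h | h
    · have := mul_mem (hnK _ h) (inv_mem h)
      rwa [show t * (a * ω) * t⁻¹ * (a * ω)⁻¹ = t * a * t⁻¹ * ((t * ω * t⁻¹) * ω⁻¹) * a⁻¹ by group, hωt,
        mul_inv_cancel, mul_one] at this
    · have := mul_mem (hnK _ h) (inv_mem h)
      rwa [show t * (a * ω⁻¹) * t⁻¹ * (a * ω⁻¹)⁻¹ = t * a * t⁻¹ * ((t * ω * t⁻¹)⁻¹ * ω) * a⁻¹ by group, hωt,
        inv_mul_cancel, mul_one] at this
  have hex : ∃ a ∈ A, a ∉ Subgroup.zpowers ω := by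
    by_contra h
    push Not at h
    have := Subgroup.card_le_of_le h
    rw [R.cardA, R.card_zω] at this
    omega
  obtain ⟨a, ha, haω⟩ := hex
  have hW : Subgroup.zpowers ω ⊔ Subgroup.zpowers a ≤ A := sup_le R.zω_le ((Subgroup.zpowers_le).2 ha)
  rcases R.irr _ hW (Subgroup.mem_sup_left (Subgroup.mem_zpowers ω))
    (fun t ht w hw => by rw [hcent t ht w (hW hw)]; exact hw) with e | e
  · exact haω (e ▸ Subgroup.mem_sup_right (Subgroup.mem_zpowers a))
  · have hK3 : orderOf a ∣ 3 := orderOf_dvd_of_pow_eq_one (R.cube ha)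
    let m : Subgroup.zpowers ω × Subgroup.zpowers a →* Γ :=
      MonoidHom.noncommCoprod (Subgroup.subtype _) (Subgroup.subtype _)
        fun x y => R.zω_comm x.2 ((Subgroup.zpowers_le).2 ha y.2)
    have h1 : Nat.card m.range ≤ Nat.card (Subgroup.zpowers ω × Subgroup.zpowers a) :=
      Nat.card_le_card_of_surjective m.rangeRestrict m.rangeRestrict_surjective
    have hr : m.range = A := by
      refine (MonoidHom.noncommCoprod_range _ _ _).trans ?_
      rw [Subgroup.range_subtype, Subgroup.range_subtype, e]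
    rw [hr, R.cardA, Nat.card_prod,
      R.card_zω, Nat.card_zpowers] at h1
    have := Nat.le_of_dvd (by norm_num) hK3
    omega

theorem structure_wts : (wts V A R.V₁).card = 6 ∧ R.V₁ = ⊤ ∧
    ∀ K ∈ wts V A R.V₁, ∀ K' ∈ wts V A R.V₁, ∃ t ∈ T, conjPerm t K = K' := by
  obtain ⟨K₀, hK₀, hmv⟩ := R.exists_moved
  obtain ⟨h1, h2⟩ := R.six_wts (fun t ht => (R.V_inv (R.ωT_comm t ht).symm).2) hK₀ hmv
  have h3 := R.freeA.card_bound _ fun K hK => mem_wts.1 hK
  have h4 := Finset.card_le_card h1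
  have h5 : Nat.card R.V₁ ≤ 4096 := R.cardV ▸ Nat.card_le_card_of_injective _ (R.V₁.subtype_injective)
  have h6 : (wts V A R.V₁).card ≤ 6 := by
    by_contra h
    have := (Nat.pow_le_pow_right (show 1 ≤ 4 by norm_num) (show 7 ≤ (wts V A R.V₁).card by omega)).trans h3
    omega
  have h7 : R.orbitT K₀ = wts V A R.V₁ := Finset.eq_of_subset_of_card_le h1 (by omega)
  refine ⟨by omega, R.eq_top_of_card ?_, fun K hK K' hK' => ?_⟩
  · exact (Nat.pow_le_pow_right (by norm_num) (show 6 ≤ (wts V A R.V₁).card by omega)).trans h3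
  · rw [← h7] at hK hK'
    obtain ⟨t, ht, rfl⟩ := R.mem_orbitT.1 hK
    obtain ⟨t', ht', rfl⟩ := R.mem_orbitT.1 hK'
    exact ⟨t' * t⁻¹, mul_mem ht' (inv_mem ht), by simp⟩

theorem fpf {v : V} (h : ω • v = v) : v = 0 := by
  have h1 := R.mem_V₁.1 (R.structure_wts.2.1 ▸ AddSubgroup.mem_top v : v ∈ R.V₁)
  rwa [h, h, R.two, zero_add] at h1

end Raw

end CfsgLib.LargeFischer
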