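import Cfsg.Agent.Lib.MinIndexPSU4.Main
import Cfsg.Agent.Lib.Linear.Simple
import Cfsg.Agent.Lib.Linear.Card

/-!
The Siegel radical of `PSU₄(3)` together with the Levi complement `PSL₂(9)`: the radical is a minimal normal
subgroup of the parabolic.
-/

set_option autoImplicit false
set_option linter.unusedSectionVars false
set_option linter.style.haveILetI false
set_option linter.unnecessarySeqFocus false

namespace CfsgLib.LargeFischer

open Matrix CfsgLib.MinDeg CfsgLib.MinIndexPSU4

variable {K : Type*} [Field K] [Fintype K]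

theorem two_ne_zero_of_nine (hK : Fintype.card K = 9) : (2 : K) ≠ 0 := by
  intro h2
  have h9 : (9 : K) = 0 := by
    have := FiniteField.cast_card_eq_zero K
    rw [hK] at this
    simpa using this
  have h33 : (3 : K) * 3 = 0 := by linear_combination h9
  have h3 : (3 : K) = 0 := mul_self_eq_zero.1 h33
  exact one_ne_zero (by linear_combination h3 - h2 : (1 : K) = 0)

section
variable [StarRing K] {G : Type*} [Group G] (C : MinIndexPSU4.Data K 3 G)

/-- The radical as a homomorphism. -/
noncomputable def upHom : Multiplicative (skewPart 2 (1 : K)) →* G := C.D.radical.toMonoidHom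

theorem f_upHom (H : skewPart 2 (1 : K)) : C.D.f (upHom C (Multiplicative.ofAdd H)) = upperU H.1 :=
  C.D.upper_spec H

/-- The special linear group in the Levi complement. -/
noncomputable def levHom : SpecialLinearGroup (Fin 2) K →* G :=
  MonoidHom.mk' (fun A => C.lv ⟨A.1, by simp [A.2], by simp [A.2]⟩) fun A B => C.D.inj (by
    rw [map_mul, Data.f_lv, Data.f_lv, Data.f_lv, leviM_mul]; rfl)

theorem f_levHom (A : SpecialLinearGroup (Fin 2) K) : C.D.f (levHom C A) = leviM A.1 := C.f_lv _

/-- The congruence action on the radical. -/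
def act (A : Matrix (Fin 2) (Fin 2) K) (H : skewPart 2 (1 : K)) : skewPart 2 (1 : K) :=
  ⟨A * H.1 * Aᴴ, congr_mem A H.2⟩

theorem lev_conj_up (A : SpecialLinearGroup (Fin 2) K) (H : skewPart 2 (1 : K)) :
    levHom C A * upHom C (Multiplicative.ofAdd H) =
      upHom C (Multiplicative.ofAdd (act A.1 H)) * levHom C A := C.D.inj (by
  rw [map_mul, map_mul, f_levHom, f_upHom, f_upHom]
  exact leviM_mul_upperU A.1 H.1 (by simp [A.2]))

include C in
theorem exists_sk_ne : ∃ b : skS K, (b : K) ≠ 0 := by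
  classical
  obtain ⟨t, ht0, ht⟩ := exists_skew_ne_zero C.hF C.hs
  exact ⟨⟨t, by simpa [mem_skS] using ht⟩, ht0⟩

theorem scal_eq (b : skS K) : (skM b 0 b).1 = b.1 • (1 : Matrix (Fin 2) (Fin 2) K) := by
  simp [skM, one2, Matrix.smul_of]

/-- A central product of a radical and a Levi element has trivial radical part. -/
theorem central_prod {A : SpecialLinearGroup (Fin 2) K} {H : skewPart 2 (1 : K)}
    (hz : upHom C (Multiplicative.ofAdd H) * levHom C A ∈ Subgroup.center G) : H = 0 := by
  obtain ⟨b, hb⟩ := exists_sk_ne C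
  have h := congrArg C.D.f (Subgroup.mem_center_iff.1 hz (C.D.lower (skM b 0 b)))
  simp only [map_mul, f_upHom, f_levHom, C.D.lower_spec, upperU, lowerU, leviM, fromBlocks_multiply,
    fromBlocks_inj] at h
  obtain ⟨h11, -, -, -⟩ := h
  simp only [Matrix.zero_mul, Matrix.mul_zero, Matrix.one_mul, add_zero, zero_add] at h11
  have h1 : H.1 * (A.1⁻¹)ᴴ * (skM b 0 b).1 = 0 := by
    simp only [Matrix.mul_one, Matrix.mul_assoc] at h11 ⊢
    exact add_eq_left.1 h11.symm
  rw [scal_eq, Matrix.mul_smul, Matrix.mul_one, smul_eq_zero] at h1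
  have h2 := h1.resolve_left hb
  have hu : IsUnit ((A.1⁻¹)ᴴ).det := by
    rw [det_conjTranspose, det_nonsing_inv, Ring.inverse_eq_inv', A.2]
    simp
  refine Subtype.ext ?_
  have h3 := congrArg (fun X => X * ((A.1⁻¹)ᴴ)⁻¹) h2
  simpa [Matrix.mul_assoc, mul_nonsing_inv _ hu] using h3

theorem up_central {H : skewPart 2 (1 : K)} (hz : upHom C (Multiplicative.ofAdd H) ∈ Subgroup.center G) :
    H = 0 := central_prod C (A := 1) (by rwa [map_one, mul_one])

theorem act_upper (r : K) (a : skS K) (c : K) (b : skS K) :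
    (act !![1, r; 0, 1] (skM a c b)).1 =
      !![a.1 - r * star c + c * star r + r * b.1 * star r, c + r * b.1; -star c + b.1 * star r, b.1] := by
  show _ * _ * _ = _
  rw [skM_coe, ct2, Matrix.mul_fin_two, Matrix.mul_fin_two]
  ext i j
  fin_cases i <;> fin_cases j <;> simp <;> ring

theorem act_lower (s : K) (a : skS K) :
    (act !![1, 0; s, 1] (skM a 0 0)).1 = !![a.1, a.1 * star s; s * a.1, s * a.1 * star s] := by
  show _ * _ * _ = _
  rw [skM_coe, ct2, Matrix.mul_fin_two, Matrix.mul_fin_two]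
  simp

theorem act_one (H : skewPart 2 (1 : K)) : act 1 H = H := Subtype.ext (by simp [act])

include C in
/-- The Levi complement leaves no proper non-zero subgroup of the radical invariant. -/
theorem irreducible (hK : Fintype.card K = 9) (W : AddSubgroup (skewPart 2 (1 : K)))
    (hinv : ∀ A : SpecialLinearGroup (Fin 2) K, ∀ H ∈ W, act A.1 H ∈ W) : W = ⊥ ∨ W = ⊤ := by
  classical
  refine or_iff_not_imp_left.2 fun hne => ?_
  obtain ⟨H, hH, hH0⟩ := (W.bot_or_exists_ne_zero).resolve_left hne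
  obtain ⟨a, c, b, rfl⟩ := skM_surj H
  have h2 := two_ne_zero_of_nine hK
  let e (r : K) : SpecialLinearGroup (Fin 2) K := ⟨!![1, r; 0, 1], by simp [det_fin_two]⟩
  let l (s : K) : SpecialLinearGroup (Fin 2) K := ⟨!![1, 0; s, 1], by simp [det_fin_two]⟩
  haveI : Fact (Nat.card (skS K)).Prime := ⟨by rw [C.card_skS]; exact Nat.prime_three⟩
  have hline : ∀ x : skS K, x ≠ 0 → ∀ y : skS K, y ∈ AddSubgroup.zmultiples x := fun x hx y => by
    rw [zmultiples_eq_top_of_prime_card rfl hx]; trivial
  obtain ⟨a₀, ha₀, hW₀⟩ : ∃ a₀ : skS K, a₀ ≠ 0 ∧ skM a₀ 0 0 ∈ W := by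
    by_cases hb : b = 0
    · subst hb
      by_cases hc : c = 0
      · subst hc
        refine ⟨a, fun ha => hH0 ?_, hH⟩
        subst ha
        exact Subtype.ext (by simp [skM_coe, zero2])
      · obtain ⟨t, ht⟩ := exists_star_ne C.hF C.hs
        refine ⟨⟨c * star (c * t) - c * t * star c, ?_⟩, fun h => ?_, ?_⟩
        · simp [mem_skS, star_mul']; ring
        · have h' : c * star c * (star t - t) = 0 := by
            have := congrArg Subtype.val h
            simp only [star_mul', ZeroMemClass.coe_zero] at this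
            linear_combination this
          rcases mul_eq_zero.1 h' with h' | h'
          · rcases mul_eq_zero.1 h' with h' | h'
            · exact hc h'
            · exact hc (star_eq_zero.1 h')
          · exact ht (sub_eq_zero.1 h')
        · convert sub_mem (hinv (e (c * t)) _ hH) hH using 1
          refine Subtype.ext ?_
          rw [AddSubgroupClass.coe_sub, act_upper, skM_coe, skM_coe]
          ext i j
          fin_cases i <;> fin_cases j <;> simp <;> ring
    · refine ⟨b + b, fun h => hb ?_, ?_⟩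
      · have := congrArg Subtype.val h
        simp only [AddSubgroup.coe_add, ZeroMemClass.coe_zero, ← two_mul, mul_eq_zero, h2, false_or] at this
        exact Subtype.ext this
      · convert sub_mem (add_mem (hinv (e 1) _ hH) (hinv (e (-1)) _ hH)) (add_mem hH hH) using 1
        refine Subtype.ext ?_
        rw [AddSubgroupClass.coe_sub, AddSubgroup.coe_add, AddSubgroup.coe_add, act_upper, act_upper, skM_coe,
          skM_coe]
        ext i j
        fin_cases i <;> fin_cases j <;> simp <;> ring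
  have ha₀' : a₀.1 ≠ 0 := fun h => ha₀ (Subtype.ext h)
  have hoff : ∀ x : K, skM 0 x 0 ∈ W := fun x => by
    convert sub_mem (hinv (l (star (x / (2 * a₀.1)))) _ hW₀) (hinv (l (-star (x / (2 * a₀.1)))) _ hW₀) using 1
    refine Subtype.ext ?_
    rw [AddSubgroupClass.coe_sub, act_lower, act_lower, skM_coe]
    have hs : star (star (x / (2 * a₀.1))) = x / (2 * a₀.1) := star_star _
    ext i j
    fin_cases i <;> fin_cases j <;> simp
    · field_simp; ring
    · rw [star_skS]; field_simp; ring
  have hb₀ : skM 0 0 a₀ ∈ W := by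
    convert sub_mem (sub_mem (hinv (l 1) _ hW₀) hW₀) (hoff a₀.1) using 1
    refine Subtype.ext ?_
    rw [AddSubgroupClass.coe_sub, AddSubgroupClass.coe_sub, act_lower, skM_coe, skM_coe, skM_coe]
    ext i j
    fin_cases i <;> fin_cases j <;> simp [star_skS]
  let fa : skS K →+ skewPart 2 (1 : K) := AddMonoidHom.mk' (fun x => skM x 0 0) fun x y => Subtype.ext (by
    simp [skM_coe])
  let fb : skS K →+ skewPart 2 (1 : K) := AddMonoidHom.mk' (fun x => skM 0 0 x) fun x y => Subtype.ext (by
    simp [skM_coe])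
  rw [eq_top_iff]
  intro X _
  obtain ⟨x, y, w, rfl⟩ := skM_surj X
  obtain ⟨n, hn⟩ := AddSubgroup.mem_zmultiples_iff.1 (hline a₀ ha₀ x)
  obtain ⟨m, hm⟩ := AddSubgroup.mem_zmultiples_iff.1 (hline a₀ ha₀ w)
  have hx : fa x ∈ W := by rw [← hn, map_zsmul]; exact zsmul_mem hW₀ n
  have hw : fb w ∈ W := by rw [← hm, map_zsmul]; exact zsmul_mem hb₀ m
  convert add_mem (add_mem hx (hoff y)) hw using 1
  exact Subtype.ext (by simp [fa, fb, skM_coe])

end

/-- A minimal normal subgroup of order `81` of a parabolic of `PSU₄(3)` and its complement of order `360`. -/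
theorem exists_piece (hK : Fintype.card K = 9) :
    ∃ U L : Subgroup (Cfsg.PSU 4 K 3), Nat.card U = 81 ∧ (∀ a ∈ U, ∀ b ∈ U, a * b = b * a) ∧
      (∀ a ∈ U, a ^ 3 = 1) ∧
      IsSimpleGroup L ∧ Nat.card L = 360 ∧ (∀ l ∈ L, ∀ u ∈ U, l * u * l⁻¹ ∈ U) ∧ U ⊓ L = ⊥ ∧
      ∀ W : Subgroup (Cfsg.PSU 4 K 3), W ≤ U → (∀ l ∈ L, ∀ w ∈ W, l * w * l⁻¹ ∈ W) → W = ⊥ ∨ W = U := by
  classical
  have hF : Fintype.card K = 3 ^ 2 := by rw [hK]; norm_num
  obtain ⟨S, hS⟩ := MinDeg.exists_frob_star hF
  letI := S
  obtain ⟨D⟩ := exists_siegel hF hS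
  obtain ⟨C⟩ := exists_data hF hS D
  let mk := QuotientGroup.mk' (Subgroup.center (Cfsg.SU 4 K 3))
  let u : Multiplicative (skewPart 2 (1 : K)) →* Cfsg.PSU 4 K 3 := mk.comp (upHom C)
  let φ : SpecialLinearGroup (Fin 2) K →* Cfsg.PSU 4 K 3 := mk.comp (levHom C)
  have hmk : ∀ g, mk g = 1 ↔ g ∈ Subgroup.center (Cfsg.SU 4 K 3) := fun g => QuotientGroup.eq_one_iff g
  have hu : Function.Injective u := (injective_iff_map_eq_one u).2 fun H hH =>
    show Multiplicative.ofAdd H.toAdd = 1 by rw [up_central C (H := H.toAdd) ((hmk _).1 hH), ofAdd_zero]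
  have hcl : Nat.card (skewPart 2 (1 : K)) = 81 := by
    rw [Nat.card_congr skEquiv, Nat.card_prod, Nat.card_prod, C.card_skS, Nat.card_eq_fintype_card, hK]
  have hconj : ∀ A H, φ A * u (Multiplicative.ofAdd H) * (φ A)⁻¹ = u (Multiplicative.ofAdd (act A.1 H)) := by
    intro A H
    rw [mul_inv_eq_iff_eq_mul]
    show mk _ * mk _ = mk _ * mk _
    rw [← map_mul, ← map_mul, lev_conj_up]
  have hker : φ.ker = Subgroup.center (SpecialLinearGroup (Fin 2) K) := by
    have : Nontrivial (Fin 2) := inferInstance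
    have hcond : ∃ a : K, a ≠ 0 ∧ a ^ 2 ≠ 1 :=
      CfsgLib.Linear.exists_sq_ne_one_of_four_le_card (by rw [Nat.card_eq_fintype_card, hK]; norm_num)
    refine le_antisymm ((CfsgLib.Linear.SL_normal_le_center_or_eq_top (Or.inr hcond) φ.ker).resolve_right
      fun htop => ?_) fun A hA => ?_
    · obtain ⟨b, hb⟩ := exists_sk_ne C
      let E : SpecialLinearGroup (Fin 2) K := ⟨!![1, 1; 0, 1], by simp [det_fin_two]⟩
      have hE : φ E = 1 := MonoidHom.mem_ker.1 (htop ▸ Subgroup.mem_top E)
      have h := hconj E (skM 0 0 b)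
      rw [hE, one_mul, inv_one, mul_one] at h
      have h01 := congrArg (fun X : skewPart 2 (1 : K) => X.1 0 1) (Multiplicative.ofAdd.injective (hu h))
      simp only [E, act_upper, skM_coe] at h01
      simp at h01
      exact hb h01.symm
    · rw [MonoidHom.mem_ker]
      refine (hmk _).2 (Subgroup.mem_center_iff.2 fun g => C.D.inj ?_)
      obtain ⟨r, hr, hA'⟩ := Matrix.SpecialLinearGroup.mem_center_iff.1 hA
      rw [Fintype.card_fin] at hr
      have hr' : r = 1 ∨ r = -1 := sq_eq_one_iff.1 hr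
      have hAr : A.1 = r • (1 : Matrix (Fin 2) (Fin 2) K) := by rw [← hA', smul_one_eq_diagonal]; rfl
      have hL : leviM A.1 = r • (1 : Matrix (Fin 2 ⊕ Fin 2) (Fin 2 ⊕ Fin 2) K) := by
        have hi : A.1⁻¹ = r • (1 : Matrix (Fin 2) (Fin 2) K) := inv_eq_right_inv (by
          rw [hAr, Matrix.smul_mul, Matrix.one_mul, smul_smul, ← pow_two, hr, one_smul])
        have hs : star r = r := by rcases hr' with e | e <;> simp [e]
        rw [leviM, hi, hAr, conjTranspose_smul, conjTranspose_one, hs]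
        rw [← fromBlocks_one, fromBlocks_smul, smul_zero]
      rw [map_mul, map_mul, f_levHom, hL, Matrix.smul_mul, Matrix.mul_smul, Matrix.one_mul, Matrix.mul_one]
  have hLiso : φ.range ≃* ProjectiveSpecialLinearGroup (Fin 2) K :=
    (QuotientGroup.quotientKerEquivRange φ).symm.trans (QuotientGroup.quotientMulEquivOfEq hker)
  have hsimp : IsSimpleGroup (ProjectiveSpecialLinearGroup (Fin 2) K) :=
    CfsgLib.Linear.isSimpleGroup_PSL_fin 2 le_rfl fun _ => by rw [Nat.card_eq_fintype_card, hK]; norm_num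
  refine ⟨u.range, φ.range, ?_, ?_, ?_, (MulEquiv.isSimpleGroup_congr hLiso).2 hsimp, ?_, ?_, ?_, ?_⟩
  · rw [← Nat.card_congr (MonoidHom.ofInjective hu).toEquiv, Nat.card_congr Multiplicative.toAdd, hcl]
  · rintro _ ⟨a, rfl⟩ _ ⟨b, rfl⟩
    rw [← map_mul, ← map_mul, mul_comm]
  · rintro _ ⟨a, rfl⟩
    have h9 : (9 : K) = 0 := by
      have := FiniteField.cast_card_eq_zero K
      rw [hK] at this
      simpa using this
    have h3 : (3 : K) = 0 := mul_self_eq_zero.1 (by linear_combination h9)
    rw [← map_pow, ← map_one u]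
    congr 1
    refine Multiplicative.toAdd.injective ?_
    rw [toAdd_pow, toAdd_one]
    refine Subtype.ext ?_
    ext i j
    simp [h3]
  · rw [Nat.card_congr hLiso.toEquiv]
    have h := CfsgLib.Linear.card_PSL_mul (n := Fin 2) (F := K)
    rw [CfsgLib.Linear.card_SL_two, hK, Fintype.card_fin, show Nat.gcd 2 (9 - 1) = 2 from rfl,
      show 9 * (9 ^ 2 - 1) = 720 from rfl] at h
    omega
  · rintro _ ⟨A, rfl⟩ _ ⟨H, rfl⟩
    exact ⟨_, (hconj A H.toAdd).symm⟩
  · rw [eq_bot_iff]
    rintro x ⟨⟨H, rfl⟩, A, hA⟩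
    have h1 : H⁻¹.toAdd = 0 := central_prod C (A := A) ((hmk _).1 (by
      rw [map_mul]
      show u H⁻¹ * φ A = 1
      rw [hA, map_inv, inv_mul_cancel]))
    rw [Subgroup.mem_bot, ← map_one u]
    congr 1
    exact inv_eq_one.1 (Multiplicative.toAdd.injective h1)
  · intro W hW hinv
    let W' : AddSubgroup (skewPart 2 (1 : K)) := Subgroup.toAddSubgroup' (W.comap u)
    have hmem : ∀ H, H ∈ W' ↔ u (Multiplicative.ofAdd H) ∈ W := fun H => Iff.rfl
    rcases irreducible C hK W' fun A H hH => by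
      rw [hmem] at hH ⊢
      rw [← hconj]
      exact hinv _ ⟨A, rfl⟩ _ hH with e | e
    · left
      rw [eq_bot_iff]
      intro x hx
      obtain ⟨H, rfl⟩ := hW hx
      have : H.toAdd ∈ W' := hx
      rw [e, AddSubgroup.mem_bot] at this
      rw [show H = 1 from Multiplicative.toAdd.injective this, map_one]
      exact one_mem _
    · right
      refine le_antisymm hW ?_
      rintro _ ⟨H, rfl⟩
      exact (hmem H.toAdd).1 (e ▸ AddSubgroup.mem_top _)

end CfsgLib.LargeFischer
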