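import Cfsg.Agent.Lib.LargeFischer.Pre

/-!
An element of order seven commuting with `ω` has no fixed points on the module.
-/

set_option autoImplicit false
set_option linter.unusedSectionVars false
set_option linter.style.haveILetI false

namespace CfsgLib.LargeFischer

variable {Γ : Type*} [Group Γ] [Finite Γ] {V : Type*} [AddCommGroup V] [Finite V] [DistribMulAction Γ V]
  {L : Type*} [Group L] [IsSimpleGroup L]

/-- A set invariant under an element of prime order without fixed points on it. -/
theorem prime_dvd_card {p : ℕ} (hp : p.Prime) {α : Type*} [MulAction Γ α] [Finite α] {g : Γ} (hg : g ^ p = 1)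
    (S : Finset α) (hS : ∀ a ∈ S, g • a ∈ S) (hfix : ∀ a ∈ S, g • a ≠ a) : p ∣ S.card := by
  classical
  haveI : Fact p.Prime := ⟨hp⟩
  have hH : IsPGroup p (Subgroup.zpowers g) := fun x => ⟨1, by
    obtain ⟨i, hi⟩ := Subgroup.mem_zpowers_iff.1 x.2
    refine Subtype.ext ?_
    rw [pow_one, Subgroup.coe_pow, ← hi, Subgroup.coe_one, ← zpow_natCast, ← zpow_mul, mul_comm, zpow_mul,
      zpow_natCast, hg, one_zpow]⟩
  let T : SubMulAction (Subgroup.zpowers g) α :=
    { carrier := ↑S
      smul_mem' := fun x a ha => by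
        obtain ⟨n, -, hn⟩ := (isOfFinOrder_of_finite g).mem_zpowers_iff_mem_range_orderOf.1 x.2 |>
          Finset.mem_image.1
        have hp : ∀ m : ℕ, ∀ b ∈ S, g ^ m • b ∈ S := by
          intro m
          induction m with
          | zero => intro b hb; simpa using hb
          | succ m ih => intro b hb; rw [pow_succ, mul_smul]; exact ih _ (hS b hb)
        show (x : Γ) • a ∈ S
        rw [← hn]
        exact hp n a ha }
  have h := hH.card_modEq_card_fixedPoints T
  have h0 : Nat.card (MulAction.fixedPoints (Subgroup.zpowers g) T) = 0 := by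
    rw [Nat.card_eq_zero]
    left
    refine ⟨fun ⟨a, ha⟩ => hfix a a.2 ?_⟩
    exact congrArg Subtype.val (ha ⟨g, Subgroup.mem_zpowers g⟩)
  rw [h0] at h
  have hc : Nat.card T = S.card := by
    show Nat.card ↥(T : Set α) = _
    rw [Nat.card_coe_set_eq]
    exact Set.ncard_coe_finset S
  rw [hc] at h
  exact Nat.modEq_zero_iff_dvd.1 h

namespace Raw

variable {q : V → ZMod 2} {A T : Subgroup Γ} {ω : Γ} {π : T →* L} (R : Raw q A T ω π)
include R

/-- The polar form. -/
def bil (_R : Raw q A T ω π) (u v : V) : ZMod 2 := q (u + v) + q u + q v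

theorem bil_comm (u v : V) : R.bil u v = R.bil v u := by
  simp only [bil, add_comm u v]; ring

theorem bil_add_left (u u' v : V) : R.bil (u + u') v = R.bil u v + R.bil u' v := by
  simp only [bil]
  linear_combination R.pol_add u u' v - (q (u + v) + q (u' + v) + q u + q u' + q v) * CharTwo.two_eq_zero (R := ZMod 2)

theorem bil_add_right (u v v' : V) : R.bil u (v + v') = R.bil u v + R.bil u v' := by
  rw [R.bil_comm, R.bil_add_left, R.bil_comm v, R.bil_comm v']

theorem bil_zero (u : V) : R.bil u 0 = 0 := by
  simp only [bil, add_zero, R.q0]; exact CharTwo.add_self_eq_zero _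

theorem bil_sum {ι : Type*} (s : Finset ι) (u : V) (f : ι → V) : R.bil u (∑ i ∈ s, f i) = ∑ i ∈ s, R.bil u (f i) := by
  classical
  induction s using Finset.induction_on with
  | empty => simp [R.bil_zero]
  | insert a s ha ih => rw [Finset.sum_insert ha, Finset.sum_insert ha, R.bil_add_right, ih]

theorem bil_smul (γ : Γ) (u v : V) : R.bil (γ • u) (γ • v) = R.bil u v := by
  simp only [bil, ← smul_add, R.inv]

theorem bil_eq_zero {u : V} (h : ∀ v, R.bil v u = 0) : u = 0 :=
  R.nondeg u fun v => by
    have := h v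
    simp only [bil] at this
    linear_combination this - (q v + q u) * CharTwo.two_eq_zero (R := ZMod 2)

theorem seven_fpf : ∃ x : Γ, x ^ 7 = 1 ∧ ∀ v : V, x • v = v → v = 0 := by
  classical
  haveI := Fintype.ofFinite V
  obtain ⟨x, hx1, hx7, hxω⟩ := R.seven
  refine ⟨x, hx7, ?_⟩
  let N : V →+ V := ∑ i ∈ Finset.range 7, DistribSMul.toAddMonoidHom V (x ^ i)
  have hN : ∀ v, N v = ∑ i ∈ Finset.range 7, x ^ i • v := fun v => by simp [N]
  have hNx : ∀ v, N (x • v) = N v := by
    intro v
    have h := Finset.sum_range_succ (fun i => x ^ i • v) 7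
    rw [Finset.sum_range_succ' (fun i => x ^ i • v) 7, hx7, pow_zero] at h
    rw [hN, hN]
    have h2 : ∑ i ∈ Finset.range 7, x ^ i • x • v = ∑ i ∈ Finset.range 7, x ^ (i + 1) • v :=
      Finset.sum_congr rfl fun i _ => by rw [← mul_smul, ← pow_succ]
    rw [h2]
    exact add_right_cancel h
  have hxN : ∀ v, x • N v = N v := by
    intro v
    calc x • N v = N (x • v) := by
          rw [hN, hN, Finset.smul_sum]
          exact Finset.sum_congr rfl fun i _ => by rw [← mul_smul, ← mul_smul, ← pow_succ', ← pow_succ]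
      _ = N v := hNx v
  have hfixN : ∀ v, x • v = v → N v = v := by
    intro v hv
    have hp : ∀ i : ℕ, x ^ i • v = v := fun i => by
      induction i with
      | zero => simp
      | succ i ih => rw [pow_succ, mul_smul, hv, ih]
    rw [hN, Finset.sum_congr rfl fun i _ => hp i, Finset.sum_const, Finset.card_range,
      show (7 : ℕ) = 3 * 2 + 1 by rfl, add_nsmul, mul_nsmul', two_nsmul, R.two, nsmul_zero, zero_add, one_nsmul]
  let W : Finset V := Finset.univ.filter fun v => N v = 0
  have hWmem : ∀ v, v ∈ W ↔ N v = 0 := fun v => by simp [W]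
  have hxW : ∀ v ∈ W, x • v ∈ W := fun v hv => by rw [hWmem, hNx]; exact (hWmem v).1 hv
  have hωW : ∀ v ∈ W, ω • v ∈ W := fun v hv => by
    rw [hWmem] at hv ⊢
    rw [hN] at hv ⊢
    have : ∑ i ∈ Finset.range 7, x ^ i • ω • v = ω • ∑ i ∈ Finset.range 7, x ^ i • v := by
      rw [Finset.smul_sum]
      exact Finset.sum_congr rfl fun i _ => R.comm_smul (Commute.pow_left (show Commute x ω from hxω) i).eq v
    rw [this, hv, smul_zero]
  have hxfix : ∀ v ∈ W, x • v = v → v = 0 := fun v hv h => (hfixN v h).symm.trans ((hWmem v).1 hv)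
  have hWcard : W.card ∣ 4096 := by
    have h1 : Nat.card N.ker = W.card := by
      rw [← Nat.card_eq_finsetCard]
      exact Nat.card_congr (Equiv.subtypeEquivRight fun v => by rw [hWmem, AddMonoidHom.mem_ker])
    rw [← h1, ← R.cardV]
    exact AddSubgroup.card_addSubgroup_dvd_card _
  have hW0 : (0 : V) ∈ W := by rw [hWmem, map_zero]
  have herase : ∀ {g : Γ}, (∀ v ∈ W, g • v ∈ W) → ∀ v ∈ W.erase 0, g • v ∈ W.erase 0 := by
    intro g hg v hv
    rw [Finset.mem_erase] at hv ⊢
    exact ⟨fun e => hv.1 (by simpa using congrArg (g⁻¹ • ·) e), hg v hv.2⟩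
  have h7 : 7 ∣ (W.erase 0).card := prime_dvd_card (by norm_num) hx7 _ (herase hxW)
    fun v hv e => (Finset.mem_erase.1 hv).1 (hxfix v (Finset.mem_erase.1 hv).2 e)
  have h3 : 3 ∣ (W.erase 0).card := prime_dvd_card Nat.prime_three R.ω3 _ (herase hωW)
    fun v hv e => (Finset.mem_erase.1 hv).1 (R.fpf e)
  have hone : W.card ≠ 1 := by
    intro h
    refine hx1 (R.faithful x fun v => ?_)
    have hm : v + x • v ∈ W := by rw [hWmem, map_add, hNx, R.two]
    rw [Finset.card_eq_one] at h
    obtain ⟨w, hw⟩ := h
    have e0 : (0 : V) = w := by simpa [hw] using hW0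
    have e1 : v + x • v = w := by simpa [hw] using hm
    rw [← e0] at e1
    rw [eq_neg_of_add_eq_zero_right e1, R.two']
  rw [Finset.card_erase_of_mem hW0] at h7 h3
  obtain ⟨k, hk, hWk⟩ := (Nat.dvd_prime_pow Nat.prime_two).1 (show W.card ∣ 2 ^ 12 from hWcard)
  rcases (show k = 6 ∨ k = 12 by
      interval_cases k <;> omega) with rfl | rfl
  · exfalso
    let sg : V → ℤ := fun v => if q v = 0 then 1 else -1
    have hz : ∀ a : ZMod 2, a = 0 ∨ a = 1 := by decide
    have hsg : ∀ u v, sg u * sg v = sg (u + v) * (if R.bil u v = 0 then 1 else -1) := by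
      intro u v
      have h : R.bil u v = q (u + v) + q u + q v := rfl
      rcases hz (q u) with a | a <;> rcases hz (q v) with b | b <;> rcases hz (q (u + v)) with c | c <;>
        rw [h] <;> simp [sg, a, b, c, show ((1 : ZMod 2) + 1) = 0 from rfl]
    have hNv : ∀ v, v + N v ∈ W := fun v => by rw [hWmem, map_add, hfixN _ (hxN v), R.two]
    have hsum : ∀ w ∈ W, ∑ u ∈ W, (if R.bil u w = 0 then (1 : ℤ) else -1) = if w = 0 then 64 else 0 := by
      intro w hw
      split_ifs with hw0
      · subst hw0
        simp [R.bil_zero, hWk]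
      · obtain ⟨u₀, hu₀, hB⟩ : ∃ u₀ ∈ W, R.bil u₀ w = 1 := by
          by_contra h
          push Not at h
          refine hw0 (R.bil_eq_zero fun v => ?_)
          have hv : v = N v + (v + N v) := by rw [add_left_comm, R.two, add_zero]
          rw [hv, R.bil_add_left, (hz _).resolve_right (h _ (hNv v)), add_zero]
          have hp : ∀ i : ℕ, x ^ i • N v = N v := fun i => by
            induction i with
            | zero => simp
            | succ i ih => rw [pow_succ, mul_smul, hxN, ih]
          have h1 : ∀ i ∈ Finset.range 7, R.bil (N v) (x ^ i • w) = R.bil (N v) w := fun i _ => by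
            conv_lhs => rw [← hp i, R.bil_smul]
          have h2 : R.bil (N v) (N w) = ∑ i ∈ Finset.range 7, R.bil (N v) w := by
            rw [hN w, R.bil_sum]; exact Finset.sum_congr rfl h1
          rw [(hWmem w).1 hw, R.bil_zero, Finset.sum_const, Finset.card_range, nsmul_eq_mul] at h2
          rw [show ((7 : ℕ) : ZMod 2) = 1 from rfl, one_mul] at h2
          exact h2.symm
        have hmem : ∀ u ∈ W, u₀ + u ∈ W := fun u hu => by
          rw [hWmem, map_add, (hWmem u₀).1 hu₀, (hWmem u).1 hu, add_zero]
        have h := Finset.sum_nbij' (s := W) (t := W) (fun u => u₀ + u) (fun u => u₀ + u) hmem hmem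
          (fun u _ => by rw [← add_assoc, R.two, zero_add]) (fun u _ => by rw [← add_assoc, R.two, zero_add])
          (f := fun u => (if R.bil u w = 0 then (1 : ℤ) else -1))
          (g := fun u => -(if R.bil u w = 0 then (1 : ℤ) else -1)) (fun u _ => by
            rw [R.bil_add_left, hB]
            rcases hz (R.bil u w) with e | e <;> simp [e, show ((1 : ZMod 2) + 1) = 0 from rfl])
        rw [Finset.sum_neg_distrib] at h
        omega
    have hsq : (∑ w ∈ W, sg w) * (∑ w ∈ W, sg w) = 64 := by
      rw [Finset.sum_mul_sum]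
      calc ∑ u ∈ W, ∑ v ∈ W, sg u * sg v
          = ∑ u ∈ W, ∑ w ∈ W, sg w * (if R.bil u w = 0 then 1 else -1) := by
            refine Finset.sum_congr rfl fun u hu => ?_
            have hmem : ∀ v ∈ W, u + v ∈ W := fun v hv => by
              rw [hWmem, map_add, (hWmem u).1 hu, (hWmem v).1 hv, add_zero]
            refine Finset.sum_nbij' (fun v => u + v) (fun v => u + v) hmem hmem
              (fun v _ => by rw [← add_assoc, R.two, zero_add]) (fun v _ => by rw [← add_assoc, R.two, zero_add])
              fun v _ => ?_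
            have : R.bil u (u + v) = R.bil u v := by
              rw [R.bil_add_right, show R.bil u u = 0 from (by simp only [bil, R.two, R.q0, zero_add]; exact CharTwo.add_self_eq_zero _), zero_add]
            rw [hsg, this]
        _ = ∑ w ∈ W, sg w * (if w = 0 then 64 else 0) := by
            rw [Finset.sum_comm]
            refine Finset.sum_congr rfl fun w hw => ?_
            rw [← Finset.mul_sum, hsum w hw]
        _ = 64 := by
            rw [Finset.sum_eq_single 0 (fun b _ hb => by simp [hb]) (fun h => absurd hW0 h)]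
            simp [sg, R.q0]
    let S := (W.erase 0).filter fun v => q v = 0
    have hsn : ∑ w ∈ W, sg w = 2 * (S.card : ℤ) + 2 - 64 := by
      rw [← Finset.sum_erase_add _ _ hW0]
      have : ∀ w, sg w = 2 * (if q w = 0 then 1 else 0) - 1 := fun w => by simp only [sg]; split_ifs <;> norm_num
      rw [Finset.sum_congr rfl fun w _ => this w, Finset.sum_sub_distrib, ← Finset.mul_sum, Finset.sum_boole,
        this 0, if_pos R.q0, Finset.sum_const, Finset.card_erase_of_mem hW0, hWk]
      simp [S]
      ring
    have hSinv : ∀ {g : Γ}, (∀ v ∈ W, g • v ∈ W) → ∀ v ∈ S, g • v ∈ S := by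
      intro g hg v hv
      rw [Finset.mem_filter] at hv ⊢
      exact ⟨herase hg v hv.1, by rw [R.inv]; exact hv.2⟩
    have s7 : 7 ∣ S.card := prime_dvd_card (by norm_num) hx7 S (hSinv hxW) fun v hv e => by
      rw [Finset.mem_filter, Finset.mem_erase] at hv
      exact hv.1.1 (hxfix v hv.1.2 e)
    have s3 : 3 ∣ S.card := prime_dvd_card Nat.prime_three R.ω3 S (hSinv hωW) fun v hv e => by
      rw [Finset.mem_filter, Finset.mem_erase] at hv
      exact hv.1.1 (R.fpf e)
    rw [hsn] at hsq
    obtain ⟨c, hc⟩ : 21 ∣ S.card := Nat.Coprime.mul_dvd_of_dvd_of_dvd (by norm_num) s3 s7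
    have hle : S.card ≤ 63 := (Finset.card_filter_le _ _).trans (by rw [Finset.card_erase_of_mem hW0, hWk]; norm_num)
    have : c ≤ 3 := by omega
    rw [hc] at hsq
    interval_cases c <;> norm_num at hsq
  · intro v hv
    refine hxfix v ?_ hv
    rw [Finset.eq_univ_of_card W (by rw [hWk, ← Nat.card_eq_fintype_card, R.cardV]; norm_num)]
    exact Finset.mem_univ v

end Raw

end CfsgLib.LargeFischer
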