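import Cfsg.Agent.Lib.LargeFischer.Model
import Cfsg.Agent.Lib.LargeFischer.PlaneFacts
import Cfsg.Agent.Lib.LargeFischer.PlaneSylow

/-!
The stabilizer of the plane: orders of its linear part and of the pointwise stabilizer, and the realised maps.
-/

set_option autoImplicit false
set_option linter.unusedSectionVars false
set_option linter.style.haveILetI false

namespace CfsgLib.LargeFischer.Plane

theorem mem_plane_iff {v : ℕ} (hv : v < 4096) : inPlane v = true ↔ v ∈ plane := by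
  have h := plane_check
  simp only [Bool.and_eq_true, List.all_eq_true] at h
  refine ⟨fun hp => ?_, fun hp => h.1.1.1.2 v hp⟩
  have := allV_spec h.1.1.1.1 hv
  rw [hp] at this
  simpa using this

theorem plane_facts {w : ℕ} (hw : w ∈ plane) :
    w < 4096 ∧ qb w = false ∧ inPlane (cj w) = true ∧ inPlane (wm w) = true := by
  have h := plane_check
  simp only [Bool.and_eq_true, List.all_eq_true, Nat.blt_eq, Bool.not_eq_true'] at h
  obtain ⟨⟨⟨⟨h1, h2⟩, h3⟩, h4⟩, -⟩ := h.1.1.2 w hw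
  exact ⟨h1, h2, h4.symm ▸ (h.1.1.2 w hw).1.2, (h.1.1.2 w hw).2⟩

theorem length_special : special.length = 18 := by
  have h := plane_check
  simp only [Bool.and_eq_true, Nat.beq_eq] at h
  exact h.1.2

theorem sm_lt {c v : ℕ} (hv : v < 4096) : sm c v < 4096 := by
  unfold sm
  split
  · norm_num
  · exact hv
  · exact wm_lt hv
  · exact wm_lt (wm_lt hv)

/-- The set of the vectors of the plane. -/
def planeSet : Finset ℕ := plane.toFinset

theorem card_planeSet : planeSet.card = 64 := by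
  rw [planeSet, List.toFinset_card_of_nodup count_check.2.1.1, count_check.2.1.2]

/-- The set of all vectors. -/
def vecs : Finset ℕ := Finset.range 4096

theorem testVecs_mem : ∀ w ∈ testVecs, w ∈ plane := by decide +kernel

namespace Model

variable {Γ : Type*} [Group Γ] {f : Γ → ℕ → ℕ} (M : Model f)
include M

theorem zero (γ : Γ) : f γ 0 = 0 := by
  have h := M.add γ 0 (by norm_num) 0 (by norm_num)
  simp at h
  exact h

theorem inv_apply (γ : Γ) {v : ℕ} (hv : v < 4096) : f γ⁻¹ (f γ v) = v := by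
  rw [← M.mul _ _ v hv, inv_mul_cancel, M.one v hv]

theorem apply_inv (γ : Γ) {v : ℕ} (hv : v < 4096) : f γ (f γ⁻¹ v) = v := by
  rw [← M.mul _ _ v hv, mul_inv_cancel, M.one v hv]

theorem injOn (γ : Γ) {u v : ℕ} (hu : u < 4096) (hv : v < 4096) (h : f γ u = f γ v) : u = v := by
  rw [← M.inv_apply γ hu, h, M.inv_apply γ hv]

theorem ext {γ δ : Γ} (h : ∀ v, v < 4096 → f γ v = f δ v) : γ = δ :=
  inv_mul_eq_one.1 (M.inj _ fun v hv => by rw [M.mul _ _ v hv, ← h v hv, M.inv_apply γ hv])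

/-- The linear elements. -/
def linG : Subgroup Γ where
  carrier := {γ | ∀ v, v < 4096 → f γ (wm v) = wm (f γ v)}
  one_mem' := fun v hv => by rw [M.one _ (wm_lt hv), M.one v hv]
  mul_mem' := fun {a b} ha hb v hv => by
    rw [M.mul _ _ _ (wm_lt hv), hb v hv, ha _ (M.lt b v hv), M.mul _ _ v hv]
  inv_mem' := fun {a} ha v hv => by
    refine M.injOn a (M.lt _ _ (wm_lt hv)) (wm_lt (M.lt _ _ hv)) ?_
    rw [M.apply_inv a (wm_lt hv), ha _ (M.lt _ _ hv), M.apply_inv a hv]

theorem lin_sm {γ : Γ} (hγ : γ ∈ M.linG) (c : ℕ) {v : ℕ} (hv : v < 4096) : f γ (sm c v) = sm c (f γ v) := by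
  unfold sm
  split
  · exact M.zero γ
  · rfl
  · exact hγ v hv
  · rw [hγ _ (wm_lt hv), hγ v hv]

theorem flip_mul {γ δ : Γ} (hγ : γ ∉ M.linG) (hδ : δ ∉ M.linG) : γ * δ ∈ M.linG := by
  have h1 := (M.semi γ).resolve_left hγ
  have h2 := (M.semi δ).resolve_left hδ
  intro v hv
  have hu := M.lt δ _ (wm_lt hv)
  rw [M.mul _ _ _ (wm_lt hv), M.mul _ _ v hv, ← h2 v hv, h1 _ hu]

/-- The stabilizer of the plane. -/
def stab : Subgroup Γ where
  carrier := {γ | ∀ v, v < 4096 → inPlane (f γ v) = inPlane v}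
  one_mem' := fun v hv => by rw [M.one v hv]
  mul_mem' := fun {a b} ha hb v hv => by rw [M.mul _ _ v hv, ha _ (M.lt b v hv), hb v hv]
  inv_mem' := fun {a} ha v hv => by rw [← ha _ (M.lt _ _ hv), M.apply_inv a hv]

theorem mem_stab_of {γ : Γ} (h : ∀ w ∈ plane, inPlane (f γ w) = true) : γ ∈ M.stab := by
  classical
  have himg : planeSet.image (f γ) = planeSet := by
    refine Finset.eq_of_subset_of_card_le (fun x hx => ?_) ?_
    · obtain ⟨w, hw, rfl⟩ := Finset.mem_image.1 hx
      rw [planeSet, List.mem_toFinset] at hw ⊢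
      exact (mem_plane_iff (M.lt γ w (plane_facts hw).1)).1 (h w hw)
    · rw [Finset.card_image_of_injOn fun u hu v hv e => ?_]
      rw [planeSet, Finset.mem_coe, List.mem_toFinset] at hu hv
      exact M.injOn γ (plane_facts hu).1 (plane_facts hv).1 e
  intro v hv
  rw [Bool.eq_iff_iff, mem_plane_iff (M.lt γ v hv), mem_plane_iff hv, ← List.mem_toFinset, ← List.mem_toFinset,
    show plane.toFinset = planeSet from rfl]
  refine ⟨fun hm => ?_, fun hm => himg ▸ Finset.mem_image_of_mem _ hm⟩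
  obtain ⟨w, hw, e⟩ := Finset.mem_image.1 (himg.symm ▸ hm : f γ v ∈ planeSet.image (f γ))
  exact M.injOn γ (plane_facts (List.mem_toFinset.1 hw)).1 hv e ▸ hw

theorem stab_plane {γ : Γ} (hγ : γ ∈ M.stab) {w : ℕ} (hw : w ∈ plane) : f γ w ∈ plane :=
  (mem_plane_iff (M.lt γ w (plane_facts hw).1)).1
    ((hγ w (plane_facts hw).1).trans ((mem_plane_iff (plane_facts hw).1).2 hw))

/-- The pointwise stabilizer of the plane. -/
def fixer : Subgroup Γ where
  carrier := {γ | ∀ w ∈ plane, f γ w = w}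
  one_mem' := fun w hw => M.one w (plane_facts hw).1
  mul_mem' := fun {a b} ha hb w hw => by rw [M.mul _ _ w (plane_facts hw).1, hb w hw, ha w hw]
  inv_mem' := fun {a} ha w hw => by
    conv_lhs => rw [← ha w hw]
    exact M.inv_apply a (plane_facts hw).1

theorem fixer_le_stab : M.fixer ≤ M.stab := fun γ hγ => M.mem_stab_of fun w hw => by
  rw [hγ w hw]; exact (mem_plane_iff (plane_facts hw).1).2 hw

theorem fixer_le_linG : M.fixer ≤ M.linG := fun γ hγ => by
  by_contra hn
  have h := (M.semi γ).resolve_left hn 5 (by norm_num)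
  rw [hγ _ (show wm 5 ∈ plane by decide), hγ _ (show (5 : ℕ) ∈ plane by decide)] at h
  exact absurd h (by decide)

/-- Two maps fixing the plane with the same pattern: one of the thirty-two. -/
theorem ker_mem {F : ℕ → ℕ} (hlt : ∀ v, v < 4096 → F v < 4096)
    (hadd : ∀ u < 4096, ∀ v < 4096, F (u ^^^ v) = F u ^^^ F v)
    (hlin : ∀ v, v < 4096 → F (wm v) = wm (F v)) (hq : ∀ v, v < 4096 → qb (F v) = qb v)
    (hs : ∀ v, v < 4096 → sb (F v) = sb v) (hfix : ∀ w ∈ plane, F w = w) :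
    (F 1, F 16, F 256) ∈ ker32 ∧ ∀ v, v < 4096 → F v = ap (kerCols (F 1, F 16, F 256)) v := by
  have hcand : ∀ e ∈ [1, 16, 256], F e ∈ cands e := by
    intro e he
    have he' : e < 4096 := by fin_cases he <;> norm_num
    have hok : candOk e (F e) = true := by
      simp only [candOk, List.all_eq_true, Bool.and_eq_true, beq_iff_eq]
      intro w hw
      have hew : F (e ^^^ w) = F e ^^^ w := by rw [hadd e he' w (plane_facts hw).1, hfix w hw]
      rw [← hew, hq _ (xor_lt he' (plane_facts hw).1), hs _ (xor_lt he' (plane_facts hw).1)]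
      exact ⟨rfl, rfl⟩
    have h1 := List.all_eq_true.1 cands_check e he
    have h2 := allV_spec h1 (hlt e he')
    rw [hok] at h2
    simp only [Bool.not_true, Bool.false_or] at h2
    simp only [cands, List.mem_filter, List.mem_map]
    refine ⟨⟨e ^^^ F e, (mem_plane_iff (xor_lt he' (hlt e he'))).1 h2, ?_⟩, hok⟩
    rw [← Nat.xor_assoc, Nat.xor_self, Nat.zero_xor]
  have hsm : ∀ c, c ∈ [1, 2, 3] → ∀ y, y < 4096 → F (sm c y) = sm c (F y) := by
    intro c hc y hy
    fin_cases hc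
    · rfl
    · exact hlin y hy
    · show F (wm (wm y)) = wm (wm (F y))
      rw [hlin _ (wm_lt hy), hlin y hy]
  have hpair : ∀ e g, e < 4096 → g < 4096 → pairOk (F e) e (F g) g = true := by
    intro e g he hg
    simp only [pairOk, List.all_eq_true, Bool.and_eq_true, beq_iff_eq]
    intro c hc
    rw [← hsm c hc g hg, ← hadd e he _ (sm_lt hg), hq _ (xor_lt he (sm_lt hg)), hs _ (xor_lt he (sm_lt hg))]
    exact ⟨rfl, rfl⟩
  have h := List.all_eq_true.1 ker_check _ (hcand 1 (by simp))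
  have h := List.all_eq_true.1 h _ (hcand 16 (by simp))
  rw [hpair 1 16 (by norm_num) (by norm_num)] at h
  simp only [Bool.not_true, Bool.false_or] at h
  have h := List.all_eq_true.1 h _ (hcand 256 (by simp))
  rw [hpair 1 256 (by norm_num) (by norm_num), hpair 16 256 (by norm_num) (by norm_num)] at h
  simp only [Bool.not_true, Bool.false_or, List.contains_iff_mem] at h
  refine ⟨h, fun v hv => ?_⟩
  rw [eq_ap' hadd hv]
  congr 1
  have hnext : ∀ e d, e < 4096 → d ∈ plane → F (e ^^^ d) = F e ^^^ d := fun e d he hd => by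
    rw [hadd e he d (plane_facts hd).1, hfix d hd]
  have e1 := hnext 1 5 (by norm_num) (by decide)
  have e2 := hnext 16 80 (by norm_num) (by decide)
  have e3 := hnext 256 1280 (by norm_num) (by decide)
  have l1 := hlin 1 (by norm_num)
  have l2 := hlin 4 (by norm_num)
  have l3 := hlin 16 (by norm_num)
  have l4 := hlin 64 (by norm_num)
  have l5 := hlin 256 (by norm_num)
  have l6 := hlin 1024 (by norm_num)
  rw [show (1 : ℕ) ^^^ 5 = 4 from rfl] at e1
  rw [show (16 : ℕ) ^^^ 80 = 64 from rfl] at e2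
  rw [show (256 : ℕ) ^^^ 1280 = 1024 from rfl] at e3
  norm_num [show wm 1 = 2 from rfl, show wm 4 = 8 from rfl, show wm 16 = 32 from rfl, show wm 64 = 128 from rfl,
    show wm 256 = 512 from rfl, show wm 1024 = 2048 from rfl] at l1 l2 l3 l4 l5 l6
  simp only [idCols, List.map_cons, List.map_nil, kerCols, l1, l2, l3, l4, l5, l6, e1, e2, e3]

/-- A column list is realised. -/
def Real (_M : Model f) (h : List ℕ) : Prop := ∃ γ, ∀ v, v < 4096 → f γ v = ap h v

theorem real_comp {g h : List ℕ} (hg : M.Real g) (hh : M.Real h) : M.Real (comp g h) := by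
  obtain ⟨a, ha⟩ := hg
  obtain ⟨b, hb⟩ := hh
  refine ⟨a * b, fun v hv => ?_⟩
  rw [M.mul _ _ v hv, ha _ (M.lt b v hv), hb v hv, ap_comp]

theorem real_id : M.Real idCols := ⟨1, fun v hv => by rw [M.one v hv, ap_idCols hv]⟩

theorem not_real_tau : ¬ M.Real tau := M.noTau

section Finite

variable [Finite Γ]

theorem card_le_of_classes {α : Type*} [DecidableEq α] (H : Subgroup Γ) (K : Subgroup Γ) (φ : Γ → α)
    (s : Finset α) (hφ : ∀ γ ∈ H, φ γ ∈ s)
    (hK : ∀ γ ∈ H, ∀ δ ∈ H, φ γ = φ δ → δ⁻¹ * γ ∈ K) : Nat.card H ≤ s.card * Nat.card K := by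
  classical
  have hr : ∀ a : s, ∃ δ : Γ, (∃ γ ∈ H, φ γ = a) → δ ∈ H ∧ φ δ = a := fun a => by
    by_cases h : ∃ γ ∈ H, φ γ = a
    · obtain ⟨γ, h1, h2⟩ := h; exact ⟨γ, fun _ => ⟨h1, h2⟩⟩
    · exact ⟨1, fun h' => absurd h' h⟩
  choose r hr using hr
  let F : H → s × K := fun γ => (⟨φ γ, hφ γ γ.2⟩,
    ⟨(r ⟨φ γ, hφ γ γ.2⟩)⁻¹ * γ, hK γ γ.2 _ (hr ⟨φ γ, hφ γ γ.2⟩ ⟨γ, γ.2, rfl⟩).1
      (hr ⟨φ γ, hφ γ γ.2⟩ ⟨γ, γ.2, rfl⟩).2.symm⟩)
  have hF : Function.Injective F := by
    rintro ⟨a, ha⟩ ⟨b, hb⟩ h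
    have h1 : (⟨φ a, hφ a ha⟩ : s) = ⟨φ b, hφ b hb⟩ := congrArg Prod.fst h
    have h2 : (r ⟨φ a, hφ a ha⟩)⁻¹ * a = (r ⟨φ b, hφ b hb⟩)⁻¹ * b :=
      congrArg (fun p : s × K => (p.2 : Γ)) h
    rw [h1] at h2
    exact Subtype.ext (mul_left_cancel h2)
  refine (Nat.card_le_card_of_injective F hF).trans_eq ?_
  rw [Nat.card_prod, Nat.card_eq_finsetCard]

/-- The images of the plane. -/
noncomputable def planes (_M : Model f) : Finset (Finset ℕ) :=
  haveI := Fintype.ofFinite Γ
  Finset.univ.image fun γ : Γ => planeSet.image (f γ)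

theorem mem_planes {X : Finset ℕ} : X ∈ M.planes ↔ ∃ γ, planeSet.image (f γ) = X := by
  haveI := Fintype.ofFinite Γ
  simp [planes]

theorem plane_props {X : Finset ℕ} (hX : X ∈ M.planes) : X.card = 64 ∧
    (∀ v ∈ X, v < 4096 ∧ qb v = false ∧ wm v ∈ X) ∧ ∀ u ∈ X, ∀ v ∈ X, u ^^^ v ∈ X := by
  classical
  obtain ⟨γ, rfl⟩ := M.mem_planes.1 hX
  have hmem : ∀ {w}, w ∈ planeSet ↔ w ∈ plane := fun {w} => List.mem_toFinset
  refine ⟨?_, fun v hv => ?_, fun u hu v hv => ?_⟩
  · rw [Finset.card_image_of_injOn fun u hu v hv e =>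
      M.injOn γ (plane_facts (hmem.1 hu)).1 (plane_facts (hmem.1 hv)).1 e, card_planeSet]
  · obtain ⟨w, hw, rfl⟩ := Finset.mem_image.1 hv
    obtain ⟨hl, hq, -, hwm⟩ := plane_facts (hmem.1 hw)
    refine ⟨M.lt γ w hl, by rw [M.qinv γ w hl, hq], Finset.mem_image.2 ?_⟩
    rcases M.semi γ with h | h
    · exact ⟨wm w, hmem.2 ((mem_plane_iff (wm_lt hl)).1 hwm), h w hl⟩
    · refine ⟨wm (wm w), hmem.2 ?_, ?_⟩
      · have h1 := (plane_facts ((mem_plane_iff (wm_lt hl)).1 hwm)).2.2.2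
        exact (mem_plane_iff (wm_lt (wm_lt hl))).1 h1
      · have h1 := h (wm (wm w)) (wm_lt (wm_lt hl))
        rw [wm_cube hl] at h1
        rw [← h1]
  · obtain ⟨a, ha, rfl⟩ := Finset.mem_image.1 hu
    obtain ⟨b, hb, rfl⟩ := Finset.mem_image.1 hv
    obtain ⟨hla, -⟩ := plane_facts (hmem.1 ha)
    obtain ⟨hlb, -⟩ := plane_facts (hmem.1 hb)
    refine Finset.mem_image.2 ⟨a ^^^ b, hmem.2 ?_, M.add γ a hla b hlb⟩
    have hclosed : ∀ a ∈ plane, ∀ b ∈ plane, inPlane (a ^^^ b) = true := by decide +kernel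
    exact (mem_plane_iff (xor_lt hla hlb)).1 (hclosed a (hmem.1 ha) b (hmem.1 hb))

theorem planes_through_five : (M.planes.filter fun X => 5 ∈ X).card ≤ 27 := by
  classical
  let lines : Finset (Finset ℕ) := lineGens.toFinset.image fun p => (spanU p).toFinset
  have hl : lines.card ≤ 27 := by
    refine Finset.card_image_le.trans ((List.toFinset_card_le _).trans ?_)
    decide
  refine le_trans (Finset.card_le_card fun X hX => ?_) hl
  rw [Finset.mem_filter] at hX
  obtain ⟨hX, h5⟩ := hX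
  obtain ⟨hc, hv, hadd⟩ := M.plane_props hX
  have hsm : ∀ c, ∀ v ∈ X, sm c v ∈ X := by
    intro c v hvX
    unfold sm
    split
    · have := hadd v hvX v hvX
      rwa [Nat.xor_self] at this
    · exact hvX
    · exact (hv v hvX).2.2
    · exact (hv _ (hv v hvX).2.2).2.2
  have hbb : ∀ u ∈ X, ∀ v ∈ X, bb u v = false := by
    intro u hu v hv'
    rw [bb, (hv _ (hadd u hu v hv')).2.1, (hv u hu).2.1, (hv v hv').2.1]
    rfl
  set L := X.filter fun v => v % 16 = 0 with hL
  have hsplit : ∀ v ∈ X, v ^^^ sm (v % 4) 5 ∈ L := by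
    intro v hvX
    refine Finset.mem_filter.2 ⟨hadd v hvX _ (hsm _ 5 h5), ?_⟩
    have h := allV_spec perp_check (hv v hvX).1
    rw [hbb v hvX 5 h5, show bb v 10 = false from hbb v hvX _ (hsm 2 5 h5)] at h
    simpa [Nat.beq_eq] using h
  have hL16 : 16 ≤ L.card := by
    have h := Finset.card_le_card_of_injOn (s := X) (t := Finset.range 4 ×ˢ L)
      (fun v => (v % 4, v ^^^ sm (v % 4) 5))
      (fun v hvX => Finset.mem_product.2 ⟨Finset.mem_range.2 (Nat.mod_lt _ (by norm_num)), hsplit v hvX⟩)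
      (fun u _ v _ e => by
        simp only [Prod.mk.injEq] at e
        have h2 := e.2
        rw [e.1] at h2
        exact Nat.xor_left_inj.1 h2)
    rw [hc, Finset.card_product, Finset.card_range] at h
    omega
  obtain ⟨a, ha, ha0⟩ : ∃ a ∈ L, a ≠ 0 := by
    by_contra hcon
    push Not at hcon
    have : L ⊆ {0} := fun x hx => Finset.mem_singleton.2 (hcon x hx)
    have := Finset.card_le_card this
    simp at this; omega
  obtain ⟨b, hb, hbn⟩ : ∃ b ∈ L, b ∉ ({sm 0 a, sm 1 a, sm 2 a, sm 3 a} : Finset ℕ) := by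
    by_contra hcon
    push Not at hcon
    have := Finset.card_le_card hcon
    have h4 : ({sm 0 a, sm 1 a, sm 2 a, sm 3 a} : Finset ℕ).card ≤ 4 := Finset.card_le_four
    omega
  obtain ⟨haX, ha16⟩ := Finset.mem_filter.1 ha
  obtain ⟨hbX, hb16⟩ := Finset.mem_filter.1 hb
  obtain ⟨i, hi⟩ := Nat.dvd_of_mod_eq_zero ha16
  obtain ⟨j, hj⟩ := Nat.dvd_of_mod_eq_zero hb16
  subst hi hj
  have hla := (hv _ haX).1
  have hlb := (hv _ hbX).1
  have h := List.all_eq_true.1 line_check i (List.mem_range.2 (by omega))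
  rw [show Nat.beq i 0 = false by simpa [Bool.eq_false_iff, Nat.beq_eq] using ha0, (hv _ haX).2.1] at h
  simp only [Bool.false_or] at h
  have h := List.all_eq_true.1 h j (List.mem_range.2 (by omega))
  rw [(hv _ hbX).2.1, hbb _ haX _ hbX, hbb _ (hv _ haX).2.2 _ hbX] at h
  simp only [Finset.mem_insert, Finset.mem_singleton, not_or] at hbn
  have hb' : ([0, 1, 2, 3].any fun c => Nat.beq (16 * j) (sm c (16 * i))) = false := by
    simp [Bool.eq_false_iff, Nat.beq_eq, hbn.1, hbn.2.1, hbn.2.2.1, hbn.2.2.2]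
  rw [hb'] at h
  simp only [Bool.false_or, List.any_eq_true, Bool.and_eq_true, List.contains_iff_mem] at h
  obtain ⟨p, hp, hap, hbp⟩ := h
  refine Finset.mem_image.2 ⟨p, List.mem_toFinset.2 hp, ?_⟩
  have hs := List.all_eq_true.1 span_check p hp
  simp only [Bool.and_eq_true, decide_eq_true_eq, Nat.beq_eq, Nat.blt_eq] at hs
  obtain ⟨⟨⟨⟨hnd, hlen⟩, hp1⟩, hp2⟩, hgen⟩ := hs
  have hg := List.all_eq_true.1 (List.all_eq_true.1 hgen (16 * i) hap) (16 * j) hbp
  rw [hb', show Nat.beq (16 * i) 0 = false by simpa [Bool.eq_false_iff, Nat.beq_eq] using ha0] at hg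
  simp only [Bool.false_or, List.all_eq_true, List.any_eq_true, Nat.beq_eq] at hg
  have hpX : ∀ g ∈ [p.1, p.2], g ∈ X := fun g hgm => by
    obtain ⟨c, -, d, -, e⟩ := hg g hgm
    rw [e]
    exact hadd _ (hsm c _ haX) _ (hsm d _ hbX)
  refine Finset.eq_of_subset_of_card_le (fun x hx => ?_) (by rw [hc, List.toFinset_card_of_nodup hnd, hlen])
  rw [List.mem_toFinset] at hx
  simp only [spanU, lineOf, List.mem_flatMap, List.mem_map] at hx
  obtain ⟨c, -, l, ⟨d, -, e, -, rfl⟩, rfl⟩ := hx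
  exact hadd _ (hsm c 5 h5) _ (hadd _ (hsm d _ (hpX _ (by simp))) _ (hsm e _ (hpX _ (by simp))))

theorem card_planes : M.planes.card ≤ 567 := by
  classical
  set S := vecs.filter fun v => sb v = true with hS
  have hScard : S.card = 378 := by
    have h : S = ((List.range 4096).filter sb).toFinset := by ext v; simp [hS, vecs]
    rw [h, List.toFinset_card_of_nodup (List.nodup_range.filter _), count_check.1]
  have hrow : ∀ X ∈ M.planes, 18 ≤ (S.filter fun v => v ∈ X).card := by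
    intro X hX
    obtain ⟨γ, rfl⟩ := M.mem_planes.1 hX
    have h : special.toFinset.image (f γ) ⊆ S.filter fun v => v ∈ planeSet.image (f γ) := by
      intro v hv
      obtain ⟨w, hw, rfl⟩ := Finset.mem_image.1 hv
      rw [List.mem_toFinset, special, List.mem_filter] at hw
      obtain ⟨hl, -⟩ := plane_facts hw.1
      exact Finset.mem_filter.2 ⟨Finset.mem_filter.2 ⟨Finset.mem_range.2 (M.lt γ w hl), by
        rw [M.sinv γ w hl, hw.2]⟩, Finset.mem_image_of_mem _ (List.mem_toFinset.2 hw.1)⟩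
    refine le_trans ?_ (Finset.card_le_card h)
    rw [Finset.card_image_of_injOn fun u hu v hv e => ?_]
    · rw [List.toFinset_card_of_nodup (l := special) (count_check.2.1.1.filter _)]
      exact length_special.ge
    · rw [Finset.mem_coe, List.mem_toFinset, special, List.mem_filter] at hu hv
      exact M.injOn γ (plane_facts hu.1).1 (plane_facts hv.1).1 e
  have hcol : ∀ v ∈ S, (M.planes.filter fun X => v ∈ X).card ≤ 27 := by
    intro v hv
    rw [hS, Finset.mem_filter, vecs, Finset.mem_range] at hv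
    obtain ⟨γ, hγ⟩ := M.trans v hv.1 hv.2
    refine le_trans ?_ M.planes_through_five
    refine Finset.card_le_card_of_injOn (fun X => X.image (f γ⁻¹)) (fun X hX => ?_) ?_
    · rw [Finset.mem_coe, Finset.mem_filter] at hX ⊢
      obtain ⟨δ, rfl⟩ := M.mem_planes.1 hX.1
      refine ⟨M.mem_planes.2 ⟨γ⁻¹ * δ, ?_⟩, Finset.mem_image.2 ⟨v, hX.2, ?_⟩⟩
      · show _ = (planeSet.image (f δ)).image (f γ⁻¹)
        rw [Finset.image_image]
        exact Finset.image_congr fun w hw => M.mul _ _ w (plane_facts (List.mem_toFinset.1 hw)).1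
      · rw [← hγ, M.inv_apply γ (by norm_num)]
    · intro X hX Y hY e
      rw [Finset.mem_coe, Finset.mem_filter] at hX hY
      have key : ∀ Z ∈ M.planes, (Z.image (f γ⁻¹)).image (f γ) = Z := by
        intro Z hZ
        rw [Finset.image_image]
        refine (Finset.image_congr fun w hw => ?_).trans Finset.image_id
        exact M.apply_inv γ ((M.plane_props hZ).2.1 w hw).1
      rw [← key X hX.1, ← key Y hY.1]
      exact congrArg (fun Z => Finset.image (f γ) Z) e
  have h := Finset.card_mul_le_card_mul (fun (X : Finset ℕ) (v : ℕ) => v ∈ X) (s := M.planes) (t := S)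
    (m := 18) (n := 27) (fun X hX => hrow X hX) (fun v hv => hcol v hv)
  rw [hScard] at h
  omega

theorem card_le_stab (H : Subgroup Γ) : Nat.card H ≤ 567 * Nat.card ↥(H ⊓ M.stab) := by
  classical
  refine le_trans (card_le_of_classes M H (H ⊓ M.stab) (fun γ => planeSet.image (f γ)) M.planes
    (fun γ _ => M.mem_planes.2 ⟨γ, rfl⟩) (fun γ hγ δ hδ e => ⟨H.mul_mem (H.inv_mem hδ) hγ, ?_⟩))
    (Nat.mul_le_mul_right _ M.card_planes)
  refine M.mem_stab_of fun w hw => ?_
  obtain ⟨hl, -⟩ := plane_facts hw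
  have e' : f γ w ∈ planeSet.image (f δ) :=
    (congrArg (fun Z => f γ w ∈ Z) e).mp (Finset.mem_image_of_mem _ (List.mem_toFinset.2 hw))
  obtain ⟨w', hw', e''⟩ := Finset.mem_image.1 e'
  rw [planeSet, List.mem_toFinset] at hw'
  rw [M.mul _ _ w hl, ← e'', M.inv_apply δ (plane_facts hw').1, mem_plane_iff (plane_facts hw').1]
  exact hw'

/-- The images of the three basic vectors of the plane. -/
def planeTri (_M : Model f) (γ : Γ) : ℕ × ℕ × ℕ := (f γ 5, f γ 80, f γ 1280)

theorem planeMap_eq {γ : Γ} (hγ : γ ∈ M.linG) {w : ℕ} (hw : w ∈ plane) : f γ w = planeMap (M.planeTri γ) w := by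
  have h := List.all_eq_true.1 plane_basis w hw
  rw [Nat.beq_eq] at h
  conv_lhs => rw [h]
  rw [M.add γ _ (xor_lt (sm_lt (by norm_num)) (sm_lt (by norm_num))) _ (sm_lt (by norm_num)),
    M.add γ _ (sm_lt (by norm_num)) _ (sm_lt (by norm_num)), M.lin_sm hγ _ (by norm_num),
    M.lin_sm hγ _ (by norm_num), M.lin_sm hγ _ (by norm_num)]
  rfl

theorem planeTri_mem {γ : Γ} (hγ : γ ∈ M.linG) (hs : γ ∈ M.stab) : M.planeTri γ ∈ planeStab := by
  have hsp : ∀ w ∈ plane, sb w = true → f γ w ∈ special := fun w hw hsw => by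
    rw [special, List.mem_filter]
    exact ⟨M.stab_plane hs hw, by rw [M.sinv γ w (plane_facts hw).1, hsw]⟩
  simp only [planeStab, List.mem_filter, List.mem_flatMap, List.mem_map, List.all_eq_true, beq_iff_eq]
  refine ⟨⟨f γ 5, hsp 5 (by decide) (by decide), f γ 80, hsp 80 (by decide) (by decide), f γ 1280,
    hsp 1280 (by decide) (by decide), rfl⟩, fun w hw => ?_⟩
  have hw : w ∈ plane := testVecs_mem w hw
  rw [← M.planeMap_eq hγ hw, M.sinv γ w (plane_facts hw).1]

/-- The images of three coordinate vectors. -/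
def kerTri (_M : Model f) (γ : Γ) : ℕ × ℕ × ℕ := (f γ 1, f γ 16, f γ 256)

theorem fixer_spec {γ : Γ} (hγ : γ ∈ M.fixer) :
    M.kerTri γ ∈ ker32 ∧ ∀ v, v < 4096 → f γ v = ap (kerCols (M.kerTri γ)) v :=
  ker_mem M (M.lt γ) (M.add γ) (M.fixer_le_linG hγ) (M.qinv γ) (M.sinv γ) hγ

theorem kerCols_fixes {t : ℕ × ℕ × ℕ} (ht : t ∈ ker32) {w : ℕ} (hw : w ∈ plane) : ap (kerCols t) w = w := by
  have h := ker32_check
  simp only [Bool.and_eq_true, List.all_eq_true, Nat.beq_eq] at h
  exact (h.1.1.2 t ht).1.2 w hw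

/-- The triples realised in the pointwise stabilizer. -/
noncomputable def kerSet : Finset (ℕ × ℕ × ℕ) :=
  haveI := Fintype.ofFinite M.fixer
  Finset.univ.image fun γ : M.fixer => M.kerTri γ

theorem mem_kerSet {t : ℕ × ℕ × ℕ} : t ∈ M.kerSet ↔ ∃ γ ∈ M.fixer, M.kerTri γ = t := by
  haveI := Fintype.ofFinite M.fixer
  simp [kerSet]

theorem kerSet_sub : M.kerSet ⊆ ker32.toFinset := fun t ht => by
  obtain ⟨γ, hγ, rfl⟩ := M.mem_kerSet.1 ht
  exact List.mem_toFinset.2 (M.fixer_spec hγ).1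

theorem card_kerSet : M.kerSet.card = Nat.card M.fixer := by
  classical
  have hinj : Function.Injective fun γ : M.fixer => M.kerTri γ := by
    intro a b e
    refine Subtype.ext (M.ext fun v hv => ?_)
    rw [(M.fixer_spec a.2).2 v hv, (M.fixer_spec b.2).2 v hv]
    rw [show M.kerTri (a : Γ) = M.kerTri (b : Γ) from e]
  rw [kerSet, Finset.card_image_of_injective _ hinj]
  exact (@Finset.card_univ _ (Fintype.ofFinite _)).trans (@Nat.card_eq_fintype_card _ (Fintype.ofFinite _)).symm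

theorem twisted_disjoint : Disjoint (M.kerSet.image kerCols) (M.kerSet.image fun t => comp (kerCols t) tau) := by
  classical
  rw [Finset.disjoint_left]
  intro c hc hc'
  obtain ⟨t, ht, rfl⟩ := Finset.mem_image.1 hc
  obtain ⟨t', ht', e⟩ := Finset.mem_image.1 hc'
  obtain ⟨γ, hγ, rfl⟩ := M.mem_kerSet.1 ht
  obtain ⟨δ, hδ, rfl⟩ := M.mem_kerSet.1 ht'
  have htl : ∀ v, ap tau v < 4096 := fun v => ap_lt (fun c hc => by
    have h := List.all_eq_true.1 tau_mem.2.2.2 c hc
    rwa [Nat.blt_eq] at h) v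
  refine M.not_real_tau ⟨δ⁻¹ * γ, fun v hv => ?_⟩
  rw [M.mul _ _ v hv, (M.fixer_spec hγ).2 v hv, ← e, ap_comp, ← (M.fixer_spec hδ).2 _ (htl v),
    M.inv_apply δ (htl v)]

theorem kerSet_union_sub : M.kerSet.image kerCols ∪ M.kerSet.image (fun t => comp (kerCols t) tau) ⊆
    (ker32.map kerCols).toFinset := by
  classical
  have h := List.all_eq_true.1 tau_mem.1
  intro c hc
  rw [List.mem_toFinset]
  rcases Finset.mem_union.1 hc with hc | hc
  · obtain ⟨t, ht, rfl⟩ := Finset.mem_image.1 hc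
    exact List.mem_map_of_mem (List.mem_toFinset.1 (M.kerSet_sub ht))
  · obtain ⟨t, ht, rfl⟩ := Finset.mem_image.1 hc
    have := h t (List.mem_toFinset.1 (M.kerSet_sub ht))
    simp only [Bool.and_eq_true, List.contains_iff_mem] at this
    exact this.1.1

theorem card_images : (M.kerSet.image kerCols).card = M.kerSet.card ∧
    (M.kerSet.image fun t => comp (kerCols t) tau).card = M.kerSet.card := by
  classical
  have htt : comp tau tau = idCols := tau_mem.2.1
  have hk : ∀ t t' : ℕ × ℕ × ℕ, kerCols t = kerCols t' → t = t' := by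
    rintro ⟨a, b, c⟩ ⟨a', b', c'⟩ e
    simp only [kerCols, List.cons.injEq] at e
    obtain ⟨rfl, -, -, -, rfl, -, -, -, rfl, -⟩ := e
    rfl
  refine ⟨Finset.card_image_of_injective _ hk, Finset.card_image_of_injOn fun t ht t' ht' e => ?_⟩
  obtain ⟨γ, hγ, rfl⟩ := M.mem_kerSet.1 ht
  obtain ⟨δ, hδ, rfl⟩ := M.mem_kerSet.1 ht'
  have e' : comp (kerCols (M.kerTri γ)) tau = comp (kerCols (M.kerTri δ)) tau := e
  have hγδ : γ = δ := M.ext fun v hv => by
    have h2 := congrArg (fun c => ap c (ap tau v)) e'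
    simp only [ap_comp] at h2
    rw [← ap_comp tau tau, htt, ap_idCols hv] at h2
    rw [(M.fixer_spec hγ).2 v hv, (M.fixer_spec hδ).2 v hv, h2]
  rw [hγδ]

theorem fixer_le_sixteen : Nat.card M.fixer ≤ 16 := by
  classical
  have h := Finset.card_le_card M.kerSet_union_sub
  rw [Finset.card_union_of_disjoint M.twisted_disjoint, M.card_images.1, M.card_images.2, M.card_kerSet] at h
  have := List.toFinset_card_le (ker32.map kerCols)
  have h32 : (ker32.map kerCols).length = 32 := by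
    have h := ker32_check
    simp only [Bool.and_eq_true, Nat.beq_eq] at h
    rw [List.length_map]
    exact h.1.1.1.1
  omega

/-- The linear stabilizer of the plane. -/
abbrev linStab : Subgroup Γ := M.linG ⊓ M.stab

theorem card_linStab : Nat.card M.linStab ≤ planeStab.toFinset.card * Nat.card M.fixer := by
  classical
  refine card_le_of_classes M _ _ M.planeTri planeStab.toFinset
    (fun γ hγ => List.mem_toFinset.2 (M.planeTri_mem hγ.1 hγ.2)) fun γ hγ δ hδ e w hw => ?_
  obtain ⟨hl, -⟩ := plane_facts hw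
  rw [M.mul _ _ w hl, M.planeMap_eq hγ.1 hw, e, ← M.planeMap_eq hδ.1 hw, M.inv_apply δ hl]

theorem card_linG_le : Nat.card Γ ≤ 2 * Nat.card M.linG := by
  classical
  by_cases hx : ∃ x, x ∉ M.linG
  swap
  · push Not at hx
    rw [show M.linG = ⊤ from eq_top_iff.2 fun x _ => hx x, Subgroup.card_top]
    omega
  obtain ⟨x, hx⟩ := hx
  let g : Γ → Fin 2 × M.linG := fun γ =>
    if h : γ ∈ M.linG then (0, ⟨γ, h⟩) else (1, ⟨x * γ, M.flip_mul hx h⟩)
  have hg : Function.Injective g := by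
    intro a b h
    simp only [g] at h
    split_ifs at h with ha hb hb
    · exact congrArg (fun p : Fin 2 × M.linG => (p.2 : Γ)) h
    · exact absurd (congrArg Prod.fst h) (show (0 : Fin 2) ≠ 1 by decide)
    · exact absurd (congrArg Prod.fst h) (show (1 : Fin 2) ≠ 0 by decide)
    · exact mul_left_cancel (congrArg (fun p : Fin 2 × M.linG => (p.2 : Γ)) h)
  refine (Nat.card_le_card_of_injective g hg).trans ?_
  rw [Nat.card_prod, Nat.card_fin]

theorem counts : Nat.card M.linG = 9797760 ∧ Nat.card M.linStab = 17280 ∧ Nat.card M.fixer = 16 ∧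
    planeStab.toFinset.card = 1080 := by
  have h1 := M.card_linG_le
  rw [M.card] at h1
  have h2 := M.card_le_stab M.linG
  change Nat.card M.linG ≤ 567 * Nat.card M.linStab at h2
  have h3 := M.card_linStab
  have h4 := M.fixer_le_sixteen
  have h5 : planeStab.toFinset.card ≤ 1080 :=
    (List.toFinset_card_le _).trans (by
      have h := stab_check
      rwa [Nat.ble_eq] at h)
  have h6 := Nat.mul_le_mul h5 h4
  have h7 : Nat.card M.fixer = 16 := by
    by_contra hne
    have := Nat.mul_le_mul h5 (show Nat.card M.fixer ≤ 15 by omega)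
    omega
  have h8 : planeStab.toFinset.card = 1080 := by
    rw [h7] at h3
    omega
  refine ⟨?_, ?_, h7, h8⟩
  · omega
  · omega

theorem exists_planeTri {t : ℕ × ℕ × ℕ} (ht : t ∈ planeStab) : ∃ γ ∈ M.linStab, M.planeTri γ = t := by
  classical
  haveI := Fintype.ofFinite M.linStab
  obtain ⟨-, h2, h7, h8⟩ := M.counts
  let img := Finset.univ.image fun γ : M.linStab => M.planeTri γ
  have hsub : img ⊆ planeStab.toFinset := fun x hx => by
    obtain ⟨γ, -, rfl⟩ := Finset.mem_image.1 hx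
    exact List.mem_toFinset.2 (M.planeTri_mem γ.2.1 γ.2.2)
  have hle : Nat.card M.linStab ≤ img.card * Nat.card M.fixer :=
    card_le_of_classes M _ _ M.planeTri img (fun γ hγ => Finset.mem_image.2 ⟨⟨γ, hγ⟩, Finset.mem_univ _, rfl⟩)
      fun γ hγ δ hδ e w hw => by
        obtain ⟨hl, -⟩ := plane_facts hw
        rw [M.mul _ _ w hl, M.planeMap_eq hγ.1 hw, e, ← M.planeMap_eq hδ.1 hw, M.inv_apply δ hl]
  rw [h2, h7] at hle
  have heq := Finset.eq_of_subset_of_card_le hsub (by omega)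
  obtain ⟨γ, -, e⟩ := Finset.mem_image.1 (heq.symm ▸ List.mem_toFinset.2 ht : t ∈ img)
  exact ⟨γ, γ.2, e⟩

theorem twisted_cover {t : ℕ × ℕ × ℕ} (ht : t ∈ ker32) :
    M.Real (kerCols t) ∨ M.Real (comp (kerCols t) tau) := by
  classical
  have heq : M.kerSet.image kerCols ∪ M.kerSet.image (fun t => comp (kerCols t) tau) =
      (ker32.map kerCols).toFinset := by
    refine Finset.eq_of_subset_of_card_le M.kerSet_union_sub ?_
    rw [Finset.card_union_of_disjoint M.twisted_disjoint, M.card_images.1, M.card_images.2, M.card_kerSet,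
      M.counts.2.2.1]
    refine (List.toFinset_card_le _).trans ?_
    rw [List.length_map]
    decide
  have hm : kerCols t ∈ M.kerSet.image kerCols ∪ M.kerSet.image (fun t => comp (kerCols t) tau) := by
    rw [heq]; exact List.mem_toFinset.2 (List.mem_map_of_mem ht)
  rcases Finset.mem_union.1 hm with h | h
  · obtain ⟨s, hs, e⟩ := Finset.mem_image.1 h
    obtain ⟨γ, hγ, rfl⟩ := M.mem_kerSet.1 hs
    exact Or.inl ⟨γ, fun v hv => by rw [(M.fixer_spec hγ).2 v hv, e]⟩
  · obtain ⟨s, hs, e⟩ := Finset.mem_image.1 h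
    obtain ⟨γ, hγ, rfl⟩ := M.mem_kerSet.1 hs
    refine Or.inr ⟨γ, fun v hv => ?_⟩
    have htt : comp tau tau = idCols := tau_mem.2.1
    rw [(M.fixer_spec hγ).2 v hv, ap_comp, ← e, ap_comp, ← ap_comp tau tau, htt, ap_idCols hv]

/-- A map stabilizing the plane is realised up to the transposition. -/
theorem real_or {F : ℕ → ℕ} (hlt : ∀ v, v < 4096 → F v < 4096)
    (hadd : ∀ u < 4096, ∀ v < 4096, F (u ^^^ v) = F u ^^^ F v)
    (hlin : ∀ v, v < 4096 → F (wm v) = wm (F v)) (hq : ∀ v, v < 4096 → qb (F v) = qb v)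
    (hs : ∀ v, v < 4096 → sb (F v) = sb v) (hp : ∀ w ∈ plane, inPlane (F w) = true) :
    (∃ γ, ∀ v, v < 4096 → f γ v = F v) ∨ ∃ γ, ∀ v, v < 4096 → f γ v = F (ap tau v) := by
  have hmap : ∀ w ∈ plane, F w = planeMap (F 5, F 80, F 1280) w := by
    intro w hw
    have h := List.all_eq_true.1 plane_basis w hw
    rw [Nat.beq_eq] at h
    have hsm : ∀ c y, y < 4096 → F (sm c y) = sm c (F y) := by
      intro c y hy
      unfold sm
      split
      · have := hadd 0 (by norm_num) 0 (by norm_num); simp at this; exact this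
      · rfl
      · exact hlin y hy
      · rw [hlin _ (wm_lt hy), hlin y hy]
    conv_lhs => rw [h]
    rw [hadd _ (xor_lt (sm_lt (by norm_num)) (sm_lt (by norm_num))) _ (sm_lt (by norm_num)),
      hadd _ (sm_lt (by norm_num)) _ (sm_lt (by norm_num)), hsm _ _ (by norm_num), hsm _ _ (by norm_num),
      hsm _ _ (by norm_num)]
    rfl
  have ht : (F 5, F 80, F 1280) ∈ planeStab := by
    have hsp : ∀ w ∈ plane, sb w = true → F w ∈ special := fun w hw hsw => by
      rw [special, List.mem_filter]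
      exact ⟨(mem_plane_iff (hlt w (plane_facts hw).1)).1 (hp w hw), by rw [hs w (plane_facts hw).1, hsw]⟩
    simp only [planeStab, List.mem_filter, List.mem_flatMap, List.mem_map, List.all_eq_true, beq_iff_eq]
    refine ⟨⟨F 5, hsp 5 (by decide) (by decide), F 80, hsp 80 (by decide) (by decide), F 1280,
      hsp 1280 (by decide) (by decide), rfl⟩, fun w hw => ?_⟩
    have hw : w ∈ plane := testVecs_mem w hw
    rw [← hmap w hw, hs w (plane_facts hw).1]
  obtain ⟨γ, hγ, he⟩ := M.exists_planeTri ht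
  have hfix : ∀ w ∈ plane, f γ⁻¹ (F w) = w := fun w hw => by
    rw [hmap w hw, ← he, ← M.planeMap_eq hγ.1 hw, M.inv_apply γ (plane_facts hw).1]
  obtain ⟨hker, hk⟩ := ker_mem M (F := fun v => f γ⁻¹ (F v)) (fun v hv => M.lt _ _ (hlt v hv))
    (fun u hu v hv => by rw [hadd u hu v hv, M.add _ _ (hlt u hu) _ (hlt v hv)])
    (fun v hv => by rw [hlin v hv]; exact M.linG.inv_mem hγ.1 _ (hlt v hv))
    (fun v hv => by rw [M.qinv _ _ (hlt v hv), hq v hv]) (fun v hv => by rw [M.sinv _ _ (hlt v hv), hs v hv]) hfix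
  rcases M.twisted_cover hker with ⟨δ, hδ⟩ | ⟨δ, hδ⟩
  · exact Or.inl ⟨γ * δ, fun v hv => by rw [M.mul _ _ v hv, hδ v hv, ← hk v hv, M.apply_inv γ (hlt v hv)]⟩
  · refine Or.inr ⟨γ * δ, fun v hv => ?_⟩
    have htl : ap tau v < 4096 := ap_lt (fun c hc => by
      have h := List.all_eq_true.1 tau_mem.2.2.2 c hc
      rwa [Nat.blt_eq] at h) v
    rw [M.mul _ _ v hv, hδ v hv, ap_comp, ← hk _ htl, M.apply_inv γ (hlt _ htl)]

theorem real_or_good {h : List ℕ} (hh : good h = true) : M.Real h ∨ M.Real (comp h tau) := by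
  simp only [good, Bool.and_eq_true, List.all_eq_true] at hh
  have h1 : ∀ v, v < 4096 → sb (ap h v) = sb v ∧ qb (ap h v) = qb v ∧ ap h (wm v) = wm (ap h v) ∧ ap h v < 4096 := by
    intro v hv
    have := allV_spec hh.1 hv
    simp only [Bool.and_eq_true, beq_iff_eq, Nat.beq_eq, Nat.blt_eq] at this
    exact ⟨this.1.1.1, this.1.1.2, this.1.2, this.2⟩
  rcases M.real_or (F := ap h) (fun v hv => (h1 v hv).2.2.2) (fun u _ v _ => ap_add h u v)
      (fun v hv => (h1 v hv).2.2.1) (fun v hv => (h1 v hv).2.1) (fun v hv => (h1 v hv).1) hh.2 with ⟨γ, hγ⟩ | ⟨γ, hγ⟩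
  · exact Or.inl ⟨γ, hγ⟩
  · exact Or.inr ⟨γ, fun v hv => by rw [hγ v hv, ap_comp]⟩

theorem exists_nonlin : ∃ σ ∈ M.stab, σ ∉ M.linG := by
  by_contra hcon
  push Not at hcon
  have hle := M.card_le_stab ⊤
  rw [Subgroup.card_top, M.card, top_inf_eq] at hle
  have := Subgroup.card_le_of_le (show M.stab ≤ M.linStab from fun σ hσ => ⟨hcon σ hσ, hσ⟩)
  rw [M.counts.2.1] at this
  omega

theorem real_conj : M.Real cjCols ∨ M.Real (comp cjCols tau) := by
  obtain ⟨σ, hσ, hσl⟩ := M.exists_nonlin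
  have hflip := (M.semi σ).resolve_left hσl
  have hcj : ∀ v, v < 4096 → cj v < 4096 ∧ cj (cj v) = v := by
    intro v hv
    have h := allV_spec wm_facts hv
    simp only [Bool.and_eq_true, Nat.blt_eq, beq_iff_eq, Nat.beq_eq] at h
    exact ⟨h.1.1.1.1.1.1.1.1.1.2, h.1.1.1.1.1.1.1.2⟩
  have hcjf : ∀ v, v < 4096 → sb (cj v) = sb v ∧ qb (cj v) = qb v ∧ cj (wm v) = wm (wm (cj v)) := by
    intro v hv
    have h := allV_spec cj_check hv
    simp only [Bool.and_eq_true, beq_iff_eq, Nat.beq_eq] at h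
    exact ⟨h.1.1, h.1.2, h.2⟩
  have hcl : ∀ v, ap cjCols v < 4096 := fun v => ap_lt (fun c hc => by
    have h := List.all_eq_true.1 tau_mem.2.2.1 c hc
    rwa [Nat.blt_eq] at h) v
  have hcadd : ∀ u v, u < 4096 → v < 4096 → cj (u ^^^ v) = cj u ^^^ cj v := by
    intro u v hu hv
    rw [← ap_cjCols (xor_lt hu hv), ap_add, ap_cjCols hu, ap_cjCols hv]
  rcases M.real_or (F := fun v => f σ (cj v)) (fun v hv => M.lt σ _ (hcj v hv).1)
      (fun u hu v hv => by rw [hcadd u v hu hv, M.add σ _ (hcj u hu).1 _ (hcj v hv).1])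
      (fun v hv => by
        rw [(hcjf v hv).2.2]
        have hc := (hcj v hv).1
        have h1 := hflip _ (wm_lt hc)
        have h2 := hflip _ hc
        rw [← h2, ← h1, wm_cube (M.lt σ _ (wm_lt (wm_lt hc)))])
      (fun v hv => by rw [M.qinv σ _ (hcj v hv).1, (hcjf v hv).2.1])
      (fun v hv => by rw [M.sinv σ _ (hcj v hv).1, (hcjf v hv).1])
      (fun w hw => by
        obtain ⟨hl, -, hc, -⟩ := plane_facts hw
        rw [hσ _ (hcj w hl).1, hc]) with ⟨γ, hγ⟩ | ⟨γ, hγ⟩
  · refine Or.inl ⟨σ⁻¹ * γ, fun v hv => ?_⟩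
    rw [M.mul _ _ v hv, hγ v hv, ap_cjCols hv, M.inv_apply σ (hcj v hv).1]
  · refine Or.inr ⟨σ⁻¹ * γ, fun v hv => ?_⟩
    have htl : ap tau v < 4096 := ap_lt (fun c hc => by
      have h := List.all_eq_true.1 tau_mem.2.2.2 c hc
      rwa [Nat.blt_eq] at h) v
    rw [M.mul _ _ v hv, hγ v hv, ap_comp, ap_cjCols htl, M.inv_apply σ (hcj _ htl).1]

end Finite

end Model

end CfsgLib.LargeFischer.Plane
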