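import Cfsg.Agent.Lib.LargeFischer.Stabilizer

/-!
A Sylow 2-subgroup of the quotient in coordinates and its elementary abelian subgroups.
-/

set_option autoImplicit false
set_option linter.unusedSectionVars false
set_option linter.style.haveILetI false

namespace CfsgLib.LargeFischer.Plane

theorem comp_assoc (a b c : List ℕ) : comp (comp a b) c = comp a (comp b c) := by
  simp only [comp, List.map_map]
  exact List.map_congr_left fun x _ => ap_comp a b x

theorem ap_kerCols_basis (t : ℕ × ℕ × ℕ) :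
    (ap (kerCols t) 1, ap (kerCols t) 16, ap (kerCols t) 256) = t := by
  obtain ⟨x, y, z⟩ := t
  simp [kerCols, ap_nil, ap_cons]

theorem idCols_lt : ∀ c ∈ idCols, c < 4096 := by decide

namespace Model

variable {Γ : Type*} [Group Γ] {f : Γ → ℕ → ℕ} (M : Model f)
include M

/-- The columns of an element. -/
def cols (_M : Model f) (γ : Γ) : List ℕ := idCols.map (f γ)

theorem cols_spec (γ : Γ) {v : ℕ} (hv : v < 4096) : f γ v = ap (M.cols γ) v :=
  eq_ap' (M.add γ) hv

theorem cols_mul (γ δ : Γ) : M.cols (γ * δ) = comp (M.cols γ) (M.cols δ) := by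
  simp only [cols, comp, List.map_map]
  refine List.map_congr_left fun c hc => ?_
  simp only [Function.comp_apply]
  rw [M.mul _ _ c (idCols_lt c hc)]
  exact M.cols_spec γ (M.lt δ c (idCols_lt c hc))

theorem cols_one : M.cols 1 = idCols := by
  conv_rhs => rw [← List.map_id idCols]
  exact List.map_congr_left fun c hc => M.one c (idCols_lt c hc)

theorem cols_inj {γ δ : Γ} (h : M.cols γ = M.cols δ) : γ = δ :=
  M.ext fun v hv => by rw [M.cols_spec γ hv, M.cols_spec δ hv, h]

theorem cols_eq {γ : Γ} {h : List ℕ} (hh : comp h idCols = h) (hγ : ∀ v, v < 4096 → f γ v = ap h v) :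
    M.cols γ = h := by
  rw [← hh]
  exact List.map_congr_left fun c hc => hγ c (idCols_lt c hc)

variable [Finite Γ]

theorem real_gM : M.Real gM := by
  have h := gen_check
  simp only [Bool.and_eq_true, beq_iff_eq] at h
  obtain ⟨γ, hγ⟩ := M.perm [2, 3, 0, 1, 4, 5] (by decide)
  exact ⟨γ, fun v hv => by rw [hγ v hv, h.1.1.1.1.1.1.1]; rfl⟩

theorem real_gCyc : M.Real gCyc := by
  have h := gen_check
  simp only [Bool.and_eq_true, beq_iff_eq] at h
  obtain ⟨γ, hγ⟩ := M.perm [2, 3, 4, 5, 0, 1] (by decide)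
  exact ⟨γ, fun v hv => by rw [hγ v hv, h.1.1.1.1.1.1.2]; rfl⟩

theorem mem_fixer_of_kerCols {γ : Γ} {t : ℕ × ℕ × ℕ} (ht : t ∈ ker32)
    (hγ : ∀ v, v < 4096 → f γ v = ap (kerCols t) v) : γ ∈ M.fixer ∧ M.kerTri γ = t := by
  refine ⟨fun w hw => by rw [hγ w (plane_facts hw).1]; exact M.kerCols_fixes ht hw, ?_⟩
  rw [kerTri, hγ 1 (by norm_num), hγ 16 (by norm_num), hγ 256 (by norm_num)]
  exact ap_kerCols_basis t

theorem ker_comm {s t : ℕ × ℕ × ℕ} (hs : s ∈ ker32) (ht : t ∈ ker32) :
    comp (kerCols s) (kerCols t) = comp (kerCols t) (kerCols s) := by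
  have h := ker32_check
  simp only [Bool.and_eq_true, List.all_eq_true, Nat.beq_eq, beq_iff_eq] at h
  exact (h.1.1.2 s hs).2 t ht

theorem ker_tau_comm {t : ℕ × ℕ × ℕ} (ht : t ∈ ker32) : comp (kerCols t) tau = comp tau (kerCols t) := by
  have h := List.all_eq_true.1 tau_mem.1 t ht
  simp only [Bool.and_eq_true, beq_iff_eq] at h
  exact h.1.2

theorem real_tau_mul {p : List ℕ × List ℕ} (hp : p ∈ transData) : M.Real (comp tau p.1) := by
  have h := trans_check
  simp only [Bool.and_eq_true, List.all_eq_true, beq_iff_eq, List.contains_iff_mem] at h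
  obtain ⟨⟨⟨hg, ht⟩, htc⟩, hcomm⟩ := h.1.1 p hp
  rw [← htc] at hcomm ⊢
  rw [← ker_tau_comm M ht]
  refine (M.twisted_cover ht).resolve_left ?_
  rintro ⟨δ, hδ⟩
  have key : ∀ γ, (∀ v, v < 4096 → f γ (ap (kerCols (triOf p.1)) v) = ap tau (f γ v)) → False := by
    intro γ hγ
    refine M.not_real_tau ⟨γ * δ * γ⁻¹, fun v hv => ?_⟩
    rw [M.mul _ _ v hv, M.mul _ _ _ (M.lt _ _ hv), hδ _ (M.lt _ _ hv), hγ _ (M.lt _ _ hv), M.apply_inv γ hv]
  have hlt : ∀ v, ap (kerCols (triOf p.1)) v < 4096 := fun v => ap_lt (fun c hc => by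
    have h := ker32_check
    simp only [Bool.and_eq_true, List.all_eq_true, Nat.blt_eq] at h
    exact (h.1.1.2 _ ht).1.1 c hc) v
  rcases M.real_or_good hg with ⟨γ, hγ⟩ | ⟨γ, hγ⟩
  · refine key γ fun v hv => ?_
    rw [hγ v hv, hγ _ (hlt v), ← ap_comp, hcomm, ap_comp]
  · refine key γ fun v hv => ?_
    rw [hγ v hv, hγ _ (hlt v), ← ap_comp, comp_assoc, ← ker_tau_comm M ht, ← comp_assoc, hcomm, comp_assoc,
      ap_comp]

theorem real_evenGen {e : List ℕ} (he : e ∈ evenGens) : M.Real e := by
  have h := trans_check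
  simp only [Bool.and_eq_true, List.all_eq_true, beq_iff_eq, List.contains_iff_mem] at h
  have hm := h.2 e he
  simp only [List.mem_cons, List.mem_map] at hm
  rcases hm with rfl | rfl | ⟨p, hp, rfl⟩
  · obtain ⟨γ, hγ⟩ := M.perm [1, 0, 3, 2, 4, 5] (by decide)
    exact ⟨γ, hγ⟩
  · obtain ⟨γ, hγ⟩ := M.perm [1, 0, 2, 3, 5, 4] (by decide)
    exact ⟨γ, hγ⟩
  · exact M.real_tau_mul hp

theorem real_evenSpan {e : List ℕ} (he : e ∈ evenSpan) : M.Real e := by
  suffices ∀ gs : List (List ℕ), (∀ g ∈ gs, M.Real g) → ∀ l : List (List ℕ), (∀ x ∈ l, M.Real x) →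
      ∀ x ∈ gs.foldl (fun l g => l ++ l.map (comp g)) l, M.Real x from
    this evenGens (fun g hg => M.real_evenGen hg) [idCols] (fun x hx => by
      rw [List.mem_singleton] at hx; subst hx; exact M.real_id) e he
  intro gs
  induction gs with
  | nil => intro _ l hl x hx; exact hl x hx
  | cons g gs ih =>
    intro hg l hl x hx
    refine ih (fun a ha => hg a (List.mem_cons_of_mem _ ha)) _ (fun a ha => ?_) x hx
    rcases List.mem_append.1 ha with ha | ha
    · exact hl a ha
    · obtain ⟨b, hb, rfl⟩ := List.mem_map.1 ha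
      exact M.real_comp (hg g List.mem_cons_self) (hl b hb)

theorem kerSet_eq : M.kerSet = even16.toFinset := by
  classical
  refine (Finset.eq_of_subset_of_card_le (fun t ht => ?_) ?_).symm
  · rw [List.mem_toFinset] at ht
    have h := even_check
    simp only [Bool.and_eq_true, List.all_eq_true, List.contains_iff_mem] at h
    obtain ⟨γ, hγ⟩ := M.real_evenSpan (h.1 t ht)
    have h32 := ker32_check
    simp only [Bool.and_eq_true, List.all_eq_true, List.contains_iff_mem] at h32
    exact M.mem_kerSet.2 ⟨γ, M.mem_fixer_of_kerCols (h32.2 t ht) hγ⟩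
  · rw [M.card_kerSet, M.counts.2.2.1, count_check.2.2]

theorem fixer_even {γ : Γ} (hγ : γ ∈ M.fixer) : M.kerTri γ ∈ even16 :=
  List.mem_toFinset.1 (M.kerSet_eq ▸ M.mem_kerSet.2 ⟨γ, hγ, rfl⟩)

theorem mem_fixer_of_evenSpan {γ : Γ} {e : List ℕ} (he : e ∈ evenSpan)
    (hγ : ∀ v, v < 4096 → f γ v = ap e v) : γ ∈ M.fixer := by
  have h := even_check
  simp only [Bool.and_eq_true, List.all_eq_true, List.contains_iff_mem, beq_iff_eq] at h
  obtain ⟨h1, h2⟩ := h.2 e he
  rw [← h1] at hγ
  have h32 := ker32_check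
  simp only [Bool.and_eq_true, List.all_eq_true, List.contains_iff_mem] at h32
  exact (M.mem_fixer_of_kerCols (h32.2 _ h2) hγ).1

theorem real_oddCube {h : List ℕ} (hh : oddCubeCheck h = true) : M.Real h := by
  simp only [oddCubeCheck, Bool.and_eq_true, List.contains_iff_mem, Bool.not_eq_true', beq_iff_eq] at hh
  obtain ⟨⟨⟨hg, ht⟩, hne⟩, hc⟩ := hh
  refine (M.real_or_good hg).resolve_right fun hr => ?_
  obtain ⟨γ, hγ⟩ := M.real_comp hr (M.real_comp hr hr)
  rw [← hc] at hγ
  obtain ⟨hfix, htri⟩ := M.mem_fixer_of_kerCols ht hγ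
  have := M.fixer_even hfix
  rw [htri] at this
  rw [← List.contains_iff_mem, hne] at this
  exact absurd this (by decide)

theorem real_gG1 : M.Real gG1 := by
  have h := gen_check
  simp only [Bool.and_eq_true] at h
  exact M.real_oddCube h.1.1.2

theorem real_gG : M.Real gG := by
  have h := gen_check
  simp only [Bool.and_eq_true, beq_iff_eq] at h
  rw [← h.2]
  exact M.real_comp (M.real_oddCube h.1.1.2) (M.real_oddCube h.1.2)

theorem exists_list : ∃ (P : List (List ℕ)) (steps : List (ℕ × ℕ)) (succ : List (List ℕ)) (x : List ℕ),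
    sylCheck P steps succ x = true ∧ search 256 [idCols] (List.range 4096) (invols P) = true ∧ M.Real x ∧
      comp x idCols = x := by
  rcases M.real_conj with h | h
  · exact ⟨_, _, _, _, sylA_check, searchA, h, by decide +kernel⟩
  · exact ⟨_, _, _, _, sylB_check, searchB, h, by decide +kernel⟩

/-- The subgroup of the elements with columns in a closed list. -/
theorem exists_subgroup : ∃ (S : Subgroup Γ) (P : List (List ℕ)), (∀ γ, γ ∈ S ↔ M.cols γ ∈ P) ∧
    Nat.card S = 256 ∧ M.fixer ≤ S ∧ search 256 [idCols] (List.range 4096) (invols P) = true := by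
  classical
  obtain ⟨P, steps, succ, x, hchk, hsearch, hx, hxid⟩ := M.exists_list
  simp only [sylCheck, Bool.and_eq_true, List.all_eq_true, List.mem_range, Nat.beq_eq, Nat.blt_eq, beq_iff_eq,
    List.contains_iff_mem, decide_eq_true_eq] at hchk
  obtain ⟨⟨⟨⟨hlen, h0⟩, hsteps⟩, htab⟩, hnd⟩ := hchk
  have hgen : ∀ g ∈ evenGens ++ [gM, gG, x], M.Real g ∧ comp g idCols = g := by
    intro g hg
    rcases List.mem_append.1 hg with hg | hg
    · exact ⟨M.real_evenGen hg, (by decide +kernel : ∀ g ∈ evenGens, comp g idCols = g) g hg⟩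
    · simp only [List.mem_cons, List.not_mem_nil, or_false] at hg
      rcases hg with rfl | rfl | rfl
      exacts [⟨M.real_gM, by decide +kernel⟩, ⟨M.real_gG, by decide +kernel⟩, ⟨hx, hxid⟩]
  have hgetmem : ∀ n, n < 256 → P.getD n [] ∈ P := fun n hn => by
    rw [List.getD_eq_getElem P [] (by omega)]; exact List.getElem_mem _
  have hgens : ∀ k, k < 7 → (evenGens ++ [gM, gG, x]).getD k [] ∈ evenGens ++ [gM, gG, x] := fun k hk => by
    rw [List.getD_eq_getElem _ [] (by simpa [evenGens] using hk)]; exact List.getElem_mem _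
  have hstep : ∀ m, m < 255 → ((steps.getD m (0, 0)).1 < m + 1 ∧ (steps.getD m (0, 0)).2 < 7) ∧
      P.getD (m + 1) [] = comp ((evenGens ++ [gM, gG, x]).getD (steps.getD m (0, 0)).2 [])
        (P.getD (steps.getD m (0, 0)).1 []) := fun m hm => by
    obtain ⟨⟨h1, h2⟩, h3⟩ := hsteps m hm
    obtain ⟨-, h4⟩ := htab (steps.getD m (0, 0)).1 (by omega) (steps.getD m (0, 0)).2 h2
    rw [h3] at h4
    exact ⟨⟨h1, h2⟩, h4⟩
  have hclos : ∀ e ∈ P, ∀ g ∈ evenGens ++ [gM, gG, x], comp g e ∈ P := fun e he g hg => by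
    obtain ⟨i, hi, rfl⟩ := List.getElem_of_mem he
    obtain ⟨k, hk, rfl⟩ := List.getElem_of_mem hg
    obtain ⟨h1, h2⟩ := htab i (by omega) k (by simpa [evenGens] using hk)
    rw [List.getD_eq_getElem P [] hi, List.getD_eq_getElem _ [] hk] at h2
    rw [← h2]
    exact hgetmem _ h1
  have hreal : ∀ n, n < 256 → M.Real (P.getD n []) ∧ comp (P.getD n []) idCols = P.getD n [] := by
    intro n
    induction n using Nat.strong_induction_on with
    | _ n ih =>
      intro hn
      match n, hn, ih with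
      | 0, _, _ => rw [h0]; exact ⟨M.real_id, by decide⟩
      | m + 1, hn, ih =>
        obtain ⟨⟨h1, h2⟩, h3⟩ := hstep m (by omega)
        rw [h3]
        obtain ⟨hr, hi⟩ := ih _ h1 (by omega)
        obtain ⟨hr', -⟩ := hgen _ (hgens _ h2)
        exact ⟨M.real_comp hr' hr, by rw [comp_assoc, hi]⟩
  have hP : ∀ e ∈ P, ∃ γ, M.cols γ = e := fun e he => by
    obtain ⟨i, hi, rfl⟩ := List.getElem_of_mem he
    obtain ⟨⟨γ, hγ⟩, hid⟩ := hreal i (by omega)
    rw [List.getD_eq_getElem P [] hi] at hγ hid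
    exact ⟨γ, M.cols_eq hid hγ⟩
  have hmul : ∀ n, n < 256 → ∀ e ∈ P, comp (P.getD n []) e ∈ P := by
    intro n
    induction n using Nat.strong_induction_on with
    | _ n ih =>
      intro hn e he
      match n, hn, ih with
      | 0, _, _ =>
        rw [h0]
        obtain ⟨γ, rfl⟩ := hP e he
        rwa [← M.cols_one, ← M.cols_mul, one_mul]
      | m + 1, hn, ih =>
        obtain ⟨⟨h1, h2⟩, h3⟩ := hstep m (by omega)
        rw [h3, comp_assoc]
        exact hclos _ (ih _ h1 (by omega) e he) _ (hgens _ h2)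
  let Sm : Submonoid Γ :=
    { carrier := {γ | M.cols γ ∈ P}
      one_mem' := by
        show M.cols 1 ∈ P
        rw [M.cols_one, ← h0]; exact hgetmem 0 (by norm_num)
      mul_mem' := fun {a b} ha hb => by
        show M.cols (a * b) ∈ P
        rw [M.cols_mul]
        obtain ⟨i, hi, e⟩ := List.getElem_of_mem (show M.cols a ∈ P from ha)
        rw [← e, ← List.getD_eq_getElem P [] hi]
        exact hmul i (by omega) _ hb }
  let S : Subgroup Γ :=
    { Sm with
      inv_mem' := fun {a} ha => by
        show a⁻¹ ∈ Sm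
        have h1 : a⁻¹ = a ^ (orderOf a - 1) := inv_eq_of_mul_eq_one_right (by
          rw [← pow_succ', Nat.sub_add_cancel (orderOf_pos a), pow_orderOf_eq_one])
        rw [h1]
        exact Sm.pow_mem ha _ }
  have hS : ∀ γ, γ ∈ S ↔ M.cols γ ∈ P := fun γ => Iff.rfl
  haveI := Fintype.ofFinite S
  have himg : (Finset.univ.image fun γ : S => M.cols γ) = P.toFinset := by
    ext e
    simp only [Finset.mem_image, Finset.mem_univ, true_and, List.mem_toFinset]
    refine ⟨fun ⟨γ, h⟩ => h ▸ γ.2, fun he => ?_⟩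
    obtain ⟨γ, rfl⟩ := hP e he
    exact ⟨⟨γ, he⟩, rfl⟩
  have hcard : Nat.card S = 256 := by
    rw [Nat.card_eq_fintype_card, ← Finset.card_univ,
      ← Finset.card_image_of_injective _ (f := fun γ : S => M.cols γ)
        (fun a b h => Subtype.ext (M.cols_inj h)), himg,
      List.toFinset_card_of_nodup (List.Nodup.of_map _ hnd), hlen]
  refine ⟨S, P, hS, hcard, fun γ hγ => ?_, hsearch⟩
  have hs : ∀ gs : List (List ℕ), (∀ g ∈ gs, g ∈ evenGens) → ∀ l : List (List ℕ), (∀ a ∈ l, a ∈ P) →
      ∀ a ∈ gs.foldl (fun l g => l ++ l.map (comp g)) l, a ∈ P := by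
    intro gs
    induction gs with
    | nil => intro _ l hl a ha; exact hl a ha
    | cons g gs ih =>
      intro hg l hl a ha
      refine ih (fun b hb => hg b (List.mem_cons_of_mem _ hb)) _ (fun b hb => ?_) a ha
      rcases List.mem_append.1 hb with hb | hb
      · exact hl b hb
      · obtain ⟨c, hc, rfl⟩ := List.mem_map.1 hb
        exact hclos c (hl c hc) g (List.mem_append_left _ (hg g List.mem_cons_self))
  have h := even_check
  simp only [Bool.and_eq_true, List.all_eq_true, List.contains_iff_mem] at h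
  have hmem := hs evenGens (fun g hg => hg) [idCols] (fun a ha => by
    rw [List.mem_singleton] at ha; subst ha; rw [← h0]; exact hgetmem 0 (by norm_num)) _
    (h.1 _ (M.fixer_even hγ))
  obtain ⟨δ, hδ⟩ := hP _ hmem
  rw [show γ = δ from M.ext fun v hv => by rw [(M.fixer_spec hγ).2 v hv, M.cols_spec δ hv, hδ], hS, hδ]
  exact hmem

/-- The common fixed vectors of a subgroup. -/
noncomputable def fixSet (_M : Model f) (E : Subgroup Γ) : Finset ℕ := by
  classical
  exact vecs.filter fun v => ∀ e ∈ E, f e v = v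

theorem search_sound (E : Subgroup Γ) (hab : ∀ a ∈ E, ∀ b ∈ E, a * b = b * a) (hsq : ∀ a ∈ E, a * a = 1) :
    ∀ d span fx cands, search d span fx cands = true → span.Nodup → (∀ s ∈ span, ∃ e ∈ E, M.cols e = s) →
      idCols ∈ span → (∀ a ∈ span, ∀ b ∈ span, comp a b ∈ span) →
      (∀ e ∈ E, M.cols e ∉ span → M.cols e ∈ cands) → (∀ s ∈ span, s ∉ cands) →
      (∀ v ∈ M.fixSet E, v ∈ fx) →
      ∃ span' fx', nodeOk span' fx' = true ∧ span'.Nodup ∧ (∀ s, s ∈ span' ↔ ∃ e ∈ E, M.cols e = s) ∧
        ∀ v ∈ M.fixSet E, v ∈ fx' := by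
  classical
  intro d
  induction d with
  | zero => intro span fx cands h; simp [search] at h
  | succ d ih =>
    intro span fx cands h hnd hE hid hcl hcands hdis hfx
    match cands, h, hcands, hdis with
    | [], h, hcands, _ =>
      refine ⟨span, fx, h, hnd, fun s => ⟨hE s, ?_⟩, hfx⟩
      rintro ⟨e, he, rfl⟩
      by_contra hn
      exact List.not_mem_nil (hcands e he hn)
    | j :: rest, h, hcands, hdis =>
      simp only [search, Bool.and_eq_true] at h
      obtain ⟨hbranch, hskip⟩ := h
      by_cases hj : ∃ e ∈ E, M.cols e = j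
      swap
      · refine ih span fx rest hskip hnd hE hid hcl (fun e he hn => ?_)
          (fun s hs hr => hdis s hs (List.mem_cons_of_mem _ hr)) hfx
        rcases List.mem_cons.1 (hcands e he hn) with h' | h'
        · exact absurd ⟨e, he, h'⟩ hj
        · exact h'
      obtain ⟨e, he, rfl⟩ := hj
      have hjn : M.cols e ∉ span := fun hm => hdis _ hm List.mem_cons_self
      have hjj : comp (M.cols e) (M.cols e) = idCols := by rw [← M.cols_mul, hsq e he, M.cols_one]
      have hout : ∀ s ∈ span, comp (M.cols e) s ∉ span := by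
        intro s hs hm
        obtain ⟨a, ha, rfl⟩ := hE s hs
        have h1 := hcl _ hm _ hs
        rw [← M.cols_mul, ← M.cols_mul, mul_assoc, hsq a ha, mul_one] at h1
        exact hjn h1
      have hcond : span.all (fun s => (M.cols e :: rest).contains (comp (M.cols e) s)) = true := by
        rw [List.all_eq_true]
        intro s hs
        obtain ⟨a, ha, rfl⟩ := hE s hs
        rw [List.contains_iff_mem, ← M.cols_mul]
        exact hcands _ (mul_mem he ha) (by rw [M.cols_mul]; exact hout _ hs)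
      rw [if_pos hcond] at hbranch
      have hje : ∀ s ∈ span, comp (M.cols e) (comp (M.cols e) s) = s := fun s hs => by
        obtain ⟨a, ha, rfl⟩ := hE s hs
        rw [← M.cols_mul, ← M.cols_mul, ← mul_assoc, hsq e he, one_mul]
      refine ih _ _ _ hbranch ?_ ?_ (List.mem_append_left _ hid) ?_ ?_ ?_ ?_
      · refine List.nodup_append.2 ⟨hnd, List.Nodup.map_on (fun a ha b hb hh => ?_) hnd, fun a ha b hb hab' => ?_⟩
        · rw [← hje a ha, hh, hje b hb]
        · obtain ⟨c, hc, rfl⟩ := List.mem_map.1 hb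
          exact hout c hc (hab' ▸ ha)
      · intro s hs
        rcases List.mem_append.1 hs with hs | hs
        · exact hE s hs
        · obtain ⟨c, hc, rfl⟩ := List.mem_map.1 hs
          obtain ⟨a, ha, rfl⟩ := hE c hc
          exact ⟨e * a, mul_mem he ha, M.cols_mul e a⟩
      · intro a ha b hb
        rcases List.mem_append.1 ha with ha | ha <;> rcases List.mem_append.1 hb with hb | hb
        · exact List.mem_append_left _ (hcl a ha b hb)
        · obtain ⟨c, hc, rfl⟩ := List.mem_map.1 hb
          obtain ⟨a', ha', rfl⟩ := hE a ha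
          refine List.mem_append_right _ (List.mem_map.2 ⟨comp (M.cols a') c, hcl _ ha _ hc, ?_⟩)
          obtain ⟨c', hc', rfl⟩ := hE c hc
          rw [← M.cols_mul, ← M.cols_mul, ← M.cols_mul, ← M.cols_mul, ← mul_assoc, hab e he a' ha', mul_assoc]
        · obtain ⟨c, hc, rfl⟩ := List.mem_map.1 ha
          exact List.mem_append_right _ (List.mem_map.2 ⟨comp c b, hcl c hc b hb, (comp_assoc _ _ _).symm⟩)
        · obtain ⟨c, hc, rfl⟩ := List.mem_map.1 ha
          obtain ⟨c', hc', rfl⟩ := List.mem_map.1 hb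
          refine List.mem_append_left _ ?_
          obtain ⟨a, haE, rfl⟩ := hE c hc
          obtain ⟨a', haE', rfl⟩ := hE c' hc'
          rw [← M.cols_mul, ← M.cols_mul, ← M.cols_mul,
            show e * a * (e * a') = a * a' by rw [hab e he a haE, mul_assoc, ← mul_assoc e, hsq e he, one_mul],
            M.cols_mul]
          exact hcl _ hc _ hc'
      · intro a ha hn
        have hn1 : M.cols a ∉ span := fun hm => hn (List.mem_append_left _ hm)
        have hn2 : M.cols a ∉ span.map (comp (M.cols e)) := fun hm => hn (List.mem_append_right _ hm)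
        rcases List.mem_cons.1 (hcands a ha hn1) with h' | h'
        · refine absurd (List.mem_map.2 ⟨idCols, hid, ?_⟩) hn2
          rw [← M.cols_one, ← M.cols_mul, mul_one, h']
        · refine List.mem_filter.2 ⟨h', ?_⟩
          simp only [Bool.and_eq_true, beq_iff_eq, Bool.not_eq_true']
          refine ⟨by rw [← M.cols_mul, ← M.cols_mul, hab e he a ha], ?_⟩
          rw [Bool.eq_false_iff]
          exact fun hm => hn2 (List.contains_iff_mem.1 hm)
      · intro s hs hr
        rw [List.mem_filter, Bool.and_eq_true, Bool.not_eq_true', Bool.eq_false_iff] at hr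
        rcases List.mem_append.1 hs with hs | hs
        · exact hdis s hs (List.mem_cons_of_mem _ hr.1)
        · exact hr.2.2 (List.contains_iff_mem.2 hs)
      · intro v hv
        refine List.mem_filter.2 ⟨hfx v hv, ?_⟩
        rw [fixSet, Finset.mem_filter, vecs, Finset.mem_range] at hv
        rw [Nat.beq_eq, ← M.cols_spec e hv.1]
        exact hv.2 e he

/-- The Sylow subgroup and its large elementary abelian subgroups. -/
theorem exists_sylow : ∃ S : Subgroup Γ, Nat.card S = 256 ∧ M.fixer ≤ S ∧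
    ∀ E : Subgroup Γ, E ≤ S → (∀ a ∈ E, ∀ b ∈ E, a * b = b * a) → (∀ a ∈ E, a * a = 1) → 16 ≤ Nat.card E →
      E = M.fixer ∨ Nat.card E * (M.fixSet E).card ≤ 256 := by
  classical
  obtain ⟨S, P, hS, hcard, hfix, hsearch⟩ := M.exists_subgroup
  refine ⟨S, hcard, hfix, fun E hES hab hsq h16 => ?_⟩
  obtain ⟨span, fx, hok, hnd, hspan, hfx⟩ := M.search_sound E hab hsq 256 [idCols] (List.range 4096) (invols P)
    hsearch (by simp) (fun s hs => ⟨1, one_mem _, by rw [List.mem_singleton.1 hs, M.cols_one]⟩) (by simp)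
    (fun a ha b hb => by
      rw [List.mem_singleton] at ha hb
      subst ha hb
      rw [← M.cols_one, ← M.cols_mul, one_mul, M.cols_one]
      exact List.mem_singleton_self _)
    (fun e he hn => by
      simp only [invols, List.mem_filter, Bool.and_eq_true, Bool.not_eq_true', beq_iff_eq]
      refine ⟨(hS e).1 (hES he), ?_, by rw [← M.cols_mul, hsq e he, M.cols_one]⟩
      rw [Bool.eq_false_iff]
      intro hh
      exact hn (List.mem_singleton.2 (beq_iff_eq.1 hh)))
    (fun s hs hm => by
      rw [List.mem_singleton] at hs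
      subst hs
      simp [invols] at hm)
    (fun v hv => by
      rw [fixSet, Finset.mem_filter] at hv
      exact List.mem_range.2 (Finset.mem_range.1 hv.1))
  haveI := Fintype.ofFinite E
  have hlen : span.length = Nat.card E := by
    have himg : (Finset.univ.image fun e : E => M.cols e) = span.toFinset := by
      ext s
      simp only [Finset.mem_image, Finset.mem_univ, true_and, List.mem_toFinset, hspan]
      exact ⟨fun ⟨e, he⟩ => ⟨e, e.2, he⟩, fun ⟨e, he, h⟩ => ⟨⟨e, he⟩, h⟩⟩
    rw [← List.toFinset_card_of_nodup hnd, ← himg,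
      Finset.card_image_of_injective _ (fun a b h => Subtype.ext (M.cols_inj h)), Finset.card_univ,
      Nat.card_eq_fintype_card]
  have hfixlen : (M.fixSet E).card ≤ fx.length :=
    (Finset.card_le_card fun v hv => List.mem_toFinset.2 (hfx v hv)).trans (List.toFinset_card_le fx)
  rw [nodeOk] at hok
  split_ifs at hok with h64 h16'
  · simp only [Bool.or_eq_true, Nat.ble_eq, Bool.and_eq_true, Nat.beq_eq, List.all_eq_true,
      List.contains_iff_mem] at hok
    rw [Nat.ble_eq] at h64 h16'
    rcases hok with h8 | ⟨he16, hev⟩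
    · right
      have hdvd : Nat.card E ∣ 256 := hcard ▸ Subgroup.card_dvd_of_le hES
      have h32 : Nat.card E ≤ 32 := by
        have hdiv : Nat.card E ∈ Nat.divisors 256 := Nat.mem_divisors.2 ⟨hdvd, by norm_num⟩
        rw [show Nat.divisors 256 = {1, 2, 4, 8, 16, 32, 64, 128, 256} by decide] at hdiv
        simp only [Finset.mem_insert, Finset.mem_singleton] at hdiv
        omega
      calc Nat.card E * (M.fixSet E).card ≤ 32 * 8 := Nat.mul_le_mul h32 (hfixlen.trans h8)
        _ = 256 := rfl
    · left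
      refine Subgroup.eq_of_le_of_card_ge (fun e he => ?_) (by rw [M.counts.2.2.1, ← hlen, he16])
      exact M.mem_fixer_of_evenSpan (hev _ ((hspan _).2 ⟨e, he, rfl⟩)) (fun v hv => M.cols_spec e hv)
  · rw [Nat.ble_eq] at h16'
    omega

end Model

end CfsgLib.LargeFischer.Plane
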