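import Cfsg.Agent.Lib.LargeFischer.SylowTwo
import Cfsg.Prelude.Def_Transfer

/-!
The elementary abelian subgroup of order `2 ^ 11` and its uniqueness in a Sylow 2-subgroup of the centralizer.
-/

set_option autoImplicit false
set_option linter.unusedSectionVars false
set_option linter.style.haveILetI false

namespace CfsgLib.LargeFischer

open Cfsg
open CfsgLib.F2Quad (Vec)

namespace Plane

/-- The columns of multiplication by the element of order three. -/
def omCols : List ℕ := idCols.map wm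

theorem om_check : (oddCubeCheck omCols && allV (fun v => Nat.beq (ap omCols v) (wm v)) &&
    allV (fun v => !(evenGens.all fun g => Nat.beq (ap g v) v) || inPlane v) &&
    evenGens.all (fun g => evenSpan.contains g && comp g idCols == g)) = true := by
  decide +kernel

theorem good_walkGens : ∀ g ∈ walkGens, good g = true := by
  intro g hg
  have h := gen_check
  simp only [Bool.and_eq_true, oddCubeCheck] at h
  simp only [walkGens, List.mem_cons, List.not_mem_nil, or_false] at hg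
  rcases hg with rfl | rfl | rfl | rfl
  exacts [h.1.1.1.1.1.2, h.1.1.1.1.2, h.1.1.1.2, h.1.1.2.1.1.1]

namespace Model

variable {Γ : Type*} [Group Γ] {f : Γ → ℕ → ℕ} (M : Model f) [Finite Γ]
include M

theorem exists_omega : ∃ ω : Γ, ω ∈ M.stab ∧ (∀ v, v < 4096 → f ω v = wm v) ∧
    ∀ γ ∈ M.linG, γ * ω = ω * γ := by
  have h := om_check
  simp only [Bool.and_eq_true] at h
  obtain ⟨ω, hω⟩ := M.real_oddCube h.1.1.1
  have hwm : ∀ v, v < 4096 → f ω v = wm v := fun v hv => by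
    rw [hω v hv]
    have := allV_spec h.1.1.2 hv
    rwa [Nat.beq_eq] at this
  refine ⟨ω, M.mem_stab_of fun w hw => by rw [hwm w (plane_facts hw).1]; exact (plane_facts hw).2.2.2, hwm,
    fun γ hγ => M.ext fun v hv => ?_⟩
  rw [M.mul _ _ v hv, M.mul _ _ v hv, hwm v hv, hwm _ (M.lt γ v hv), hγ v hv]

theorem fixer_sq {γ : Γ} (hγ : γ ∈ M.fixer) : γ * γ = 1 := by
  refine M.inj _ fun v hv => ?_
  obtain ⟨ht, hk⟩ := M.fixer_spec hγ
  have h := ker32_check
  simp only [Bool.and_eq_true, List.all_eq_true, beq_iff_eq] at h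
  rw [M.mul _ _ v hv, hk v hv, hk _ (by rw [← hk v hv]; exact M.lt γ v hv), ← ap_comp,
    (h.1.2 _ ht).1, ap_idCols hv]

theorem fixSet_fixer {v : ℕ} (hv : v < 4096) (h : ∀ γ ∈ M.fixer, f γ v = v) : inPlane v = true := by
  have hc := om_check
  simp only [Bool.and_eq_true] at hc
  have h1 := allV_spec hc.1.2 hv
  have h2 : (evenGens.all fun g => Nat.beq (ap g v) v) = true := by
    rw [List.all_eq_true]
    intro g hg
    obtain ⟨γ, hγ⟩ := M.real_evenGen hg
    have hg' := List.all_eq_true.1 hc.2 g hg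
    simp only [Bool.and_eq_true, List.contains_iff_mem] at hg'
    rw [Nat.beq_eq, ← hγ v hv]
    exact h γ (M.mem_fixer_of_evenSpan hg'.1 hγ)
  rw [h2] at h1
  simpa using h1

theorem evenWalk_conj : ∀ n, n < 15 → ∃ γ ∈ M.stab, ∃ a b : Γ, a ∈ M.fixer ∧ b ∈ M.fixer ∧
    M.cols a = evenWalk.getD 0 [] ∧ M.cols b = evenWalk.getD n [] ∧ γ * a * γ⁻¹ = b := by
  have hw := walk_check
  simp only [Bool.and_eq_true, List.all_eq_true, Nat.beq_eq, List.mem_range, Nat.blt_eq, beq_iff_eq,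
    List.contains_iff_mem] at hw
  obtain ⟨⟨⟨hlen, hspan⟩, -⟩, hstep⟩ := hw
  have hel : ∀ n, n < 15 → ∃ a ∈ M.fixer, M.cols a = evenWalk.getD n [] := by
    intro n hn
    have hm : evenWalk.getD n [] ∈ evenWalk := by
      rw [List.getD_eq_getElem _ [] (by omega)]; exact List.getElem_mem _
    obtain ⟨a, ha⟩ := M.real_evenSpan (hspan _ hm).1
    refine ⟨a, M.mem_fixer_of_evenSpan (hspan _ hm).1 ha, M.cols_eq ?_ ha⟩
    have := (by decide +kernel : ∀ e ∈ evenWalk, comp e idCols = e)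
    exact this _ hm
  have hgood : ∀ g ∈ walkGens, good g = true ∧ comp g idCols = g := fun g hg =>
    ⟨good_walkGens g hg, (by decide +kernel : ∀ g ∈ walkGens, comp g idCols = g) g hg⟩
  have hgens : ∀ k, k < 4 → ∃ γ ∈ M.stab, M.cols γ = walkGens.getD k [] := by
    intro k hk
    have hm : walkGens.getD k [] ∈ walkGens := by
      rw [List.getD_eq_getElem _ [] (by simpa [walkGens] using hk)]; exact List.getElem_mem _
    have hr : M.Real (walkGens.getD k []) := by
      interval_cases k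
      exacts [M.real_gM, M.real_gG, M.real_gCyc, M.real_gG1]
    obtain ⟨γ, hγ⟩ := hr
    refine ⟨γ, M.mem_stab_of fun w hw => ?_, M.cols_eq (hgood _ hm).2 hγ⟩
    rw [hγ w (plane_facts hw).1]
    have h := (hgood _ hm).1
    simp only [good, Bool.and_eq_true, List.all_eq_true] at h
    exact h.2 w hw
  intro n
  induction n using Nat.strong_induction_on with
  | _ n ih =>
    intro hn
    match n, hn, ih with
    | 0, _, _ =>
      obtain ⟨a, ha, hca⟩ := hel 0 (by norm_num)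
      exact ⟨1, one_mem _, a, a, ha, ha, hca, hca, by group⟩
    | m + 1, hn, ih =>
      obtain ⟨⟨h1, h2⟩, h3⟩ := hstep m (by omega)
      obtain ⟨γ, hγ, a, b, ha, hb, hca, hcb, he⟩ := ih _ h1 (by omega)
      obtain ⟨g, hg, hcg⟩ := hgens _ h2
      obtain ⟨b', hb', hcb'⟩ := hel (m + 1) hn
      have h4 : g * b = b' * g := M.cols_inj (by rw [M.cols_mul, M.cols_mul, hcg, hcb, hcb', h3])
      refine ⟨g * γ, mul_mem hg hγ, a, b', ha, hb', hca, hcb', ?_⟩
      rw [show g * γ * a * (g * γ)⁻¹ = g * (γ * a * γ⁻¹) * g⁻¹ by group, he, h4, mul_inv_cancel_right]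

theorem fixer_transitive {a b : Γ} (ha : a ∈ M.fixer) (hb : b ∈ M.fixer) (ha1 : a ≠ 1) (hb1 : b ≠ 1) :
    ∃ γ ∈ M.stab, γ * a * γ⁻¹ = b := by
  have hw := walk_check
  simp only [Bool.and_eq_true, List.all_eq_true, Nat.beq_eq, List.contains_iff_mem, Bool.or_eq_true,
    beq_iff_eq] at hw
  have he := even_check
  simp only [Bool.and_eq_true, List.all_eq_true, List.contains_iff_mem] at he
  have key : ∀ x ∈ M.fixer, x ≠ 1 → ∃ γ ∈ M.stab, ∃ a₀ : Γ, M.cols a₀ = evenWalk.getD 0 [] ∧ γ * a₀ * γ⁻¹ = x := by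
    intro x hx hx1
    have hk : M.cols x = kerCols (M.kerTri x) :=
      M.cols_eq (by
        have h := (by decide +kernel : ∀ t ∈ ker32, comp (kerCols t) idCols = kerCols t)
        exact h _ (M.fixer_spec hx).1) (M.fixer_spec hx).2
    have hm : M.cols x ∈ evenWalk := by
      rcases hw.1.2 _ (he.1 _ (M.fixer_even hx)) with h | h
      · exact absurd (M.cols_inj (by rw [hk, h, M.cols_one])) hx1
      · rwa [hk]
    obtain ⟨i, hi, e⟩ := List.getElem_of_mem hm
    obtain ⟨γ, hγ, a₀, b', -, -, hca, hcb, hc⟩ := M.evenWalk_conj i (by rw [← hw.1.1.1]; exact hi)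
    rw [List.getD_eq_getElem _ [] hi, e] at hcb
    exact ⟨γ, hγ, a₀, hca, by rw [hc, M.cols_inj hcb]⟩
  obtain ⟨γ, hγ, a₀, hc, hae⟩ := key a ha ha1
  obtain ⟨δ, hδ, a₁, hc', hbe⟩ := key b hb hb1
  refine ⟨δ * γ⁻¹, mul_mem hδ (inv_mem hγ), ?_⟩
  rw [← hae, ← hbe, show a₁ = a₀ from M.cols_inj (hc'.trans hc.symm)]
  group

end Model

end Plane

variable {G : Type*} [Group G] [Finite G] {z : G} {Q : Subgroup (Subgroup.centralizer ({z} : Set G))} [Q.Normal]
  {ρ : (Subgroup.centralizer ({z} : Set G)) ⧸ Q →* (Vec 6 ≃ₗ[ZMod 2] Vec 6)} {qf : Vec 6 → ZMod 2}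
  {p : G → Vec 6} {u w : Vec 6} {f : (Subgroup.centralizer ({z} : Set G)) ⧸ Q → ℕ → ℕ} {P : G → ℕ}

/-- The restriction of the quotient map. -/
def mkOn (z : G) (Q : Subgroup (Subgroup.centralizer ({z} : Set G))) [Q.Normal] (B : Subgroup G) : ↥(B.subgroupOf (Subgroup.centralizer ({z} : Set G))) →*
    (Subgroup.centralizer ({z} : Set G)) ⧸ Q :=
  (QuotientGroup.mk' Q).comp (Subgroup.subtype _)

namespace Coord

variable (K : Coord z Q f P) (H : Hyp z Q ρ qf p u w)
include K H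

theorem P_one : P 1 = 0 := (K.P_eq_zero 1 (one_mem _)).2 (Or.inl rfl)

theorem P_z : P z = 0 := (K.P_eq_zero z H.S.mem).2 (Or.inr rfl)

theorem P_inv {x : G} (hx : x ∈ big z Q) : P x⁻¹ = P x := by
  have h := K.P_mul x hx x⁻¹ (inv_mem hx)
  rw [mul_inv_cancel, K.P_one H] at h
  exact (Nat.xor_eq_zero_iff.1 h.symm).symm

theorem P_eq {x y : G} (hx : x ∈ big z Q) (hy : y ∈ big z Q) (h : P x = P y) : y = x ∨ y = x * z := by
  have h1 := K.P_mul x⁻¹ (inv_mem hx) y hy
  rw [K.P_inv H hx, h, Nat.xor_self] at h1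
  rcases (K.P_eq_zero _ (mul_mem (inv_mem hx) hy)).1 h1 with e | e
  · exact Or.inl (inv_mul_eq_one.1 e).symm
  · exact Or.inr (inv_mul_eq_iff_eq_mul.1 e)

/-- The elements of the extraspecial subgroup over the plane. -/
def A0 : Subgroup G where
  carrier := {x | x ∈ big z Q ∧ P x ∈ Plane.plane}
  one_mem' := ⟨one_mem _, by rw [K.P_one H]; decide⟩
  mul_mem' := fun {a b} ha hb => ⟨mul_mem ha.1 hb.1, by
    rw [K.P_mul a ha.1 b hb.1]
    have hclosed : ∀ a ∈ Plane.plane, ∀ b ∈ Plane.plane, a ^^^ b ∈ Plane.plane := by decide +kernel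
    exact hclosed _ ha.2 _ hb.2⟩
  inv_mem' := fun {a} ha => ⟨inv_mem ha.1, by rw [K.P_inv H ha.1]; exact ha.2⟩

theorem A0_sq {x : G} (hx : x ∈ K.A0 H) : x * x = 1 := (K.P_sq x hx.1).2 (Plane.plane_facts hx.2).2.1

theorem A0_comm {x y : G} (hx : x ∈ K.A0 H) (hy : y ∈ K.A0 H) : x * y = y * x := by
  have h := K.A0_sq H (mul_mem hx hy)
  have ix : x⁻¹ = x := inv_eq_of_mul_eq_one_right (K.A0_sq H hx)
  have iy : y⁻¹ = y := inv_eq_of_mul_eq_one_right (K.A0_sq H hy)
  have ixy : (x * y)⁻¹ = x * y := inv_eq_of_mul_eq_one_right h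
  rw [← ixy, mul_inv_rev, ix, iy]

theorem z_mem_A0 : z ∈ K.A0 H := ⟨H.S.mem, by rw [K.P_z H]; decide⟩

theorem card_A0 : Nat.card (K.A0 H) = 2 ^ 7 := by
  classical
  choose σ hσ hσv using fun v : Plane.planeSet => K.P_surj v (Plane.plane_facts (List.mem_toFinset.1 v.2)).1
  let g : Plane.planeSet × Bool → K.A0 H := fun vb =>
    ⟨σ vb.1 * (if vb.2 then z else 1), (K.A0 H).mul_mem
      ⟨hσ vb.1, by rw [hσv]; exact List.mem_toFinset.1 vb.1.2⟩
      (by split_ifs; exacts [K.z_mem_A0 H, one_mem _])⟩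
  have hb : Function.Bijective g := by
    constructor
    · rintro ⟨v, b⟩ ⟨v', b'⟩ h
      have h1 : σ v * (if b then z else 1) = σ v' * (if b' then z else 1) := congrArg Subtype.val h
      have hP : ∀ (v : Plane.planeSet) (b : Bool), P (σ v * (if b then z else 1)) = v := fun v b => by
        rw [K.P_mul _ (hσ v) _ (by split_ifs; exacts [H.S.mem, one_mem _])]
        rw [show P (if b then z else 1) = 0 by split_ifs; exacts [K.P_z H, K.P_one H], Nat.xor_zero, hσv]
      have hv : v = v' := Subtype.ext (by rw [← hP v b, h1, hP])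
      subst hv
      have h2 := mul_left_cancel h1
      cases b <;> cases b' <;> first | rfl | (exfalso; simp at h2; first | exact H.S.ne_one h2 | exact H.S.ne_one h2.symm)
    · rintro ⟨x, hx⟩
      rcases K.P_eq H (hσ ⟨P x, List.mem_toFinset.2 hx.2⟩) hx.1 (hσv _) with e | e
      · exact ⟨(⟨P x, List.mem_toFinset.2 hx.2⟩, false), Subtype.ext (by simp [g, e.symm])⟩
      · exact ⟨(⟨P x, List.mem_toFinset.2 hx.2⟩, true), Subtype.ext (by simp [g, e.symm])⟩
  rw [← Nat.card_congr (Equiv.ofBijective g hb), Nat.card_prod, Nat.card_eq_finsetCard, Plane.card_planeSet,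
    Nat.card_eq_fintype_card, Fintype.card_bool]
  rfl

theorem abelian_le {U : Subgroup G} (hU : U ≤ big z Q) (hab : ∀ a ∈ U, ∀ b ∈ U, a * b = b * a) :
    Nat.card U ≤ 2 ^ 7 := by
  have h := H.abelian_card hU hab
  rw [H.card] at h
  by_contra hlt
  push Not at hlt
  have := Nat.mul_le_mul hlt hlt
  omega

theorem big_inf_centralizer_A0 : big z Q ⊓ Subgroup.centralizer (K.A0 H : Set G) = K.A0 H := by
  refine le_antisymm (fun x hx => ?_) (le_inf (fun a ha => ha.1) fun a ha =>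
    Subgroup.mem_centralizer_iff.2 fun b hb => K.A0_comm H hb ha)
  obtain ⟨hxQ, hxC⟩ := Subgroup.mem_inf.1 hx
  set U := K.A0 H ⊔ Subgroup.zpowers x
  have hcomm : IsMulCommutative U := by
    have hcl : U = Subgroup.closure ((K.A0 H : Set G) ∪ {x}) := by
      rw [Subgroup.closure_union, Subgroup.closure_eq, ← Subgroup.zpowers_eq_closure]
    rw [hcl]
    refine Subgroup.isMulCommutative_closure fun a ha b hb => ?_
    rcases ha with ha | ha <;> rcases hb with hb | hb
    · exact K.A0_comm H ha hb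
    · rw [Set.mem_singleton_iff.1 hb]; exact Subgroup.mem_centralizer_iff.1 hxC a ha
    · rw [Set.mem_singleton_iff.1 ha]; exact (Subgroup.mem_centralizer_iff.1 hxC b hb).symm
    · rw [Set.mem_singleton_iff.1 ha, Set.mem_singleton_iff.1 hb]
  have h := K.abelian_le H (U := U) (sup_le (fun a ha => ha.1) ((Subgroup.zpowers_le).2 hxQ))
    fun a ha b hb => congrArg Subtype.val (hcomm.is_comm.comm ⟨a, ha⟩ ⟨b, hb⟩)
  rw [← K.card_A0 H] at h
  exact (Subgroup.eq_of_le_of_card_ge (le_sup_left : K.A0 H ≤ U) h).ge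
    (Subgroup.mem_sup_right (Subgroup.mem_zpowers x))

/-- The elementary abelian subgroup of order `2 ^ 11`. -/
def AA : Subgroup G :=
  Subgroup.centralizer ({z} : Set G) ⊓ Subgroup.centralizer (K.A0 H : Set G)

theorem A0_le_AA : K.A0 H ≤ K.AA H :=
  le_inf (fun _ ha => H.le ha.1) fun _ ha => ((K.big_inf_centralizer_A0 H).ge ha).2

theorem AA_inf_big : K.AA H ⊓ big z Q = K.A0 H := by
  refine le_antisymm (fun x hx => ?_) (le_inf (K.A0_le_AA H) fun a ha => ha.1)
  exact (K.big_inf_centralizer_A0 H).le ⟨hx.2, hx.1.2⟩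

theorem mk_fixer {c : ↥(Subgroup.centralizer ({z} : Set G))} (hc : (c : G) ∈ K.AA H) :
    QuotientGroup.mk' Q c ∈ K.model.fixer := by
  intro v hv
  obtain ⟨x, hx, rfl⟩ := K.P_surj v (Plane.plane_facts hv).1
  have hc' := Subgroup.mem_centralizer_iff.1 hc.2 x ⟨hx, hv⟩
  rw [QuotientGroup.mk'_apply, ← K.P_act c x hx, ← hc', mul_inv_cancel_right]

theorem card_comap (S : Subgroup ((Subgroup.centralizer ({z} : Set G)) ⧸ Q)) :
    Nat.card ↥((S.comap (QuotientGroup.mk' Q)).map (Subgroup.centralizer ({z} : Set G)).subtype) =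
      2 ^ 13 * Nat.card S := by
  rw [Subgroup.card_map_of_injective (Subgroup.centralizer ({z} : Set G)).subtype_injective]
  have h1 := Subgroup.index_mul_card (S.comap (QuotientGroup.mk' Q))
  rw [Subgroup.index_comap_of_surjective _ (QuotientGroup.mk'_surjective Q),
    Subgroup.card_eq_card_quotient_mul_card_subgroup Q, ← S.index_mul_card,
    ← Subgroup.card_map_of_injective (K := Q) (Subgroup.centralizer ({z} : Set G)).subtype_injective,
    H.card, mul_assoc] at h1
  rw [Nat.eq_of_mul_eq_mul_left (Nat.pos_of_ne_zero Subgroup.index_ne_zero_of_finite) h1, mul_comm]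

theorem card_split {B : Subgroup G} (hB : B ≤ Subgroup.centralizer ({z} : Set G)) :
    Nat.card B = Nat.card ↥(B ⊓ big z Q) * Nat.card (mkOn z Q B).range := by
  have hk := Subgroup.card_mul_index (mkOn z Q B).ker
  rw [Subgroup.index_ker, Nat.card_congr (Subgroup.subgroupOfEquivOfLe hB).toEquiv] at hk
  rw [← hk]
  congr 1
  exact Nat.card_congr
    { toFun := fun b => ⟨((b.1.1 : ↥(Subgroup.centralizer ({z} : Set G))) : G), b.1.2, (H.mk_one _).1 b.2⟩
      invFun := fun a => ⟨⟨⟨a, hB a.2.1⟩, a.2.1⟩, (H.mk_one _).2 a.2.2⟩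
      left_inv := fun b => rfl
      right_inv := fun a => rfl }

theorem card_AA : Nat.card (K.AA H) = 2 ^ 11 ∧ (mkOn z Q (K.AA H)).range = K.model.fixer := by
  classical
  have hle : (mkOn z Q (K.AA H)).range ≤ K.model.fixer := by
    rintro _ ⟨c, rfl⟩
    exact K.mk_fixer H c.2
  have h1 := K.card_split H (B := K.AA H) inf_le_left
  rw [K.AA_inf_big H, K.card_A0 H] at h1
  have hfix := K.model.counts.2.2.1
  set F := (K.model.fixer.comap (QuotientGroup.mk' Q)).map (Subgroup.centralizer ({z} : Set G)).subtype with hF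
  have hFc : Nat.card F = 2 ^ 13 * 16 := by rw [K.card_comap H, hfix]
  have hbas : ∀ i : Fin 6, [5, 10, 80, 160, 1280, 2560].getD i.val 0 < 4096 := by decide
  choose b hb hbv using fun i : Fin 6 => K.P_surj _ (hbas i)
  have hbA : ∀ i, b i ∈ K.A0 H := fun i => ⟨hb i, by
    rw [hbv]
    exact (by decide : ∀ i : Fin 6, [5, 10, 80, 160, 1280, 2560].getD i.val 0 ∈ Plane.plane) i⟩
  have hsurj : ∀ x ∈ K.A0 H, x ∈ Subgroup.closure (Set.range b ∪ {z}) := by
    have hspan0 : ∀ v ∈ Plane.plane,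
        (List.finRange 6).foldr (fun i r => (if (v % 4 + 4 * (v / 16 % 4) + 16 * (v / 256 % 4)).testBit i.val
          then [5, 10, 80, 160, 1280, 2560].getD i.val 0 else 0) ^^^ r) 0 = v := by
      decide +kernel
    have hspan : ∀ v ∈ Plane.plane, ∃ s : Fin 6 → Bool,
        (List.finRange 6).foldr (fun i r => (if s i then [5, 10, 80, 160, 1280, 2560].getD i.val 0 else 0) ^^^ r) 0 = v :=
      fun v hv => ⟨fun i => (v % 4 + 4 * (v / 16 % 4) + 16 * (v / 256 % 4)).testBit i.val, hspan0 v hv⟩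
    intro x hx
    obtain ⟨s, hs⟩ := hspan _ hx.2
    set L := Subgroup.closure (Set.range b ∪ {z}) with hL
    have hpr : ∀ l : List (Fin 6), ∃ y ∈ L, y ∈ big z Q ∧
        P y = l.foldr (fun i r => (if s i then [5, 10, 80, 160, 1280, 2560].getD i.val 0 else 0) ^^^ r) 0 := by
      intro l
      induction l with
      | nil => exact ⟨1, one_mem _, one_mem _, K.P_one H⟩
      | cons i l ih =>
        obtain ⟨y, hy, hyQ, hPy⟩ := ih
        by_cases hsi : s i
        · refine ⟨b i * y, mul_mem (Subgroup.subset_closure (Or.inl ⟨i, rfl⟩)) hy, mul_mem (hb i) hyQ, ?_⟩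
          simp [K.P_mul _ (hb i) _ hyQ, hbv, hPy, hsi]
        · exact ⟨y, hy, hyQ, by simp [hPy, hsi]⟩
    obtain ⟨y, hy, hyQ, hPy⟩ := hpr (List.finRange 6)
    rw [hs] at hPy
    rcases K.P_eq H hyQ hx.1 hPy with e | e <;> rw [e]
    exacts [hy, mul_mem hy (Subgroup.subset_closure (Or.inr rfl))]
  have hcount : Nat.card F ≤ Nat.card (Fin 6 → Bool) * Nat.card (K.AA H) := by
    let pat : F → (Fin 6 → Bool) := fun c i => decide ((c : G) * b i * (c : G)⁻¹ = b i)
    have hcases : ∀ (c : F) i, (c : G) * b i * (c : G)⁻¹ = b i ∨ (c : G) * b i * (c : G)⁻¹ = b i * z := by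
      rintro ⟨_, c, hc, rfl⟩ i
      refine K.P_eq H (hb i) (H.S.normal c (Subgroup.mem_centralizer_singleton_iff.1 c.2) _ (hb i)) ?_
      show _ = P ((c : G) * b i * (c : G)⁻¹)
      rw [K.P_act c _ (hb i)]
      exact (hc _ (hbA i).2).symm
    have hsame : ∀ c d : F, pat c = pat d → (d : G)⁻¹ * (c : G) ∈ K.AA H := by
      intro c d he
      have hC : ∀ c : F, (c : G) ∈ Subgroup.centralizer ({z} : Set G) := by
        rintro ⟨_, c, -, rfl⟩; exact c.2
      refine Subgroup.mem_inf.2 ⟨mul_mem (inv_mem (hC d)) (hC c), Subgroup.mem_centralizer_iff.2 fun x hx => ?_⟩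
      have hall : Subgroup.closure (Set.range b ∪ {z}) ≤ Subgroup.centralizer ({(d : G)⁻¹ * (c : G)} : Set G) := by
        rw [Subgroup.closure_le]
        rintro x (⟨i, rfl⟩ | rfl)
        · rw [SetLike.mem_coe, Subgroup.mem_centralizer_singleton_iff]
          have heq : (c : G) * b i * (c : G)⁻¹ = (d : G) * b i * (d : G)⁻¹ := by
            have hi : decide ((c : G) * b i * (c : G)⁻¹ = b i) = decide ((d : G) * b i * (d : G)⁻¹ = b i) :=
              congrFun he i
            by_cases hh : (c : G) * b i * (c : G)⁻¹ = b i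
            · rw [hh, decide_eq_true rfl] at hi
              rw [hh, of_decide_eq_true hi.symm]
            · rw [decide_eq_false hh] at hi
              rw [(hcases c i).resolve_left hh, (hcases d i).resolve_left (of_decide_eq_false hi.symm)]
          calc b i * ((d : G)⁻¹ * (c : G)) = (d : G)⁻¹ * ((d : G) * b i * (d : G)⁻¹) * (c : G) := by group
            _ = (d : G)⁻¹ * (c : G) * b i := by rw [← heq]; group
        · rw [SetLike.mem_coe, Subgroup.mem_centralizer_singleton_iff]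
          exact (Subgroup.mem_centralizer_singleton_iff.1 (mul_mem (inv_mem (hC d)) (hC c))).symm
      exact Subgroup.mem_centralizer_singleton_iff.1 (hall (hsurj x hx))
    have hr : ∀ s, ∃ d : F, (∃ c, pat c = s) → pat d = s := fun s => by
      by_cases h : ∃ c, pat c = s
      · exact ⟨h.choose, fun _ => h.choose_spec⟩
      · exact ⟨1, fun h' => absurd h' h⟩
    choose r hr using hr
    let g : F → (Fin 6 → Bool) × K.AA H := fun c =>
      (pat c, ⟨(r (pat c) : G)⁻¹ * (c : G), hsame c _ (hr _ ⟨c, rfl⟩).symm⟩)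
    refine (Nat.card_le_card_of_injective g fun c d h => ?_).trans_eq (Nat.card_prod _ _)
    have h1 : pat c = pat d := congrArg Prod.fst h
    have h2 : (r (pat c) : G)⁻¹ * (c : G) = (r (pat d) : G)⁻¹ * (d : G) :=
      congrArg (fun q : (Fin 6 → Bool) × K.AA H => (q.2 : G)) h
    rw [h1] at h2
    exact Subtype.ext (mul_left_cancel h2)
  rw [hFc, show Nat.card (Fin 6 → Bool) = 64 by simp] at hcount
  have hr16 := Subgroup.card_le_of_le hle
  rw [hfix] at hr16
  have heq : Nat.card (mkOn z Q (K.AA H)).range = 16 := by omega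
  exact ⟨by rw [h1, heq]; rfl, Subgroup.eq_of_le_of_card_ge hle (by rw [hfix, heq])⟩

theorem mkOn_surj {γ : (Subgroup.centralizer ({z} : Set G)) ⧸ Q} (hγ : γ ∈ K.model.fixer) :
    ∃ c : ↥(Subgroup.centralizer ({z} : Set G)), (c : G) ∈ K.AA H ∧ QuotientGroup.mk' Q c = γ := by
  rw [← (K.card_AA H).2] at hγ
  obtain ⟨c, rfl⟩ := hγ
  exact ⟨c.1, c.2, rfl⟩

theorem conj_A0 {c : ↥(Subgroup.centralizer ({z} : Set G))} (hc : QuotientGroup.mk' Q c ∈ K.model.stab) {x : G}
    (hx : x ∈ K.A0 H) : (c : G) * x * (c : G)⁻¹ ∈ K.A0 H := by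
  refine ⟨H.S.normal c (Subgroup.mem_centralizer_singleton_iff.1 c.2) x hx.1, ?_⟩
  rw [K.P_act c x hx.1]
  exact K.model.stab_plane hc hx.2

theorem conj_AA {c : ↥(Subgroup.centralizer ({z} : Set G))} (hc : QuotientGroup.mk' Q c ∈ K.model.stab) {a : G}
    (ha : a ∈ K.AA H) : (c : G) * a * (c : G)⁻¹ ∈ K.AA H := by
  refine Subgroup.mem_inf.2 ⟨mul_mem (mul_mem c.2 ha.1) (inv_mem c.2), Subgroup.mem_centralizer_iff.2 fun y hy => ?_⟩
  have hy' := K.conj_A0 H (c := c⁻¹) (by rw [map_inv]; exact inv_mem hc) hy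
  have h := Subgroup.mem_centralizer_iff.1 ha.2 _ hy'
  simp only [InvMemClass.coe_inv, inv_inv] at h
  calc y * ((c : G) * a * (c : G)⁻¹) = (c : G) * (((c : G)⁻¹ * y * (c : G)) * a) * (c : G)⁻¹ := by group
    _ = (c : G) * (a * ((c : G)⁻¹ * y * (c : G))) * (c : G)⁻¹ := by rw [h]
    _ = (c : G) * a * (c : G)⁻¹ * y := by group

theorem sq_mem_A0 {a : G} (ha : a ∈ K.AA H) : a * a ∈ K.A0 H := by
  refine (K.AA_inf_big H).le (Subgroup.mem_inf.2 ⟨mul_mem ha ha, (H.mk_one ⟨a * a, (mul_mem ha ha).1⟩).1 ?_⟩)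
  show QuotientGroup.mk' Q (⟨a, ha.1⟩ * ⟨a, ha.1⟩ : ↥(Subgroup.centralizer ({z} : Set G))) = 1
  rw [map_mul]
  exact K.model.fixer_sq (K.mk_fixer H (c := ⟨a, ha.1⟩) ha)

theorem sq_eq_of_mk {a b : ↥(Subgroup.centralizer ({z} : Set G))} (ha : (a : G) ∈ K.AA H) (hb : (b : G) ∈ K.AA H)
    (h : QuotientGroup.mk' Q a = QuotientGroup.mk' Q b) : (a : G) * a = (b : G) * b := by
  have hx : (b : G)⁻¹ * (a : G) ∈ K.A0 H := by
    refine (K.AA_inf_big H).le (Subgroup.mem_inf.2 ⟨mul_mem (inv_mem hb) ha, (H.mk_one (b⁻¹ * a)).1 ?_⟩)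
    rw [map_mul, map_inv, h, inv_mul_cancel]
  set x := (b : G)⁻¹ * (a : G) with hxdef
  have hbx : x * (b : G) = (b : G) * x := Subgroup.mem_centralizer_iff.1 hb.2 x hx
  have ea : (a : G) = (b : G) * x := by rw [hxdef]; group
  rw [ea, mul_assoc, ← mul_assoc x, hbx, mul_assoc, K.A0_sq H hx, mul_one]

theorem AA_sq {a : G} (ha : a ∈ K.AA H) : a * a = 1 := by
  classical
  -- the squares lie over the fixed space of the element of order three, hence in the centre
  obtain ⟨ω, hωs, hωv, hωc⟩ := K.model.exists_omega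
  obtain ⟨cω, rfl⟩ := QuotientGroup.mk'_surjective Q ω
  have hcen : ∀ b ∈ K.AA H, b * b = 1 ∨ b * b = z := by
    intro b hb
    have hsq := K.sq_mem_A0 H hb
    have hb' := K.conj_AA H hωs hb
    have hfix : QuotientGroup.mk' Q (cω * ⟨b, hb.1⟩ * cω⁻¹) = QuotientGroup.mk' Q ⟨b, hb.1⟩ := by
      rw [map_mul, map_mul, map_inv,
        ← hωc _ (K.model.fixer_le_linG (K.mk_fixer H (c := ⟨b, hb.1⟩) hb)), mul_inv_cancel_right]
    have h := K.sq_eq_of_mk H (a := cω * ⟨b, hb.1⟩ * cω⁻¹) (b := ⟨b, hb.1⟩) hb' hb hfix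
    have h' : (cω : G) * (b * b) * (cω : G)⁻¹ = b * b := by
      conv_rhs => rw [← h]
      simp only [Subgroup.coe_mul, InvMemClass.coe_inv]
      group
    have h2 := K.P_act cω (b * b) hsq.1
    rw [h'] at h2
    rw [← QuotientGroup.mk'_apply, hωv _ (K.P_lt _)] at h2
    exact (K.P_eq_zero _ hsq.1).1 (Plane.wm_eq_self (K.P_lt _) h2.symm)
  have hin : ∀ b : G, (hb : b ∈ K.AA H) → QuotientGroup.mk' Q (⟨b, hb.1⟩ : ↥(Subgroup.centralizer ({z} : Set G))) = 1 →
      b * b = 1 := fun b hb h =>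
    K.A0_sq H ((K.AA_inf_big H).le (Subgroup.mem_inf.2 ⟨hb, (H.mk_one ⟨b, hb.1⟩).1 h⟩))
  have hconst : ∀ a b : ↥(Subgroup.centralizer ({z} : Set G)), (a : G) ∈ K.AA H → (b : G) ∈ K.AA H →
      QuotientGroup.mk' Q a ≠ 1 → QuotientGroup.mk' Q b ≠ 1 → (a : G) * a = z → (b : G) * b = z := by
    intro a b ha hb ha1 hb1 he
    obtain ⟨γ, hγ, hc⟩ := K.model.fixer_transitive (K.mk_fixer H ha) (K.mk_fixer H hb) ha1 hb1
    obtain ⟨c, rfl⟩ := QuotientGroup.mk'_surjective Q γ
    have h := K.sq_eq_of_mk H (a := c * a * c⁻¹) (b := b) (K.conj_AA H hγ ha) hb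
      (by rw [map_mul, map_mul, map_inv, hc])
    rw [← h]
    simp only [Subgroup.coe_mul, InvMemClass.coe_inv]
    calc (c : G) * (a : G) * (c : G)⁻¹ * ((c : G) * (a : G) * (c : G)⁻¹) = (c : G) * ((a : G) * a) * (c : G)⁻¹ := by
          group
      _ = z := by rw [he, Subgroup.mem_centralizer_singleton_iff.1 c.2, mul_inv_cancel_right]
  refine (hcen a ha).resolve_right fun haz => ?_
  set a' : ↥(Subgroup.centralizer ({z} : Set G)) := ⟨a, ha.1⟩
  have ha1 : QuotientGroup.mk' Q a' ≠ 1 := fun h => by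
    rw [hin a ha h] at haz
    exact H.S.ne_one haz.symm
  obtain ⟨β, hβ, hβ1, hβa⟩ : ∃ β ∈ K.model.fixer, β ≠ 1 ∧ β ≠ QuotientGroup.mk' Q a' := by
    by_contra hcon
    push Not at hcon
    have hsub : (K.model.fixer : Set ((Subgroup.centralizer ({z} : Set G)) ⧸ Q)) ⊆ {1, QuotientGroup.mk' Q a'} :=
      fun β hβ => by
        by_cases h : β = 1
        · exact Or.inl h
        · exact Or.inr (hcon β hβ h)
    have := Set.ncard_le_ncard hsub (Set.toFinite _)
    rw [← Nat.card_coe_set_eq, SetLike.coe_sort_coe, K.model.counts.2.2.1] at this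
    have h2 : ({1, QuotientGroup.mk' Q a'} : Set ((Subgroup.centralizer ({z} : Set G)) ⧸ Q)).ncard ≤ 2 :=
      le_trans (Set.ncard_insert_le _ _) (by rw [Set.ncard_singleton])
    omega
  obtain ⟨δ, hδ, hδ1, hδa, hδb, hδab⟩ : ∃ δ ∈ K.model.fixer, δ ≠ 1 ∧ δ ≠ QuotientGroup.mk' Q a' ∧ δ ≠ β ∧
      δ ≠ QuotientGroup.mk' Q a' * β := by
    by_contra hcon
    push Not at hcon
    have hsub : (K.model.fixer : Set ((Subgroup.centralizer ({z} : Set G)) ⧸ Q)) ⊆
        {1, QuotientGroup.mk' Q a', β, QuotientGroup.mk' Q a' * β} := fun δ hδ => by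
      simp only [Set.mem_insert_iff, Set.mem_singleton_iff]
      by_contra hn
      simp only [not_or] at hn
      exact hn.2.2.2 (hcon δ hδ hn.1 hn.2.1 hn.2.2.1)
    have := Set.ncard_le_ncard hsub (Set.toFinite _)
    rw [← Nat.card_coe_set_eq, SetLike.coe_sort_coe, K.model.counts.2.2.1] at this
    have h2 : ({1, QuotientGroup.mk' Q a', β, QuotientGroup.mk' Q a' * β} :
        Set ((Subgroup.centralizer ({z} : Set G)) ⧸ Q)).ncard ≤ 4 := by
      refine (Set.ncard_insert_le _ _).trans (Nat.add_le_add_right ?_ 1)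
      refine (Set.ncard_insert_le _ _).trans (Nat.add_le_add_right ?_ 1)
      exact (Set.ncard_insert_le _ _).trans (by rw [Set.ncard_singleton])
    omega
  obtain ⟨b, hb, rfl⟩ := K.mkOn_surj H hβ
  obtain ⟨c, hc, rfl⟩ := K.mkOn_surj H hδ
  have anti : ∀ x y : ↥(Subgroup.centralizer ({z} : Set G)), (x : G) ∈ K.AA H → (y : G) ∈ K.AA H →
      QuotientGroup.mk' Q x ≠ 1 → QuotientGroup.mk' Q y ≠ 1 → QuotientGroup.mk' Q (x * y) ≠ 1 →
      (y : G) * x = (x : G) * y * z := by
    intro x y hx hy hx1 hy1 hxy1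
    have e1 := hconst a' x ha hx ha1 hx1 haz
    have e2 := hconst a' y ha hy ha1 hy1 haz
    have e3 : (x : G) * y * ((x : G) * y) = z := hconst a' (x * y) ha (mul_mem hx hy) ha1 hxy1 haz
    have hzy := Subgroup.mem_centralizer_singleton_iff.1 y.2
    have hzx := Subgroup.mem_centralizer_singleton_iff.1 x.2
    calc (y : G) * x = (x : G)⁻¹ * ((x : G) * y * ((x : G) * y)) * (y : G)⁻¹ := by group
      _ = (x : G)⁻¹ * z * (y : G)⁻¹ := by rw [e3]
      _ = (x : G)⁻¹ * ((x : G) * x) * (y : G)⁻¹ := by rw [e1]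
      _ = (x : G) * y * ((y : G) * y)⁻¹ := by group
      _ = (x : G) * y * z⁻¹ := by rw [e2]
      _ = (x : G) * y * z := by rw [inv_eq_of_mul_eq_one_right H.S.sq_one]
  have sqf : ∀ x ∈ K.model.fixer, x⁻¹ = x := fun x hx => inv_eq_of_mul_eq_one_right (K.model.fixer_sq hx)
  have hab : QuotientGroup.mk' Q (a' * b) ≠ 1 := by
    rw [map_mul]
    intro h
    exact hβa (by rw [eq_inv_of_mul_eq_one_right h, sqf _ (K.mk_fixer H (c := a') ha)])
  have hac : QuotientGroup.mk' Q (a' * c) ≠ 1 := by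
    rw [map_mul]
    intro h
    exact hδa (by rw [eq_inv_of_mul_eq_one_right h, sqf _ (K.mk_fixer H (c := a') ha)])
  have hbc : QuotientGroup.mk' Q (b * c) ≠ 1 := by
    rw [map_mul]
    intro h
    exact hδb (by rw [eq_inv_of_mul_eq_one_right h, sqf _ (K.mk_fixer H hb)])
  have habc : QuotientGroup.mk' Q (a' * (b * c)) ≠ 1 := by
    rw [map_mul, map_mul, ← mul_assoc]
    intro h
    refine hδab ?_
    rw [eq_inv_of_mul_eq_one_right h, sqf _ (mul_mem (K.mk_fixer H (c := a') ha) (K.mk_fixer H hb))]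
  have e1 : (b : G) * a = a * b * z := anti a' b ha hb ha1 hβ1 hab
  have e2 : (c : G) * a = a * c * z := anti a' c ha hc ha1 hδ1 hac
  have e3 : (b : G) * c * a = a * ((b : G) * c) * z := anti a' (b * c) ha (mul_mem hb hc) ha1 hbc habc
  have hzc := Subgroup.mem_centralizer_singleton_iff.1 c.2
  have e4 : (b : G) * c * a = a * ((b : G) * c) := by
    rw [mul_assoc, e2, ← mul_assoc, ← mul_assoc, e1, show a * (b : G) * z * c * z = a * b * (z * c) * z by group,
      ← hzc, show a * (b : G) * (c * z) * z = a * ((b : G) * c) * (z * z) by group, H.S.sq_one, mul_one]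
  rw [e4, left_eq_mul] at e3
  exact H.S.ne_one e3

theorem AA_comm {a b : G} (ha : a ∈ K.AA H) (hb : b ∈ K.AA H) : a * b = b * a := by
  have ix : a⁻¹ = a := inv_eq_of_mul_eq_one_right (K.AA_sq H ha)
  have iy : b⁻¹ = b := inv_eq_of_mul_eq_one_right (K.AA_sq H hb)
  have ixy : (a * b)⁻¹ = a * b := inv_eq_of_mul_eq_one_right (K.AA_sq H (mul_mem ha hb))
  rw [← ixy, mul_inv_rev, ix, iy]

theorem AA_elementary : Cfsg.IsElementaryAbelian 2 (K.AA H) :=
  ⟨⟨⟨fun a b => Subtype.ext (K.AA_comm H a.2 b.2)⟩⟩, fun a ha => by rw [pow_two]; exact K.AA_sq H ha⟩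

/-- The unique large elementary abelian subgroup of the preimage of the chosen Sylow subgroup. -/
theorem unique_large {S : Subgroup ((Subgroup.centralizer ({z} : Set G)) ⧸ Q)}
    (hS : ∀ E : Subgroup ((Subgroup.centralizer ({z} : Set G)) ⧸ Q), E ≤ S → (∀ a ∈ E, ∀ b ∈ E, a * b = b * a) →
      (∀ a ∈ E, a * a = 1) → 16 ≤ Nat.card E → E = K.model.fixer ∨ Nat.card E * (K.model.fixSet E).card ≤ 256)
    {B : Subgroup G} (hBS : ∀ b ∈ B, ∃ c : ↥(Subgroup.centralizer ({z} : Set G)),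
      (c : G) = b ∧ QuotientGroup.mk' Q c ∈ S)
    (hab : ∀ a ∈ B, ∀ b ∈ B, a * b = b * a) (hsq : ∀ a ∈ B, a * a = 1) (hB : 2 ^ 11 ≤ Nat.card B) :
    B = K.AA H := by
  classical
  have hBC : B ≤ Subgroup.centralizer ({z} : Set G) := fun b hb => by
    obtain ⟨c, rfl, -⟩ := hBS b hb
    exact c.2
  have hsplit := K.card_split H hBC
  set E := (mkOn z Q B).range with hE
  have hD := K.abelian_le H (U := B ⊓ big z Q) inf_le_right fun a ha b hb => hab a ha.1 b hb.1
  have hEmem : ∀ e ∈ E, ∃ c : ↥(Subgroup.centralizer ({z} : Set G)), (c : G) ∈ B ∧ QuotientGroup.mk' Q c = e := by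
    rintro e ⟨c, rfl⟩
    exact ⟨c.1, c.2, rfl⟩
  have hPfix : ∀ x ∈ B ⊓ big z Q, P x ∈ K.model.fixSet E := by
    intro x hx
    rw [Plane.Model.fixSet, Finset.mem_filter, Plane.vecs, Finset.mem_range]
    refine ⟨K.P_lt x, fun e he => ?_⟩
    obtain ⟨c, hc, rfl⟩ := hEmem e he
    rw [QuotientGroup.mk'_apply, ← K.P_act c x hx.2, hab _ hc x hx.1, mul_inv_cancel_right]
  have hDfix : Nat.card ↥(B ⊓ big z Q) ≤ 2 * (K.model.fixSet E).card := by
    haveI := Fintype.ofFinite ↥(B ⊓ big z Q)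
    rw [Nat.card_eq_fintype_card, ← Finset.card_univ, mul_comm]
    refine Finset.card_le_mul_card_image_of_maps_to (f := fun x : ↥(B ⊓ big z Q) => P x)
      (fun x _ => hPfix x x.2) 2 (fun v _ => ?_) |>.trans (by rw [mul_comm])
    by_contra hlt
    push Not at hlt
    obtain ⟨x, hx⟩ := Finset.card_pos.1 (lt_trans (by norm_num) hlt)
    have hsub : Finset.image (fun a : ↥(B ⊓ big z Q) => (a : G))
        (Finset.univ.filter fun a : ↥(B ⊓ big z Q) => P a = v) ⊆
        {(x : G), (x : G) * z} := by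
      intro a ha
      obtain ⟨a, ha', rfl⟩ := Finset.mem_image.1 ha
      rw [Finset.mem_filter] at ha' hx
      rcases K.P_eq H x.2.2 a.2.2 (hx.2.trans ha'.2.symm) with e | e <;> simp [e]
    have := Finset.card_le_card hsub
    rw [Finset.card_image_of_injective _ Subtype.val_injective] at this
    have h2 : ({(x : G), (x : G) * z} : Finset G).card ≤ 2 := Finset.card_le_two
    omega
  have h16 : 16 ≤ Nat.card E := by
    by_contra hlt
    push Not at hlt
    have := Nat.mul_le_mul hD (Nat.le_of_lt_succ hlt)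
    omega
  rcases hS E (fun e he => by
      obtain ⟨c, hc, rfl⟩ := hEmem e he
      obtain ⟨c', hc', hS'⟩ := hBS _ hc
      rwa [Subtype.ext hc'] at hS')
    (fun a ha b hb => by
      obtain ⟨c, hc, rfl⟩ := hEmem a ha
      obtain ⟨d, hd, rfl⟩ := hEmem b hb
      rw [← map_mul, ← map_mul, show c * d = d * c from Subtype.ext (hab _ hc _ hd)])
    (fun a ha => by
      obtain ⟨c, hc, rfl⟩ := hEmem a ha
      rw [← map_mul, show c * c = 1 from Subtype.ext (hsq _ hc), map_one]) h16 with hfix | hsmall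
  · rw [hfix, K.model.counts.2.2.1] at hsplit
    have hD128 : Nat.card ↥(B ⊓ big z Q) = 2 ^ 7 := le_antisymm hD (by omega)
    have hle : B ⊓ big z Q ≤ K.A0 H := fun x hx => by
      have h := hPfix x hx
      rw [hfix, Plane.Model.fixSet, Finset.mem_filter] at h
      exact ⟨hx.2, (Plane.mem_plane_iff (K.P_lt x)).1 (K.model.fixSet_fixer (K.P_lt x) h.2)⟩
    have heq := Subgroup.eq_of_le_of_card_ge hle (by rw [K.card_A0 H, hD128])
    refine Subgroup.eq_of_le_of_card_ge (fun b hb => ⟨hBC hb, Subgroup.mem_centralizer_iff.2 fun y hy => ?_⟩)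
      (by rw [(K.card_AA H).1]; exact hB)
    exact hab y (heq.ge hy).1 b hb
  · have := Nat.mul_le_mul hDfix (le_refl (Nat.card E))
    rw [mul_assoc, mul_comm (K.model.fixSet E).card] at this
    omega

/-- Every Sylow 2-subgroup of the centralizer has a unique large elementary abelian subgroup. -/
theorem sylow_unique (T : Sylow 2 ↥(Subgroup.centralizer ({z} : Set G))) :
    ∃ c : ↥(Subgroup.centralizer ({z} : Set G)),
      (K.AA H).map (MulAut.conj (c : G)).toMonoidHom ≤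
        (T : Subgroup ↥(Subgroup.centralizer ({z} : Set G))).map (Subgroup.centralizer ({z} : Set G)).subtype ∧
      ∀ B : Subgroup G,
        B ≤ (T : Subgroup ↥(Subgroup.centralizer ({z} : Set G))).map (Subgroup.centralizer ({z} : Set G)).subtype →
        (∀ a ∈ B, ∀ b ∈ B, a * b = b * a) → (∀ a ∈ B, a * a = 1) → 2 ^ 11 ≤ Nat.card B →
        B = (K.AA H).map (MulAut.conj (c : G)).toMonoidHom := by
  classical
  obtain ⟨S, hS256, hfixS, hSE⟩ := K.model.exists_sylow
  haveI : Fact (Nat.Prime 2) := ⟨Nat.prime_two⟩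
  have hSc : Nat.card ↥(S.comap (QuotientGroup.mk' Q)) = 2 ^ 21 := by
    have h := K.card_comap H S
    rw [Subgroup.card_map_of_injective (Subgroup.centralizer ({z} : Set G)).subtype_injective, hS256] at h
    rw [h]; norm_num
  have hCc : Nat.card (Subgroup.centralizer ({z} : Set G)) = 2 ^ 13 * 19595520 := by
    have h := Subgroup.card_eq_card_quotient_mul_card_subgroup Q
    rw [K.model.card, ← Subgroup.card_map_of_injective (K := Q) (Subgroup.centralizer ({z} : Set G)).subtype_injective, H.card] at h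
    rw [h, mul_comm]
  let S₀ : Sylow 2 (Subgroup.centralizer ({z} : Set G)) := Sylow.ofCard (S.comap (QuotientGroup.mk' Q)) (by
    rw [hSc, hCc, Nat.factorization_mul (by norm_num) (by norm_num), Nat.Prime.factorization_pow Nat.prime_two]
    simp only [Finsupp.coe_add, Pi.add_apply, Finsupp.single_eq_same]
    rw [show (19595520 : ℕ) = 2 ^ 8 * 76545 by norm_num, Nat.factorization_mul (by norm_num) (by norm_num),
      Nat.Prime.factorization_pow Nat.prime_two]
    simp only [Finsupp.coe_add, Pi.add_apply, Finsupp.single_eq_same]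
    rw [Nat.factorization_eq_zero_of_not_dvd (by norm_num : ¬ 2 ∣ 76545)]
    try norm_num)
  obtain ⟨c, hc⟩ := MulAction.exists_smul_eq (Subgroup.centralizer ({z} : Set G)) S₀ T
  refine ⟨c, ?_, fun B hB hab hsq hcard => ?_⟩
  · rintro _ ⟨a, ha, rfl⟩
    refine ⟨c * ⟨a, ha.1⟩ * c⁻¹, ?_, rfl⟩
    rw [← hc, Sylow.coe_subgroup_smul, SetLike.mem_coe, Subgroup.mem_pointwise_smul_iff_inv_smul_mem,
      ← map_inv, MulAut.smul_def, MulAut.conj_apply]
    show c⁻¹ * (c * ⟨a, ha.1⟩ * c⁻¹) * c⁻¹⁻¹ ∈ S.comap (QuotientGroup.mk' Q)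
    rw [show c⁻¹ * (c * ⟨a, ha.1⟩ * c⁻¹) * c⁻¹⁻¹ = (⟨a, ha.1⟩ : (Subgroup.centralizer ({z} : Set G))) by group, Subgroup.mem_comap]
    exact hfixS (K.mk_fixer H (c := ⟨a, ha.1⟩) ha)
  set B' := B.map (MulAut.conj (c : G)⁻¹).toMonoidHom with hB'
  have hconj : ∀ b ∈ B', ∃ c' : (Subgroup.centralizer ({z} : Set G)), (c' : G) = b ∧ QuotientGroup.mk' Q c' ∈ S := by
    rintro _ ⟨b, hb, rfl⟩
    obtain ⟨t, ht, rfl⟩ := hB hb
    refine ⟨c⁻¹ * t * c⁻¹⁻¹, rfl, ?_⟩
    rw [← hc, Sylow.coe_subgroup_smul, SetLike.mem_coe, Subgroup.mem_pointwise_smul_iff_inv_smul_mem,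
      ← map_inv, MulAut.smul_def, MulAut.conj_apply] at ht
    exact ht
  have h := K.unique_large H hSE hconj (by
    rintro _ ⟨a, ha, rfl⟩ _ ⟨b, hb, rfl⟩
    rw [← map_mul, ← map_mul, hab a ha b hb]) (by
    rintro _ ⟨a, ha, rfl⟩
    rw [← map_mul, hsq a ha, map_one])
    (by rw [Subgroup.card_map_of_injective (MulAut.conj (c : G)⁻¹).injective]; exact hcard)
  rw [← h, hB', Subgroup.map_map]
  ext x
  simp [Subgroup.mem_map, mul_assoc]

theorem map_conj_inf_big (c : ↥(Subgroup.centralizer ({z} : Set G))) :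
    (K.AA H).map (MulAut.conj (c : G)).toMonoidHom ⊓ big z Q = (K.A0 H).map (MulAut.conj (c : G)).toMonoidHom := by
  rw [← K.AA_inf_big H, Subgroup.map_inf _ _ _ (MulAut.conj (c : G)).injective]
  congr 1
  ext x
  rw [mem_conjQ]
  constructor
  · intro hx
    have := H.S.normal (c : G)⁻¹ (Subgroup.mem_centralizer_singleton_iff.1 (inv_mem c.2)) x hx
    rwa [inv_inv] at this
  · intro hx
    have := H.S.normal (c : G) (Subgroup.mem_centralizer_singleton_iff.1 c.2) _ hx
    rwa [show (c : G) * ((c : G)⁻¹ * x * c) * (c : G)⁻¹ = x by group] at this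

end Coord

end CfsgLib.LargeFischer
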