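import Mathlib

/-!
The model of the Thompson subgroup in a group of large Fischer type: the natural numbers below `2 ^ 11` under
exclusive or, with the 276 elements of the class of the non-central involution.  Bit `0` is the central involution,
bits `1`–`6` are the totally singular plane, bits `7`–`10` are the elementary abelian group of order sixteen.
-/

set_option autoImplicit false

namespace CfsgLib.LargeFischer.Thompson

/-- The 276 elements corresponding to the duads. -/
def duads : List ℕ :=
  [2, 3, 4, 5, 6, 7, 8, 9, 16, 17, 24, 25, 32, 33,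
    42, 43, 54, 55, 60, 61, 64, 65, 78, 79, 84, 85, 90, 91,
    96, 97, 108, 109, 114, 115, 126, 127, 128, 142, 146, 156, 161, 174,
    178, 189, 193, 207, 210, 220, 225, 238, 243, 252, 256, 265, 273, 281,
    292, 300, 308, 317, 326, 335, 342, 350, 354, 362, 371, 378, 384, 393,
    401, 409, 417, 424, 432, 440, 449, 456, 464, 472, 481, 488, 496, 504,
    512, 515, 517, 519, 568, 570, 573, 574, 584, 586, 588, 591, 624, 627,
    628, 630, 640, 643, 645, 647, 673, 674, 676, 678, 705, 706, 708, 710,
    737, 738, 740, 742, 768, 771, 773, 775, 777, 778, 780, 782, 785, 786,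
    788, 790, 793, 794, 796, 798, 897, 911, 915, 925, 933, 938, 950, 953,
    967, 969, 980, 986, 995, 1004, 1009, 1022, 1024, 1036, 1046, 1050, 1062, 1067,
    1072, 1085, 1090, 1103, 1109, 1112, 1124, 1128, 1139, 1151, 1152, 1162, 1172, 1182,
    1185, 1195, 1204, 1214, 1217, 1226, 1237, 1246, 1249, 1258, 1268, 1279, 1280, 1289,
    1297, 1305, 1314, 1323, 1330, 1338, 1348, 1356, 1365, 1372, 1382, 1390, 1398, 1407,
    1409, 1410, 1412, 1414, 1457, 1459, 1461, 1462, 1497, 1498, 1501, 1503, 1513, 1515,
    1516, 1519, 1536, 1539, 1541, 1543, 1576, 1579, 1580, 1582, 1616, 1618, 1621, 1622,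
    1656, 1658, 1660, 1663, 1665, 1672, 1680, 1688, 1703, 1711, 1718, 1727, 1731, 1739,
    1747, 1754, 1765, 1772, 1781, 1789, 1793, 1805, 1815, 1819, 1824, 1837, 1846, 1851,
    1856, 1869, 1879, 1882, 1888, 1900, 1911, 1915, 1921, 1931, 1941, 1951, 1955, 1961,
    1974, 1980, 1989, 1998, 2001, 2010, 2023, 2028, 2034, 2041]

/-- The duad of the first point with the `i`-th point; `0` for the first point itself. -/
def starElt : List ℕ :=
  [0, 2, 4, 7, 798, 790, 782, 775, 742, 710, 678, 647,
    1656, 1618, 1580, 1543, 1515, 1501, 1457, 1414, 628, 584, 570, 519]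

end CfsgLib.LargeFischer.Thompson
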