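import Cfsg.Agent.Lib.LargeFischer.Code
import Cfsg.Agent.Lib.LargeFischer.ThompsonModel

/-!
The invariance properties of the class of the central involution in the model of the Thompson subgroup.  The maps are given
by the images of the eleven basis numbers.
-/

set_option autoImplicit false

namespace CfsgLib.LargeFischer.Thompson

open Plane

/-- The columns of a basis of the maps fixing the plane, matching bits `7`–`10`. -/
def fixBasis : List (List ℕ) := [
    [4004, 1528, 4001, 1522, 2639, 3973, 2591, 3877, 506, 607, 1274, 2143],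
    [4004, 1528, 4001, 1522, 2591, 3877, 2639, 3973, 1274, 2143, 506, 607],
    [4001, 1522, 4004, 1528, 2639, 3973, 2591, 3877, 1274, 2143, 506, 607],
    [2801, 3922, 2804, 3928, 3866, 1327, 3914, 1423, 431, 757, 1199, 2293]]

/-- The position of a vector of the plane. -/
def widx (w : ℕ) : ℕ := w % 4 + 4 * (w / 16 % 4) + 16 * (w / 256 % 4)

/-- A bit as a number. -/
def bitNat (b : Bool) : ℕ := bif b then 1 else 0

/-- Conjugation by an element of the extraspecial group over `v`. -/
def qCols (v : ℕ) : List ℕ :=
  1 :: ((List.range 6).map (fun i => 2 ^ (i + 1) ^^^ bitNat (bb v (wOf (2 ^ i)))) ++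
    (List.range 4).map fun j =>
      let d := ap (fixBasis.getD j []) v ^^^ v
      128 <<< j ^^^ (2 * widx d) ^^^ bitNat (bb v (wm d)))

/-- Conjugation by the element of order three. -/
def oCols : List ℕ := [1, 4, 6, 16, 24, 64, 96, 128, 256, 512, 1024]

/-- The linear part of conjugation by lifts of the generators of the stabiliser of the plane. -/
def kBase : List (List ℕ) := [
    [1, 8, 16, 2, 4, 32, 64, 1792, 1408, 1664, 896],
    [1, 42, 84, 32, 64, 8, 16, 256, 128, 1024, 512],
    [1, 8, 16, 32, 64, 2, 4, 512, 128, 256, 1024],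
    [1, 60, 78, 84, 126, 4, 6, 640, 1152, 128, 1792]]

/-- Conjugation by the `k`-th lift; `δ` is its effect on the central bit. -/
def kCols (k δ : ℕ) : List ℕ :=
  (List.range 11).map fun i => (kBase.getD k []).getD i 0 ^^^ (bif Nat.ble 7 i then δ >>> (i - 7) &&& 1 else 0)

/-- The number of members whose product with `x` is a member. -/
def classCount (F : ℕ → Bool) (x : ℕ) : ℕ := (List.range 2048).countP fun t => F t && F (x ^^^ t)

/-- The properties of the class of the central involution. -/
structure ClassFn (F : ℕ → Bool) : Prop where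
  zero : F 0 = false
  one : F 1 = true
  small : ∀ i, i < 64 → 0 < i → F (2 * i) = !sb (wOf i) ∧ F (2 * i + 1) = !sb (wOf i)
  qinv : ∀ v, v < 4096 → ∀ n, n < 2048 → F (ap (qCols v) n) = F n
  oinv : ∀ n, n < 2048 → F (ap oCols n) = F n
  kinv : ∀ k, k < 4 → ∃ δ, δ < 16 ∧ ∀ n, n < 2048 → F (ap (kCols k δ) n) = F n
  count : ∀ x y, x < 2048 → y < 2048 → F x = true → F y = true → classCount F x = classCount F y
  norm : ∀ k, k < 4 → F (128 <<< k) = true → F (128 <<< k ^^^ 1) = true

end CfsgLib.LargeFischer.Thompson
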