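import Cfsg.Agent.Lib.LargeFischer.ThompsonData
import Cfsg.Agent.Lib.LargeFischer.ThompsonClassSpec
import Cfsg.Agent.Lib.LargeFischer.ThompsonProduct

/-!
A basis of the standard elementary abelian subgroup adapted to an element of order three acting as a scalar, and the
numbering by the numbers below `2 ^ 11`.
-/

set_option autoImplicit false
set_option linter.unusedSectionVars false
set_option linter.style.haveILetI false

namespace CfsgLib.LargeFischer

open Cfsg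
open CfsgLib.F2Quad (Vec)
open Thompson (widx fixBasis bitNat)

namespace Thompson

/-- Products of column lists, indexed by binary digits. -/
def apC : List (List ℕ) → ℕ → List ℕ
  | [], _ => Plane.idCols
  | c :: cs, m => Plane.comp (bif Nat.beq (m % 2) 1 then c else Plane.idCols) (apC cs (m / 2))

theorem widx_spec : ∀ w ∈ Plane.plane, widx w < 64 ∧ Plane.wOf (widx w) = w := by decide +kernel

theorem wOf_spec : ∀ i < 64, Plane.wOf i ∈ Plane.plane ∧ widx (Plane.wOf i) = i ∧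
    Plane.ap ((List.range 6).map fun j => Plane.wOf (2 ^ j)) i = Plane.wOf i := by decide +kernel

theorem fixBasis_spec : ∀ j < 4, fixBasis.getD j [] ∈ Plane.evenSpan ∧
    Plane.comp (fixBasis.getD j []) Plane.idCols = fixBasis.getD j [] := by decide +kernel

theorem apC_fixBasis : ∀ t ∈ Plane.even16, ∃ m < 16, Plane.kerCols t = apC fixBasis m := by decide +kernel

theorem kerCols_idCols : ∀ t ∈ Plane.ker32, Plane.comp (Plane.kerCols t) Plane.idCols = Plane.kerCols t := by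
  decide +kernel

theorem fixBasis_list : (List.range 4).map (fun j => fixBasis.getD j []) = fixBasis := by decide +kernel

end Thompson

variable {G : Type*} [Group G]

/-- The product of the orbit of `x` under an element of order three. -/
def nrm (c x : G) : G := x * (c * x * c⁻¹) * (c * (c * x * c⁻¹) * c⁻¹)

/-- The central element or the identity. -/
def zb (z : G) (b : Bool) : G := bif b then z else 1

theorem zb_xor {z : G} (hz : z * z = 1) (a b : Bool) : zb z (xor a b) = zb z a * zb z b := by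
  cases a <;> cases b <;> simp [zb, hz]

theorem apG_two_pow_mul : ∀ (cs : List G) (k m : ℕ), apG cs (2 ^ k * m) = apG (cs.drop k) m
  | cs, 0, m => by simp
  | [], k + 1, m => by simp [apG]
  | c :: cs, k + 1, m => by
    have h1 : 2 ^ (k + 1) * m % 2 = 0 := by rw [pow_succ, mul_comm _ 2, mul_assoc]; omega
    have h2 : 2 ^ (k + 1) * m / 2 = 2 ^ k * m := by rw [pow_succ, mul_comm _ 2, mul_assoc]; omega
    simp [apG, h1, h2, apG_two_pow_mul cs k m, beq_zero_one]

namespace Coord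

variable [Finite G] {z : G} {Q : Subgroup (Subgroup.centralizer ({z} : Set G))} [Q.Normal]
  {ρ : (Subgroup.centralizer ({z} : Set G)) ⧸ Q →* (Vec 6 ≃ₗ[ZMod 2] Vec 6)} {qf : Vec 6 → ZMod 2}
  {p : G → Vec 6} {u w : Vec 6} (H : Hyp z Q ρ qf p u w)
  {f : (Subgroup.centralizer ({z} : Set G)) ⧸ Q → ℕ → ℕ} {P : G → ℕ} (K : Coord z Q f P)
include H K

/-- An element of order three lifting the scalar and a basis of the standard subgroup adapted to it. -/
structure Basis (c : G) (b l : ℕ → G) : Prop where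
  hc : c ∈ Subgroup.centralizer ({z} : Set G)
  cube : c * c * c = 1
  c_act : ∀ v, v < 4096 → f (QuotientGroup.mk' Q ⟨c, hc⟩) v = Plane.wm v
  c_comm : ∀ γ ∈ K.model.linG, γ * QuotientGroup.mk' Q ⟨c, hc⟩ = QuotientGroup.mk' Q ⟨c, hc⟩ * γ
  b_mem : ∀ i, i < 6 → b i ∈ K.A0 H
  b_val : ∀ i, i < 6 → P (b i) = Plane.wOf (2 ^ i)
  b_nrm : ∀ i, i < 6 → nrm c (b i) = 1
  l_mem : ∀ j, j < 4 → l j ∈ K.AA H
  l_act : ∀ j, j < 4 → ∀ hl : l j ∈ Subgroup.centralizer ({z} : Set G),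
    ∀ v, v < 4096 → f (QuotientGroup.mk' Q ⟨l j, hl⟩) v = Plane.ap (fixBasis.getD j []) v
  l_fix : ∀ j, j < 4 → c * l j * c⁻¹ = l j
  l_norm : ∀ j, j < 4 → IsConj z (l j) → IsConj z (l j * z)

theorem z_conj {x : G} (hx : x ∈ Subgroup.centralizer ({z} : Set G)) : x * z * x⁻¹ = z := by
  rw [Subgroup.mem_centralizer_singleton_iff.1 hx, mul_inv_cancel_right]

theorem wm_xor {v v' : ℕ} (hv : v < 4096) (hv' : v' < 4096) :
    Plane.wm (v ^^^ v') = Plane.wm v ^^^ Plane.wm v' := by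
  obtain ⟨ω, -, hω, -⟩ := K.model.exists_omega
  rw [← hω _ (Plane.xor_lt hv hv'), K.model.add ω v hv v' hv', hω v hv, hω v' hv']

theorem bb_wm {v v' : ℕ} (hv : v < 4096) (hv' : v' < 4096) :
    Plane.bb (Plane.wm v) (Plane.wm v') = Plane.bb v v' := by
  simp only [Plane.bb]
  rw [← K.wm_xor H hv hv', Plane.qb_wm (Plane.xor_lt hv hv'), Plane.qb_wm hv, Plane.qb_wm hv']

theorem eq_one_or_z {x : G} (hx : x ∈ big z Q) (h : P x = 0) : x = 1 ∨ x = z := (K.P_eq_zero x hx).1 h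

theorem sq_eq {x : G} (hx : x ∈ big z Q) : x * x = zb z (Plane.qb (P x)) := by
  have h0 : P (x * x) = 0 := by rw [K.P_mul x hx x hx, Nat.xor_self]
  cases hq : Plane.qb (P x)
  · exact (K.P_sq x hx).2 hq
  · refine (K.eq_one_or_z H (mul_mem hx hx) h0).resolve_left fun e => ?_
    rw [(K.P_sq x hx).1 e] at hq
    exact Bool.false_ne_true hq

theorem conj_big {x y : G} (hx : x ∈ big z Q) (hy : y ∈ big z Q) :
    x * y * x⁻¹ = y * zb z (Plane.bb (P x) (P y)) := by
  have hz := H.S.sq_one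
  have hyz : y * z = z * y := Subgroup.mem_centralizer_singleton_iff.1 (H.le hy)
  have hcomm : ∀ e : Bool, zb z e * y = y * zb z e := fun e => by cases e <;> simp [zb, hyz]
  have hk0 : P (x * y * x⁻¹ * y⁻¹) = 0 := by
    rw [K.P_mul _ (mul_mem (mul_mem hx hy) (inv_mem hx)) _ (inv_mem hy),
      K.P_mul _ (mul_mem hx hy) _ (inv_mem hx), K.P_mul x hx y hy, K.P_inv H hx, K.P_inv H hy]
    rw [Nat.xor_comm (P x) (P y), Nat.xor_assoc (P y), Nat.xor_self, Nat.xor_zero, Nat.xor_self]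
  obtain ⟨k, hk⟩ : ∃ k : Bool, x * y * x⁻¹ * y⁻¹ = zb z k := by
    rcases K.eq_one_or_z H (mul_mem (mul_mem (mul_mem hx hy) (inv_mem hx)) (inv_mem hy)) hk0 with e | e
    exacts [⟨false, e⟩, ⟨true, e⟩]
  have hxy : x * y * x⁻¹ = zb z k * y := by rw [← hk, inv_mul_cancel_right]
  have h := K.sq_eq H (mul_mem hx hy)
  rw [K.P_mul x hx y hy] at h
  have e : x * y * (x * y) = zb z (xor k (xor (Plane.qb (P x)) (Plane.qb (P y)))) := by
    calc x * y * (x * y) = x * y * x⁻¹ * (x * x) * y := by group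
      _ = zb z k * y * zb z (Plane.qb (P x)) * y := by rw [hxy, K.sq_eq H hx]
      _ = zb z k * (zb z (Plane.qb (P x)) * (y * y)) := by rw [mul_assoc (zb z k), ← hcomm]; group
      _ = _ := by rw [K.sq_eq H hy, zb_xor hz, zb_xor hz]
  rw [e] at h
  rw [hxy, hcomm]
  congr 1
  have hinj : ∀ a a' : Bool, zb z a = zb z a' → a = a' := fun a a' h => by
    cases a <;> cases a' <;> first | rfl | exact absurd h H.S.ne_one | exact absurd h.symm H.S.ne_one
  have := hinj _ _ h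
  rw [Plane.bb, ← this]
  cases k <;> cases Plane.qb (P x) <;> cases Plane.qb (P y) <;> rfl

variable {c : G} {b l : ℕ → G} (B : K.Basis H c b l)
include B

theorem c_stab : QuotientGroup.mk' Q ⟨c, B.hc⟩ ∈ K.model.stab :=
  K.model.mem_stab_of fun w hw => by
    rw [B.c_act w (Plane.plane_facts hw).1]; exact (Plane.plane_facts hw).2.2.2

theorem c_conj_AA {x : G} (hx : x ∈ K.AA H) : c * x * c⁻¹ ∈ K.AA H :=
  K.conj_AA H (c := ⟨c, B.hc⟩) (K.c_stab H B) hx

theorem c_conj_A0 {x : G} (hx : x ∈ K.A0 H) : c * x * c⁻¹ ∈ K.A0 H :=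
  K.conj_A0 H (c := ⟨c, B.hc⟩) (K.c_stab H B) hx

theorem P_c {x : G} (hx : x ∈ big z Q) : P (c * x * c⁻¹) = Plane.wm (P x) := by
  rw [← B.c_act _ (K.P_lt x)]
  exact K.P_act ⟨c, B.hc⟩ x hx

theorem nrm_mul {x y : G} (hx : x ∈ K.AA H) (hy : y ∈ K.AA H) : nrm c (x * y) = nrm c x * nrm c y := by
  have comm4 : ∀ a b d e : G, b ∈ K.AA H → d ∈ K.AA H → a * b * (d * e) = a * d * (b * e) := by
    intro a b d e hb hd
    rw [mul_assoc a b, ← mul_assoc b d, K.AA_comm H hb hd, mul_assoc d b, ← mul_assoc a d]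
  simp only [nrm]
  rw [show c * (x * y) * c⁻¹ = c * x * c⁻¹ * (c * y * c⁻¹) by group,
    show c * (c * x * c⁻¹ * (c * y * c⁻¹)) * c⁻¹ = c * (c * x * c⁻¹) * c⁻¹ * (c * (c * y * c⁻¹) * c⁻¹) by group,
    comm4 x y _ _ hy (K.c_conj_AA H B hx),
    comm4 _ _ _ _ (mul_mem hy (K.c_conj_AA H B hy)) (K.c_conj_AA H B (K.c_conj_AA H B hx))]

theorem nrm_one : nrm c 1 = 1 := by simp [nrm]

theorem nrm_z : nrm c z = z := by
  rw [nrm, K.z_conj H B.hc, K.z_conj H B.hc, H.S.sq_one, one_mul]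

theorem nrm_zb (e : Bool) : nrm c (zb z e) = zb z e := by
  cases e
  exacts [K.nrm_one H B, K.nrm_z H B]

theorem nrm_cases {x : G} (hx : x ∈ K.A0 H) : ∃ e : Bool, nrm c x = zb z e := by
  have h1 := K.c_conj_A0 H B hx
  have h2 := K.c_conj_A0 H B h1
  have h0 : P (nrm c x) = 0 := by
    rw [nrm, K.P_mul _ (mul_mem hx.1 h1.1) _ h2.1, K.P_mul _ hx.1 _ h1.1, K.P_c H B h1.1, K.P_c H B hx.1,
      Plane.wm_sum (K.P_lt x)]
  rcases K.eq_one_or_z H (mul_mem (mul_mem hx.1 h1.1) h2.1) h0 with e | e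
  exacts [⟨false, e⟩, ⟨true, e⟩]

theorem eq_of_nrm {x y : G} (hx : x ∈ K.A0 H) (hy : y ∈ K.A0 H) (hP : P x = P y) (hn : nrm c x = nrm c y) :
    x = y := by
  rcases K.P_eq H hx.1 hy.1 hP with e | e
  · exact e.symm
  · rw [e, K.nrm_mul H B (K.A0_le_AA H hx) (K.z_mem_AA H), K.nrm_z H B, left_eq_mul] at hn
    exact absurd hn H.S.ne_one

theorem nrm_conj {k x : G} (hk : k * c = c * k) : nrm c (k * x * k⁻¹) = k * nrm c x * k⁻¹ := by
  have e : ∀ y, c * (k * y * k⁻¹) * c⁻¹ = k * (c * y * c⁻¹) * k⁻¹ := fun y => by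
    calc c * (k * y * k⁻¹) * c⁻¹ = (c * k) * y * (c * k)⁻¹ := by group
      _ = (k * c) * y * (k * c)⁻¹ := by rw [hk]
      _ = _ := by group
  simp only [nrm]
  rw [e, e]
  group

/-- The numbering of the standard subgroup. -/
def num (_B : K.Basis H c b l) (n : ℕ) : G := apG (z :: ((List.range 6).map b ++ (List.range 4).map l)) n

theorem gens_mem : ∀ x ∈ z :: ((List.range 6).map b ++ (List.range 4).map l), x ∈ K.AA H := by
  intro x hx
  simp only [List.mem_cons, List.mem_append, List.mem_map, List.mem_range] at hx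
  rcases hx with rfl | ⟨i, hi, rfl⟩ | ⟨j, hj, rfl⟩
  exacts [K.z_mem_AA H, K.A0_le_AA H (B.b_mem i hi), B.l_mem j hj]

theorem num_mem (n : ℕ) : K.num H B n ∈ K.AA H := apG_mem (K.gens_mem H B) n

theorem num_xor (m n : ℕ) : K.num H B (m ^^^ n) = K.num H B m * K.num H B n :=
  apG_xor (fun _ ha _ hb => K.AA_comm H ha hb) (fun _ ha => K.AA_sq H ha) (K.gens_mem H B) m n

theorem num_zero : K.num H B 0 = 1 := apG_zero _

theorem num_one : K.num H B 1 = z := apG_two_pow _ 0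

theorem num_bit (e : Bool) : K.num H B (bitNat e) = zb z e := by
  cases e
  exacts [K.num_zero H B, K.num_one H B]

theorem num_b {i : ℕ} (hi : i < 6) : K.num H B (2 ^ (i + 1)) = b i := by
  rw [num, apG_two_pow]
  interval_cases i <;> rfl

theorem num_l {j : ℕ} (hj : j < 4) : K.num H B (128 <<< j) = l j := by
  rw [num, show 128 <<< j = 2 ^ (7 + j) by rw [Nat.shiftLeft_eq, pow_add]; rfl, apG_two_pow]
  interval_cases j <;> rfl

theorem num_even {i : ℕ} (hi : i < 64) : K.num H B (2 * i) = apG ((List.range 6).map b) i := by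
  rw [num, show 2 * i = 2 ^ 1 * i by rfl, apG_two_pow_mul, List.drop_one, List.tail_cons, apG_append,
    show i / 2 ^ ((List.range 6).map b).length = 0 by simpa using Nat.div_eq_of_lt hi, apG_zero, mul_one]

theorem num_high (m : ℕ) : K.num H B (128 * m) = apG ((List.range 4).map l) m := by
  rw [num, show 128 * m = 2 ^ 7 * m by rfl, apG_two_pow_mul]
  rfl

theorem sigma_facts : ∀ (L : List ℕ), (∀ i ∈ L, i < 6) → ∀ n,
    apG (L.map b) n ∈ K.A0 H ∧ P (apG (L.map b) n) = Plane.ap (L.map fun i => Plane.wOf (2 ^ i)) n ∧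
      nrm c (apG (L.map b) n) = 1
  | [], _, n => ⟨one_mem _, K.P_one H, K.nrm_one H B⟩
  | i :: L, h, n => by
    obtain ⟨h1, h2, h3⟩ := sigma_facts L (fun j hj => h j (List.mem_cons_of_mem _ hj)) (n / 2)
    have hi := h i List.mem_cons_self
    simp only [List.map_cons, apG, Plane.ap_cons]
    cases hb : Nat.beq (n % 2) 1
    · simp only [cond_false, one_mul, Bool.false_eq_true, if_false, Nat.zero_xor]
      exact ⟨h1, h2, h3⟩
    · simp only [cond_true, if_true]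
      refine ⟨mul_mem (B.b_mem i hi) h1, by rw [K.P_mul _ (B.b_mem i hi).1 _ h1.1, B.b_val i hi, h2], ?_⟩
      rw [K.nrm_mul H B (K.A0_le_AA H (B.b_mem i hi)) (K.A0_le_AA H h1), B.b_nrm i hi, h3, mul_one]

theorem num_plane {i : ℕ} (hi : i < 64) :
    K.num H B (2 * i) ∈ K.A0 H ∧ P (K.num H B (2 * i)) = Plane.wOf i ∧ nrm c (K.num H B (2 * i)) = 1 := by
  rw [K.num_even H B hi]
  obtain ⟨h1, h2, h3⟩ := K.sigma_facts H B (List.range 6) (fun j hj => List.mem_range.1 hj) i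
  exact ⟨h1, by rw [h2, (Thompson.wOf_spec i hi).2.2], h3⟩

theorem num_decomp {x : G} (hx : x ∈ K.A0 H) : x = K.num H B (2 * widx (P x)) * nrm c x := by
  obtain ⟨e, he⟩ := K.nrm_cases H B hx
  obtain ⟨hlt, hw⟩ := Thompson.widx_spec _ hx.2
  obtain ⟨h1, h2, h3⟩ := K.num_plane H B hlt
  have hzA : zb z e ∈ K.A0 H := by cases e; exacts [one_mem _, K.z_mem_A0 H]
  rw [he]
  refine K.eq_of_nrm H B hx (mul_mem h1 hzA) ?_ ?_
  · rw [K.P_mul _ h1.1 _ hzA.1, h2, hw, show P (zb z e) = 0 by cases e; exacts [K.P_one H, K.P_z H],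
      Nat.xor_zero]
  · rw [he, K.nrm_mul H B (K.A0_le_AA H h1) (K.A0_le_AA H hzA), h3, one_mul, K.nrm_zb H B]

theorem cols_l {j : ℕ} (hj : j < 4) (hl : l j ∈ Subgroup.centralizer ({z} : Set G)) :
    K.model.cols (QuotientGroup.mk' Q ⟨l j, hl⟩) = fixBasis.getD j [] :=
  K.model.cols_eq (Thompson.fixBasis_spec j hj).2 (B.l_act j hj hl)

theorem cols_high (m : ℕ) (hm : K.num H B (128 * m) ∈ Subgroup.centralizer ({z} : Set G)) :
    K.model.cols (QuotientGroup.mk' Q ⟨K.num H B (128 * m), hm⟩) = Thompson.apC fixBasis m := by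
  classical
  let l' : ℕ → ↥(Subgroup.centralizer ({z} : Set G)) := fun j => if h : j < 4 then ⟨l j, (B.l_mem j h).1⟩ else 1
  have hl' : ((List.range 4).map l').map (Subgroup.centralizer ({z} : Set G)).subtype = (List.range 4).map l := by
    rw [List.map_map]
    refine List.map_congr_left fun j hj => ?_
    simp [l', List.mem_range.1 hj]
  have he : (⟨K.num H B (128 * m), hm⟩ : ↥(Subgroup.centralizer ({z} : Set G))) = apG ((List.range 4).map l') m := by
    refine Subtype.ext ?_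
    have h := apG_hom (Subgroup.centralizer ({z} : Set G)).subtype ((List.range 4).map l') m
    rw [hl', ← K.num_high H B] at h
    exact h.symm
  rw [he, apG_hom]
  have hgen : ∀ (L : List ((Subgroup.centralizer ({z} : Set G)) ⧸ Q)) (n : ℕ),
      K.model.cols (apG L n) = Thompson.apC (L.map K.model.cols) n := by
    intro L
    induction L with
    | nil => intro n; exact K.model.cols_one
    | cons a L ih =>
      intro n
      simp only [apG, List.map_cons, Thompson.apC, K.model.cols_mul, ih]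
      cases Nat.beq (n % 2) 1 <;> simp [K.model.cols_one]
  rw [hgen, List.map_map, List.map_map]
  congr 1
  conv_rhs => rw [← Thompson.fixBasis_list]
  refine List.map_congr_left fun j hj => ?_
  simp only [Function.comp_apply, l', dif_pos (List.mem_range.1 hj)]
  exact K.cols_l H B (List.mem_range.1 hj) _

theorem num_surj {a : G} (ha : a ∈ K.AA H) : ∃ n, n < 2048 ∧ K.num H B n = a := by
  have hmk := K.mk_fixer H (c := ⟨a, ha.1⟩) ha
  have hk := K.model.cols_eq (Thompson.kerCols_idCols _ (K.model.fixer_spec hmk).1) (K.model.fixer_spec hmk).2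
  obtain ⟨m, hm, he⟩ := Thompson.apC_fixBasis _ (K.model.fixer_even hmk)
  have hL := K.num_mem H B (128 * m)
  have heq : QuotientGroup.mk' Q (⟨a, ha.1⟩ : ↥(Subgroup.centralizer ({z} : Set G))) =
      QuotientGroup.mk' Q ⟨K.num H B (128 * m), hL.1⟩ :=
    K.model.cols_inj (by rw [hk, he, K.cols_high H B m hL.1])
  have hx : a * K.num H B (128 * m) ∈ K.A0 H := by
    refine (K.AA_inf_big H).le (Subgroup.mem_inf.2 ⟨mul_mem ha hL,
      (H.mk_one ⟨a * K.num H B (128 * m), (mul_mem ha hL).1⟩).1 ?_⟩)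
    show QuotientGroup.mk' Q (⟨a, ha.1⟩ * ⟨K.num H B (128 * m), hL.1⟩ : ↥(Subgroup.centralizer ({z} : Set G))) = 1
    rw [map_mul, heq]
    exact K.model.fixer_sq (K.mk_fixer H (c := ⟨_, hL.1⟩) hL)
  obtain ⟨e, he'⟩ := K.nrm_cases H B hx
  have hd := K.num_decomp H B hx
  obtain ⟨hlt, -⟩ := Thompson.widx_spec _ hx.2
  refine ⟨(2 * widx (P (a * K.num H B (128 * m))) ^^^ bitNat e) ^^^ 128 * m, ?_, ?_⟩
  · exact Nat.xor_lt_two_pow (n := 11) (Nat.xor_lt_two_pow (n := 11) (by omega) (by cases e <;> decide)) (by omega)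
  · rw [K.num_xor H B, K.num_xor H B, K.num_bit H B, ← he', ← hd, mul_assoc, K.AA_sq H hL, mul_one]

omit B in
theorem exists_basis : ∃ c b l, K.Basis H c b l := by
  classical
  obtain ⟨ω, hωs, hωv, hωc⟩ := K.model.exists_omega
  obtain ⟨c₁, rfl⟩ := QuotientGroup.mk'_surjective Q ω
  obtain ⟨c, hmk, hcube⟩ : ∃ c : ↥(Subgroup.centralizer ({z} : Set G)),
      QuotientGroup.mk' Q c = QuotientGroup.mk' Q c₁ ∧ (c : G) * c * c = 1 := by
    have h3 : ((c₁ : G) * c₁ * c₁) ∈ big z Q := by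
      refine (H.mk_one (c₁ * c₁ * c₁)).1 (K.model.inj _ fun v hv => ?_)
      rw [map_mul, map_mul, K.model.mul _ _ v hv, K.model.mul _ _ _ (K.model.lt _ _ hv), hωv v hv,
        hωv _ (Plane.wm_lt hv), hωv _ (Plane.wm_lt (Plane.wm_lt hv)), Plane.wm_cube hv]
    have h0 : P ((c₁ : G) * c₁ * c₁) = 0 := by
      refine Plane.wm_eq_self (K.P_lt _) ?_
      rw [← hωv _ (K.P_lt _)]
      exact (K.P_act c₁ _ h3).symm.trans (congrArg P (by group))
    rcases K.eq_one_or_z H h3 h0 with e | e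
    · exact ⟨c₁, rfl, e⟩
    · have hzC := H.le H.S.mem
      refine ⟨c₁ * ⟨z, hzC⟩, ?_, ?_⟩
      · rw [map_mul, (H.mk_one ⟨z, hzC⟩).2 H.S.mem, mul_one]
      · have hc := Subgroup.mem_centralizer_singleton_iff.1 c₁.2
        show (c₁ : G) * z * ((c₁ : G) * z) * ((c₁ : G) * z) = 1
        calc (c₁ : G) * z * ((c₁ : G) * z) * ((c₁ : G) * z)
            = (c₁ : G) * (z * c₁) * (z * (c₁ * z)) := by group
          _ = (c₁ : G) * (c₁ * z) * (z * (z * c₁)) := by rw [← hc]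
          _ = (c₁ : G) * c₁ * (z * z) * (z * c₁) := by group
          _ = (c₁ : G) * c₁ * (c₁ * z) := by rw [H.S.sq_one, ← hc]; group
          _ = (c₁ : G) * c₁ * c₁ * z := by group
          _ = 1 := by rw [e, H.S.sq_one]
  rw [← hmk] at hωs hωv hωc
  have hcA0 : ∀ x ∈ K.A0 H, (c : G) * x * (c : G)⁻¹ ∈ K.A0 H := fun x hx => K.conj_A0 H hωs hx
  have hcAA : ∀ x ∈ K.AA H, (c : G) * x * (c : G)⁻¹ ∈ K.AA H := fun x hx => K.conj_AA H hωs hx
  have hPc : ∀ x ∈ big z Q, P ((c : G) * x * (c : G)⁻¹) = Plane.wm (P x) := fun x hx =>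
    (K.P_act c x hx).trans (hωv _ (K.P_lt x))
  have hcz : (c : G) * z * (c : G)⁻¹ = z := K.z_conj H c.2
  -- the lifts in the plane
  have hb : ∀ i, ∃ x, i < 6 → x ∈ K.A0 H ∧ P x = Plane.wOf (2 ^ i) ∧ nrm (c : G) x = 1 := by
    intro i
    by_cases hi : i < 6
    swap
    · exact ⟨1, fun h => absurd h hi⟩
    have hw := (Thompson.wOf_spec (2 ^ i) (Nat.pow_lt_pow_right (by norm_num) hi)).1
    obtain ⟨x, hx, hxv⟩ := K.P_surj _ (Plane.plane_facts hw).1
    have hx0 : x ∈ K.A0 H := ⟨hx, hxv ▸ hw⟩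
    have h1 := hcA0 x hx0
    have h2 := hcA0 _ h1
    have h0 : P (nrm (c : G) x) = 0 := by
      rw [nrm, K.P_mul _ (mul_mem hx0.1 h1.1) _ h2.1, K.P_mul _ hx0.1 _ h1.1, hPc _ h1.1, hPc _ hx0.1,
        Plane.wm_sum (K.P_lt x)]
    rcases K.eq_one_or_z H (mul_mem (mul_mem hx0.1 h1.1) h2.1) h0 with e | e
    · exact ⟨x, fun _ => ⟨hx0, hxv, e⟩⟩
    · refine ⟨x * z, fun _ => ⟨mul_mem hx0 (K.z_mem_A0 H), by rw [K.P_mul x hx z H.S.mem, K.P_z H, Nat.xor_zero, hxv], ?_⟩⟩
      have hzx : ∀ y ∈ K.A0 H, z * y = y * z := fun y hy => K.A0_comm H (K.z_mem_A0 H) hy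
      simp only [nrm] at e ⊢
      rw [show (c : G) * (x * z) * (c : G)⁻¹ = (c : G) * x * (c : G)⁻¹ * ((c : G) * z * (c : G)⁻¹) by group, hcz,
        show (c : G) * ((c : G) * x * (c : G)⁻¹ * z) * (c : G)⁻¹ =
          (c : G) * ((c : G) * x * (c : G)⁻¹) * (c : G)⁻¹ * ((c : G) * z * (c : G)⁻¹) by group, hcz]
      calc x * z * ((c : G) * x * (c : G)⁻¹ * z) * ((c : G) * ((c : G) * x * (c : G)⁻¹) * (c : G)⁻¹ * z)
          = x * (z * ((c : G) * x * (c : G)⁻¹)) * z * ((c : G) * ((c : G) * x * (c : G)⁻¹) * (c : G)⁻¹) * z := by group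
        _ = x * ((c : G) * x * (c : G)⁻¹) * (z * z) * ((c : G) * ((c : G) * x * (c : G)⁻¹) * (c : G)⁻¹) * z := by
            rw [hzx _ h1]; group
        _ = 1 := by rw [H.S.sq_one, mul_one, e, H.S.sq_one]
  choose b hb using hb
  -- the lifts fixed by the element of order three
  have hl : ∀ j, ∃ x, j < 4 → x ∈ K.AA H ∧ (∀ hx : x ∈ Subgroup.centralizer ({z} : Set G), ∀ v, v < 4096 →
      f (QuotientGroup.mk' Q ⟨x, hx⟩) v = Plane.ap (fixBasis.getD j []) v) ∧
      (c : G) * x * (c : G)⁻¹ = x ∧ (IsConj z x → IsConj z (x * z)) := by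
    intro j
    by_cases hj : j < 4
    swap
    · exact ⟨1, fun h => absurd h hj⟩
    obtain ⟨γ, hγ⟩ := K.model.real_evenSpan (Thompson.fixBasis_spec j hj).1
    have hγf := K.model.mem_fixer_of_evenSpan (Thompson.fixBasis_spec j hj).1 hγ
    obtain ⟨a, ha, hamk⟩ := K.mkOn_surj H hγf
    set x := (a : G) * ((c : G) * a * (c : G)⁻¹) * ((c : G) * ((c : G) * a * (c : G)⁻¹) * (c : G)⁻¹) with hxdef
    have hx : x ∈ K.AA H := mul_mem (mul_mem ha (hcAA _ ha)) (hcAA _ (hcAA _ ha))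
    have hxmk : ∀ hx' : x ∈ Subgroup.centralizer ({z} : Set G), QuotientGroup.mk' Q ⟨x, hx'⟩ = γ := by
      intro hx'
      have he : (⟨x, hx'⟩ : ↥(Subgroup.centralizer ({z} : Set G))) = a * (c * a * c⁻¹) * (c * (c * a * c⁻¹) * c⁻¹) :=
        rfl
      rw [he]
      simp only [map_mul, map_inv, hamk]
      have hgg : QuotientGroup.mk' Q c * γ * (QuotientGroup.mk' Q c)⁻¹ = γ := by
        rw [← hωc γ (K.model.fixer_le_linG hγf), mul_inv_cancel_right]
      rw [hgg, hgg, K.model.fixer_sq hγf, one_mul]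
    have hxfix : (c : G) * x * (c : G)⁻¹ = x := by
      have h3 : (c : G) * ((c : G) * ((c : G) * a * (c : G)⁻¹) * (c : G)⁻¹) * (c : G)⁻¹ = a := by
        calc (c : G) * ((c : G) * ((c : G) * a * (c : G)⁻¹) * (c : G)⁻¹) * (c : G)⁻¹
            = (c : G) * c * c * a * ((c : G) * c * c)⁻¹ := by group
          _ = a := by rw [hcube, inv_one, one_mul, mul_one]
      rw [hxdef, show (c : G) * ((a : G) * ((c : G) * a * (c : G)⁻¹) *
          ((c : G) * ((c : G) * a * (c : G)⁻¹) * (c : G)⁻¹)) * (c : G)⁻¹ = ((c : G) * a * (c : G)⁻¹) *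
          ((c : G) * ((c : G) * a * (c : G)⁻¹) * (c : G)⁻¹) *
          ((c : G) * ((c : G) * ((c : G) * a * (c : G)⁻¹) * (c : G)⁻¹) * (c : G)⁻¹) by group, h3,
        ← K.AA_comm H ha (mul_mem (hcAA _ ha) (hcAA _ (hcAA _ ha)))]
      group
    by_cases hnorm : IsConj z x → IsConj z (x * z)
    · exact ⟨x, fun _ => ⟨hx, fun hx' v hv => by rw [hxmk hx']; exact hγ v hv, hxfix, hnorm⟩⟩
    · rw [Classical.not_imp] at hnorm
      refine ⟨x * z, fun _ => ⟨mul_mem hx (K.z_mem_AA H), fun hx' v hv => ?_, ?_, fun hh => absurd hh hnorm.2⟩⟩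
      · have he : (⟨x * z, hx'⟩ : ↥(Subgroup.centralizer ({z} : Set G))) = ⟨x, hx.1⟩ * ⟨z, H.le H.S.mem⟩ := rfl
        rw [he, map_mul, (H.mk_one ⟨z, _⟩).2 H.S.mem, mul_one, hxmk hx.1]
        exact hγ v hv
      · rw [show (c : G) * (x * z) * (c : G)⁻¹ = (c : G) * x * (c : G)⁻¹ * ((c : G) * z * (c : G)⁻¹) by group,
          hxfix, hcz]
  choose l hl using hl
  exact ⟨c, b, l, ⟨c.2, hcube, hωv, hωc, fun i hi => (hb i hi).1, fun i hi => (hb i hi).2.1,
    fun i hi => (hb i hi).2.2, fun j hj => (hl j hj).1, fun j hj => (hl j hj).2.1, fun j hj => (hl j hj).2.2.1,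
    fun j hj => (hl j hj).2.2.2⟩⟩

end Coord

end CfsgLib.LargeFischer
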