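import Cfsg.Agent.Lib.LargeFischer.ThompsonData

/-!
The statements on the Thompson subgroup from coordinates on the standard elementary abelian subgroup.
-/

set_option autoImplicit false
set_option linter.unusedSectionVars false
set_option linter.style.haveILetI false

namespace CfsgLib.LargeFischer

open Cfsg
open CfsgLib.F2Quad (Vec)
open scoped Pointwise

variable {G : Type*} [Group G] [Finite G]

namespace Coord

variable {z : G} {Q : Subgroup (Subgroup.centralizer ({z} : Set G))} [Q.Normal]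
  {ρ : (Subgroup.centralizer ({z} : Set G)) ⧸ Q →* (Vec 6 ≃ₗ[ZMod 2] Vec 6)} {qf : Vec 6 → ZMod 2}
  {p : G → Vec 6} {u w : Vec 6} (H : Hyp z Q ρ qf p u w)
  {f : (Subgroup.centralizer ({z} : Set G)) ⧸ Q → ℕ → ℕ} {P : G → ℕ} (K : Coord z Q f P)
include H K

/-- Coordinates on the standard elementary abelian subgroup with the non-central involutions as duads. -/
def HasDuads : Prop :=
  ∃ e : K.AA H ≃ Fin 2048, (∀ a b : K.AA H, (e (a * b)).val = (e a).val ^^^ (e b).val) ∧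
    ∀ a : K.AA H, ((a : G) ≠ 1 ∧ ¬ IsConj z (a : G)) ↔ (e a).val ∈ Thompson.duads

variable (T : Sylow 2 G) (A M : Subgroup G)

theorem normalizer_body (hd : K.HasDuads H) (hA : A = thompsonSubgroupOf 2 (T : Subgroup G))
    (hM : M = Subgroup.normalizer (A : Set G)) :
    Cfsg.IsElementaryAbelian 2 A ∧ Nat.card A = 2 ^ 11 ∧
      ∃ _ : (A.subgroupOf M).Normal, Nonempty (↥M ⧸ A.subgroupOf M ≃* ↥Cfsg.M24) := by
  obtain ⟨e, hmul, hduad⟩ := hd
  obtain ⟨A', z₁, hJ, -, -, -, -, ⟨h⟩⟩ := K.exists_setup H e hmul hduad T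
  rw [hJ] at hA
  subst hA hM
  exact ⟨h.isElementaryAbelian, h.card_eq, h.normalizer_quotient⟩

theorem orbits_body (hd : K.HasDuads H) (hA : A = thompsonSubgroupOf 2 (T : Subgroup G))
    (hM : M = Subgroup.normalizer (A : Set G)) :
    (∀ a ∈ A, ∀ g : G, g * a * g⁻¹ ∈ A → ∃ m ∈ M, m * a * m⁻¹ = g * a * g⁻¹) ∧
      (∃ a ∈ A, a ≠ 1 ∧ IsConj z a) ∧ (∃ a ∈ A, a ≠ 1 ∧ ¬ IsConj z a) ∧
      ∀ a ∈ A, ∀ b ∈ A, a ≠ 1 → b ≠ 1 → (IsConj z a ↔ IsConj z b) → ∃ m ∈ M, m * a * m⁻¹ = b := by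
  obtain ⟨e, hmul, hduad⟩ := hd
  obtain ⟨A', z₁, hJ, hu, hzz, hzA, hz1, ⟨h⟩⟩ := K.exists_setup H e hmul hduad T
  rw [hJ] at hA
  subst hA hM
  obtain ⟨h1, ⟨a, ha, ha1, haz⟩, ⟨b, hb, hb1, hbz⟩, h4⟩ := Thompson.two_orbits hu hzA hz1 h
  refine ⟨h1, ⟨a, ha, ha1, hzz.trans haz⟩, ⟨b, hb, hb1, fun hh => hbz (hzz.symm.trans hh)⟩,
    fun x hx y hy hx1 hy1 hiff => h4 x hx y hy hx1 hy1 ⟨fun hh => ?_, fun hh => ?_⟩⟩
  · exact hzz.symm.trans (hiff.1 (hzz.trans hh))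
  · exact hzz.symm.trans (hiff.2 (hzz.trans hh))

theorem centralizer_body (hd : K.HasDuads H) (hA : A = thompsonSubgroupOf 2 (T : Subgroup G))
    (hM : M = Subgroup.normalizer (A : Set G)) (t : G) (htA : t ∈ A) (ht2 : orderOf t = 2) (ht : ¬ IsConj z t) :
    ∃ _ : (A.subgroupOf (M ⊓ Subgroup.centralizer ({t} : Set G))).Normal,
      Nonempty (↥(M ⊓ Subgroup.centralizer ({t} : Set G)) ⧸
        A.subgroupOf (M ⊓ Subgroup.centralizer ({t} : Set G)) ≃*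
        ↥(Cfsg.M24 ⊓ MulAction.stabilizer (Equiv.Perm Cfsg.GolayPt) ({none, some 0} : Set Cfsg.GolayPt))) := by
  obtain ⟨e, hmul, hduad⟩ := hd
  obtain ⟨A', z₁, hJ, -, hzz, -, -, ⟨h⟩⟩ := K.exists_setup H e hmul hduad T
  rw [hJ] at hA
  subst hA
  refine h.centralizer_quotient M hM t htA ⟨fun e' => ?_, fun hh => ht (hzz.trans hh)⟩
  rw [e', orderOf_one] at ht2
  omega

end Coord

end CfsgLib.LargeFischer
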