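import Cfsg.Prelude.Def_Transfer

/-!
Fusion in a largest elementary abelian subgroup that is unique in a Sylow subgroup, and the order of
its normaliser from one class.
-/

set_option autoImplicit false
set_option linter.style.haveILetI false

namespace CfsgLib.LargeFischer.Thompson

open Cfsg
open scoped Pointwise

variable {G : Type*} [Group G]

/-- `A` is the only elementary abelian subgroup of its order in the Sylow subgroup `T`. -/
def UniqueEA (p : ℕ) (T : Sylow p G) (A : Subgroup G) : Prop :=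
  A ≤ (T : Subgroup G) ∧ IsElementaryAbelian p A ∧
    ∀ B : Subgroup G, B ≤ (T : Subgroup G) → IsElementaryAbelian p B → Nat.card A ≤ Nat.card B → B = A

theorem isEA_conj {p : ℕ} {B : Subgroup G} (hB : IsElementaryAbelian p B) (g : G) :
    IsElementaryAbelian p (B.map (MulAut.conj g).toMonoidHom) := by
  obtain ⟨hc, hp⟩ := hB
  refine ⟨⟨⟨fun x y => ?_⟩⟩, ?_⟩
  · obtain ⟨_, a, ha, rfl⟩ := x
    obtain ⟨_, b, hb, rfl⟩ := y
    apply Subtype.ext
    show MulAut.conj g a * MulAut.conj g b = MulAut.conj g b * MulAut.conj g a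
    rw [← map_mul, ← map_mul]
    exact congrArg _ (congrArg Subtype.val (hc.is_comm.comm ⟨a, ha⟩ ⟨b, hb⟩))
  · rintro _ ⟨a, ha, rfl⟩
    rw [← map_pow, hp a ha, map_one]

theorem mem_map_conj {B : Subgroup G} {g x : G} :
    x ∈ B.map (MulAut.conj g).toMonoidHom ↔ g⁻¹ * x * g ∈ B := by
  rw [Subgroup.mem_map_equiv, MulAut.conj_symm_apply]

namespace UniqueEA

variable [Finite G] {p : ℕ} [Fact p.Prime] {T : Sylow p G} {A : Subgroup G} (h : UniqueEA p T A)
include h

/-- Two conjugates inside one `p`-subgroup are equal. -/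
theorem eq_of_le {P : Subgroup G} (hP : IsPGroup p P) (h1 : A ≤ P) {g : G}
    (h2 : A.map (MulAut.conj g).toMonoidHom ≤ P) : A.map (MulAut.conj g).toMonoidHom = A := by
  obtain ⟨R, hR⟩ := hP.exists_le_sylow
  obtain ⟨c, hc⟩ := MulAction.exists_smul_eq G R T
  have hmem : ∀ x ∈ (R : Subgroup G), c * x * c⁻¹ ∈ (T : Subgroup G) := by
    intro x hx
    rw [← hc, Sylow.smul_def]
    exact Subgroup.smul_mem_pointwise_smul x (MulAut.conj c) _ hx
  have key : ∀ B : Subgroup G, B ≤ P → IsElementaryAbelian p B → Nat.card A ≤ Nat.card B →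
      B.map (MulAut.conj c).toMonoidHom = A := by
    intro B hBP hB hcard
    refine h.2.2 _ ?_ (isEA_conj hB c) ?_
    · rintro _ ⟨x, hx, rfl⟩
      exact hmem x (hR (hBP hx))
    · exact hcard.trans (Subgroup.card_map_of_injective (MulAut.conj c).injective).ge
  have e1 := key A h1 h.2.1 le_rfl
  have e2 := key _ h2 (isEA_conj h.2.1 g) (Subgroup.card_map_of_injective (MulAut.conj g).injective).ge
  exact Subgroup.map_injective (MulAut.conj c).injective (e2.trans e1.symm)

/-- The normaliser controls fusion. -/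
theorem fusion {a : G} (ha : a ∈ A) (g : G) (hg : g * a * g⁻¹ ∈ A) :
    ∃ m ∈ Subgroup.normalizer (A : Set G), m * a * m⁻¹ = g * a * g⁻¹ := by
  set b := g * a * g⁻¹ with hb
  set C := Subgroup.centralizer ({b} : Set G)
  have hA1 : A ≤ C := fun x hx => Subgroup.mem_centralizer_singleton_iff.2
    (congrArg Subtype.val (h.2.1.1.is_comm.comm ⟨x, hx⟩ ⟨b, hg⟩))
  set A' := A.map (MulAut.conj g).toMonoidHom with hA'
  have hA2 : A' ≤ C := by
    rintro _ ⟨x, hx, rfl⟩
    refine Subgroup.mem_centralizer_singleton_iff.2 ?_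
    show MulAut.conj g x * MulAut.conj g a = MulAut.conj g a * MulAut.conj g x
    rw [← map_mul, ← map_mul]
    exact congrArg _ (congrArg Subtype.val (h.2.1.1.is_comm.comm ⟨x, hx⟩ ⟨a, ha⟩))
  have hpA : IsPGroup p A := T.isPGroup'.to_le h.1
  obtain ⟨P, hP⟩ := ((hpA.comap_of_injective C.subtype C.subtype_injective)).exists_le_sylow
  obtain ⟨Q, hQ⟩ := (((hpA.map (MulAut.conj g).toMonoidHom).comap_of_injective C.subtype
    C.subtype_injective)).exists_le_sylow
  obtain ⟨c, hc⟩ := MulAction.exists_smul_eq C Q P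
  have hle : A.map (MulAut.conj ((c : G) * g)).toMonoidHom ≤ (P : Subgroup C).map C.subtype := by
    rintro _ ⟨x, hx, rfl⟩
    have hx' : g * x * g⁻¹ ∈ A' := ⟨x, hx, rfl⟩
    refine ⟨c * ⟨g * x * g⁻¹, hA2 hx'⟩ * c⁻¹, ?_, ?_⟩
    · rw [← hc, Sylow.smul_def]
      exact Subgroup.smul_mem_pointwise_smul _ (MulAut.conj c) _ (hQ (Subgroup.mem_comap.2 hx'))
    · show (c : G) * (g * x * g⁻¹) * (c : G)⁻¹ = ((c : G) * g) * x * ((c : G) * g)⁻¹
      group
  have heq := h.eq_of_le (P.isPGroup'.map C.subtype)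
    (fun x hx => ⟨⟨x, hA1 hx⟩, hP (Subgroup.mem_comap.2 hx), rfl⟩) hle
  refine ⟨(c : G) * g, Subgroup.mem_normalizer_fintype fun x hx => ?_, ?_⟩
  · rw [SetLike.mem_coe] at hx ⊢
    rw [← heq]
    exact ⟨x, hx, rfl⟩
  · have hcb := Subgroup.mem_centralizer_singleton_iff.1 c.2
    calc (c : G) * g * a * ((c : G) * g)⁻¹ = (c : G) * b * (c : G)⁻¹ := by rw [hb]; group
      _ = b := by rw [hcb, mul_assoc, mul_inv_cancel, mul_one]

/-- The order of the normaliser from the class of one element of `A`. -/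
theorem card_normalizer {a : G} (ha : a ∈ A) :
    Nat.card ↥(Subgroup.normalizer (A : Set G)) = {b : G | b ∈ A ∧ IsConj a b}.ncard *
      Nat.card ↥(Subgroup.normalizer (A : Set G) ⊓ Subgroup.centralizer ({a} : Set G)) := by
  set N := Subgroup.normalizer (A : Set G)
  let ψ : ↥N →* MulAut G := MulAut.conj.comp N.subtype
  letI : MulAction ↥N G := MulAction.compHom G ψ
  have hsmul : ∀ (n : ↥N) (x : G), n • x = (n : G) * x * (n : G)⁻¹ := fun n x => rfl
  have horb : MulAction.orbit ↥N a = {b : G | b ∈ A ∧ IsConj a b} := by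
    ext b
    rw [MulAction.mem_orbit_iff, Set.mem_ofPred_eq]
    constructor
    · rintro ⟨n, rfl⟩
      rw [hsmul]
      exact ⟨(Subgroup.mem_normalizer_iff.1 n.2 a).1 ha, isConj_iff.2 ⟨n, rfl⟩⟩
    · rintro ⟨hb, hab⟩
      obtain ⟨g, rfl⟩ := isConj_iff.1 hab
      obtain ⟨m, hm, hme⟩ := h.fusion ha g hb
      exact ⟨⟨m, hm⟩, by rw [hsmul]; exact hme⟩
  have hstab : MulAction.stabilizer ↥N a = (N ⊓ Subgroup.centralizer ({a} : Set G)).subgroupOf N := by
    ext n
    rw [MulAction.mem_stabilizer_iff, hsmul, Subgroup.mem_subgroupOf, Subgroup.mem_inf,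
      Subgroup.mem_centralizer_singleton_iff, mul_inv_eq_iff_eq_mul]
    exact ⟨fun e => ⟨n.2, e⟩, fun e => e.2⟩
  have h1 := Subgroup.index_mul_card (MulAction.stabilizer ↥N a)
  rw [MulAction.index_stabilizer, horb] at h1
  rw [← h1, hstab, Nat.card_congr (Subgroup.subgroupOfEquivOfLe inf_le_left).toEquiv]

/-- Two elements of `A` are conjugate under the normaliser if they are conjugate. -/
theorem conj_iff {a b : G} (ha : a ∈ A) (hb : b ∈ A) :
    IsConj a b ↔ ∃ m ∈ Subgroup.normalizer (A : Set G), m * a * m⁻¹ = b := by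
  constructor
  · intro hab
    obtain ⟨g, rfl⟩ := isConj_iff.1 hab
    exact h.fusion ha g hb
  · rintro ⟨m, -, rfl⟩
    exact isConj_iff.2 ⟨m, rfl⟩

end UniqueEA

/-- The hypothesis for the Thompson subgroup of a Sylow subgroup with one largest elementary subgroup. -/
theorem thompsonSubgroupOf_eq [Finite G] {p : ℕ} {T : Sylow p G} {A₀ : Subgroup ↥(T : Subgroup G)}
    (h : maxElementaryAbelianSubgroups p ↥(T : Subgroup G) = {A₀}) :
    thompsonSubgroupOf p (T : Subgroup G) = A₀.map (T : Subgroup G).subtype ∧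
      UniqueEA p T (A₀.map (T : Subgroup G).subtype) := by
  have hA₀ : A₀ ∈ maxElementaryAbelianSubgroups p ↥(T : Subgroup G) := h ▸ Set.mem_singleton A₀
  refine ⟨?_, Subgroup.map_subtype_le _, ?_, fun B hB hBe hcard => ?_⟩
  · rw [thompsonSubgroupOf, thompsonSubgroup, h, sSup_singleton]
  · refine ⟨⟨⟨fun x y => ?_⟩⟩, ?_⟩
    · obtain ⟨_, a, ha, rfl⟩ := x
      obtain ⟨_, b, hb, rfl⟩ := y
      apply Subtype.ext
      show ((a * b : ↥(T : Subgroup G)) : G) = ((b * a : ↥(T : Subgroup G)) : G)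
      exact congrArg Subtype.val
        (congrArg Subtype.val (hA₀.1.1.is_comm.comm ⟨a, ha⟩ ⟨b, hb⟩))
    · rintro _ ⟨a, ha, rfl⟩
      rw [← map_pow, hA₀.1.2 a ha, map_one]
  · have hmap : (B.subgroupOf (T : Subgroup G)).map (T : Subgroup G).subtype = B :=
      Subgroup.map_subgroupOf_eq_of_le hB
    have hcardB : Nat.card ↥(B.subgroupOf (T : Subgroup G)) = Nat.card B :=
      Nat.card_congr (Subgroup.subgroupOfEquivOfLe hB).toEquiv
    have hmem : B.subgroupOf (T : Subgroup G) ∈ maxElementaryAbelianSubgroups p ↥(T : Subgroup G) := by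
      refine ⟨⟨⟨⟨fun x y => ?_⟩⟩, fun a ha => Subtype.ext ?_⟩, fun D hD => ?_⟩
      · exact Subtype.ext (Subtype.ext (by
          have := congrArg Subtype.val (hBe.1.is_comm.comm ⟨_, x.2⟩ ⟨_, y.2⟩)
          exact this))
      · exact hBe.2 _ ha
      · rw [Subgroup.card_map_of_injective (Subgroup.subtype_injective _)] at hcard
        exact (hA₀.2 D hD).trans (hcard.trans hcardB.ge)
    rw [h, Set.mem_singleton_iff] at hmem
    rw [← hmap, hmem]

end CfsgLib.LargeFischer.Thompson
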