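import Cfsg.Agent.Lib.LargeFischer.ThompsonGlue
import Cfsg.Agent.Lib.LargeFischer.ThompsonCount

/-!
The model from the data at the central involution: the order of the normaliser follows by counting the
1771 conjugates of the central involution.
-/

set_option autoImplicit false

namespace CfsgLib.LargeFischer.Thompson

open Cfsg

variable {G : Type*} [Group G] [Finite G] {T : Sylow 2 G} {A : Subgroup G}

theorem duads_card : duads.toFinset.card = 276 := by decide +kernel

/-- The data give a model, with the non-central involutions as the duads. -/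
theorem exists_model (hu : UniqueEA 2 T A) {z : G} (hzA : z ∈ A) (hz1 : z ≠ 1) (e : A ≃ Fin 2048)
    (hmul : ∀ a b : A, (e (a * b)).val = (e a).val ^^^ (e b).val)
    (hduad : ∀ a : A, ((a : G) ≠ 1 ∧ ¬ IsConj z (a : G)) ↔ (e a).val ∈ duads)
    (hC : Subgroup.centralizer ({z} : Set G) ⊓ Subgroup.centralizer (A : Set G) ≤ A)
    (hN : Nat.card ↥(Subgroup.normalizer (A : Set G) ⊓ Subgroup.centralizer ({z} : Set G)) =
      2048 * 138240) :
    Nonempty (Model A fun a => a ≠ 1 ∧ ¬ IsConj z a) := by
  classical
  have hclass : {b : G | b ∈ A ∧ IsConj z b}.ncard = 1771 := by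
    have himg : {b : G | b ∈ A ∧ IsConj z b} =
        (fun x : Fin 2048 => ((e.symm x : A) : G)) ''
          {x : Fin 2048 | x.val ∉ duads ∧ x ≠ e 1} := by
      ext b
      constructor
      · rintro ⟨hb, hzb⟩
        refine ⟨e ⟨b, hb⟩, ⟨fun h => ((hduad ⟨b, hb⟩).2 h).2 hzb, fun h => ?_⟩,
          congrArg Subtype.val (e.symm_apply_apply ⟨b, hb⟩)⟩
        have hb1 : b = 1 := congrArg Subtype.val (e.injective h)
        subst hb1
        exact hz1 (isConj_one_left.1 hzb)
      · rintro ⟨x, ⟨hxd, hx1⟩, rfl⟩
        refine ⟨(e.symm x).2, ?_⟩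
        by_contra hnc
        have h1 : ((e.symm x : A) : G) ≠ 1 := fun h => hx1 (by
          rw [← e.apply_symm_apply x]
          exact congrArg e (Subtype.ext h))
        have h2 := (hduad (e.symm x)).1 ⟨h1, hnc⟩
        rw [e.apply_symm_apply] at h2
        exact hxd h2
    rw [himg, Set.ncard_image_of_injective _ fun x y h => e.symm.injective (Subtype.ext h)]
    have he1 : (e 1).val = 0 := by
      have h1 := hmul 1 1
      rw [one_mul, Nat.xor_self] at h1
      exact h1
    have hset : {x : Fin 2048 | x.val ∉ duads ∧ x ≠ e 1} =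
        ↑((Finset.univ : Finset (Fin 2048)).filter fun x => x.val ∉ duads.toFinset ∧ x.val ≠ 0) := by
      ext x
      simp only [Finset.coe_filter, Finset.mem_univ, true_and, List.mem_toFinset, Set.mem_ofPred_eq,
        ne_eq, Fin.ext_iff, he1]
    rw [hset, Set.ncard_coe_finset]
    have himg2 : ((Finset.univ : Finset (Fin 2048)).filter fun x => x.val ∉ duads.toFinset ∧ x.val ≠ 0).map
        Fin.valEmbedding = Finset.range 2048 \ insert 0 duads.toFinset := by
      ext n
      simp only [Finset.mem_map, Finset.mem_filter, Finset.mem_univ, true_and, Finset.mem_sdiff,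
        Finset.mem_range, Finset.mem_insert, not_or, Fin.valEmbedding_apply]
      constructor
      · rintro ⟨x, ⟨h1, h2⟩, rfl⟩
        exact ⟨x.isLt, h2, h1⟩
      · rintro ⟨hn, h2, h1⟩
        exact ⟨⟨n, hn⟩, ⟨h1, h2⟩, rfl⟩
    rw [← Finset.card_map Fin.valEmbedding, himg2, Finset.card_sdiff_of_subset (by
      intro n hn
      rcases Finset.mem_insert.1 hn with rfl | h
      · simp
      · exact Finset.mem_range.2 (by simpa using lt_of_mem_duads (List.mem_toFinset.1 h))),
      Finset.card_range, Finset.card_insert_of_notMem (by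
        rw [List.mem_toFinset]; exact zero_notMem_duads), duads_card]
  refine ⟨⟨e, hmul, fun g hg => hC ?_, ?_, hduad, ?_⟩⟩
  · obtain ⟨-, hgA⟩ := Subgroup.mem_inf.1 hg
    exact Subgroup.mem_inf.2 ⟨Subgroup.mem_centralizer_singleton_iff.2
      (Subgroup.mem_centralizer_iff.1 hgA z hzA).symm, hgA⟩
  · rw [hu.card_normalizer hzA, hclass, hN]
  · rintro g a ⟨h1, h2⟩
    refine ⟨fun h => h1 (conj_eq_one_iff.1 h), fun h => h2 (h.trans ?_)⟩
    exact isConj_iff.2 ⟨g⁻¹, by group⟩

end CfsgLib.LargeFischer.Thompson
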