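import Cfsg.Agent.Lib.LargeFischer.ThompsonClassChecks

/-!
The class of the central involution in the model is the complement of the duads.
-/

set_option autoImplicit false

namespace CfsgLib.LargeFischer.Thompson

open Plane CfsgLib.Golay

namespace ClassFn

variable {F : ℕ → Bool} (h : ClassFn F)
include h

theorem step {n : ℕ} (hn : n < 2048) (h128 : 128 ≤ n) :
    128 ≤ prd n ∧ prd n < 2048 ∧ F (prd n) = F n := by
  have hc := allR_spec tree_check n (Nat.zero_le _) (by simpa using hn)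
  simp only [Bool.or_eq_true, Bool.and_eq_true, Nat.blt_eq, Nat.ble_eq, Nat.beq_eq] at hc
  obtain ⟨⟨⟨h1, h2⟩, h3⟩, -⟩ := hc.resolve_left (by omega)
  refine ⟨h1, h2, ?_⟩
  rcases h3 with e | ⟨hg, e⟩
  · rw [e]
  · conv_rhs => rw [← e]
    rw [← eq_of_beq maps_check]
    by_cases h12 : gen n < 12
    · rw [List.getD_append _ _ _ _ (by simpa using h12), List.getD_eq_getElem _ _ (by simpa using h12),
        List.getElem_map, List.getElem_range,
        h.qinv _ (lt_of_lt_of_le (Nat.pow_lt_pow_right (by norm_num) h12) le_rfl) _ h2]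
    · rw [show gen n = 12 by omega]
      show F (prd n) = F (ap oCols (prd n))
      rw [h.oinv _ h2]

theorem at_root {n : ℕ} (hn : n < 2048) (h128 : 128 ≤ n) : F n = F (root n) := by
  obtain ⟨a1, b1, c1⟩ := h.step hn h128
  obtain ⟨a2, b2, c2⟩ := h.step b1 a1
  obtain ⟨a3, b3, c3⟩ := h.step b2 a2
  obtain ⟨a4, b4, c4⟩ := h.step b3 a3
  obtain ⟨-, -, c5⟩ := h.step b4 a4
  rw [← c1, ← c2, ← c3, ← c4, ← c5]
  rfl

omit h in
theorem root_cases {n : ℕ} (hn : n < 2048) (h128 : 128 ≤ n) : root n = 128 * (root n / 128) ∨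
    root n = 128 * (root n / 128) + 1 ∨ root n = longRep (root n / 128) := by
  have hc := allR_spec tree_check n (Nat.zero_le _) (by simpa using hn)
  simp only [Bool.or_eq_true, Bool.and_eq_true, Nat.blt_eq, Nat.ble_eq, Nat.beq_eq] at hc
  rcases (hc.resolve_left (by omega)).2 with (e | e) | e
  exacts [Or.inl e, Or.inr (Or.inl e), Or.inr (Or.inr e)]

theorem low_eq {n : ℕ} (hn : n < 128) : F n = lowF n := by
  unfold lowF
  by_cases h0 : n = 0
  · subst h0; exact h.zero
  by_cases h1 : n = 1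
  · subst h1; exact h.one
  obtain ⟨he, ho⟩ := h.small (n / 2) (by omega) (by omega)
  have e : (Nat.beq n 0) = false ∧ (Nat.beq n 1) = false := by
    constructor <;> rw [Bool.eq_false_iff] <;> simp [Nat.beq_eq, h0, h1]
  rw [e.1, e.2, cond_false, cond_false]
  rcases Nat.even_or_odd n with ⟨i, rfl⟩ | ⟨i, rfl⟩
  · rw [show i + i = 2 * i by omega, show 2 * i / 2 = i by omega] at *
    exact he
  · rw [show (2 * i + 1) / 2 = i by omega] at *
    exact ho

/-- The images of the three representatives over an index. -/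
theorem move {k m : ℕ} (hk : k < 4) (hm1 : 1 ≤ m) (hm : m ≤ 15) :
    1 ≤ permOn k m ∧ permOn k m ≤ 15 ∧ F (longRep (permOn k m)) = F (longRep m) ∧
      ∃ δ, δ < 16 ∧ (∀ j, 1 ≤ j → j ≤ 15 →
        F (128 * j) = F (128 * permOn k j + bitNat (parB (δ &&& j))) ∧
        F (128 * j + 1) = F (128 * permOn k j + bitNat (!(parB (δ &&& j))))) := by
  obtain ⟨δ, hδ, hF⟩ := h.kinv k hk
  have hall : ∀ j, 1 ≤ j → j ≤ 15 → 1 ≤ permOn k j ∧ permOn k j ≤ 15 ∧
      F (longRep (permOn k j)) = F (longRep j) ∧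
      F (128 * j) = F (128 * permOn k j + bitNat (parB (δ &&& j))) ∧
      F (128 * j + 1) = F (128 * permOn k j + bitNat (!(parB (δ &&& j)))) := by
    intro j hj1 hj
    have hc := move_check
    simp only [List.all_eq_true, List.mem_range] at hc
    have hc := hc k hk δ hδ (j - 1) (by omega)
    simp only [show j - 1 + 1 = j by omega, Bool.and_eq_true, Nat.blt_eq, Nat.ble_eq, Nat.beq_eq] at hc
    obtain ⟨⟨⟨⟨⟨⟨⟨⟨⟨⟨⟨p1, p15⟩, l0⟩, l1⟩, l2⟩, lr⟩, g0⟩, g1⟩, g2⟩, r0⟩, r1⟩, r2⟩ := hc
    refine ⟨p1, p15, ?_, ?_, ?_⟩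
    · rw [← r2, ← h.at_root l2 g2, hF _ lr]
    · rw [← r0, ← h.at_root l0 g0, hF _ (by omega)]
    · rw [← r1, ← h.at_root l1 g1, hF _ (by omega)]
  exact ⟨(hall m hm1 hm).1, (hall m hm1 hm).2.1, (hall m hm1 hm).2.2.1, δ, hδ,
    fun j hj1 hj => (hall j hj1 hj).2.2.2⟩

omit h in
/-- A function invariant under the generators is constant on the index. -/
theorem constant {f : ℕ → Bool} (hf : ∀ k m, k < 4 → 1 ≤ m → m ≤ 15 → f (permOn k m) = f m) {m : ℕ}
    (hm1 : 1 ≤ m) (hm : m ≤ 15) : f m = f 1 := by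
  have hc := up_check
  simp only [List.all_eq_true, List.mem_range] at hc
  have key : ∀ t x, 1 ≤ x → x ≤ 15 → ((fun x => (upStep x).1)^[t] x = 1) → f x = f 1 := by
    intro t
    induction t with
    | zero => intro x _ _ he; rw [Function.iterate_zero, id_eq] at he; rw [he]
    | succ t ih =>
      intro x hx1 hx he
      have hc := hc (x - 1) (by omega)
      simp only [show x - 1 + 1 = x by omega, Bool.and_eq_true, Bool.or_eq_true, Nat.blt_eq, Nat.ble_eq,
        Nat.beq_eq] at hc
      obtain ⟨⟨⟨⟨hp, h4⟩, h1⟩, h15⟩, -⟩ := hc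
      rcases hp with e | e
      · rw [e]
      · rw [Function.iterate_succ_apply] at he
        rw [← ih _ h1 h15 he]
        conv_lhs => rw [← e]
        exact hf _ _ h4 h1 h15
  have hc' := hc (m - 1) (by omega)
  simp only [show m - 1 + 1 = m by omega, Bool.and_eq_true, Nat.beq_eq] at hc'
  exact key 15 m hm1 hm hc'.2

/-- The values on the short orbits. -/
theorem exists_short : ∃ s ∈ shortVals, ∀ m, 1 ≤ m → m ≤ 15 →
    F (128 * m) = s.1.testBit m ∧ F (128 * m + 1) = s.2.testBit m := by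
  have hsym : ∀ g : Bool → Bool → Bool, (∀ x y, g x y = g y x) → ∀ m, 1 ≤ m → m ≤ 15 →
      g (F (128 * m)) (F (128 * m + 1)) = g (F 128) (F 129) := by
    intro g hg m hm1 hm
    refine constant (f := fun m => g (F (128 * m)) (F (128 * m + 1))) (fun k j hk hj1 hj => ?_) hm1 hm
    obtain ⟨-, -, -, δ, -, hmv⟩ := h.move hk hj1 hj
    obtain ⟨e0, e1⟩ := hmv j hj1 hj
    show g _ _ = g _ _
    rw [e0, e1]
    cases parB (δ &&& j) <;> simp [bitNat, hg (F (128 * permOn k j + 1))]
  have hall : ∀ m, 1 ≤ m → m ≤ 15 → (65534 : ℕ).testBit m = true := by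
    intro m hm1 hm
    interval_cases m <;> decide
  by_cases hand : (F 128 && F 129) = true
  · refine ⟨(65534, 65534), by simp [shortVals], fun m hm1 hm => ?_⟩
    have e := hsym (· && ·) Bool.and_comm m hm1 hm
    rw [hand, Bool.and_eq_true] at e
    exact ⟨e.1.trans (hall m hm1 hm).symm, e.2.trans (hall m hm1 hm).symm⟩
  by_cases hor : (F 128 || F 129) = false
  · refine ⟨(0, 0), by simp [shortVals], fun m hm1 hm => ?_⟩
    have e := hsym (· || ·) Bool.or_comm m hm1 hm
    rw [hor, Bool.or_eq_false_iff] at e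
    exact ⟨e.1.trans (Nat.zero_testBit m).symm, e.2.trans (Nat.zero_testBit m).symm⟩
  have hflip : ∀ m, 1 ≤ m → m ≤ 15 → F (128 * m + 1) = !F (128 * m) := by
    intro m hm1 hm
    have e1 := hsym (· && ·) Bool.and_comm m hm1 hm
    have e2 := hsym (· || ·) Bool.or_comm m hm1 hm
    rw [Bool.not_eq_true] at hand
    rw [Bool.not_eq_false] at hor
    rw [hand] at e1
    rw [hor] at e2
    revert e1 e2
    cases F (128 * m) <;> cases F (128 * m + 1) <;> simp
  set a := Nat.ofBits (fun i : Fin 16 => decide ((i : ℕ) ≠ 0) && F (128 * i)) with ha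
  have hat : ∀ m, 1 ≤ m → m ≤ 15 → a.testBit m = F (128 * m) := by
    intro m hm1 hm
    rw [ha, Nat.testBit_ofBits_lt _ _ (show m < 16 by omega)]
    simp [show m ≠ 0 by omega]
  have hzero : ∀ j, j < 4 → F (128 * 2 ^ j) = false := by
    intro j hj
    have e : 128 <<< j = 128 * 2 ^ j := Nat.shiftLeft_eq _ _
    have hn := h.norm j hj
    rw [e] at hn
    have hp : 2 ^ j ≤ 15 := by interval_cases j <;> norm_num
    have ex : 128 * 2 ^ j ^^^ 1 = 128 * 2 ^ j + 1 := by interval_cases j <;> rfl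
    rw [ex] at hn
    rw [Bool.eq_false_iff]
    intro ht
    have := hn ht
    rw [hflip _ Nat.one_le_two_pow hp, ht] at this
    exact absurd this (by decide)
  have ha0 : Nat.beq (a &&& 279) 0 = true := by
    rw [Nat.beq_eq]
    refine Nat.eq_of_testBit_eq fun i => ?_
    rw [Nat.testBit_and, Nat.zero_testBit]
    by_cases hi : i = 0
    · subst hi; rw [ha, Nat.testBit_ofBits_lt _ _ (show (0 : ℕ) < 16 by norm_num)]; simp
    by_cases hi16 : 16 ≤ i
    · rw [Nat.testBit_lt_two_pow (show a < 2 ^ i from lt_of_lt_of_le (Nat.ofBits_lt_two_pow _)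
        (Nat.pow_le_pow_right (by norm_num) hi16)), Bool.false_and]
    have hi' : i < 16 := by omega
    rw [hat i (by omega) (by omega)]
    interval_cases i <;> first
      | exact absurd rfl hi
      | (rw [show (279 : ℕ).testBit _ = false by decide]; exact Bool.and_false _)
      | (have e := hzero 0 (by norm_num); norm_num at e ⊢; rw [e]; simp)
      | (have e := hzero 1 (by norm_num); norm_num at e ⊢; rw [e]; simp)
      | (have e := hzero 2 (by norm_num); norm_num at e ⊢; rw [e]; simp)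
      | (have e := hzero 3 (by norm_num); norm_num at e ⊢; rw [e]; simp)
  have hcompat : compat a = true := by
    rw [compat, List.all_eq_true]
    intro k hk
    rw [List.mem_range] at hk
    obtain ⟨-, -, -, δ, hδ, hmv⟩ := h.move hk (le_refl 1) (by norm_num)
    have hmv' : ∀ j, 1 ≤ j → j ≤ 15 → 1 ≤ permOn k j ∧ permOn k j ≤ 15 := fun j hj1 hj =>
      ⟨(h.move hk hj1 hj).1, (h.move hk hj1 hj).2.1⟩
    have hstep : ∀ j, 1 ≤ j → j ≤ 15 → a.testBit (permOn k j) = (a.testBit j != parB (δ &&& j)) := by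
      intro j hj1 hj
      obtain ⟨p1, p15⟩ := hmv' j hj1 hj
      rw [hat _ p1 p15, hat j hj1 hj, (hmv j hj1 hj).1]
      cases parB (δ &&& j)
      · simp [bitNat]
      · simp [bitNat, hflip _ p1 p15]
    have hbit : ∀ j, j < 4 → a.testBit (permOn k (2 ^ j)) = δ.testBit j := by
      intro j hj
      rw [hstep _ Nat.one_le_two_pow (by interval_cases j <;> norm_num),
        hat _ Nat.one_le_two_pow (by interval_cases j <;> norm_num), hzero j hj, Bool.false_bne]
      interval_cases δ <;> interval_cases j <;> decide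
    have hδeq : bitNat (a.testBit (permOn k 1)) + 2 * bitNat (a.testBit (permOn k 2)) +
        4 * bitNat (a.testBit (permOn k 4)) + 8 * bitNat (a.testBit (permOn k 8)) = δ := by
      have b0 := hbit 0 (by norm_num); have b1 := hbit 1 (by norm_num)
      have b2 := hbit 2 (by norm_num); have b3 := hbit 3 (by norm_num)
      norm_num at b0 b1 b2 b3
      rw [b0, b1, b2, b3]
      interval_cases δ <;> decide
    simp only [hδeq, List.all_eq_true, List.mem_range, beq_iff_eq]
    exact fun i hi => hstep (i + 1) (by omega) (by omega)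
  have hc := allR_spec compat_check a (Nat.zero_le _) (by simpa using Nat.ofBits_lt_two_pow _)
  simp only [Bool.or_eq_true, ha0, hcompat, Bool.not_true, Bool.false_eq_true, false_or, List.any_eq_true,
    Bool.and_eq_true, Nat.beq_eq, List.all_eq_true, List.mem_range, beq_iff_eq] at hc
  obtain ⟨s, hs, hs1, hs2⟩ := hc
  refine ⟨s, hs, fun m hm1 hm => ⟨by rw [hs1, hat m hm1 hm], ?_⟩⟩
  have := hs2 (m - 1) (by omega)
  rw [show m - 1 + 1 = m by omega, hat m hm1 hm] at this
  rw [hflip m hm1 hm, this]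

theorem eq_rival : ∃ r ∈ rivals, ∀ n, n < 2048 → F n = r.2.2.2.1.testBit n := by
  obtain ⟨s, hs, hsv⟩ := h.exists_short
  have hc := rival_cover
  simp only [List.all_eq_true, List.any_eq_true, Bool.and_eq_true, beq_iff_eq, Nat.beq_eq] at hc
  obtain ⟨r, hr, ⟨r1, r2⟩, r3⟩ := hc (F (longRep 1)) (by cases F (longRep 1) <;> simp) s hs
  refine ⟨r, hr, fun n hn => ?_⟩
  have hm := allR_spec (List.all_eq_true.1 rival_mask r hr) n (Nat.zero_le _) (by simpa using hn)
  rw [beq_iff_eq] at hm
  rw [hm]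
  by_cases h128 : n < 128
  · rw [show Nat.blt n 128 = true by rw [Nat.blt_eq]; exact h128, cond_true]
    exact h.low_eq h128
  rw [show Nat.blt n 128 = false by rw [Bool.eq_false_iff, ne_eq, Nat.blt_eq]; exact h128, cond_false,
    h.at_root hn (by omega)]
  obtain ⟨a1, b1, -⟩ := h.step hn (by omega)
  obtain ⟨a2, b2, -⟩ := h.step b1 a1
  obtain ⟨a3, b3, -⟩ := h.step b2 a2
  obtain ⟨a4, b4, -⟩ := h.step b3 a3
  obtain ⟨a5, b5, -⟩ := h.step b4 a4
  have hr5 : 1 ≤ root n / 128 ∧ root n / 128 ≤ 15 :=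
    ⟨(Nat.one_le_div_iff (by norm_num)).2 a5, by
      have : root n < 2048 := b5
      omega⟩
  unfold repVal
  by_cases e0 : root n = 128 * (root n / 128)
  · rw [show Nat.beq (root n) (128 * (root n / 128)) = true by rw [Nat.beq_eq]; exact e0, cond_true, r2,
      ← (hsv _ hr5.1 hr5.2).1, ← e0]
  rw [show Nat.beq (root n) (128 * (root n / 128)) = false by rw [Bool.eq_false_iff, ne_eq, Nat.beq_eq]; exact e0,
    cond_false]
  by_cases e1 : root n = 128 * (root n / 128) + 1
  · rw [show Nat.beq (root n) (128 * (root n / 128) + 1) = true by rw [Nat.beq_eq]; exact e1, cond_true, r3,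
      ← (hsv _ hr5.1 hr5.2).2, ← e1]
  rw [show Nat.beq (root n) (128 * (root n / 128) + 1) = false by rw [Bool.eq_false_iff, ne_eq, Nat.beq_eq]; exact e1,
    cond_false]
  have e2 := ((root_cases hn (by omega)).resolve_left e0).resolve_left e1
  rw [r1, e2, constant (f := fun m => F (longRep m)) (fun k j hk hj1 hj => (h.move hk hj1 hj).2.2.1) hr5.1 hr5.2]

/-- The complement of the class consists of the duads. -/
theorem duads {n : ℕ} (hn : n < 2048) : (n ≠ 0 ∧ F n = false) ↔ n ∈ Thompson.duads := by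
  obtain ⟨r, hr, hF⟩ := h.eq_rival
  rw [mem_duads_iff (by simpa using hn), hF n hn]
  have hc := List.all_eq_true.1 rival_count r hr
  simp only [Bool.or_eq_true, Bool.and_eq_true, Bool.not_eq_true', Nat.blt_eq] at hc
  rcases hc with ⟨-, hc⟩ | ⟨⟨⟨h1, hw⟩, hw'⟩, hne⟩
  · have e := allR_spec hc n (Nat.zero_le _) (by simpa using hn)
    rw [beq_iff_eq] at e
    rw [e]
    by_cases h0 : n = 0
    · subst h0; simp only [ne_eq, not_true, false_and, false_iff, Bool.not_eq_true]; decide +kernel
    rw [show Nat.beq n 0 = false by rw [Bool.eq_false_iff, ne_eq, Nat.beq_eq]; exact h0]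
    simp [h0]
  exfalso
  have hcount : ∀ x, x < 2048 → classCount F x = classCount (r.2.2.2.1.testBit) x := by
    intro x hx
    refine List.countP_congr fun t ht => ?_
    rw [List.mem_range] at ht
    rw [hF t ht, hF (x ^^^ t) (Nat.xor_lt_two_pow (n := 11) hx ht)]
  have := h.count 1 r.2.2.2.2 (by norm_num) hw' (by rw [hF 1 (by norm_num)]; exact h1) (by rw [hF _ hw']; exact hw)
  rw [hcount 1 (by norm_num), hcount _ hw'] at this
  rw [Bool.eq_false_iff, ne_eq, Nat.beq_eq] at hne
  exact hne this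

end ClassFn

end CfsgLib.LargeFischer.Thompson
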