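import Cfsg.Agent.Lib.LargeFischer.ThompsonBasis

/-!
The class of the central involution on the numbering of the standard subgroup has the invariance properties.
-/

set_option autoImplicit false
set_option linter.unusedSectionVars false
set_option linter.style.haveILetI false

namespace CfsgLib.LargeFischer

open Cfsg
open CfsgLib.F2Quad (Vec)
open Thompson (widx fixBasis bitNat)

namespace Thompson

theorem qCols_map (v : ℕ) : qCols v = 1 :: ((List.range 6).map (fun i => 2 ^ (i + 1) ^^^ bitNat (Plane.bb v (Plane.wOf (2 ^ i)))) ++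
    (List.range 4).map fun j => 128 <<< j ^^^ (2 * widx (Plane.ap (fixBasis.getD j []) v ^^^ v)) ^^^
      bitNat (Plane.bb v (Plane.wm (Plane.ap (fixBasis.getD j []) v ^^^ v)))) := rfl

theorem oCols_map : oCols = 1 :: ((List.range 6).map (fun i => 2 * widx (Plane.wm (Plane.wOf (2 ^ i)))) ++
    (List.range 4).map fun j => 128 <<< j) := by decide +kernel

/-- The image of the `j`-th high basis number under the `k`-th generator, divided by `128`. -/
def mP (k j : ℕ) : ℕ := (kBase.getD k []).getD (7 + j) 0 / 128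

theorem mP_spec : ∀ k < 4, ∀ j < 4, mP k j < 16 ∧
    Plane.comp (Plane.walkGens.getD k []) (fixBasis.getD j []) =
      Plane.comp (apC fixBasis (mP k j)) (Plane.walkGens.getD k []) := by decide +kernel

theorem kCols_map : ∀ k < 4, ∀ d₀ d₁ d₂ d₃ : Bool,
    kCols k (bitNat d₀ + 2 * bitNat d₁ + 4 * bitNat d₂ + 8 * bitNat d₃) =
      1 :: ((List.range 6).map (fun i => 2 * widx (Plane.ap (Plane.walkGens.getD k []) (Plane.wOf (2 ^ i)))) ++
        [128 * mP k 0 ^^^ bitNat d₀, 128 * mP k 1 ^^^ bitNat d₁, 128 * mP k 2 ^^^ bitNat d₂,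
          128 * mP k 3 ^^^ bitNat d₃]) := by decide +kernel

theorem walkGens_spec : ∀ g ∈ Plane.walkGens, Plane.good g = true ∧ Plane.comp g Plane.idCols = g := fun g hg =>
  ⟨Plane.good_walkGens g hg, (by decide +kernel : ∀ g ∈ Plane.walkGens, Plane.comp g Plane.idCols = g) g hg⟩

theorem plane_small : ∀ i, i < 64 → 0 < i → Plane.wOf i ≠ 0 := by decide +kernel

end Thompson

variable {G : Type*} [Group G]

namespace Coord

variable [Finite G] {z : G} {Q : Subgroup (Subgroup.centralizer ({z} : Set G))} [Q.Normal]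
  {ρ : (Subgroup.centralizer ({z} : Set G)) ⧸ Q →* (Vec 6 ≃ₗ[ZMod 2] Vec 6)} {qf : Vec 6 → ZMod 2}
  {p : G → Vec 6} {u w : Vec 6} (H : Hyp z Q ρ qf p u w)
  {f : (Subgroup.centralizer ({z} : Set G)) ⧸ Q → ℕ → ℕ} {P : G → ℕ} (K : Coord z Q f P)
  {c : G} {b l : ℕ → G} (B : K.Basis H c b l)
include H K B

/-- The class of the central involution in the numbering. -/
noncomputable def classFn (n : ℕ) : Bool :=
  letI := Classical.propDecidable (IsConj z (K.num H B n))
  decide (IsConj z (K.num H B n))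

theorem classFn_iff (n : ℕ) : K.classFn H B n = true ↔ IsConj z (K.num H B n) := by
  classical
  simp [classFn]

theorem classFn_congr {m n : ℕ} (h : IsConj z (K.num H B m) ↔ IsConj z (K.num H B n)) :
    K.classFn H B m = K.classFn H B n := by
  rw [Bool.eq_iff_iff, K.classFn_iff, K.classFn_iff, h]

theorem classFn_conj {x : G} {cols : List ℕ}
    (h : (z :: ((List.range 6).map b ++ (List.range 4).map l)).map (fun a => x * a * x⁻¹) = cols.map (K.num H B))
    (n : ℕ) : K.classFn H B (Plane.ap cols n) = K.classFn H B n := by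
  refine K.classFn_congr H B ?_
  have e : K.num H B (Plane.ap cols n) = x * K.num H B n * x⁻¹ := by
    rw [num, num, apG_conj, h]
    exact (apG_map_ap (fun _ ha _ hb => K.AA_comm H ha hb) (fun _ ha => K.AA_sq H ha) (K.gens_mem H B) cols n).symm
  rw [e]
  exact ⟨fun hh => hh.trans (isConj_iff.2 ⟨x⁻¹, by group⟩), fun hh => hh.trans (isConj_iff.2 ⟨x, rfl⟩)⟩

theorem qinv {v : ℕ} (hv : v < 4096) (n : ℕ) :
    K.classFn H B (Plane.ap (Thompson.qCols v) n) = K.classFn H B n := by
  obtain ⟨q, hq, hqv⟩ := K.P_surj v hv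
  have hqC := H.le hq
  have hqs : QuotientGroup.mk' Q (⟨q, hqC⟩ : ↥(Subgroup.centralizer ({z} : Set G))) ∈ K.model.stab := by
    rw [(H.mk_one ⟨q, hqC⟩).2 hq]
    exact one_mem _
  refine K.classFn_conj H B (x := q) ?_ n
  rw [Thompson.qCols_map, List.map_cons, List.map_cons, List.map_append, List.map_append, List.map_map, List.map_map,
    List.map_map, List.map_map]
  congr 1
  · rw [K.num_one H B, K.z_conj H hqC]
  congr 1
  · refine List.map_congr_left fun i hi => ?_
    rw [List.mem_range] at hi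
    simp only [Function.comp_apply]
    rw [K.num_xor H B, K.num_b H B hi, K.num_bit H B, K.conj_big H hq (B.b_mem i hi).1, hqv, B.b_val i hi]
  refine List.map_congr_left fun j hj => ?_
  rw [List.mem_range] at hj
  simp only [Function.comp_apply]
  have hlC : l j ∈ Subgroup.centralizer ({z} : Set G) := (B.l_mem j hj).1
  set lj := l j with hlj
  set D : G → G := fun x => x * lj * x⁻¹ * lj⁻¹ with hD
  have hDA : ∀ x ∈ big z Q, D x ∈ K.A0 H ∧
      P (D x) = Plane.ap (fixBasis.getD j []) (P x) ^^^ P x := by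
    intro x hx
    have hxC := H.le hx
    have hAA : x * lj * x⁻¹ ∈ K.AA H := K.conj_AA H (c := ⟨x, hxC⟩)
      (by rw [(H.mk_one ⟨x, hxC⟩).2 hx]; exact one_mem _) (B.l_mem j hj)
    have hconj : lj * x⁻¹ * lj⁻¹ ∈ big z Q :=
      H.S.normal lj (Subgroup.mem_centralizer_singleton_iff.1 hlC) _ (inv_mem hx)
    have hbig : D x ∈ big z Q := by
      show x * lj * x⁻¹ * lj⁻¹ ∈ big z Q
      rw [show x * lj * x⁻¹ * lj⁻¹ = x * (lj * x⁻¹ * lj⁻¹) by group]
      exact mul_mem hx hconj
    refine ⟨(K.AA_inf_big H).le (Subgroup.mem_inf.2 ⟨mul_mem hAA (inv_mem (B.l_mem j hj)), hbig⟩), ?_⟩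
    show P (x * lj * x⁻¹ * lj⁻¹) = _
    rw [show x * lj * x⁻¹ * lj⁻¹ = x * (lj * x⁻¹ * lj⁻¹) by group, K.P_mul x hx _ hconj, Nat.xor_comm]
    congr 1
    rw [← B.l_act j hj hlC _ (K.P_lt x)]
    exact (K.P_act ⟨lj, hlC⟩ _ (inv_mem hx)).trans (congrArg _ (K.P_inv H hx))
  obtain ⟨hDq, hDqP⟩ := hDA q hq
  rw [hqv] at hDqP
  -- the central bit
  have hfx : ∀ x, x < 4096 → Plane.ap (fixBasis.getD j []) x < 4096 := fun x hx => by
    rw [← B.l_act j hj hlC x hx]; exact K.model.lt _ x hx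
  have hfwm : ∀ x, x < 4096 → Plane.ap (fixBasis.getD j []) (Plane.wm x) =
      Plane.wm (Plane.ap (fixBasis.getD j []) x) := fun x hx => by
    have hlin : QuotientGroup.mk' Q (⟨lj, hlC⟩ : ↥(Subgroup.centralizer ({z} : Set G))) ∈ K.model.linG :=
      K.model.fixer_le_linG (K.mk_fixer H (c := ⟨lj, hlC⟩) (B.l_mem j hj))
    rw [← B.l_act j hj hlC x hx, ← B.l_act j hj hlC _ (Plane.wm_lt hx)]
    exact hlin x hx
  have hnrm : nrm c (D q) = zb z (Plane.bb v (Plane.wm (Plane.ap (fixBasis.getD j []) v ^^^ v))) := by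
    obtain ⟨q₁, hq₁, hq₁v⟩ := K.P_surj _ (Plane.wm_lt hv)
    set q₂ := c * q₁ * c⁻¹ with hq₂d
    have hq₂ : q₂ ∈ big z Q := H.S.normal c (Subgroup.mem_centralizer_singleton_iff.1 B.hc) _ hq₁
    have hq₂v : P q₂ = Plane.wm (Plane.wm v) := by rw [hq₂d, K.P_c H B hq₁, hq₁v]
    have hsum : P (q₁ * q₂) = v := by
      rw [K.P_mul _ hq₁ _ hq₂, hq₁v, hq₂v]
      have h := Plane.wm_sum hv
      rw [Nat.xor_assoc] at h
      exact (Nat.xor_eq_zero_iff.1 h).symm
    obtain ⟨hD1, hD1P⟩ := hDA q₁ hq₁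
    obtain ⟨hD2, hD2P⟩ := hDA q₂ hq₂
    have hDeq : D q = D (q₁ * q₂) := by
      rcases K.P_eq H (mul_mem hq₁ hq₂) hq (hsum.trans hqv.symm) with e | e
      · rw [e]
      · have hzl : z * lj = lj * z := (Subgroup.mem_centralizer_singleton_iff.1 hlC).symm
        rw [e, hD]
        show q₁ * q₂ * z * lj * (q₁ * q₂ * z)⁻¹ * lj⁻¹ = _
        rw [mul_assoc (q₁ * q₂) z lj, hzl]
        group
    have hcl : c * lj * c⁻¹ = lj := B.l_fix j hj
    have hD2c : D q₂ = c * D q₁ * c⁻¹ := by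
      simp only [hD, hq₂d]
      conv_lhs => rw [← hcl]
      group
    have hmul : D (q₁ * q₂) = q₁ * D q₂ * q₁⁻¹ * D q₁ := by simp only [hD]; group
    have hzA : ∀ e, zb z e ∈ K.AA H := fun e => by cases e; exacts [one_mem _, K.z_mem_AA H]
    have hn2 : nrm c (D q₂) = nrm c (D q₁) := by
      obtain ⟨e, he⟩ := K.nrm_cases H B hD1
      rw [hD2c, K.nrm_conj H B rfl, he]
      cases e
      · simp [zb]
      · exact K.z_conj H B.hc
    rw [hDeq, hmul, K.conj_big H hq₁ hD2.1, hD2P, hq₂v, hq₁v,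
      K.nrm_mul H B (mul_mem (K.A0_le_AA H hD2) (hzA _)) (K.A0_le_AA H hD1),
      K.nrm_mul H B (K.A0_le_AA H hD2) (hzA _), K.nrm_zb H B, hn2]
    obtain ⟨e, he⟩ := K.nrm_cases H B hD1
    rw [he, ← zb_xor H.S.sq_one, ← zb_xor H.S.sq_one]
    congr 1
    have hd := Plane.xor_lt (hfx v hv) hv
    rw [hfwm _ (Plane.wm_lt hv), hfwm v hv, ← K.wm_xor H (Plane.wm_lt (hfx v hv)) (Plane.wm_lt hv),
      ← K.wm_xor H (hfx v hv) hv, K.bb_wm H hv (Plane.wm_lt hd)]
    cases e <;> simp
  have hconjl : q * lj * q⁻¹ = D q * lj := by rw [hD]; group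
  rw [K.num_xor H B, K.num_xor H B, K.num_l H B hj, K.num_bit H B, ← hnrm, hconjl]
  have hlast : K.num H B (2 * widx (Plane.ap (fixBasis.getD j []) v ^^^ v)) * nrm c (D q) = D q := by
    rw [← hDqP]
    exact (K.num_decomp H B hDq).symm
  conv_lhs => rw [← hlast]
  rw [← hlj, mul_assoc lj]
  exact K.AA_comm H (mul_mem (K.num_mem H B _) (by
    obtain ⟨e, he⟩ := K.nrm_cases H B hDq
    rw [he]
    cases e
    exacts [one_mem _, K.z_mem_AA H])) (B.l_mem j hj)

theorem oinv (n : ℕ) : K.classFn H B (Plane.ap Thompson.oCols n) = K.classFn H B n := by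
  refine K.classFn_conj H B (x := c) ?_ n
  rw [Thompson.oCols_map, List.map_cons, List.map_cons, List.map_append, List.map_append, List.map_map, List.map_map,
    List.map_map, List.map_map]
  congr 1
  · rw [K.num_one H B, K.z_conj H B.hc]
  congr 1
  · refine List.map_congr_left fun i hi => ?_
    rw [List.mem_range] at hi
    simp only [Function.comp_apply]
    have hx := K.c_conj_A0 H B (B.b_mem i hi)
    have hd := K.num_decomp H B hx
    rw [K.nrm_conj H B rfl, B.b_nrm i hi, mul_one, mul_inv_cancel, mul_one, K.P_c H B (B.b_mem i hi).1,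
      B.b_val i hi] at hd
    exact hd
  · refine List.map_congr_left fun j hj => ?_
    rw [List.mem_range] at hj
    simp only [Function.comp_apply]
    rw [K.num_l H B hj, B.l_fix j hj]

theorem exists_commuting {γ : (Subgroup.centralizer ({z} : Set G)) ⧸ Q} (hγ : γ ∈ K.model.linG) :
    ∃ k : ↥(Subgroup.centralizer ({z} : Set G)), QuotientGroup.mk' Q k = γ ∧ (k : G) * c = c * (k : G) := by
  obtain ⟨k₀, rfl⟩ := QuotientGroup.mk'_surjective Q γ
  have hy : (k₀ : G) * c * (k₀ : G)⁻¹ * c⁻¹ ∈ big z Q := by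
    refine (H.mk_one (k₀ * ⟨c, B.hc⟩ * k₀⁻¹ * (⟨c, B.hc⟩ : ↥(Subgroup.centralizer ({z} : Set G)))⁻¹)).1 ?_
    rw [map_mul, map_mul, map_mul, map_inv, map_inv, B.c_comm _ hγ, mul_inv_cancel_right, mul_inv_cancel]
  set y := (k₀ : G) * c * (k₀ : G)⁻¹ * c⁻¹ with hyd
  obtain ⟨x, hx, hxv⟩ := K.P_surj _ (Plane.wm_lt (K.P_lt y))
  have hcx : c * x⁻¹ * c⁻¹ ∈ big z Q :=
    H.S.normal c (Subgroup.mem_centralizer_singleton_iff.1 B.hc) _ (inv_mem hx)
  have hP : P (x * (c * x⁻¹ * c⁻¹)) = P y := by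
    rw [K.P_mul x hx _ hcx, K.P_c H B (inv_mem hx), K.P_inv H hx, hxv]
    have h := Plane.wm_sum (K.P_lt y)
    rw [Nat.xor_assoc] at h
    exact (Nat.xor_eq_zero_iff.1 h).symm
  have hk : x * c * x⁻¹ = (k₀ : G) * c * (k₀ : G)⁻¹ := by
    rcases K.P_eq H hy (mul_mem hx hcx) hP.symm with e | e
    · calc x * c * x⁻¹ = x * (c * x⁻¹ * c⁻¹) * c := by group
        _ = _ := by rw [e, hyd]; group
    · exfalso
      have hkk : (k₀ : G) * c * (k₀ : G)⁻¹ ∈ Subgroup.centralizer ({z} : Set G) :=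
        mul_mem (mul_mem k₀.2 B.hc) (inv_mem k₀.2)
      set d := (k₀ : G) * c * (k₀ : G)⁻¹ with hdd
      have hdz : d * z = z * d := Subgroup.mem_centralizer_singleton_iff.1 hkk
      have h1 : x * c * x⁻¹ = d * z := by
        calc x * c * x⁻¹ = x * (c * x⁻¹ * c⁻¹) * c := by group
          _ = y * z * c := by rw [e]
          _ = y * (c * z) := by rw [Subgroup.mem_centralizer_singleton_iff.1 B.hc, mul_assoc]
          _ = d * z := by rw [hyd]; group
      have h2 : d * d * d = 1 := by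
        calc d * d * d = (k₀ : G) * (c * c * c) * (k₀ : G)⁻¹ := by rw [hdd]; group
          _ = 1 := by rw [B.cube, mul_one, mul_inv_cancel]
      have h3 : x * c * x⁻¹ * (x * c * x⁻¹) * (x * c * x⁻¹) = 1 := by
        calc x * c * x⁻¹ * (x * c * x⁻¹) * (x * c * x⁻¹) = x * (c * c * c) * x⁻¹ := by group
          _ = 1 := by rw [B.cube, mul_one, mul_inv_cancel]
      rw [h1] at h3
      have h4 : d * z * (d * z) * (d * z) = d * d * d * z := by
        calc d * z * (d * z) * (d * z) = d * (z * d) * (z * (d * z)) := by group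
          _ = d * (d * z) * (z * (z * d)) := by rw [← hdz]
          _ = d * d * (z * z) * (z * d) := by group
          _ = d * d * (d * z) := by rw [H.S.sq_one, ← hdz]; group
          _ = _ := by group
      rw [h4, h2, one_mul] at h3
      exact H.S.ne_one h3
  refine ⟨(⟨x, H.le hx⟩ : ↥(Subgroup.centralizer ({z} : Set G)))⁻¹ * k₀, ?_, ?_⟩
  · rw [map_mul, map_inv, (H.mk_one ⟨x, H.le hx⟩).2 hx, inv_one, one_mul]
  · show x⁻¹ * (k₀ : G) * c = c * (x⁻¹ * (k₀ : G))
    calc x⁻¹ * (k₀ : G) * c = x⁻¹ * ((k₀ : G) * c * (k₀ : G)⁻¹) * k₀ := by group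
      _ = _ := by rw [← hk]; group

theorem kinv {k : ℕ} (hk : k < 4) :
    ∃ δ, δ < 16 ∧ ∀ n, K.classFn H B (Plane.ap (Thompson.kCols k δ) n) = K.classFn H B n := by
  classical
  set h := Plane.walkGens.getD k [] with hh
  have hm : h ∈ Plane.walkGens := by
    rw [hh, List.getD_eq_getElem _ [] (by simpa [Plane.walkGens] using hk)]; exact List.getElem_mem _
  have hr : K.model.Real h := by
    rw [hh]
    interval_cases k
    exacts [K.model.real_gM, K.model.real_gG, K.model.real_gCyc, K.model.real_gG1]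
  obtain ⟨γ, hγ⟩ := hr
  obtain ⟨hgood, hid⟩ := Thompson.walkGens_spec h hm
  simp only [Plane.good, Bool.and_eq_true, List.all_eq_true] at hgood
  have hγs : γ ∈ K.model.stab := K.model.mem_stab_of fun w hw => by
    rw [hγ w (Plane.plane_facts hw).1]; exact hgood.2 w hw
  have hγl : γ ∈ K.model.linG := fun v hv => by
    have h1 := Plane.allV_spec hgood.1 hv
    simp only [Bool.and_eq_true, Nat.beq_eq] at h1
    rw [hγ _ (Plane.wm_lt hv), hγ v hv]
    exact h1.1.2
  obtain ⟨x, hxmk, hxc⟩ := K.exists_commuting H B hγl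
  have hxs : QuotientGroup.mk' Q x ∈ K.model.stab := hxmk.symm ▸ hγs
  have hfix : ∀ m, c * K.num H B (128 * m) * c⁻¹ = K.num H B (128 * m) := fun m => by
    rw [K.num_high H B, apG_conj, List.map_map]
    congr 1
    exact List.map_congr_left fun j hj => B.l_fix j (List.mem_range.1 hj)
  have hlj : ∀ j, ∃ d : Bool, j < 4 →
      (x : G) * l j * (x : G)⁻¹ = K.num H B (128 * Thompson.mP k j ^^^ bitNat d) := by
    intro j
    by_cases hj : j < 4
    swap
    · exact ⟨false, fun h => absurd h hj⟩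
    obtain ⟨-, hcols⟩ := Thompson.mP_spec k hk j hj
    rw [← hh] at hcols
    set a := (x : G) * l j * (x : G)⁻¹ with had
    have ha : a ∈ K.AA H := K.conj_AA H hxs (B.l_mem j hj)
    have hL := K.num_mem H B (128 * Thompson.mP k j)
    have hac : c * a * c⁻¹ = a := by
      rw [had]
      calc c * ((x : G) * l j * (x : G)⁻¹) * c⁻¹ = c * (x : G) * l j * (c * (x : G))⁻¹ := by group
        _ = (x : G) * c * l j * ((x : G) * c)⁻¹ := by rw [hxc]
        _ = (x : G) * (c * l j * c⁻¹) * (x : G)⁻¹ := by group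
        _ = _ := by rw [B.l_fix j hj]
    have hlC := (B.l_mem j hj).1
    have hmk : QuotientGroup.mk' Q (⟨a, ha.1⟩ : ↥(Subgroup.centralizer ({z} : Set G))) =
        QuotientGroup.mk' Q ⟨_, hL.1⟩ := by
      have he : (⟨a, ha.1⟩ : ↥(Subgroup.centralizer ({z} : Set G))) = x * ⟨l j, hlC⟩ * x⁻¹ := rfl
      rw [he, map_mul, map_mul, map_inv, hxmk, mul_inv_eq_iff_eq_mul]
      refine K.model.cols_inj ?_
      rw [K.model.cols_mul, K.model.cols_mul, K.model.cols_eq hid hγ, K.cols_l H B hj hlC, K.cols_high H B _ hL.1]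
      exact hcols
    have hx0 : a * K.num H B (128 * Thompson.mP k j) ∈ K.A0 H := by
      refine (K.AA_inf_big H).le (Subgroup.mem_inf.2 ⟨mul_mem ha hL,
        (H.mk_one ⟨a * K.num H B (128 * Thompson.mP k j), (mul_mem ha hL).1⟩).1 ?_⟩)
      show QuotientGroup.mk' Q (⟨a, ha.1⟩ * ⟨_, hL.1⟩ : ↥(Subgroup.centralizer ({z} : Set G))) = 1
      rw [map_mul, hmk]
      exact K.model.fixer_sq (K.mk_fixer H (c := ⟨_, hL.1⟩) hL)
    have hfix0 : P (a * K.num H B (128 * Thompson.mP k j)) = 0 := by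
      refine Plane.wm_eq_self (K.P_lt _) ?_
      rw [← K.P_c H B hx0.1]
      congr 1
      calc c * (a * K.num H B (128 * Thompson.mP k j)) * c⁻¹
          = (c * a * c⁻¹) * (c * K.num H B (128 * Thompson.mP k j) * c⁻¹) := by group
        _ = _ := by rw [hac, hfix]
    obtain ⟨d, hd⟩ : ∃ d, a * K.num H B (128 * Thompson.mP k j) = zb z d := by
      rcases K.eq_one_or_z H hx0.1 hfix0 with e | e
      exacts [⟨false, e⟩, ⟨true, e⟩]
    refine ⟨d, fun _ => ?_⟩
    have e1 : a = zb z d * K.num H B (128 * Thompson.mP k j) := by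
      rw [← hd, mul_assoc, K.AA_sq H hL, mul_one]
    rw [e1, Nat.xor_comm, K.num_xor H B, K.num_bit H B]
  choose d hd using hlj
  refine ⟨bitNat (d 0) + 2 * bitNat (d 1) + 4 * bitNat (d 2) + 8 * bitNat (d 3), by
    cases d 0 <;> cases d 1 <;> cases d 2 <;> cases d 3 <;> decide, fun n => ?_⟩
  refine K.classFn_conj H B (x := (x : G)) ?_ n
  rw [Thompson.kCols_map k hk, List.map_cons, List.map_cons, List.map_append, List.map_append, List.map_map,
    List.map_map, List.map_map]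
  congr 1
  · rw [K.num_one H B, K.z_conj H x.2]
  congr 1
  · refine List.map_congr_left fun i hi => ?_
    rw [List.mem_range] at hi
    simp only [Function.comp_apply]
    have hx1 := K.conj_A0 H hxs (B.b_mem i hi)
    have hd1 := K.num_decomp H B hx1
    rw [K.nrm_conj H B hxc, B.b_nrm i hi, mul_one, mul_inv_cancel, mul_one, K.P_act x _ (B.b_mem i hi).1,
      B.b_val i hi] at hd1
    rw [show (QuotientGroup.mk x : (Subgroup.centralizer ({z} : Set G)) ⧸ Q) = γ from hxmk,
      hγ _ (Plane.plane_facts (Thompson.wOf_spec (2 ^ i) (Nat.pow_lt_pow_right (by norm_num) hi)).1).1] at hd1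
    exact hd1
  · have hr : (List.range 4) = [0, 1, 2, 3] := rfl
    rw [hr]
    simp only [List.map_cons, List.map_nil, Function.comp_apply]
    rw [hd 0 (by norm_num), hd 1 (by norm_num), hd 2 (by norm_num), hd 3 (by norm_num)]

theorem small (hconv : ∀ x ∈ big z Q, x * x = 1 → x ≠ 1 → x ≠ z → Plane.sb (P x) = false → ∃ g : G, g * z * g⁻¹ = x)
    {i : ℕ} (hi : i < 64) (hi0 : 0 < i) :
    K.classFn H B (2 * i) = (!Plane.sb (Plane.wOf i)) ∧ K.classFn H B (2 * i + 1) = (!Plane.sb (Plane.wOf i)) := by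
  obtain ⟨h1, h2, -⟩ := K.num_plane H B hi
  have hne := Thompson.plane_small i hi hi0
  have key : ∀ x ∈ K.A0 H, P x = Plane.wOf i → (IsConj z x ↔ Plane.sb (Plane.wOf i) = false) := by
    intro x hx hPx
    have hx1 : x ≠ 1 := fun e => hne (by rw [← hPx, e, K.P_one H])
    have hxz : x ≠ z := fun e => hne (by rw [← hPx, e, K.P_z H])
    rw [← hPx]
    constructor
    · intro hc
      obtain ⟨g, hg⟩ := isConj_iff.1 hc
      subst hg
      exact K.conj_sb g hx.1 hxz
    · intro hs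
      obtain ⟨g, hg⟩ := hconv x hx.1 (K.A0_sq H hx) hx1 hxz hs
      exact isConj_iff.2 ⟨g, hg⟩
  have h3 : K.num H B (2 * i + 1) = K.num H B (2 * i) * z := by
    rw [show 2 * i + 1 = (2 * i) ^^^ 1 by
      rw [Nat.xor_one_of_even (even_two_mul i)], K.num_xor H B, K.num_one H B]
  constructor
  · rw [Bool.eq_iff_iff, K.classFn_iff, key _ h1 h2, Bool.not_eq_true']
  · rw [Bool.eq_iff_iff, K.classFn_iff, h3, key _ (mul_mem h1 (K.z_mem_A0 H))
      (by rw [K.P_mul _ h1.1 _ H.S.mem, h2, K.P_z H, Nat.xor_zero]), Bool.not_eq_true']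

/-- The numbering as an equivalence. -/
theorem exists_equiv : ∃ e : K.AA H ≃ Fin 2048, ∀ (a : K.AA H), K.num H B (e a).val = (a : G) := by
  let g : Fin 2048 → K.AA H := fun n => ⟨K.num H B n.val, K.num_mem H B _⟩
  have hg : Function.Bijective g := by
    refine (Nat.bijective_iff_surjective_and_card g).2 ⟨fun a => ?_, ?_⟩
    · obtain ⟨n, hn, he⟩ := K.num_surj H B a.2
      exact ⟨⟨n, hn⟩, Subtype.ext he⟩
    · rw [Nat.card_eq_fintype_card, Fintype.card_fin, (K.card_AA H).1]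
      norm_num
  refine ⟨(Equiv.ofBijective g hg).symm, fun a => ?_⟩
  exact congrArg Subtype.val ((Equiv.ofBijective g hg).apply_symm_apply a)

theorem count {x y : ℕ} (hx : x < 2048) (hy : y < 2048) (hFx : K.classFn H B x = true)
    (hFy : K.classFn H B y = true) :
    Thompson.classCount (K.classFn H B) x = Thompson.classCount (K.classFn H B) y := by
  classical
  obtain ⟨e, he⟩ := K.exists_equiv H B
  have hcnt : ∀ (x : ℕ), x < 2048 → Thompson.classCount (K.classFn H B) x =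
      Nat.card {a : K.AA H // IsConj z (a : G) ∧ IsConj z (K.num H B x * (a : G))} := by
    intro x hx
    rw [Thompson.classCount, List.countP_eq_length_filter,
      ← List.toFinset_card_of_nodup (List.Nodup.filter _ List.nodup_range)]
    rw [← Nat.card_eq_finsetCard]
    refine Nat.card_congr ?_
    refine
      { toFun := fun t => ⟨e.symm ⟨t.1, ?_⟩, ?_⟩
        invFun := fun a => ⟨(e a.1).val, ?_⟩
        left_inv := fun t => ?_
        right_inv := fun a => ?_ }
    · have := t.2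
      simp only [List.mem_toFinset, List.mem_filter, List.mem_range] at this
      exact this.1
    · have := t.2
      simp only [List.mem_toFinset, List.mem_filter, List.mem_range, Bool.and_eq_true, K.classFn_iff H B] at this
      have hval : ((e.symm ⟨t.1, this.1⟩ : K.AA H) : G) = K.num H B t.1 := by
        rw [← he, Equiv.apply_symm_apply]
      rw [hval, ← K.num_xor H B]
      exact this.2
    · simp only [List.mem_toFinset, List.mem_filter, List.mem_range, Bool.and_eq_true, K.classFn_iff H B]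
      refine ⟨(e a.1).isLt, ?_⟩
      rw [K.num_xor H B, he]
      exact a.2
    · simp
    · simp
  rw [hcnt x hx, hcnt y hy]
  rw [K.classFn_iff] at hFx hFy
  obtain ⟨g, hu, -⟩ := K.exists_unique H (default : Sylow 2 G)
  obtain ⟨m, hm, hmx⟩ := (hu.conj_iff (a := g * K.num H B x * g⁻¹) (b := g * K.num H B y * g⁻¹)
    ⟨_, K.num_mem H B x, rfl⟩ ⟨_, K.num_mem H B y, rfl⟩).1
    (((isConj_iff.2 ⟨g⁻¹, by group⟩ : IsConj (g * K.num H B x * g⁻¹) (K.num H B x)).trans
      (hFx.symm.trans hFy)).trans (isConj_iff.2 ⟨g, rfl⟩))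
  set m₀ := g⁻¹ * m * g with hm₀
  have hxy : m₀ * K.num H B x * m₀⁻¹ = K.num H B y := by
    rw [hm₀]
    calc g⁻¹ * m * g * K.num H B x * (g⁻¹ * m * g)⁻¹ = g⁻¹ * (m * (g * K.num H B x * g⁻¹) * m⁻¹) * g := by group
      _ = _ := by rw [hmx]; group
  have hN : ∀ t, t ∈ K.AA H ↔ m₀ * t * m₀⁻¹ ∈ K.AA H := by
    intro t
    have h := Subgroup.mem_normalizer_iff.1 hm (g * t * g⁻¹)
    rw [mem_conjQ, mem_conjQ] at h
    rw [hm₀]
    simpa [mul_assoc] using h
  refine Nat.card_congr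
    { toFun := fun a => ⟨⟨m₀ * (a.1 : G) * m₀⁻¹, (hN _).1 a.1.2⟩, ?_, ?_⟩
      invFun := fun a => ⟨⟨m₀⁻¹ * (a.1 : G) * m₀, (hN _).2 (by
        have e : m₀ * (m₀⁻¹ * (a.1 : G) * m₀) * m₀⁻¹ = (a.1 : G) := by group
        rw [e]; exact a.1.2)⟩, ?_, ?_⟩
      left_inv := fun a => Subtype.ext (Subtype.ext (by group))
      right_inv := fun a => Subtype.ext (Subtype.ext (by group)) }
  · exact a.2.1.trans (isConj_iff.2 ⟨m₀, rfl⟩)
  · refine a.2.2.trans (isConj_iff.2 ⟨m₀, ?_⟩)
    show _ = K.num H B y * (m₀ * (a.1 : G) * m₀⁻¹)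
    rw [← hxy]
    group
  · exact a.2.1.trans (isConj_iff.2 ⟨m₀⁻¹, by group⟩)
  · refine a.2.2.trans (isConj_iff.2 ⟨m₀⁻¹, ?_⟩)
    show _ = K.num H B x * (m₀⁻¹ * (a.1 : G) * m₀)
    have hyx : m₀⁻¹ * K.num H B y * m₀ = K.num H B x := by rw [← hxy]; group
    calc m₀⁻¹ * (K.num H B y * (a.1 : G)) * m₀⁻¹⁻¹
        = m₀⁻¹ * K.num H B y * m₀ * (m₀⁻¹ * (a.1 : G) * m₀) := by group
      _ = _ := by rw [hyx]

theorem classFn_spec
    (hconv : ∀ x ∈ big z Q, x * x = 1 → x ≠ 1 → x ≠ z → Plane.sb (P x) = false → ∃ g : G, g * z * g⁻¹ = x) :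
    Thompson.ClassFn (K.classFn H B) where
  zero := by
    rw [Bool.eq_false_iff, ne_eq, K.classFn_iff, K.num_zero H B, isConj_one_left]
    exact H.S.ne_one
  one := by rw [K.classFn_iff, K.num_one H B]
  small := fun i hi hi0 => K.small H B hconv hi hi0
  qinv := fun v hv n _ => K.qinv H B hv n
  oinv := fun n _ => K.oinv H B n
  kinv := fun k hk => by
    obtain ⟨δ, hδ, h⟩ := K.kinv H B hk
    exact ⟨δ, hδ, fun n _ => h n⟩
  count := fun x y hx hy => K.count H B hx hy
  norm := fun j hj h => by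
    rw [K.classFn_iff, K.num_l H B hj] at h
    rw [K.classFn_iff, K.num_xor H B, K.num_l H B hj, K.num_one H B]
    exact B.l_norm j hj h

end Coord

end CfsgLib.LargeFischer
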