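import Cfsg.Agent.Lib.LargeFischer.ThompsonBuild

/-!
The normaliser is transitive on the duads, hence has two orbits on the non-identity elements.
-/

set_option autoImplicit false
set_option linter.unusedSectionVars false

namespace CfsgLib.LargeFischer.Thompson

open Cfsg CfsgLib.Golay

/-- A group of the order of `M24` on the model is transitive on the duads. -/
theorem duads_transitive {Mb : Type*} [Group Mb] [Finite Mb] (hcard : Nat.card Mb = 244823040)
    (phi : Mb →* Equiv.Perm (Fin 2048)) (hinj : Function.Injective phi)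
    (hadd : ∀ (m : Mb) (a b : Fin 2048), (phi m (a ^^^ b)).val = (phi m a).val ^^^ (phi m b).val)
    (hduad : ∀ (m : Mb) (d : Fin 2048), d.val ∈ duads → (phi m d).val ∈ duads)
    {d d' : Fin 2048} (hd : d.val ∈ duads) (hd' : d'.val ∈ duads) : ∃ m, phi m d = d' := by
  obtain ⟨ψ, hψM, hψ⟩ := exists_hom phi hadd hduad
  have hψi := hom_injective phi hinj hadd hduad ψ hψ
  have hrange : ψ.range = M24 := by
    refine Subgroup.eq_of_le_of_card_ge (fun x ⟨m, hm⟩ => hm ▸ hψM m) (le_of_eq ?_)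
    rw [card_M24, ← hcard]
    exact Nat.card_congr (MonoidHom.ofInjective hψi).toEquiv
  obtain ⟨p, q, hpq, hpe⟩ := exists_of_mem_duads hd
  obtain ⟨r, s, hrs, hre⟩ := exists_of_mem_duads hd'
  obtain ⟨g, hg, hgm⟩ := exists_map_M24 (xs := [p, q]) (ys := [r, s])
    (by simp [hpq]) (by simp [hrs]) rfl (by simp)
  simp only [List.map_cons, List.map_nil, List.cons.injEq, and_true] at hgm
  obtain ⟨m, rfl⟩ : g ∈ ψ.range := hrange ▸ hg
  refine ⟨m, Fin.ext ?_⟩
  have h := hψ m p q hpq
  rw [show (⟨duadElt p q, duadElt_lt p q⟩ : Fin 2048) = d from Fin.ext hpe, hgm.1, hgm.2] at h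
  rw [h, hre]

namespace Model

variable {G : Type*} [Group G] [Finite G] {A : Subgroup G} {P : G → Prop} (h : Model A P)
include h

/-- Any two elements of the duad class are conjugate under the normaliser. -/
theorem duad_transitive {a b : G} (ha : a ∈ A) (hb : b ∈ A) (hPa : P a) (hPb : P b) :
    ∃ m ∈ Subgroup.normalizer (A : Set G), m * a * m⁻¹ = b := by
  refine Exists.elim (duads_transitive (Mb := ↥(Subgroup.normalizer (A : Set G)) ⧸ (modelHom A h.e).ker)
    ?_ (QuotientGroup.kerLift (modelHom A h.e)) (QuotientGroup.kerLift_injective _) ?_ ?_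
    ((h.duad_iff ⟨a, ha⟩).1 hPa) ((h.duad_iff ⟨b, hb⟩).1 hPb)) fun x hx => ?_
  rotate_right
  · induction x using QuotientGroup.induction_on with
    | _ m =>
      rw [QuotientGroup.kerLift_mk, modelHom_apply, h.e.apply_eq_iff_eq, Subtype.ext_iff] at hx
      exact ⟨m, m.2, hx⟩
  · have hl := Subgroup.card_eq_card_quotient_mul_card_subgroup (modelHom A h.e).ker
    have hk : Nat.card ↥(modelHom A h.e).ker = 2048 := by
      rw [h.ker_eq, Nat.card_congr (Subgroup.subgroupOfEquivOfLe Subgroup.le_normalizer).toEquiv,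
        h.card_eq]
      norm_num
    rw [h.card_normalizer, hk, mul_comm 2048 244823040] at hl
    exact (Nat.eq_of_mul_eq_mul_right (by norm_num) hl).symm
  · intro x a b
    induction x using QuotientGroup.induction_on with
    | _ m =>
      obtain ⟨a, rfl⟩ := h.e.surjective a
      obtain ⟨b, rfl⟩ := h.e.surjective b
      have hab : h.e a ^^^ h.e b = h.e (a * b) := by
        ext
        rw [h.map_mul]
        show ((h.e a).val ^^^ (h.e b).val) % 2048 = _
        exact Nat.mod_eq_of_lt (Nat.xor_lt_two_pow (n := 11) (h.e a).isLt (h.e b).isLt)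
      rw [QuotientGroup.kerLift_mk, hab, modelHom_apply, modelHom_apply, modelHom_apply,
        _root_.map_mul, h.map_mul]
  · intro x d hd
    induction x using QuotientGroup.induction_on with
    | _ m =>
      obtain ⟨a, rfl⟩ := h.e.surjective d
      rw [QuotientGroup.kerLift_mk, modelHom_apply, ← h.duad_iff]
      exact h.conj m a ((h.duad_iff a).2 hd)

end Model

variable {G : Type*} [Group G] [Finite G] {T : Sylow 2 G} {A : Subgroup G}

/-- The two orbits of the normaliser on the non-identity elements. -/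
theorem two_orbits (hu : UniqueEA 2 T A) {z : G} (hzA : z ∈ A) (hz1 : z ≠ 1)
    (h : Model A fun a => a ≠ 1 ∧ ¬ IsConj z a) :
    (∀ a ∈ A, ∀ g : G, g * a * g⁻¹ ∈ A →
      ∃ m ∈ Subgroup.normalizer (A : Set G), m * a * m⁻¹ = g * a * g⁻¹) ∧
    (∃ a ∈ A, a ≠ 1 ∧ IsConj z a) ∧ (∃ a ∈ A, a ≠ 1 ∧ ¬ IsConj z a) ∧
    ∀ a ∈ A, ∀ b ∈ A, a ≠ 1 → b ≠ 1 → (IsConj z a ↔ IsConj z b) →
      ∃ m ∈ Subgroup.normalizer (A : Set G), m * a * m⁻¹ = b := by
  refine ⟨fun a ha g hg => hu.fusion ha g hg, ⟨z, hzA, hz1, IsConj.refl z⟩, ?_, ?_⟩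
  · obtain ⟨d, hd⟩ : ∃ d : Fin 2048, d.val ∈ duads := ⟨2, by decide +kernel⟩
    have hP := (h.duad_iff (h.e.symm d)).2 (by rw [Equiv.apply_symm_apply]; exact hd)
    exact ⟨_, (h.e.symm d).2, hP.1, hP.2⟩
  · intro a ha b hb ha1 hb1 hiff
    by_cases hz : IsConj z a
    · exact (hu.conj_iff ha hb).1 (hz.symm.trans (hiff.1 hz))
    · exact h.duad_transitive ha hb ⟨ha1, hz⟩ ⟨hb1, fun e => hz (hiff.2 e)⟩

end CfsgLib.LargeFischer.Thompson
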