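import Cfsg.Agent.Lib.LargeExtra.Setting

/-!
A Sylow subgroup of the centraliser of the central involution is a Sylow subgroup of the whole group.
-/

set_option autoImplicit false

namespace CfsgLib.LargeFischer.Thompson

open CfsgLib

variable {G : Type*} [Group G] {z : G} {E : Subgroup G} (h : LargeExtra.Setting z E)
include h

/-- A 2-subgroup containing `E` has centre inside `⟨z⟩`. -/
theorem central_cases {T : Subgroup G} (hET : E ≤ T) {x : G} (hc : ∀ t ∈ T, x * t = t * x) :
    x = 1 ∨ x = z := by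
  have hxE : x ∈ E := h.self_cent x fun e he => hc e (hET he)
  exact h.center x hxE fun b hb => hc b (hET hb)

/-- The normaliser of such a subgroup centralises `z`. -/
theorem normalizer_le_centralizer {T : Subgroup G} (hET : E ≤ T)
    (hTC : T ≤ Subgroup.centralizer ({z} : Set G)) :
    Subgroup.normalizer (T : Set G) ≤ Subgroup.centralizer ({z} : Set G) := by
  intro g hg
  have hzT : z ∈ T := hET h.mem
  have hcent : ∀ t ∈ T, g * z * g⁻¹ * t = t * (g * z * g⁻¹) := by
    intro t ht
    have hmem : g⁻¹ * t * g ∈ T := (Subgroup.mem_normalizer_iff.1 hg _).2 (by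
      show g * (g⁻¹ * t * g) * g⁻¹ ∈ T
      simpa [mul_assoc] using ht)
    have hcom := Subgroup.mem_centralizer_singleton_iff.1 (hTC hmem)
    calc g * z * g⁻¹ * t = g * (z * (g⁻¹ * t * g)) * g⁻¹ := by group
      _ = g * ((g⁻¹ * t * g) * z) * g⁻¹ := by rw [hcom]
      _ = t * (g * z * g⁻¹) := by group
  rcases central_cases h hET hcent with e | e
  · exact absurd (mul_inv_eq_one.1 e) fun e' => h.ne_one (mul_eq_left.1 e')
  · exact Subgroup.mem_centralizer_singleton_iff.2 (mul_inv_eq_iff_eq_mul.1 e)

omit h in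
variable [Finite G] in
theorem exists_sylow_eq_aux (h : LargeExtra.Setting z E) (C : Subgroup G)
    (hCz : C = Subgroup.centralizer ({z} : Set G)) (T : Sylow 2 ↥C) :
    ∃ P : Sylow 2 G, (P : Subgroup G) = (T : Subgroup ↥C).map C.subtype := by
  have : Fact (Nat.Prime 2) := ⟨Nat.prime_two⟩
  set T' := (T : Subgroup C).map C.subtype with hT'
  have hTC : T' ≤ C := Subgroup.map_subtype_le _
  have hEC : E ≤ C := fun e he => hCz ▸ Subgroup.mem_centralizer_singleton_iff.2 (h.le_cent e he)
  have hEn : (E.subgroupOf C).Normal := ⟨fun e he c => Subgroup.mem_subgroupOf.2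
    (h.normal c (Subgroup.mem_centralizer_singleton_iff.1 (hCz.le c.2)) e he)⟩
  have hEp : IsPGroup 2 (E.subgroupOf C) := h.two.comap_of_injective C.subtype C.subtype_injective
  have hET : E ≤ T' := by
    intro e he
    refine ⟨⟨e, hEC he⟩, ?_, rfl⟩
    have hsup : (T : Subgroup C) ⊔ E.subgroupOf C = T :=
      T.is_maximal' (T.isPGroup'.to_sup_of_normal_right hEp) le_sup_left
    rw [← hsup]
    exact Subgroup.mem_sup_right (Subgroup.mem_subgroupOf.2 he)
  obtain ⟨P, hP⟩ := (T.isPGroup'.map C.subtype).exists_le_sylow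
  refine ⟨P, (le_antisymm hP ?_).symm⟩
  by_contra hlt
  have hne : T'.subgroupOf (P : Subgroup G) ≠ ⊤ := fun e => hlt (Subgroup.subgroupOf_eq_top.1 e)
  have := P.isPGroup'.isNilpotent
  have hlt' : T'.subgroupOf (P : Subgroup G) <
      Subgroup.normalizer ((T'.subgroupOf (P : Subgroup G) : Subgroup _) : Set (P : Subgroup G)) :=
    Group.normalizerCondition_of_isNilpotent _ (lt_top_iff_ne_top.2 hne)
  obtain ⟨x, hx, hxT⟩ := SetLike.exists_of_lt hlt'
  have hxN : (x : G) ∈ Subgroup.normalizer (T' : Set G) := by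
    rw [Subgroup.mem_normalizer_iff]
    intro t
    constructor
    · intro ht
      exact (Subgroup.mem_normalizer_iff.1 hx ⟨t, hP ht⟩).1 ht
    · intro ht
      have htP : t ∈ (P : Subgroup G) := by
        have := mul_mem (mul_mem (inv_mem x.2) (hP ht)) x.2
        simpa [mul_assoc] using this
      exact (Subgroup.mem_normalizer_iff.1 hx ⟨t, htP⟩).2 ht
  have hxC := hCz.ge (normalizer_le_centralizer h hET (hTC.trans hCz.le) hxN)
  have hmax : ((P : Subgroup G).subgroupOf C) = T :=
    T.is_maximal' (P.isPGroup'.comap_of_injective C.subtype C.subtype_injective)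
      (fun t ht => Subgroup.mem_subgroupOf.2 (hP ⟨t, ht, rfl⟩))
  exact hxT ⟨⟨x, hxC⟩, hmax.le (Subgroup.mem_subgroupOf.2 x.2), rfl⟩

omit h in
variable [Finite G] in
/-- A Sylow subgroup of the centraliser of `z` is one of `G`. -/
theorem exists_sylow_eq (h : LargeExtra.Setting z E)
    (T : Sylow 2 ↥(Subgroup.centralizer ({z} : Set G))) :
    ∃ P : Sylow 2 G, (P : Subgroup G) =
      (T : Subgroup ↥(Subgroup.centralizer ({z} : Set G))).map
        (Subgroup.centralizer ({z} : Set G)).subtype :=
  exists_sylow_eq_aux h _ rfl T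

end CfsgLib.LargeFischer.Thompson
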