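import Cfsg.Agent.Lib.LargeFischer.Thompson
import Cfsg.Agent.Lib.LargeFischer.ThompsonBuild
import Cfsg.Agent.Lib.LargeFischer.ThompsonOrbits
import Cfsg.Agent.Lib.LargeFischer.ThompsonSylow

/-!
The Thompson subgroup of an arbitrary Sylow 2-subgroup as a conjugate of the standard elementary abelian
subgroup, and its normalizer from coordinates.
-/

set_option autoImplicit false
set_option linter.unusedSectionVars false
set_option linter.style.haveILetI false

namespace CfsgLib.LargeFischer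

open Cfsg
open CfsgLib.F2Quad (Vec)

namespace Plane.Model

variable {Γ : Type*} [Group Γ] {f : Γ → ℕ → ℕ} (M : Model f) [Finite Γ]
include M

theorem card_stab : Nat.card M.stab = 34560 := by
  obtain ⟨σ, hσ, hσl⟩ := M.exists_nonlin
  have hidx : (M.linG.subgroupOf M.stab).index = 2 := by
    refine Subgroup.index_eq_two_iff.2 ⟨⟨σ, hσ⟩, fun b => ?_⟩
    simp only [Subgroup.mem_subgroupOf, Subgroup.coe_mul]
    by_cases hb : (b : Γ) ∈ M.linG
    · exact Or.inr ⟨hb, fun h => hσl (by simpa using mul_mem (inv_mem hb) h)⟩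
    · exact Or.inl ⟨M.flip_mul hb hσl, hb⟩
  have h := Subgroup.card_mul_index (M.linG.subgroupOf M.stab)
  have e : Nat.card ↥(M.linG.subgroupOf M.stab) = 17280 := by
    rw [← M.counts.2.1, ← Subgroup.card_map_of_injective M.stab.subtype_injective, Subgroup.subgroupOf_map_subtype]
  rw [hidx, e] at h
  omega

end Plane.Model

variable {G : Type*} [Group G] [Finite G]

namespace Coord

variable {z : G} {Q : Subgroup (Subgroup.centralizer ({z} : Set G))} [Q.Normal]
  {ρ : (Subgroup.centralizer ({z} : Set G)) ⧸ Q →* (Vec 6 ≃ₗ[ZMod 2] Vec 6)} {qf : Vec 6 → ZMod 2}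
  {p : G → Vec 6} {u w : Vec 6} (H : Hyp z Q ρ qf p u w)
  {f : (Subgroup.centralizer ({z} : Set G)) ⧸ Q → ℕ → ℕ} {P : G → ℕ} (K : Coord z Q f P)
include H K

theorem z_mem_AA : z ∈ K.AA H := K.A0_le_AA H (K.z_mem_A0 H)

theorem centralizer_AA_le :
    Subgroup.centralizer ({z} : Set G) ⊓ Subgroup.centralizer (K.AA H : Set G) ≤ K.AA H :=
  inf_le_inf_left _ (Subgroup.centralizer_le (K.A0_le_AA H))

theorem normalizer_AA :
    Subgroup.normalizer (K.AA H : Set G) ⊓ Subgroup.centralizer ({z} : Set G) =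
      (K.model.stab.comap (QuotientGroup.mk' Q)).map (Subgroup.centralizer ({z} : Set G)).subtype := by
  ext g
  constructor
  · rintro ⟨hgN, hgC⟩
    refine ⟨⟨g, hgC⟩, K.model.mem_stab_of fun v hv => ?_, rfl⟩
    obtain ⟨x, hx, rfl⟩ := K.P_surj v (Plane.plane_facts hv).1
    rw [QuotientGroup.mk'_apply, ← K.P_act ⟨g, hgC⟩ x hx, Plane.mem_plane_iff (K.P_lt _)]
    have h1 : x ∈ K.AA H := K.A0_le_AA H ⟨hx, hv⟩
    exact ((K.AA_inf_big H).le (Subgroup.mem_inf.2 ⟨(Subgroup.mem_normalizer_iff.1 hgN x).1 h1,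
      H.S.normal g (Subgroup.mem_centralizer_singleton_iff.1 hgC) x hx⟩)).2
  · rintro ⟨c, hc, rfl⟩
    refine ⟨Subgroup.mem_normalizer_fintype fun x hx => ?_, c.2⟩
    exact K.conj_AA H hc hx

theorem card_normalizer_AA :
    Nat.card ↥(Subgroup.normalizer (K.AA H : Set G) ⊓ Subgroup.centralizer ({z} : Set G)) = 2048 * 138240 := by
  rw [K.normalizer_AA H, K.card_comap H, K.model.card_stab]
  norm_num

/-- The largest elementary abelian subgroup of any Sylow 2-subgroup of `G`. -/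
theorem exists_unique (T : Sylow 2 G) :
    ∃ g : G, Thompson.UniqueEA 2 T ((K.AA H).map (MulAut.conj g).toMonoidHom) ∧
      thompsonSubgroupOf 2 (T : Subgroup G) = (K.AA H).map (MulAut.conj g).toMonoidHom := by
  classical
  haveI : Fact (Nat.Prime 2) := ⟨Nat.prime_two⟩
  let T₀ : Sylow 2 ↥(Subgroup.centralizer ({z} : Set G)) := default
  obtain ⟨P₀, hP₀⟩ := Thompson.exists_sylow_eq H.S T₀
  obtain ⟨c, hcle, hcu⟩ := K.sylow_unique H T₀
  rw [← hP₀] at hcle hcu
  obtain ⟨h, hh⟩ := MulAction.exists_smul_eq G P₀ T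
  have hT : ∀ x, x ∈ (T : Subgroup G) ↔ h⁻¹ * x * h ∈ (P₀ : Subgroup G) := fun x => by
    rw [← hh, Sylow.coe_subgroup_smul, Subgroup.mem_pointwise_smul_iff_inv_smul_mem, ← map_inv, MulAut.smul_def,
      MulAut.conj_apply, inv_inv]
  set g := h * (c : G)
  set A' := (K.AA H).map (MulAut.conj g).toMonoidHom with hA'
  have hA'T : A' ≤ (T : Subgroup G) := by
    rintro _ ⟨a, ha, rfl⟩
    rw [hT]
    have hm := hcle (show (c : G) * a * (c : G)⁻¹ ∈ _ from ⟨a, ha, rfl⟩)
    rwa [show h⁻¹ * ((MulAut.conj g).toMonoidHom a) * h = (c : G) * a * (c : G)⁻¹ by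
      show h⁻¹ * (h * (c : G) * a * (h * (c : G))⁻¹) * h = _
      group]
  have hel := Thompson.isEA_conj (K.AA_elementary H) g
  rw [← hA'] at hel
  have hA'card : Nat.card A' = 2 ^ 11 := by
    rw [hA', Subgroup.card_map_of_injective (MulAut.conj g).injective, (K.card_AA H).1]
  have huniq : ∀ B : Subgroup G, B ≤ (T : Subgroup G) → IsElementaryAbelian 2 B → 2 ^ 11 ≤ Nat.card B → B = A' := by
    intro B hB hBe hcard
    have hBe' := Thompson.isEA_conj hBe h⁻¹
    have := hcu (B.map (MulAut.conj h⁻¹).toMonoidHom) (by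
        rintro _ ⟨b, hb, rfl⟩
        have := (hT b).1 (hB hb)
        simpa using this)
      (fun a ha b hb => congrArg Subtype.val (hBe'.1.is_comm.comm ⟨a, ha⟩ ⟨b, hb⟩))
      (fun a ha => by rw [← pow_two]; exact hBe'.2 a ha)
      (by rw [Subgroup.card_map_of_injective (MulAut.conj h⁻¹).injective]; exact hcard)
    have e := congrArg (Subgroup.map (MulAut.conj h).toMonoidHom) this
    rw [Subgroup.map_map, Subgroup.map_map] at e
    rw [hA']
    have e1 : ((MulAut.conj h).toMonoidHom.comp (MulAut.conj h⁻¹).toMonoidHom) = MonoidHom.id G := by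
      ext x; simp [mul_assoc]
    have e2 : ((MulAut.conj h).toMonoidHom.comp (MulAut.conj (c : G)).toMonoidHom) = (MulAut.conj g).toMonoidHom := by
      ext x; simp [g, mul_assoc]
    rwa [e1, e2, Subgroup.map_id] at e
  refine ⟨g, ⟨hA'T, hel, fun B hB hBe hcard => huniq B hB hBe (hA'card ▸ hcard)⟩, ?_⟩
  have hmax : maxElementaryAbelianSubgroups 2 ↥(T : Subgroup G) = {A'.subgroupOf (T : Subgroup G)} := by
    have hmapEA : ∀ D : Subgroup ↥(T : Subgroup G), IsElementaryAbelian 2 D →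
        IsElementaryAbelian 2 (D.map (T : Subgroup G).subtype) := by
      intro D hD
      refine ⟨⟨⟨fun a b => ?_⟩⟩, ?_⟩
      · obtain ⟨_, a, ha, rfl⟩ := a
        obtain ⟨_, b, hb, rfl⟩ := b
        exact Subtype.ext (congrArg (fun x : D => ((x : ↥(T : Subgroup G)) : G)) (hD.1.is_comm.comm ⟨a, ha⟩ ⟨b, hb⟩))
      · rintro _ ⟨a, ha, rfl⟩
        rw [← map_pow, hD.2 a ha, map_one]
    have hcard : Nat.card ↥(A'.subgroupOf (T : Subgroup G)) = 2 ^ 11 := by
      rw [Nat.card_congr (Subgroup.subgroupOfEquivOfLe hA'T).toEquiv, hA'card]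
    have hle : ∀ D : Subgroup ↥(T : Subgroup G), IsElementaryAbelian 2 D → 2 ^ 11 ≤ Nat.card D →
        D = A'.subgroupOf (T : Subgroup G) := by
      intro D hD hDc
      have := huniq _ (Subgroup.map_subtype_le D) (hmapEA D hD)
        (by rw [Subgroup.card_map_of_injective (Subgroup.subtype_injective _)]; exact hDc)
      rw [← this]
      exact (Subgroup.comap_map_eq_self_of_injective (Subgroup.subtype_injective _) D).symm
    have hA'e : IsElementaryAbelian 2 (A'.subgroupOf (T : Subgroup G)) :=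
      ⟨⟨⟨fun a b => Subtype.ext (Subtype.ext (by
        have h := congrArg Subtype.val (hel.1.is_comm.comm ⟨_, a.2⟩ ⟨_, b.2⟩)
        exact h))⟩⟩, fun a ha => Subtype.ext (hel.2 _ ha)⟩
    have hbound : ∀ D : Subgroup ↥(T : Subgroup G), IsElementaryAbelian 2 D → Nat.card D ≤ 2 ^ 11 := by
      intro D hD
      by_contra hlt
      rw [hle D hD (by omega), hcard] at hlt
      omega
    refine Set.eq_singleton_iff_unique_mem.2 ⟨⟨hA'e, fun D hD => hcard ▸ hbound D hD⟩, fun D hD => ?_⟩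
    exact hle D hD.1 (hcard ▸ hD.2 _ hA'e)
  rw [thompsonSubgroupOf, thompsonSubgroup, hmax, sSup_singleton, Subgroup.map_subgroupOf_eq_of_le hA'T]

/-- The three statements on the Thompson subgroup from coordinates on the standard subgroup. -/
theorem exists_setup (e : K.AA H ≃ Fin 2048)
    (hmul : ∀ a b : K.AA H, (e (a * b)).val = (e a).val ^^^ (e b).val)
    (hduad : ∀ a : K.AA H, ((a : G) ≠ 1 ∧ ¬ IsConj z (a : G)) ↔ (e a).val ∈ Thompson.duads)
    (T : Sylow 2 G) :
    ∃ (A : Subgroup G) (z₁ : G), thompsonSubgroupOf 2 (T : Subgroup G) = A ∧ Thompson.UniqueEA 2 T A ∧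
      IsConj z z₁ ∧ z₁ ∈ A ∧ z₁ ≠ 1 ∧ Nonempty (Thompson.Model A fun a => a ≠ 1 ∧ ¬ IsConj z₁ a) := by
  obtain ⟨g, hu, hJ⟩ := K.exists_unique H T
  set φ := (MulAut.conj g).toMonoidHom with hφ
  have hφi : Function.Injective φ := (MulAut.conj g).injective
  let eA : K.AA H ≃* ↥((K.AA H).map φ) := (K.AA H).equivMapOfInjective φ hφi
  have heA : ∀ a : K.AA H, ((eA a : ↥((K.AA H).map φ)) : G) = g * (a : G) * g⁻¹ := fun a => rfl
  refine ⟨_, g * z * g⁻¹, hJ, hu, isConj_iff.2 ⟨g, rfl⟩, ⟨z, K.z_mem_AA H, rfl⟩,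
    fun e' => H.S.ne_one (conj_eq_one_iff.1 e'), ?_⟩
  refine Thompson.exists_model hu (z := g * z * g⁻¹) ⟨z, K.z_mem_AA H, rfl⟩ (fun e' => H.S.ne_one (conj_eq_one_iff.1 e'))
    (eA.symm.toEquiv.trans e) (fun a b => ?_) (fun a => ?_) ?_ ?_
  · show (e (eA.symm (a * b))).val = _
    rw [map_mul]; exact hmul _ _
  · obtain ⟨b, rfl⟩ := eA.surjective a
    show _ ↔ (e (eA.symm (eA b))).val ∈ _
    rw [eA.symm_apply_apply, ← hduad, heA]
    refine and_congr (by rw [ne_eq, conj_eq_one_iff]) (not_congr ⟨fun h => ?_, fun h => ?_⟩)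
    · exact ((isConj_iff.2 ⟨g, rfl⟩ : IsConj z (g * z * g⁻¹)).trans h).trans
        (isConj_iff.2 ⟨g⁻¹, by group⟩)
    · exact ((isConj_iff.2 ⟨g, rfl⟩ : IsConj z (g * z * g⁻¹)).symm.trans h).trans (isConj_iff.2 ⟨g, rfl⟩)
  · rintro y ⟨hyz, hyA⟩
    have h := K.centralizer_AA_le H (show g⁻¹ * y * g ∈ _ from Subgroup.mem_inf.2
      ⟨Subgroup.mem_centralizer_singleton_iff.2 (by
        calc g⁻¹ * y * g * z = g⁻¹ * (y * (g * z * g⁻¹)) * g := by group
          _ = _ := by rw [Subgroup.mem_centralizer_singleton_iff.1 hyz]; group),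
      Subgroup.mem_centralizer_iff.2 fun a ha => by
        have h1 := Subgroup.mem_centralizer_iff.1 hyA (g * a * g⁻¹) ⟨a, ha, rfl⟩
        calc a * (g⁻¹ * y * g) = g⁻¹ * (g * a * g⁻¹ * y) * g := by group
          _ = _ := by rw [h1]; group⟩)
    exact ⟨g⁻¹ * y * g, h, by show g * (g⁻¹ * y * g) * g⁻¹ = y; group⟩
  · rw [← K.card_normalizer_AA H]
    have hmap : Subgroup.normalizer ((K.AA H).map φ : Set G) ⊓ Subgroup.centralizer ({g * z * g⁻¹} : Set G) =
        (Subgroup.normalizer (K.AA H : Set G) ⊓ Subgroup.centralizer ({z} : Set G)).map φ := by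
      ext y
      rw [hφ, mem_conjQ, Subgroup.mem_inf, Subgroup.mem_inf, Subgroup.mem_centralizer_singleton_iff,
        Subgroup.mem_centralizer_singleton_iff, Subgroup.mem_normalizer_iff, Subgroup.mem_normalizer_iff]
      refine and_congr ⟨fun h x => ?_, fun h x => ?_⟩ ⟨fun h => ?_, fun h => ?_⟩
      · have h1 := h (g * x * g⁻¹)
        rw [mem_conjQ, mem_conjQ] at h1
        simpa [mul_assoc] using h1
      · rw [mem_conjQ, mem_conjQ]
        have h1 := h (g⁻¹ * x * g)
        simpa [mul_assoc] using h1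
      · calc g⁻¹ * y * g * z = g⁻¹ * (y * (g * z * g⁻¹)) * g := by group
          _ = _ := by rw [h]; group
      · calc y * (g * z * g⁻¹) = g * (g⁻¹ * y * g * z) * g⁻¹ := by group
          _ = _ := by rw [h]; group
    rw [hmap, Subgroup.card_map_of_injective hφi]

end Coord

end CfsgLib.LargeFischer
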