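import Cfsg.Agent.Lib.LargeFischer.ThompsonClassFn
import Cfsg.Agent.Lib.LargeFischer.ThompsonClass
import Cfsg.Agent.Lib.LargeFischer.ThompsonBodies

/-!
Coordinates on the Thompson subgroup in which the non-central involutions are the duads.
-/

set_option autoImplicit false
set_option linter.unusedSectionVars false

namespace CfsgLib.LargeFischer

open Cfsg
open CfsgLib.F2Quad (Vec)

variable {G : Type*} [Group G] [Finite G] {z : G} {Q : Subgroup (Subgroup.centralizer ({z} : Set G))} [Q.Normal]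
  {ρ : (Subgroup.centralizer ({z} : Set G)) ⧸ Q →* (Vec 6 ≃ₗ[ZMod 2] Vec 6)} {qf : Vec 6 → ZMod 2}
  {p : G → Vec 6} {u w : Vec 6}

theorem Hyp.exists_duads (H : Hyp z Q ρ qf p u w) :
    ∃ f P, ∃ K : Coord z Q f P, K.HasDuads H := by
  obtain ⟨f, P, K, hconv⟩ := H.exists_coord
  refine ⟨f, P, K, ?_⟩
  obtain ⟨c, b, l, B⟩ := K.exists_basis H
  obtain ⟨e, he⟩ := K.exists_equiv H B
  have hmul : ∀ a a' : K.AA H, (e (a * a')).val = (e a).val ^^^ (e a').val := by
    intro a a'
    have hlt : (e a).val ^^^ (e a').val < 2048 := Nat.xor_lt_two_pow (n := 11) (e a).isLt (e a').isLt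
    have hsym : ∀ n : Fin 2048, ((e.symm n : K.AA H) : G) = K.num H B n.val := fun n => by
      rw [← he (e.symm n), e.apply_symm_apply]
    have h : e (a * a') = ⟨_, hlt⟩ := by
      rw [← e.eq_symm_apply]
      refine Subtype.ext ?_
      rw [hsym]
      show (a : G) * (a' : G) = _
      rw [K.num_xor H B, he, he]
    rw [h]
  refine ⟨e, hmul, fun a => ?_⟩
  rw [← (K.classFn_spec H B hconv).duads (e a).isLt, Bool.eq_false_iff, ne_eq (K.classFn H B _), K.classFn_iff H B, he]
  refine and_congr (not_congr ⟨fun h => ?_, fun h => ?_⟩) Iff.rfl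
  · rw [show a = 1 from Subtype.ext h]
    have h1 := hmul 1 1
    rw [one_mul, Nat.xor_self] at h1
    exact h1
  · rw [← he a, h, K.num_zero H B]

end CfsgLib.LargeFischer
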