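import Cfsg.Agent.Lib.LargeFischer.ThompsonM24
import Cfsg.Prelude.Def_Transfer

/-!
A subgroup with the model of the Thompson subgroup whose normaliser has the full order: the normaliser
modulo it is the Mathieu group, and the centraliser of a duad element is the stabiliser of a pair.
-/

set_option autoImplicit false
set_option linter.unusedSectionVars false

namespace CfsgLib.LargeFischer.Thompson

open Cfsg CfsgLib.Golay
open scoped Pointwise

variable {G : Type*} [Group G] [Finite G] (A : Subgroup G)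

/-- Conjugation by the normaliser, in the model. -/
noncomputable def modelHom (e : A ≃ Fin 2048) :
    ↥(Subgroup.normalizer (A : Set G)) →* Equiv.Perm (Fin 2048) :=
  ((Equiv.permCongrHom e).toMonoidHom.comp (MulAut.toPerm A)).comp A.normalizerMonoidHom

omit [Finite G] in
theorem modelHom_apply (e : A ≃ Fin 2048) (m : ↥(Subgroup.normalizer (A : Set G))) (a : A) :
    modelHom A e m (e a) = e (A.normalizerMonoidHom m a) := by
  simp [modelHom, Equiv.permCongrHom, Equiv.permCongr_apply]
  rfl

variable {A}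

omit [Finite G] in
theorem modelHom_ker (e : A ≃ Fin 2048)
    (hC : Subgroup.normalizer (A : Set G) ⊓ Subgroup.centralizer (A : Set G) ≤ A)
    (hcomm : ∀ a b : A, a * b = b * a) :
    (modelHom A e).ker = A.subgroupOf (Subgroup.normalizer (A : Set G)) := by
  have h : (modelHom A e).ker = A.normalizerMonoidHom.ker := by
    ext m
    simp only [MonoidHom.mem_ker]
    constructor
    · intro hm
      refine MulEquiv.ext fun a => e.injective ?_
      rw [← modelHom_apply, hm, Equiv.Perm.one_apply]
      rfl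
    · intro hm
      refine Equiv.ext fun x => ?_
      obtain ⟨a, rfl⟩ := e.surjective x
      rw [modelHom_apply, hm, Equiv.Perm.one_apply]
      rfl
  rw [h, Subgroup.normalizerMonoidHom_ker]
  ext m
  simp only [Subgroup.mem_subgroupOf]
  refine ⟨fun hm => hC (Subgroup.mem_inf.2 ⟨m.2, hm⟩), fun hm => ?_⟩
  exact Subgroup.mem_centralizer_iff.2 fun b hb => congrArg Subtype.val (hcomm ⟨b, hb⟩ ⟨_, hm⟩)

/-- The hypotheses of the identification. -/
structure Model (A : Subgroup G) (P : G → Prop) where
  /-- the numbering -/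
  e : A ≃ Fin 2048
  map_mul : ∀ a b : A, (e (a * b)).val = (e a).val ^^^ (e b).val
  centralizer_le : Subgroup.normalizer (A : Set G) ⊓ Subgroup.centralizer (A : Set G) ≤ A
  card_normalizer : Nat.card ↥(Subgroup.normalizer (A : Set G)) = 2048 * 244823040
  duad_iff : ∀ a : A, P a ↔ (e a).val ∈ duads
  conj : ∀ (g a : G), P a → P (g * a * g⁻¹)

namespace Model

variable {P : G → Prop} (h : Model A P)
include h

omit [Finite G] in
theorem map_one : (h.e 1).val = 0 := by
  have h1 := h.map_mul 1 1
  rw [one_mul, Nat.xor_self] at h1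
  exact h1

omit [Finite G] in
theorem mul_self (a : A) : a * a = 1 :=
  h.e.injective (Fin.ext (by rw [h.map_mul, Nat.xor_self, h.map_one]))

omit [Finite G] in
theorem comm (a b : A) : a * b = b * a :=
  h.e.injective (Fin.ext (by rw [h.map_mul, h.map_mul, Nat.xor_comm]))

omit [Finite G] in
theorem isElementaryAbelian : IsElementaryAbelian 2 A :=
  ⟨⟨⟨h.comm⟩⟩, fun a ha => by
    have := congrArg Subtype.val (h.mul_self ⟨a, ha⟩)
    rw [pow_two]; exact this⟩

omit [Finite G] in
theorem card_eq : Nat.card A = 2 ^ 11 := by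
  rw [Nat.card_congr h.e, Nat.card_fin]; norm_num

omit [Finite G] in
theorem ker_eq : (modelHom A h.e).ker = A.subgroupOf (Subgroup.normalizer (A : Set G)) :=
  modelHom_ker h.e h.centralizer_le h.comm

theorem exists_equivs :
    Nonempty (↥(Subgroup.normalizer (A : Set G)) ⧸ (modelHom A h.e).ker ≃* ↥M24) ∧
      ∀ t : A, P t → Nonempty (↥((MulAction.stabilizer (Equiv.Perm (Fin 2048)) (h.e t)).comap
        (QuotientGroup.kerLift (modelHom A h.e))) ≃*
          ↥(M24 ⊓ MulAction.stabilizer (Equiv.Perm GolayPt) ({none, some 0} : Set GolayPt))) := by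
  have hmain := exists_equiv_M24 (Mb := ↥(Subgroup.normalizer (A : Set G)) ⧸ (modelHom A h.e).ker)
    ?_ (QuotientGroup.kerLift (modelHom A h.e)) (QuotientGroup.kerLift_injective _) ?_ ?_
  · exact ⟨hmain.1, fun t ht => hmain.2 _ ((h.duad_iff t).1 ht)⟩
  · have hl := Subgroup.card_eq_card_quotient_mul_card_subgroup (modelHom A h.e).ker
    have hk : Nat.card ↥(modelHom A h.e).ker = 2048 := by
      rw [h.ker_eq, Nat.card_congr (Subgroup.subgroupOfEquivOfLe Subgroup.le_normalizer).toEquiv,
        h.card_eq]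
      norm_num
    rw [h.card_normalizer, hk, mul_comm 2048 244823040] at hl
    exact (Nat.eq_of_mul_eq_mul_right (by norm_num) hl).symm
  · intro x a b
    induction x using QuotientGroup.induction_on with
    | _ m =>
      obtain ⟨a, rfl⟩ := h.e.surjective a
      obtain ⟨b, rfl⟩ := h.e.surjective b
      have hab : h.e a ^^^ h.e b = h.e (a * b) := by
        ext
        rw [h.map_mul]
        show ((h.e a).val ^^^ (h.e b).val) % 2048 = _
        exact Nat.mod_eq_of_lt (Nat.xor_lt_two_pow (n := 11) (h.e a).isLt (h.e b).isLt)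
      rw [QuotientGroup.kerLift_mk, hab, modelHom_apply, modelHom_apply, modelHom_apply,
        _root_.map_mul, h.map_mul]
  · intro x d hd
    induction x using QuotientGroup.induction_on with
    | _ m =>
      obtain ⟨a, rfl⟩ := h.e.surjective d
      rw [QuotientGroup.kerLift_mk, modelHom_apply, ← h.duad_iff]
      exact h.conj m a ((h.duad_iff a).2 hd)

theorem normalizer_quotient :
    ∃ _ : (A.subgroupOf (Subgroup.normalizer (A : Set G))).Normal,
      Nonempty (↥(Subgroup.normalizer (A : Set G)) ⧸ A.subgroupOf (Subgroup.normalizer (A : Set G))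
        ≃* ↥M24) := by
  have hn : (A.subgroupOf (Subgroup.normalizer (A : Set G))).Normal := h.ker_eq ▸ inferInstance
  obtain ⟨φ⟩ := h.exists_equivs.1
  exact ⟨hn, ⟨(QuotientGroup.quotientMulEquivOfEq h.ker_eq.symm).trans φ⟩⟩

theorem centralizer_quotient (M : Subgroup G) (hM : M = Subgroup.normalizer (A : Set G)) (t : G)
    (htA : t ∈ A) (ht : P t) :
    ∃ _ : (A.subgroupOf (M ⊓ Subgroup.centralizer ({t} : Set G))).Normal,
      Nonempty (↥(M ⊓ Subgroup.centralizer ({t} : Set G)) ⧸
        A.subgroupOf (M ⊓ Subgroup.centralizer ({t} : Set G)) ≃*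
          ↥(M24 ⊓ MulAction.stabilizer (Equiv.Perm GolayPt) ({none, some 0} : Set GolayPt))) := by
  subst hM
  set S := (MulAction.stabilizer (Equiv.Perm (Fin 2048)) (h.e ⟨t, htA⟩)).comap
    (QuotientGroup.kerLift (modelHom A h.e)) with hS
  let ι : ↥(Subgroup.normalizer (A : Set G) ⊓ Subgroup.centralizer ({t} : Set G)) →*
      ↥(Subgroup.normalizer (A : Set G)) := Subgroup.inclusion inf_le_left
  have hfix : ∀ m : ↥(Subgroup.normalizer (A : Set G)),
      modelHom A h.e m (h.e ⟨t, htA⟩) = h.e ⟨t, htA⟩ ↔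
        (m : G) ∈ Subgroup.centralizer ({t} : Set G) := by
    intro m
    rw [modelHom_apply, h.e.apply_eq_iff_eq, Subtype.ext_iff, Subgroup.mem_centralizer_singleton_iff]
    show (m : G) * t * (m : G)⁻¹ = t ↔ _
    constructor
    · intro e
      exact mul_inv_eq_iff_eq_mul.1 e
    · intro e
      rw [e, mul_assoc, mul_inv_cancel, mul_one]
  let θ := MonoidHom.codRestrict ((QuotientGroup.mk' (modelHom A h.e).ker).comp ι) S (fun m => by
    show QuotientGroup.kerLift (modelHom A h.e) (QuotientGroup.mk (ι m)) • h.e ⟨t, htA⟩ = _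
    rw [QuotientGroup.kerLift_mk, Equiv.Perm.smul_def, (hfix (ι m)).2 (Subgroup.mem_inf.1 m.2).2])
  have hsurj : Function.Surjective θ := by
    rintro ⟨x, hx⟩
    induction x using QuotientGroup.induction_on with
    | _ m =>
      have hx' : QuotientGroup.kerLift (modelHom A h.e) (QuotientGroup.mk m) • h.e ⟨t, htA⟩ =
          h.e ⟨t, htA⟩ := hx
      rw [QuotientGroup.kerLift_mk, Equiv.Perm.smul_def] at hx'
      exact ⟨⟨m, Subgroup.mem_inf.2 ⟨m.2, (hfix m).1 hx'⟩⟩, Subtype.ext rfl⟩
  have hker : θ.ker =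
      A.subgroupOf (Subgroup.normalizer (A : Set G) ⊓ Subgroup.centralizer ({t} : Set G)) := by
    ext m
    rw [MonoidHom.mem_ker, Subgroup.mem_subgroupOf]
    show θ m = 1 ↔ _
    rw [Subtype.ext_iff]
    show (QuotientGroup.mk (ι m) : _ ⧸ (modelHom A h.e).ker) = 1 ↔ _
    rw [QuotientGroup.eq_one_iff, h.ker_eq, Subgroup.mem_subgroupOf]
    rfl
  have hn : (A.subgroupOf
      (Subgroup.normalizer (A : Set G) ⊓ Subgroup.centralizer ({t} : Set G))).Normal :=
    hker ▸ inferInstance
  obtain ⟨φ⟩ := h.exists_equivs.2 ⟨t, htA⟩ ht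
  exact ⟨hn, ⟨((QuotientGroup.quotientMulEquivOfEq hker.symm).trans
    (QuotientGroup.quotientKerEquivOfSurjective θ hsurj)).trans φ⟩⟩

end Model

end CfsgLib.LargeFischer.Thompson
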