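import Cfsg.Agent.Lib.LargeFischer.Thompson

/-!
The unique largest elementary abelian subgroup of a Sylow 2-subgroup of the centralizer.
-/

set_option autoImplicit false
set_option linter.unusedSectionVars false
set_option linter.style.haveILetI false

namespace CfsgLib.LargeFischer

open Cfsg

/-- The largest elementary abelian subgroup of a Sylow 2-subgroup of `C(z)`. -/
theorem thompson_local {G : Type*} [Group G] [Finite G] (z : G) (Q : Subgroup (Subgroup.centralizer ({z} : Set G)))
    [Q.Normal] (hF : Cfsg.IsOfLargeFischerTypeAt z Q) (T : Sylow 2 ↥(Subgroup.centralizer ({z} : Set G))) :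
    ∃ A : Subgroup ↥(T : Subgroup (Subgroup.centralizer ({z} : Set G))),
      Cfsg.maxElementaryAbelianSubgroups 2 ↥(T : Subgroup (Subgroup.centralizer ({z} : Set G))) = {A} ∧
      Nat.card A = 2 ^ 11 ∧
      Nat.card ↥(A.map (T : Subgroup (Subgroup.centralizer ({z} : Set G))).subtype ⊓ Q) = 2 ^ 7 ∧
      Nat.card ↥((A.map (T : Subgroup (Subgroup.centralizer ({z} : Set G))).subtype).map (QuotientGroup.mk' Q)) = 16 := by
  classical
  obtain ⟨ρ, qf, p, u, w, H⟩ := exists_hyp hF
  obtain ⟨f, P, K, -⟩ := H.exists_coord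
  obtain ⟨c, hcle, hcu⟩ := K.sylow_unique H T
  set A' := (K.AA H).map (MulAut.conj (c : G)).toMonoidHom with hA'
  have hA'C : A' ≤ (Subgroup.centralizer ({z} : Set G)) := hcle.trans (Subgroup.map_subtype_le _)
  set AC := A'.subgroupOf (Subgroup.centralizer ({z} : Set G)) with hAC
  have hACT : AC ≤ (T : Subgroup (Subgroup.centralizer ({z} : Set G))) := fun a ha => by
    obtain ⟨t, ht, hte⟩ := hcle (Subgroup.mem_subgroupOf.1 ha)
    exact (Subtype.ext hte : t = a) ▸ ht
  have hA'el : ∀ a ∈ A', ∀ b ∈ A', a * b = b * a ∧ a * a = 1 := by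
    rintro _ ⟨a, ha, rfl⟩ _ ⟨b, hb, rfl⟩
    rw [← map_mul, ← map_mul, ← map_mul, K.AA_comm H ha hb, K.AA_sq H ha, map_one]
    exact ⟨rfl, rfl⟩
  set A := AC.subgroupOf (T : Subgroup (Subgroup.centralizer ({z} : Set G))) with hA
  have hAmap : A.map (T : Subgroup (Subgroup.centralizer ({z} : Set G))).subtype = AC := Subgroup.map_subgroupOf_eq_of_le hACT
  have hACmap : AC.map (Subgroup.centralizer ({z} : Set G)).subtype = A' := Subgroup.map_subgroupOf_eq_of_le hA'C
  have hcardAC : Nat.card AC = 2 ^ 11 := by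
    rw [← Subgroup.card_map_of_injective (K := AC) (Subgroup.centralizer ({z} : Set G)).subtype_injective, hACmap, hA',
      Subgroup.card_map_of_injective (MulAut.conj (c : G)).injective, (K.card_AA H).1]
  have hcardA : Nat.card A = 2 ^ 11 := by
    rw [← Subgroup.card_map_of_injective (K := A) (T : Subgroup (Subgroup.centralizer ({z} : Set G))).subtype_injective, hAmap, hcardAC]
  have hinter : Nat.card ↥(AC ⊓ Q) = 2 ^ 7 := by
    have e : (AC ⊓ Q).map (Subgroup.centralizer ({z} : Set G)).subtype = (K.A0 H).map (MulAut.conj (c : G)).toMonoidHom := by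
      rw [Subgroup.map_inf _ _ _ (Subgroup.centralizer ({z} : Set G)).subtype_injective, hACmap]
      exact K.map_conj_inf_big H c
    rw [← Subgroup.card_map_of_injective (K := AC ⊓ Q) (Subgroup.centralizer ({z} : Set G)).subtype_injective, e,
      Subgroup.card_map_of_injective (MulAut.conj (c : G)).injective, K.card_A0 H]
  have hAe : IsElementaryAbelian 2 A := by
    refine ⟨⟨⟨fun a b => Subtype.ext (Subtype.ext (Subtype.ext ?_))⟩⟩, fun a ha => Subtype.ext (Subtype.ext ?_)⟩
    · exact (hA'el _ a.2 _ b.2).1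
    · have h := (hA'el _ ha _ ha).2
      rw [pow_two]; exact h
  have huniq : ∀ D : Subgroup ↥(T : Subgroup (Subgroup.centralizer ({z} : Set G))), IsElementaryAbelian 2 D → 2 ^ 11 ≤ Nat.card D → D = A := by
    intro D hD hDc
    have hDeq := hcu ((D.map (T : Subgroup (Subgroup.centralizer ({z} : Set G))).subtype).map (Subgroup.centralizer ({z} : Set G)).subtype)
      (Subgroup.map_mono (Subgroup.map_subtype_le D)) (by
        rintro _ ⟨_, ⟨a, ha, rfl⟩, rfl⟩ _ ⟨_, ⟨b, hb, rfl⟩, rfl⟩
        exact congrArg (fun x : D => (((x : ↥(T : Subgroup (Subgroup.centralizer ({z} : Set G)))) : (Subgroup.centralizer ({z} : Set G))) : G)) (hD.1.is_comm.comm ⟨a, ha⟩ ⟨b, hb⟩)) (by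
        rintro _ ⟨_, ⟨a, ha, rfl⟩, rfl⟩
        rw [← map_mul, ← map_mul, ← pow_two, hD.2 a ha, map_one, map_one])
      (by rw [Subgroup.card_map_of_injective (Subgroup.centralizer ({z} : Set G)).subtype_injective,
        Subgroup.card_map_of_injective (T : Subgroup (Subgroup.centralizer ({z} : Set G))).subtype_injective]; exact hDc)
    refine Subgroup.map_injective (T : Subgroup (Subgroup.centralizer ({z} : Set G))).subtype_injective (Subgroup.map_injective (Subgroup.centralizer ({z} : Set G)).subtype_injective ?_)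
    rw [hAmap, hACmap]
    exact hDeq
  refine ⟨A, Set.eq_singleton_iff_unique_mem.2 ⟨⟨hAe, fun D hD => ?_⟩, fun D hD => huniq D hD.1 (hcardA ▸ hD.2 A hAe)⟩,
    hcardA, by rw [hAmap]; exact hinter, ?_⟩
  · by_contra hlt
    rw [huniq D hD (by omega)] at hlt
    omega
  · rw [hAmap]
    have h := Subgroup.card_mul_index ((QuotientGroup.mk' Q).comp AC.subtype).ker
    rw [Subgroup.index_ker, MonoidHom.range_comp, Subgroup.range_subtype] at h
    have hk : Nat.card ↥((QuotientGroup.mk' Q).comp AC.subtype).ker = 2 ^ 7 := by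
      rw [← hinter, ← Subgroup.card_map_of_injective (K := ((QuotientGroup.mk' Q).comp AC.subtype).ker)
        AC.subtype_injective]
      congr 1
      apply congrArg (fun S : Subgroup (Subgroup.centralizer ({z} : Set G)) => ↥S)
      ext a
      constructor
      · rintro ⟨b, hb, rfl⟩
        exact ⟨b.2, (QuotientGroup.eq_one_iff _).1 (MonoidHom.mem_ker.1 hb)⟩
      · rintro ⟨ha, haQ⟩
        exact ⟨⟨a, ha⟩, MonoidHom.mem_ker.2 ((QuotientGroup.eq_one_iff _).2 haQ), rfl⟩
    rw [hk, hcardAC] at h
    omega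

end CfsgLib.LargeFischer
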