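import Cfsg.Agent.Lib.LargeFischer.Fusion

/-!
The subgroup over a maximal totally singular subspace and the normaliser of its centraliser at the
central involution.
-/

set_option autoImplicit false
set_option linter.unusedSectionVars false
set_option linter.style.haveILetI false

namespace CfsgLib.LargeFischer

open Cfsg
open CfsgLib.F2Quad (Vec)

variable {G : Type*} [Group G] [Finite G]

/-- The stabiliser of a subspace in the quotient. -/
def stabSpace {M : Type*} [Group M] (ρ : M →* (Vec 6 ≃ₗ[ZMod 2] Vec 6)) (W : AddSubgroup (Vec 6)) : Subgroup M where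
  carrier := {γ | ∀ v, v ∈ W ↔ ρ γ v ∈ W}
  one_mem' := fun v => by simp
  mul_mem' := fun {a b} ha hb v => by rw [map_mul, LinearEquiv.mul_apply, hb, ha]
  inv_mem' := fun {a} ha v => by
    rw [ha (ρ a⁻¹ v), ← LinearEquiv.mul_apply, ← map_mul, mul_inv_cancel, map_one]
    simp

namespace Hyp

variable {z : G} {Q : Subgroup (Subgroup.centralizer ({z} : Set G))} [Q.Normal]
  {ρ : (Subgroup.centralizer ({z} : Set G)) ⧸ Q →* (Vec 6 ≃ₗ[ZMod 2] Vec 6)} {qf : Vec 6 → ZMod 2}
  {p : G → Vec 6} {u w : Vec 6} (H : Hyp z Q ρ qf p u w)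
include H

theorem p_one : p 1 = 0 := (H.pzero 1 (one_mem _)).2 (Or.inl rfl)

theorem p_inv {x : G} (hx : x ∈ big z Q) : p x⁻¹ = p x := by
  have h := H.pmul x hx x⁻¹ (inv_mem hx)
  rw [mul_inv_cancel, H.p_one] at h
  refine (eq_neg_of_add_eq_zero_right h.symm).trans (funext fun i => ?_)
  exact CharTwo.neg_eq _

/-- The elements of the extraspecial subgroup over a subspace. -/
def planeSub (W : AddSubgroup (Vec 6)) : Subgroup G where
  carrier := {x | x ∈ big z Q ∧ p x ∈ W}
  one_mem' := ⟨one_mem _, by rw [H.p_one]; exact W.zero_mem⟩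
  mul_mem' := fun {a b} ha hb => ⟨mul_mem ha.1 hb.1, by rw [H.pmul a ha.1 b hb.1]; exact W.add_mem ha.2 hb.2⟩
  inv_mem' := fun {a} ha => ⟨inv_mem ha.1, by rw [H.p_inv ha.1]; exact ha.2⟩

theorem mem_planeSub {W : AddSubgroup (Vec 6)} {x : G} :
    x ∈ H.planeSub W ↔ x ∈ big z Q ∧ p x ∈ W := Iff.rfl

theorem planeSub_le (W : AddSubgroup (Vec 6)) : H.planeSub W ≤ big z Q := fun _ hx => hx.1

theorem z_mem_planeSub (W : AddSubgroup (Vec 6)) : z ∈ H.planeSub W :=
  ⟨H.S.mem, by rw [H.pz]; exact W.zero_mem⟩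

theorem planeSub_sq {W : AddSubgroup (Vec 6)} (hW : ∀ v ∈ W, qf v = 0) {x : G} (hx : x ∈ H.planeSub W) :
    x * x = 1 := (H.psq x hx.1).2 (hW _ hx.2)

theorem planeSub_comm {W : AddSubgroup (Vec 6)} (hW : ∀ v ∈ W, qf v = 0) {x y : G}
    (hx : x ∈ H.planeSub W) (hy : y ∈ H.planeSub W) : x * y = y * x := by
  have h := H.planeSub_sq hW (mul_mem hx hy)
  have ix : x⁻¹ = x := inv_eq_of_mul_eq_one_right (H.planeSub_sq hW hx)
  have iy : y⁻¹ = y := inv_eq_of_mul_eq_one_right (H.planeSub_sq hW hy)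
  have ixy : (x * y)⁻¹ = x * y := inv_eq_of_mul_eq_one_right h
  rw [← ixy, mul_inv_rev, ix, iy]

theorem card_planeSub (W : AddSubgroup (Vec 6)) : Nat.card (H.planeSub W) = 2 * Nat.card W := by
  let φ : H.planeSub W →* Multiplicative W :=
    MonoidHom.mk' (fun x => Multiplicative.ofAdd (⟨p (x : G), x.2.2⟩ : W)) fun a b =>
      Multiplicative.toAdd.injective (Subtype.ext (H.pmul _ a.2.1 _ b.2.1))
  have hsurj : Function.Surjective φ := by
    intro y
    obtain ⟨x, hx, hpx⟩ := H.psurj ((Multiplicative.toAdd y : W) : Vec 6)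
    exact ⟨⟨x, hx, by rw [hpx]; exact (Multiplicative.toAdd y).2⟩,
      Multiplicative.toAdd.injective (Subtype.ext hpx)⟩
  have hker : φ.ker = (Subgroup.zpowers z).subgroupOf (H.planeSub W) := by
    ext x
    rw [MonoidHom.mem_ker, Subgroup.mem_subgroupOf]
    constructor
    · intro h
      have h' : p (x : G) = 0 := congrArg Subtype.val (congrArg Multiplicative.toAdd h)
      rcases (H.pzero _ x.2.1).1 h' with e | e <;> rw [e]
      exacts [one_mem _, Subgroup.mem_zpowers z]
    · intro h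
      have h' : p (x : G) = 0 := by
        obtain ⟨i, hi⟩ := Subgroup.mem_zpowers_iff.1 h
        have hz2 : z ^ (2 : ℤ) = 1 := by rw [zpow_two]; exact H.zz
        rcases Int.even_or_odd i with ⟨j, rfl⟩ | ⟨j, rfl⟩
        · rw [← hi, ← two_mul, zpow_mul, hz2, one_zpow, H.p_one]
        · rw [← hi, zpow_add, zpow_mul, hz2, one_zpow, one_mul, zpow_one, H.pz]
      exact Multiplicative.toAdd.injective (Subtype.ext h')
  have h1 := Subgroup.card_eq_card_quotient_mul_card_subgroup φ.ker
  rw [Nat.card_congr (QuotientGroup.quotientKerEquivOfSurjective φ hsurj).toEquiv,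
    Nat.card_congr Multiplicative.toAdd, hker,
    Nat.card_congr (Subgroup.subgroupOfEquivOfLe ((Subgroup.zpowers_le).2 (H.z_mem_planeSub W))).toEquiv,
    Nat.card_zpowers, H.hz, mul_comm] at h1
  exact h1

/-- A maximal totally singular preimage is its own centraliser in the extraspecial subgroup. -/
theorem big_inf_centralizer {W : AddSubgroup (Vec 6)} (hW : ∀ v ∈ W, qf v = 0) (hc : Nat.card W = 64) :
    big z Q ⊓ Subgroup.centralizer (H.planeSub W : Set G) = H.planeSub W := by
  refine le_antisymm (fun x hx => ?_) (le_inf (H.planeSub_le W) fun a ha =>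
    Subgroup.mem_centralizer_iff.2 fun b hb => H.planeSub_comm hW hb ha)
  obtain ⟨hxQ, hxC⟩ := Subgroup.mem_inf.1 hx
  set U := H.planeSub W ⊔ Subgroup.zpowers x
  have hU : U ≤ big z Q := sup_le (H.planeSub_le W) ((Subgroup.zpowers_le).2 hxQ)
  have hcomm : IsMulCommutative U := by
    have hcl : U = Subgroup.closure ((H.planeSub W : Set G) ∪ {x}) := by
      rw [Subgroup.closure_union, Subgroup.closure_eq, ← Subgroup.zpowers_eq_closure]
    rw [hcl]
    refine Subgroup.isMulCommutative_closure fun a ha b hb => ?_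
    rcases ha with ha | ha <;> rcases hb with hb | hb
    · exact H.planeSub_comm hW ha hb
    · rw [Set.mem_singleton_iff.1 hb]; exact Subgroup.mem_centralizer_iff.1 hxC a ha
    · rw [Set.mem_singleton_iff.1 ha]; exact (Subgroup.mem_centralizer_iff.1 hxC b hb).symm
    · rw [Set.mem_singleton_iff.1 ha, Set.mem_singleton_iff.1 hb]
  have hb := H.abelian_card hU fun a ha b hb =>
    congrArg Subtype.val (hcomm.is_comm.comm ⟨a, ha⟩ ⟨b, hb⟩)
  rw [H.card] at hb
  have hle : Nat.card U ≤ Nat.card (H.planeSub W) := by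
    rw [H.card_planeSub, hc]
    by_contra hlt
    push Not at hlt
    have := Nat.mul_le_mul hlt hlt
    omega
  have := Subgroup.eq_of_le_of_card_ge (le_sup_left : H.planeSub W ≤ U) hle
  exact this.ge (Subgroup.mem_sup_right (Subgroup.mem_zpowers x))

/-- Conjugation stabilises the centraliser of the preimage exactly when it stabilises the subspace. -/
theorem normalizer_centralizer_planeSub {W : AddSubgroup (Vec 6)} (hW : ∀ v ∈ W, qf v = 0)
    (hc : Nat.card W = 64) :
    Subgroup.normalizer (Subgroup.centralizer (H.planeSub W : Set G) : Set G) ⊓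
        Subgroup.centralizer ({z} : Set G) =
      ((stabSpace ρ W).comap (QuotientGroup.mk' Q)).map (Subgroup.centralizer ({z} : Set G)).subtype := by
  have hinC : ∀ c : ↥(Subgroup.centralizer ({z} : Set G)), ∀ x ∈ H.planeSub W,
      QuotientGroup.mk' Q c ∈ stabSpace ρ W → (c : G) * x * (c : G)⁻¹ ∈ H.planeSub W := by
    intro c x hx hc'
    refine ⟨H.S.normal c (Subgroup.mem_centralizer_singleton_iff.1 c.2) x hx.1, ?_⟩
    rw [H.pact c x hx.1]
    exact (hc' (p x)).1 hx.2
  ext g
  constructor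
  · rintro ⟨hgN, hgC⟩
    set c : ↥(Subgroup.centralizer ({z} : Set G)) := ⟨g, hgC⟩
    refine ⟨c, ?_, rfl⟩
    intro v
    obtain ⟨x, hx, rfl⟩ := H.psurj v
    rw [QuotientGroup.mk'_apply, ← H.pact c x hx]
    have hnorm := H.S.normal g (Subgroup.mem_centralizer_singleton_iff.1 hgC) x hx
    have key : ∀ y ∈ big z Q, (y ∈ Subgroup.centralizer (H.planeSub W : Set G) ↔ p y ∈ W) := fun y hy =>
      ⟨fun h => ((H.big_inf_centralizer hW hc).le ⟨hy, h⟩).2,
        fun h => ((H.big_inf_centralizer hW hc).ge ⟨hy, h⟩).2⟩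
    rw [← key x hx, ← key _ hnorm]
    exact Subgroup.mem_normalizer_iff.1 hgN x
  · rintro ⟨c, hc', rfl⟩
    refine ⟨?_, c.2⟩
    refine Subgroup.mem_normalizer_fintype fun x hx => ?_
    rw [SetLike.mem_coe] at hx ⊢
    refine Subgroup.mem_centralizer_iff.2 fun y hy => ?_
    have hy' := hinC c⁻¹ y hy (by rw [map_inv]; exact inv_mem hc')
    have h := Subgroup.mem_centralizer_iff.1 hx _ hy'
    simp only [InvMemClass.coe_inv, inv_inv] at h
    show y * ((c : G) * x * (c : G)⁻¹) = (c : G) * x * (c : G)⁻¹ * y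
    calc y * ((c : G) * x * (c : G)⁻¹) = (c : G) * (((c : G)⁻¹ * y * (c : G)) * x) * (c : G)⁻¹ := by group
      _ = (c : G) * (x * ((c : G)⁻¹ * y * (c : G))) * (c : G)⁻¹ := by rw [h]
      _ = (c : G) * x * (c : G)⁻¹ * y := by group

theorem card_normalizer_centralizer_planeSub {W : AddSubgroup (Vec 6)} (hW : ∀ v ∈ W, qf v = 0)
    (hc : Nat.card W = 64) :
    Nat.card ↥(Subgroup.normalizer (Subgroup.centralizer (H.planeSub W : Set G) : Set G) ⊓
        Subgroup.centralizer ({z} : Set G)) = 2 ^ 13 * Nat.card (stabSpace ρ W) := by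
  rw [H.normalizer_centralizer_planeSub hW hc,
    Subgroup.card_map_of_injective (Subgroup.centralizer ({z} : Set G)).subtype_injective]
  set S := stabSpace ρ W
  have h1 := Subgroup.index_mul_card (S.comap (QuotientGroup.mk' Q))
  rw [Subgroup.index_comap_of_surjective _ (QuotientGroup.mk'_surjective Q),
    Subgroup.card_eq_card_quotient_mul_card_subgroup Q, ← S.index_mul_card,
    ← Subgroup.card_map_of_injective (K := Q) (Subgroup.centralizer ({z} : Set G)).subtype_injective,
    H.card, mul_assoc] at h1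
  rw [Nat.eq_of_mul_eq_mul_left (Nat.pos_of_ne_zero Subgroup.index_ne_zero_of_finite) h1, mul_comm]

end Hyp

end CfsgLib.LargeFischer
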