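import Cfsg.Agent.Lib.LargeFischer.CoreData

/-!
The central involution is a commutator of the centralizer of the element of order three.
-/

set_option autoImplicit false
set_option linter.unusedSectionVars false
set_option linter.style.haveILetI false

namespace CfsgLib.LargeFischer

open Cfsg
open CfsgLib.F2Quad (Vec)
open scoped commutatorElement

variable {G : Type*} [Group G] [Finite G]

namespace Hyp

variable {z : G} {Q : Subgroup (Subgroup.centralizer ({z} : Set G))} [Q.Normal]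
  {ρ : (Subgroup.centralizer ({z} : Set G)) ⧸ Q →* (Vec 6 ≃ₗ[ZMod 2] Vec 6)} {qf : Vec 6 → ZMod 2}
  {p : G → Vec 6} {u w : Vec 6} (H : Hyp z Q ρ qf p u w)
include H

/-- Three conjugates on a line have the same pairwise intersections. -/
theorem inter_le_third {g₁ g₂ : G} (h1Q : g₁ * z * g₁⁻¹ ∈ big z Q) (h1ne : g₁ * z * g₁⁻¹ ≠ z)
    (h2 : g₂ * z * g₂⁻¹ = z * (g₁ * z * g₁⁻¹)) :
    big z Q ⊓ (big z Q).map (MulAut.conj g₁).toMonoidHom ≤ (big z Q).map (MulAut.conj g₂).toMonoidHom := by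
  rintro d ⟨hdQ, hd1⟩
  obtain ⟨q, hq, hqs⟩ := H.exists_flip h1Q (H.s_facts h1ne).1 h1ne
  have h2ne : g₂ * z * g₂⁻¹ ≠ z := fun e => by
    rw [h2, mul_eq_left] at e
    exact (H.s_facts h1ne).1 e
  have hz2 : z ∈ (big z Q).map (MulAut.conj g₂).toMonoidHom :=
    H.z_mem (by rw [h2]; exact mul_mem H.S.mem h1Q) h2ne
  have he : q * g₁ * z * (q * g₁)⁻¹ = g₂ * z * g₂⁻¹ := by
    rw [h2, show q * g₁ * z * (q * g₁)⁻¹ = q * (g₁ * z * g₁⁻¹) * q⁻¹ by group, hqs, H.S.le_cent _ h1Q]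
  have hk : g₂⁻¹ * (q * g₁) * z = z * (g₂⁻¹ * (q * g₁)) := by
    calc g₂⁻¹ * (q * g₁) * z = g₂⁻¹ * (q * g₁ * z * (q * g₁)⁻¹) * (q * g₁) := by group
      _ = _ := by rw [he]; group
  have hqd : q * d * q⁻¹ ∈ (big z Q).map (MulAut.conj g₂).toMonoidHom := by
    have h := H.S.normal _ hk _ (mem_conjQ.1 hd1)
    rw [mem_conjQ]
    rwa [show g₂⁻¹ * (q * g₁) * (g₁⁻¹ * d * g₁) * (g₂⁻¹ * (q * g₁))⁻¹ = g₂⁻¹ * (q * d * q⁻¹) * g₂ by group] at h
  rcases H.S.comm_z_left hq hdQ with h | h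
  · rwa [h, mul_inv_cancel_right] at hqd
  · rw [h, show d * q * z * q⁻¹ = d * (q * z * q⁻¹) by group, H.S.le_cent q hq, mul_inv_cancel_right] at hqd
    simpa [mul_assoc, H.zz] using mul_mem hqd hz2

theorem z_mem_commutator {x : G} (hxz : x ∈ Subgroup.centralizer ({z} : Set G)) (hx3 : x * x * x = 1)
    {ω : (Subgroup.centralizer ({z} : Set G)) ⧸ Q}
    (hxω : QuotientGroup.mk (⟨x, hxz⟩ : Subgroup.centralizer ({z} : Set G)) = ω)
    (hω : orderOf ω = 3) (hfpf : ∀ v, ρ ω v = v → v = 0)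
    (hψ : ∃ ψ : ↥(alternatingGroup (Fin 6)) →* (Subgroup.centralizer ({z} : Set G)) ⧸ Q,
      Function.Injective ψ ∧ ∀ l, ψ l * ω = ω * ψ l ∧ ρ (ψ l) w = w)
    (hline : ∀ g : G, g * z * g⁻¹ ∈ big z Q → g * z * g⁻¹ ≠ z → p (g * z * g⁻¹) = w →
      ∀ y ∈ big z Q, p y = ρ ω w → y ∈ (big z Q).map (MulAut.conj g).toMonoidHom)
    (K₀ : Subgroup G) (hK₀ : ∀ k, k ∈ K₀ ↔ k * z = z * k ∧ k * x = x * k)
    (hlift : ∀ γ, γ * ω = ω * γ → ∃ k : ↥(Subgroup.centralizer ({z} : Set G)),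
      (k : G) * x = x * (k : G) ∧ QuotientGroup.mk k = γ)
    (hhalf : ∀ k ∈ K₀, k ∈ ⁅K₀, K₀⁆ ∨ k * z ∈ ⁅K₀, K₀⁆) : z ∈ ⁅K₀, K₀⁆ := by
  classical
  by_contra hzc
  haveI : Fact (Nat.Prime 2) := ⟨Nat.prime_two⟩
  have hxz' : x * z = z * x := Subgroup.mem_centralizer_singleton_iff.1 hxz
  have hxQ : ∀ y ∈ big z Q, x * y * x⁻¹ ∈ big z Q := fun y hy => H.S.normal x hxz' y hy
  have hpx : ∀ y ∈ big z Q, p (x * y * x⁻¹) = ρ ω (p y) := fun y hy => by
    rw [← hxω]; exact H.pact ⟨x, hxz⟩ y hy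
  have hxconj : ∀ y, x * (x * y * x⁻¹) * x⁻¹ = x * x * y * (x * x)⁻¹ := fun y => by group
  let δ : G → G := fun y => y * (x * y * x⁻¹) * (x * x * y * (x * x)⁻¹)
  have hδmem : ∀ y ∈ big z Q, δ y = 1 ∨ δ y = z := by
    intro y hy
    have h1 := hxQ y hy
    have h2 : x * x * y * (x * x)⁻¹ ∈ big z Q := by rw [← hxconj]; exact hxQ _ h1
    refine (H.pzero _ (mul_mem (mul_mem hy h1) h2)).1 (hfpf _ ?_)
    rw [H.pmul _ (mul_mem hy h1) _ h2, H.pmul y hy _ h1, ← hxconj, hpx _ h1, hpx y hy, map_add, map_add]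
    have h3 : ρ ω (ρ ω (ρ ω (p y))) = p y := by
      rw [← LinearEquiv.mul_apply, ← LinearEquiv.mul_apply, ← map_mul, ← map_mul,
        show ω * ω * ω = 1 by rw [← pow_three', ← hω]; exact pow_orderOf_eq_one ω, map_one]
      rfl
    rw [h3]; abel
  -- a conjugate with trivial sign
  obtain ⟨g, hgQ, hgne, hps, hδs⟩ : ∃ g : G, g * z * g⁻¹ ∈ big z Q ∧ g * z * g⁻¹ ≠ z ∧
      p (g * z * g⁻¹) = w ∧ δ (g * z * g⁻¹) = 1 := by
    obtain ⟨g, hgQ, hgne, hps⟩ := H.exists_good_conj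
    rcases hδmem _ hgQ with e | e
    · exact ⟨g, hgQ, hgne, hps, e⟩
    obtain ⟨q, hq, hqs⟩ := H.exists_flip hgQ (H.s_facts hgne).1 hgne
    set s := g * z * g⁻¹ with hsd
    have e' : q * g * z * (q * g)⁻¹ = s * z := by rw [← hqs, hsd]; group
    refine ⟨q * g, ?_, ?_, ?_, ?_⟩ <;> rw [e']
    · exact mul_mem hgQ H.S.mem
    · exact fun h => (H.s_facts hgne).1 (mul_eq_right.1 h)
    · rw [H.pmul s hgQ z H.S.mem, H.pz, add_zero, hps]
    · have h1 : x * (s * z) * x⁻¹ = x * s * x⁻¹ * z := by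
        rw [show x * (s * z) * x⁻¹ = x * s * x⁻¹ * (x * z * x⁻¹) by group, hxz', mul_inv_cancel_right]
      have h2 : x * x * (s * z) * (x * x)⁻¹ = x * x * s * (x * x)⁻¹ * z := by
        rw [← hxconj, h1, show x * (x * s * x⁻¹ * z) * x⁻¹ = x * (x * s * x⁻¹) * x⁻¹ * (x * z * x⁻¹) by group,
          hxz', mul_inv_cancel_right, hxconj]
      have hs' : x * s * x⁻¹ ∈ big z Q := hxQ _ hgQ
      have hs'' : x * x * s * (x * x)⁻¹ ∈ big z Q := by rw [← hxconj]; exact hxQ _ hs'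
      show s * z * (x * (s * z) * x⁻¹) * (x * x * (s * z) * (x * x)⁻¹) = 1
      rw [h1, h2]
      calc s * z * (x * s * x⁻¹ * z) * (x * x * s * (x * x)⁻¹ * z)
          = s * (z * (x * s * x⁻¹)) * z * (x * x * s * (x * x)⁻¹) * z := by group
        _ = s * (x * s * x⁻¹) * (z * z) * (x * x * s * (x * x)⁻¹) * z := by rw [← H.S.le_cent _ hs']; group
        _ = z * z := by
            rw [show s * (x * s * x⁻¹) * (z * z) = s * (x * s * x⁻¹) by rw [H.zz, mul_one],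
              show s * (x * s * x⁻¹) * (x * x * s * (x * x)⁻¹) = z from e]
        _ = 1 := H.zz
  set s := g * z * g⁻¹ with hs
  obtain ⟨hs1, hss⟩ := H.s_facts hgne
  set s' := x * s * x⁻¹ with hs'
  set s'' := x * x * s * (x * x)⁻¹ with hs''
  have hs'Q : s' ∈ big z Q := hxQ _ hgQ
  have hs''eq : s'' = s * s' := by
    have e : s'' = (s * s')⁻¹ := eq_inv_of_mul_eq_one_right hδs
    have e2 : s'' * s'' = 1 := by
      rw [hs'', show x * x * s * (x * x)⁻¹ * (x * x * s * (x * x)⁻¹) = x * x * (s * s) * (x * x)⁻¹ by group, hss]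
      group
    rw [← inv_inv (s * s'), ← e, inv_eq_of_mul_eq_one_right e2]
  have hps' : p s' = ρ ω w := by rw [hpx _ hgQ, hps]
  have hs'ne : s' ≠ z := fun e => H.w0 ((ρ ω).map_eq_zero_iff.1 (by rw [← hps', e, H.pz]))
  have hs's : s' ≠ s := fun e => H.w0 (hfpf w (by rw [← hps', e, hps]))
  have hs'g : s' ∈ (big z Q).map (MulAut.conj g).toMonoidHom := hline g hgQ hgne hps s' hs'Q hps'
  have ez' : x * g * z * (x * g)⁻¹ = s' := by rw [hs', hs]; group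
  have ez'' : x * x * g * z * (x * x * g)⁻¹ = s'' := by rw [hs'', hs]; group
  set g₁ := g⁻¹ * (x * g) with hg₁
  set g₂ := g⁻¹ * (x * x * g) with hg₂
  have e1 : g₁ * z * g₁⁻¹ = g⁻¹ * s' * g := by rw [hg₁, ← ez']; group
  have h1Q : g₁ * z * g₁⁻¹ ∈ big z Q := by rw [e1]; exact mem_conjQ.1 hs'g
  have h1ne : g₁ * z * g₁⁻¹ ≠ z := fun e => hs's (by
    rw [e1] at e
    calc s' = g * (g⁻¹ * s' * g) * g⁻¹ := by group
      _ = s := by rw [e, hs])
  have e2 : g₂ * z * g₂⁻¹ = z * (g₁ * z * g₁⁻¹) := by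
    calc g₂ * z * g₂⁻¹ = g⁻¹ * s'' * g := by rw [hg₂, ← ez'']; group
      _ = g⁻¹ * (g * z * g⁻¹ * s') * g := by rw [hs''eq]
      _ = _ := by rw [e1]; group
  -- the intersection and its three-fold symmetry
  set E := (big z Q).map (MulAut.conj g).toMonoidHom ⊓ (big z Q).map (MulAut.conj (x * g)).toMonoidHom with hEdef
  have hshift : ∀ h e : G, e ∈ (big z Q).map (MulAut.conj h).toMonoidHom →
      x * e * x⁻¹ ∈ (big z Q).map (MulAut.conj (x * h)).toMonoidHom := fun h e he => by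
    rw [mem_conjQ] at he ⊢
    rwa [show (x * h)⁻¹ * (x * e * x⁻¹) * (x * h) = h⁻¹ * e * h by group]
  have hx3g : x * (x * x * g) = g := by
    rw [show x * (x * x * g) = x * x * x * g by group, hx3, one_mul]
  have hE3 : ∀ e ∈ E, e ∈ (big z Q).map (MulAut.conj (x * x * g)).toMonoidHom := by
    intro e he
    have h : g⁻¹ * e * g ∈ big z Q ⊓ (big z Q).map (MulAut.conj g₁).toMonoidHom := by
      refine ⟨mem_conjQ.1 he.1, mem_conjQ.2 ?_⟩
      rw [show g₁⁻¹ * (g⁻¹ * e * g) * g₁ = (x * g)⁻¹ * e * (x * g) by rw [hg₁]; group]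
      exact mem_conjQ.1 he.2
    have h' := H.inter_le_third h1Q h1ne e2 h
    rw [mem_conjQ] at h' ⊢
    rwa [show g₂⁻¹ * (g⁻¹ * e * g) * g₂ = (x * x * g)⁻¹ * e * (x * x * g) by rw [hg₂]; group] at h'
  have hEx : ∀ e ∈ E, x * e * x⁻¹ ∈ E := by
    intro e he
    have h1 := hshift _ _ he.2
    rw [show x * (x * g) = x * x * g by group] at h1
    have h2 := hshift _ _ (hshift _ _ he.2)
    rw [show x * (x * (x * g)) = x * (x * x * g) by group, hx3g] at h2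
    -- `h1` and the shift of `hE3`
    refine ⟨?_, hshift _ _ he.1⟩
    have h3 := hshift _ _ (hE3 e he)
    rwa [hx3g] at h3
  have hEcomm : ∀ a ∈ E, ∀ b ∈ E, a * b = b * a := by
    intro a ha b hb
    have key : ∀ e ∈ E, g⁻¹ * e * g ∈ big z Q ⊓ (big z Q).map (MulAut.conj g₁).toMonoidHom := fun e he =>
      ⟨mem_conjQ.1 he.1, mem_conjQ.2 (by
        rw [show g₁⁻¹ * (g⁻¹ * e * g) * g₁ = (x * g)⁻¹ * e * (x * g) by rw [hg₁]; group]
        exact mem_conjQ.1 he.2)⟩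
    have h := (H.inter_props h1ne).1 _ (key a ha) _ (key b hb)
    calc a * b = g * (g⁻¹ * a * g * (g⁻¹ * b * g)) * g⁻¹ := by group
      _ = b * a := by rw [h]; group
  have hzE : z ∈ E := ⟨H.z_mem hgQ hgne, H.z_mem (g := x * g) (by rw [ez']; exact hs'Q) (by rw [ez']; exact hs'ne)⟩
  have hsE : s ∈ E := by
    refine ⟨H.conjQ_mem_s g, ?_⟩
    have h := hshift _ _ (hE3 z hzE)
    have hs2 : x * x * s' * (x * x)⁻¹ = s := by
      rw [hs', show x * x * (x * s * x⁻¹) * (x * x)⁻¹ = x * x * x * s * (x * x * x)⁻¹ by group, hx3]; group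
    -- `s` lies in the conjugate at `s'`
    have h1 : s' ∈ (big z Q).map (MulAut.conj g).toMonoidHom := hs'g
    have h2 : s'' ∈ (big z Q).map (MulAut.conj (x * g)).toMonoidHom := by
      have := hshift _ _ h1
      rwa [show x * s' * x⁻¹ = s'' by rw [hs', hxconj]] at this
    have h3 : s' ∈ (big z Q).map (MulAut.conj (x * g)).toMonoidHom := by
      rw [← ez']; exact H.conjQ_mem_s _
    have h4 := mul_mem h2 (inv_mem h3)
    rwa [hs''eq, mul_inv_cancel_right] at h4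
  have hs'E : s' ∈ E := hEx s hsE
  let π : E →* G := MonoidHom.mk' (fun e => δ e) fun a b => by
    have ha := hEx a a.2
    have hb := hEx b b.2
    have ha2 : x * x * (a : G) * (x * x)⁻¹ ∈ E := by rw [← hxconj]; exact hEx _ ha
    show (a : G) * b * (x * (a * b) * x⁻¹) * (x * x * (a * b) * (x * x)⁻¹) = δ a * δ b
    calc (a : G) * b * (x * (a * b) * x⁻¹) * (x * x * (a * b) * (x * x)⁻¹)
        = (a : G) * (b * (x * a * x⁻¹)) * (x * b * x⁻¹ * (x * x * a * (x * x)⁻¹)) * (x * x * b * (x * x)⁻¹) := by group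
      _ = a * (x * a * x⁻¹) * (b * (x * x * a * (x * x)⁻¹)) * (x * b * x⁻¹) * (x * x * b * (x * x)⁻¹) := by
          rw [hEcomm _ b.2 _ ha, hEcomm _ hb _ ha2]; group
      _ = (a : G) * (x * a * x⁻¹) * (x * x * a * (x * x)⁻¹) * ((b : G) * (x * b * x⁻¹) * (x * x * b * (x * x)⁻¹)) := by
          rw [hEcomm _ b.2 _ ha2]; group
  have hπ : ∀ e : E, π e = δ e := fun _ => rfl
  have hπK : ∀ e : E, π e ∈ K₀ := by
    intro e
    have h1 := hEx e e.2
    have h2 : x * x * (e : G) * (x * x)⁻¹ ∈ E := by rw [← hxconj]; exact hEx _ h1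
    refine (hK₀ _).2 ⟨hEcomm _ (mul_mem (mul_mem e.2 h1) h2) _ hzE, ?_⟩
    show δ e * x = x * δ e
    symm
    calc x * δ e = (x * e * x⁻¹) * (x * x * e * (x * x)⁻¹) * ((x * x * x) * e * (x * x * x)⁻¹) * x := by
          show x * ((e : G) * (x * e * x⁻¹) * (x * x * e * (x * x)⁻¹)) = _
          group
      _ = (x * e * x⁻¹) * ((x * x * e * (x * x)⁻¹) * e) * x := by rw [hx3]; group
      _ = ((x * e * x⁻¹) * e) * (x * x * e * (x * x)⁻¹) * x := by rw [hEcomm _ h2 _ e.2]; group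
      _ = δ e * x := by rw [hEcomm _ h1 _ e.2]
  set H₂ := ((⁅K₀, K₀⁆).comap π).map E.subtype with hH₂
  have hH₂E : H₂ ≤ E := Subgroup.map_subtype_le _
  have hmem₂ : ∀ e (he : e ∈ E), e ∈ H₂ ↔ δ e ∈ ⁅K₀, K₀⁆ := fun e he =>
    ⟨fun ⟨a, ha, h⟩ => by rw [← h]; exact ha, fun h => ⟨⟨e, he⟩, h, rfl⟩⟩
  have hδz : δ z = z := by
    show z * (x * z * x⁻¹) * (x * x * z * (x * x)⁻¹) = z
    rw [hxz', mul_inv_cancel_right, ← hxconj, hxz', mul_inv_cancel_right, hxz', mul_inv_cancel_right, H.zz, one_mul]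
  have hcardH : 2 * Nat.card H₂ = Nat.card E := by
    have hidx : ((⁅K₀, K₀⁆).comap π).index = 2 := by
      refine Subgroup.index_eq_two_iff.2 ⟨⟨z, hzE⟩, fun e => ?_⟩
      have hez : π (e * ⟨z, hzE⟩) = π e * z := by rw [map_mul, hπ ⟨z, hzE⟩]; exact congrArg (π e * ·) hδz
      rcases hhalf _ (hπK e) with h | h
      · refine Or.inr ⟨h, fun h' => hzc ?_⟩
        rw [Subgroup.mem_comap, hez] at h'
        have := mul_mem (inv_mem (show π e ∈ ⁅K₀, K₀⁆ from h)) h'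
        rwa [inv_mul_cancel_left] at this
      · refine Or.inl ⟨by rw [Subgroup.mem_comap, hez]; exact h, fun h' => hzc ?_⟩
        have := mul_mem (inv_mem (show π e ∈ ⁅K₀, K₀⁆ from h')) h
        rwa [inv_mul_cancel_left] at this
    rw [hH₂, Subgroup.card_map_of_injective E.subtype_injective, ← hidx, Subgroup.index_mul_card]
  set H₁ := H₂.map (MulAut.conj g⁻¹).toMonoidHom with hH₁
  have hD1 : E.map (MulAut.conj g⁻¹).toMonoidHom = big z Q ⊓ (big z Q).map (MulAut.conj g₁).toMonoidHom := by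
    ext d
    rw [mem_conjQ, Subgroup.mem_inf, Subgroup.mem_inf, mem_conjQ, mem_conjQ, mem_conjQ, inv_inv, hg₁]
    simp [mul_assoc]
  refine H.no_invariant_half h1Q h1ne H₁ (by rw [← hD1]; exact Subgroup.map_mono hH₂E)
    ⟨s, (hmem₂ s hsE).2 (by rw [hδs]; exact one_mem _), by
      show g⁻¹ * s * g⁻¹⁻¹ = z
      rw [hs]; group⟩
    ⟨s', (hmem₂ s' hs'E).2 ?_, by rw [e1]; show g⁻¹ * s' * g⁻¹⁻¹ = _; rw [inv_inv]⟩ ?_
    (by rw [← hD1, show Nat.card H₁ = Nat.card H₂ from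
        Subgroup.card_map_of_injective (K := H₂) (f := (MulAut.conj g⁻¹).toMonoidHom) (MulAut.conj g⁻¹).injective,
      show Nat.card ↥(E.map (MulAut.conj g⁻¹).toMonoidHom) = Nat.card E from
        Subgroup.card_map_of_injective (K := E) (f := (MulAut.conj g⁻¹).toMonoidHom) (MulAut.conj g⁻¹).injective]
        exact hcardH)
  · have h : δ s' = x * δ s * x⁻¹ := by
      show s' * (x * s' * x⁻¹) * (x * x * s' * (x * x)⁻¹) = _
      show _ = x * (s * (x * s * x⁻¹) * (x * x * s * (x * x)⁻¹)) * x⁻¹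
      rw [hs']; group
    rw [h, hδs, mul_one, mul_inv_cancel]; exact one_mem _
  -- invariance
  obtain ⟨ψ, hψi, hψp⟩ := hψ
  let mk := QuotientGroup.mk' Q
  let Y : Subgroup ↥(Subgroup.centralizer ({z} : Set G)) :=
    ((K₀ ⊓ Subgroup.centralizer ({s} : Set G)).subgroupOf _) ⊓ ψ.range.comap mk
  have hYp : ∀ k : Y, ((k.1 : G) * z = z * k.1 ∧ (k.1 : G) * x = x * k.1) ∧ (k.1 : G) * s = s * k.1 ∧
      (k.1 : G) * s' = s' * k.1 := by
    intro k
    obtain ⟨⟨hk, hks⟩, -⟩ := k.2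
    have hk' := (hK₀ _).1 hk
    have hks' := Subgroup.mem_centralizer_singleton_iff.1 hks
    exact ⟨hk', hks', ((show Commute (k.1 : G) x from hk'.2).mul_right hks').mul_right
      (show Commute (k.1 : G) x from hk'.2).inv_right |>.eq⟩
  let ν : Y →* ↥(alternatingGroup (Fin 6)) := (MonoidHom.ofInjective hψi).symm.toMonoidHom.comp
    ((mk.comp Y.subtype).codRestrict ψ.range fun k => k.2.2)
  have hν : Function.Surjective ν := by
    intro l
    obtain ⟨k, hkx, hkm⟩ := hlift _ (hψp l).1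
    have hks : (k : G) * s * (k : G)⁻¹ = s := by
      have hkz := Subgroup.mem_centralizer_singleton_iff.1 k.2
      have hkQ := H.S.normal k hkz s hgQ
      rcases H.p_eq hgQ hkQ (by rw [H.pact k s hgQ, hkm, hps, (hψp l).2]) with e | e
      · exact e
      exfalso
      have h1 : δ ((k : G) * s * (k : G)⁻¹) = (k : G) * δ s * (k : G)⁻¹ := by
        have hc : Commute (k : G) x := hkx
        show (k : G) * s * (k : G)⁻¹ * (x * ((k : G) * s * (k : G)⁻¹) * x⁻¹) *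
          (x * x * ((k : G) * s * (k : G)⁻¹) * (x * x)⁻¹) =
          (k : G) * (s * (x * s * x⁻¹) * (x * x * s * (x * x)⁻¹)) * (k : G)⁻¹
        have a1 : x * ((k : G) * s * (k : G)⁻¹) * x⁻¹ = (k : G) * (x * s * x⁻¹) * (k : G)⁻¹ := by
          calc x * ((k : G) * s * (k : G)⁻¹) * x⁻¹ = (x * k) * s * (x * k)⁻¹ := by group
            _ = _ := by rw [← hkx]; group
        have a2 : x * x * ((k : G) * s * (k : G)⁻¹) * (x * x)⁻¹ =
            (k : G) * (x * x * s * (x * x)⁻¹) * (k : G)⁻¹ := by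
          calc x * x * ((k : G) * s * (k : G)⁻¹) * (x * x)⁻¹ = (x * x * k) * s * (x * x * k)⁻¹ := by group
            _ = _ := by rw [← (hc.mul_right hc).eq]; group
        rw [a1, a2]; group
      rw [e, hδs, mul_one, mul_inv_cancel] at h1
      have h2 : δ (s * z) = δ s * z := by
        have := map_mul π ⟨s, hsE⟩ ⟨z, hzE⟩
        rw [hπ, hπ, hπ, hδz] at this
        exact this
      rw [h2, hδs, one_mul] at h1
      exact H.S.ne_one h1
    refine ⟨⟨k, ⟨(hK₀ _).2 ⟨Subgroup.mem_centralizer_singleton_iff.1 k.2, hkx⟩,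
      Subgroup.mem_centralizer_singleton_iff.2 (mul_inv_eq_iff_eq_mul.1 hks)⟩, ⟨l, hkm.symm⟩⟩, ?_⟩
    show (MonoidHom.ofInjective hψi).symm _ = l
    rw [MulEquiv.symm_apply_eq]
    exact Subtype.ext hkm
  obtain ⟨-, -, hEX, -, -, -, hnorm, ⟨eA⟩⟩ := H.stab_structure h1Q h1ne
  have hcz : ∀ k : Y, g⁻¹ * (k.1 : G) * g ∈ Subgroup.centralizer ({z} : Set G) := fun k => by
    rw [Subgroup.mem_centralizer_singleton_iff]
    calc g⁻¹ * (k.1 : G) * g * z = g⁻¹ * ((k.1 : G) * s) * g := by rw [hs]; group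
      _ = _ := by rw [(hYp k).2.1, hs]; group
  let σ : Y →* ↥(Subgroup.centralizer ({z} : Set G)) :=
    MonoidHom.mk' (fun k => ⟨g⁻¹ * (k.1 : G) * g, hcz k⟩) fun a b => Subtype.ext (by
      show g⁻¹ * ((a.1 : G) * b.1) * g = g⁻¹ * (a.1 : G) * g * (g⁻¹ * (b.1 : G) * g)
      group)
  have hσX : ∀ k, mk (σ k) ∈ xImg z Q (g₁ * z * g₁⁻¹) := fun k => ⟨σ k, ⟨(σ k).2, by
    rw [e1]
    refine Subgroup.mem_centralizer_singleton_iff.2 ?_
    show g⁻¹ * (k.1 : G) * g * (g⁻¹ * s' * g) = g⁻¹ * s' * g * (g⁻¹ * (k.1 : G) * g)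
    calc _ = g⁻¹ * ((k.1 : G) * s') * g := by group
      _ = _ := by rw [(hYp k).2.2]; group⟩, rfl⟩
  haveI := hnorm
  let μ : Y →* ↥(alternatingGroup (Fin 6)) := eA.toMonoidHom.comp
    ((QuotientGroup.mk' _).comp ((mk.comp σ).codRestrict _ hσX))
  have hμker : ∀ k : Y, μ k = 1 ↔ mk (σ k) ∈ rImg z Q g₁ := fun k => by
    show eA (QuotientGroup.mk _) = 1 ↔ _
    rw [MulEquiv.map_eq_one_iff, QuotientGroup.eq_one_iff, Subgroup.mem_subgroupOf]
    rfl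
  have h2 : IsPGroup 2 μ.ker := by
    intro k
    obtain ⟨a, ha⟩ := H.rImg_two g₁ ⟨_, (hμker k.1).1 k.2⟩
    have ha' : mk (σ k.1 ^ 2 ^ a) = 1 := by rw [map_pow]; exact congrArg Subtype.val ha
    have hb' := (H.mk_one _).1 ha'
    obtain ⟨b, hb⟩ := H.S.two ⟨_, hb'⟩
    refine ⟨a + b, Subtype.ext (Subtype.ext (Subtype.ext ?_))⟩
    have hb2 : ((σ k.1 : G) ^ 2 ^ a) ^ 2 ^ b = 1 := congrArg Subtype.val hb
    rw [← pow_mul, ← pow_add] at hb2
    have e : ((k.1.1 : G)) ^ 2 ^ (a + b) = g * (σ k.1 : G) ^ 2 ^ (a + b) * g⁻¹ := by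
      rw [show (σ k.1 : G) = g⁻¹ * (k.1.1 : G) * g from rfl, ← conj_pow]
      group
    simpa using e.trans (by rw [hb2]; group)
  haveI : IsSimpleGroup ↥(alternatingGroup (Fin 6)) := alternatingGroup.isSimpleGroup (by simp)
  have hA6 : Nat.card ↥(alternatingGroup (Fin 6)) = 360 := by
    have h := two_mul_nat_card_alternatingGroup (α := Fin 6)
    rw [Nat.card_perm, Nat.card_fin, show Nat.factorial 6 = 2 * 360 from rfl] at h
    omega
  have hle : μ.ker ≤ ν.ker := by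
    rcases (μ.normal_ker.map ν hν).eq_bot_or_eq_top with h | h
    · exact (Subgroup.map_eq_bot_iff _).1 h
    · exfalso
      obtain ⟨n, hn⟩ := IsPGroup.iff_card.1 (h2.map ν)
      rw [h, Subgroup.card_top, hA6] at hn
      exact absurd (Nat.Prime.dvd_of_dvd_pow Nat.prime_three (hn ▸ (by norm_num : 3 ∣ 360))) (by norm_num)
  have hμ : Function.Surjective μ := by
    have h := Subgroup.index_antitone hle
    rw [Subgroup.index_ker, Subgroup.index_ker, MonoidHom.range_eq_top.2 hν, Subgroup.card_top] at h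
    exact MonoidHom.range_eq_top.1 (Subgroup.eq_top_of_le_card _ h)
  intro y hyz hys d hd
  set yC : ↥(Subgroup.centralizer ({z} : Set G)) := ⟨y, Subgroup.mem_centralizer_singleton_iff.2 hyz⟩
  have hyX : mk yC ∈ xImg z Q (g₁ * z * g₁⁻¹) :=
    ⟨yC, ⟨yC.2, Subgroup.mem_centralizer_singleton_iff.2 hys⟩, rfl⟩
  obtain ⟨k, hk⟩ := hμ (eA (QuotientGroup.mk ⟨_, hyX⟩))
  have hk'' : eA (QuotientGroup.mk ⟨mk (σ k), hσX k⟩) = eA (QuotientGroup.mk ⟨mk yC, hyX⟩) := hk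
  have hk' : (mk (σ k))⁻¹ * mk yC ∈ rImg z Q g₁ :=
    Subgroup.mem_subgroupOf.1 (QuotientGroup.eq.1 (eA.injective hk''))
  obtain ⟨a, ha, hak⟩ := hk'
  have hq : (((σ k * a)⁻¹ * yC : ↥(Subgroup.centralizer ({z} : Set G))) : G) ∈ big z Q :=
    (H.mk_one _).1 (by
      show mk ((σ k * a)⁻¹ * yC) = 1
      rw [map_mul, map_inv, map_mul, show mk a = (mk (σ k))⁻¹ * mk yC from hak]; group)
  set q := (((σ k * a)⁻¹ * yC : ↥(Subgroup.centralizer ({z} : Set G))) : G) with hqdef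
  have hyeq : y = g⁻¹ * (k.1 : G) * g * (a : G) * q := by
    rw [hqdef]
    show y = g⁻¹ * (k.1 : G) * g * (a : G) * ((g⁻¹ * (k.1 : G) * g * (a : G))⁻¹ * y)
    group
  have hs1H : g₁ * z * g₁⁻¹ ∈ H₁ := ⟨s', (hmem₂ s' hs'E).2 (by
    have h : δ s' = x * δ s * x⁻¹ := by
      show s' * (x * s' * x⁻¹) * (x * x * s' * (x * x)⁻¹) =
        x * (s * (x * s * x⁻¹) * (x * x * s * (x * x)⁻¹)) * x⁻¹
      rw [hs']; group
    rw [h, hδs, mul_one, mul_inv_cancel]; exact one_mem _), by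
    rw [e1]; show g⁻¹ * s' * g⁻¹⁻¹ = _; rw [inv_inv]⟩
  have hz1H : z ∈ H₁ := ⟨s, (hmem₂ s hsE).2 (by rw [hδs]; exact one_mem _), by
    show g⁻¹ * s * g⁻¹⁻¹ = z
    rw [hs]; group⟩
  have hH1D : ∀ d ∈ H₁, d ∈ big z Q ⊓ (big z Q).map (MulAut.conj g₁).toMonoidHom := fun d hd => by
    rw [← hD1]; exact Subgroup.map_mono hH₂E hd
  have hqn : ∀ d ∈ H₁, q * d * q⁻¹ ∈ H₁ := fun d hd => by
    rcases H.S.comm_z_left hq (hH1D d hd).1 with e | e
    · rwa [e, mul_inv_cancel_right]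
    · rw [e, show d * q * z * q⁻¹ = d * (q * z * q⁻¹) by group, H.S.le_cent q hq, mul_inv_cancel_right]
      exact mul_mem hd hz1H
  have han : ∀ d ∈ H₁, (a : G) * d * (a : G)⁻¹ ∈ H₁ := fun d hd => by
    have has : (a : G) * (g₁ * z * g₁⁻¹) = g₁ * z * g₁⁻¹ * (a : G) := by
      calc (a : G) * (g₁ * z * g₁⁻¹) = g₁ * ((g₁⁻¹ * (a : G) * g₁) * z) * g₁⁻¹ := by group
        _ = _ := by rw [H.S.le_cent _ (show g₁⁻¹ * (a : G) * g₁ ∈ big z Q from mem_conjQ.1 ha.1)]; group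
    rcases H.conjQ_comm (show (a : G) ∈ (big z Q).map (MulAut.conj g₁).toMonoidHom from ha.1) (hH1D d hd).2 with e | e
    · rwa [e, mul_inv_cancel_right]
    · rw [e, show d * (a : G) * (g₁ * z * g₁⁻¹) * (a : G)⁻¹ = d * ((a : G) * (g₁ * z * g₁⁻¹) * (a : G)⁻¹) by group,
        has, mul_inv_cancel_right]
      exact mul_mem hd hs1H
  have hkn : ∀ d ∈ H₁, g⁻¹ * (k.1 : G) * g * d * (g⁻¹ * (k.1 : G) * g)⁻¹ ∈ H₁ := by
    rintro _ ⟨e, he, rfl⟩
    obtain ⟨⟨hkz, hkx⟩, hks, hks'⟩ := hYp k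
    have heE := hH₂E he
    have hkeE : (k.1 : G) * e * (k.1 : G)⁻¹ ∈ E :=
      ⟨H.centralizer_le_normalizer_conjQ (Subgroup.mem_centralizer_singleton_iff.2 hks) heE.1,
        H.centralizer_le_normalizer_conjQ (Subgroup.mem_centralizer_singleton_iff.2 (by rw [ez']; exact hks')) heE.2⟩
    refine ⟨_, (hmem₂ _ hkeE).2 ?_, by
      show g⁻¹ * ((k.1 : G) * e * (k.1 : G)⁻¹) * g⁻¹⁻¹ = g⁻¹ * (k.1 : G) * g * (g⁻¹ * e * g⁻¹⁻¹) * _
      group⟩
    have hc : Commute (k.1 : G) x := hkx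
    have hδk : δ ((k.1 : G) * e * (k.1 : G)⁻¹) = (k.1 : G) * δ e * (k.1 : G)⁻¹ := by
      show (k.1 : G) * e * (k.1 : G)⁻¹ * (x * ((k.1 : G) * e * (k.1 : G)⁻¹) * x⁻¹) *
        (x * x * ((k.1 : G) * e * (k.1 : G)⁻¹) * (x * x)⁻¹) =
        (k.1 : G) * (e * (x * e * x⁻¹) * (x * x * e * (x * x)⁻¹)) * (k.1 : G)⁻¹
      have a1 : x * ((k.1 : G) * e * (k.1 : G)⁻¹) * x⁻¹ = (k.1 : G) * (x * e * x⁻¹) * (k.1 : G)⁻¹ := by
        calc x * ((k.1 : G) * e * (k.1 : G)⁻¹) * x⁻¹ = (x * k.1) * e * (x * k.1)⁻¹ := by group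
          _ = _ := by rw [← hkx]; group
      have a2 : x * x * ((k.1 : G) * e * (k.1 : G)⁻¹) * (x * x)⁻¹ =
          (k.1 : G) * (x * x * e * (x * x)⁻¹) * (k.1 : G)⁻¹ := by
        calc x * x * ((k.1 : G) * e * (k.1 : G)⁻¹) * (x * x)⁻¹ = (x * x * k.1) * e * (x * x * k.1)⁻¹ := by group
          _ = _ := by rw [← (hc.mul_right hc).eq]; group
      rw [a1, a2]; group
    have hkK : (k.1 : G) ∈ K₀ := (hK₀ _).2 ⟨hkz, hkx⟩
    have hde := (hmem₂ e heE).1 he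
    rw [hδk]
    have hdK : δ e ∈ K₀ := hπK ⟨e, heE⟩
    have := mul_mem (Subgroup.commutator_mem_commutator hkK hdK) hde
    rwa [show ⁅(k.1 : G), δ e⁆ * δ e = (k.1 : G) * δ e * (k.1 : G)⁻¹ by rw [commutatorElement_def]; group] at this
  rw [hyeq, show g⁻¹ * (k.1 : G) * g * (a : G) * q * d * (g⁻¹ * (k.1 : G) * g * (a : G) * q)⁻¹ =
    g⁻¹ * (k.1 : G) * g * ((a : G) * (q * d * q⁻¹) * (a : G)⁻¹) * (g⁻¹ * (k.1 : G) * g)⁻¹ by group]
  exact hkn _ (han _ (hqn d hd))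

end Hyp

end CfsgLib.LargeFischer
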