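import Cfsg.Agent.Lib.LargeFischer.ThreeCommutator

/-!
The centralizer of the element of order three in a group of large Fischer type.
-/

set_option autoImplicit false
set_option linter.unusedSectionVars false
set_option linter.style.haveILetI false

namespace CfsgLib.LargeFischer

open Cfsg
open CfsgLib.F2Quad (Vec)
open scoped commutatorElement

theorem eq_pow_four {Γ : Type*} [Group Γ] (t : Γ) : t = t ^ 2 * t ^ 2 * (t ^ 3)⁻¹ := by group

/-- The centralizer of a three-element mapping onto the normal subgroup of order three. -/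
theorem three_core {G : Type*} [Group G] [Finite G] (z : G) (Q : Subgroup (Subgroup.centralizer ({z} : Set G)))
    [Q.Normal] (hF : Cfsg.IsOfLargeFischerTypeAt z Q) (X : Subgroup (Subgroup.centralizer ({z} : Set G)))
    (hX : Nat.card X = 3) (hXQ : (X ⊔ Q).Normal) :
    Cfsg.IsQuasisimple ↥(Subgroup.centralizer (X : Set (Subgroup.centralizer ({z} : Set G)))) ∧
    IsCyclic ↥(Subgroup.center ↥(Subgroup.centralizer (X : Set (Subgroup.centralizer ({z} : Set G))))) ∧
    Nat.card ↥(Subgroup.center ↥(Subgroup.centralizer (X : Set (Subgroup.centralizer ({z} : Set G))))) = 6 ∧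
    ∃ (K : Type) (_ : Field K) (_ : Fintype K), Fintype.card K = 9 ∧
      Nonempty (↥(Subgroup.centralizer (X : Set (Subgroup.centralizer ({z} : Set G)))) ⧸
        Subgroup.center ↥(Subgroup.centralizer (X : Set (Subgroup.centralizer ({z} : Set G)))) ≃* Cfsg.PSU 4 K 3) := by
  classical
  obtain ⟨ρ, qf, p, u, w, H⟩ := exists_hyp hF
  obtain ⟨-, N, M, hN, hM, hQN, hNM, hNcard, ⟨K, _, _, hK, ⟨e⟩⟩, hMidx⟩ := hF
  haveI := hN
  haveI := hM
  haveI : Fact (Nat.Prime 3) := ⟨Nat.prime_three⟩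
  haveI : IsSimpleGroup (Cfsg.PSU 4 K 3) :=
    CfsgLib.Classical.Herm.isSimpleGroup_psu (by rw [hK]; norm_num) (by norm_num) (by norm_num)
  let mk := QuotientGroup.mk' Q
  let ψM : M →* Cfsg.PSU 4 K 3 := e.toMonoidHom.comp (QuotientGroup.mk' (N.subgroupOf M))
  have hψs : Function.Surjective ψM := e.surjective.comp (QuotientGroup.mk'_surjective _)
  have hψk : ∀ m : M, ψM m = 1 ↔ (m : Subgroup.centralizer ({z} : Set G)) ∈ N := fun m => by
    show e (QuotientGroup.mk m) = 1 ↔ _
    rw [MulEquiv.map_eq_one_iff, QuotientGroup.eq_one_iff, Subgroup.mem_subgroupOf]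
  have hmk : ∀ c, mk c = 1 ↔ c ∈ Q := fun c => QuotientGroup.eq_one_iff c
  have hnc : ¬ ∀ a b : Cfsg.PSU 4 K 3, a * b = b * a := fun h => by
    letI : CommGroup (Cfsg.PSU 4 K 3) := { (inferInstance : Group (Cfsg.PSU 4 K 3)) with mul_comm := h }
    have hp := IsSimpleGroup.prime_card (α := Cfsg.PSU 4 K 3)
    rw [card_psu43 hK] at hp
    norm_num at hp
  -- the unique normal subgroup of order three of the quotient
  have hN3 : Nat.card (N.map mk) = 3 := by
    have h := Subgroup.card_mul_index (mk.comp N.subtype).ker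
    rw [Subgroup.index_ker, MonoidHom.range_comp, Subgroup.range_subtype,
      show (mk.comp N.subtype).ker = Q.subgroupOf N by
        ext n; rw [MonoidHom.mem_ker, Subgroup.mem_subgroupOf]; exact hmk _,
      Nat.card_congr (Subgroup.subgroupOfEquivOfLe hQN).toEquiv, hNcard, mul_comm 3] at h
    exact Nat.eq_of_mul_eq_mul_left Nat.card_pos h
  have huniq : ∀ P : Subgroup ((Subgroup.centralizer ({z} : Set G)) ⧸ Q), P.Normal → Nat.card P = 3 →
      P = N.map mk := by
    intro P hP hP3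
    have hcube : ∀ t ∈ P.comap mk, t ^ 3 ∈ Q := fun t ht => by
      rw [← hmk, map_pow]
      have := pow_card_eq_one' (x := (⟨mk t, ht⟩ : P))
      rw [hP3] at this
      exact congrArg Subtype.val this
    have hTM : P.comap mk ≤ M := fun t ht => by
      rw [eq_pow_four t]
      exact mul_mem (mul_mem (Subgroup.sq_mem_of_index_two hMidx t) (Subgroup.sq_mem_of_index_two hMidx t))
        (inv_mem (hNM (hQN (hcube t ht))))
    have hnorm : ((P.comap mk).subgroupOf M).map ψM = ⊥ := by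
      have hn : (P.comap mk).Normal := hP.comap mk
      haveI := hn
      rcases ((inferInstance : ((P.comap mk).subgroupOf M).Normal).map ψM hψs).eq_bot_or_eq_top with h | h
      · exact h
      exfalso
      obtain ⟨x, hx2⟩ := exists_prime_orderOf_dvd_card' (G := Cfsg.PSU 4 K 3) 2 (hp := ⟨Nat.prime_two⟩)
        (by rw [card_psu43 hK]; norm_num)
      obtain ⟨t, ht, rfl⟩ := (h ▸ Subgroup.mem_top x : x ∈ ((P.comap mk).subgroupOf M).map ψM)
      have h3 : ψM t ^ 3 = 1 := by
        rw [← map_pow, hψk]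
        exact hQN (hcube _ ht)
      have := orderOf_dvd_of_pow_eq_one h3
      rw [hx2] at this
      norm_num at this
    refine Subgroup.eq_of_le_of_card_ge (fun γ hγ => ?_) (by rw [hN3, hP3])
    obtain ⟨t, rfl⟩ := QuotientGroup.mk'_surjective Q γ
    refine Subgroup.mem_map_of_mem _ ((hψk ⟨t, hTM hγ⟩).1 ?_)
    exact Subgroup.mem_bot.1 (hnorm ▸ Subgroup.mem_map_of_mem ψM
      (show (⟨t, hTM hγ⟩ : M) ∈ (P.comap mk).subgroupOf M from hγ))
  obtain ⟨ω, hω, hfpf, hcases, hflip, hωc, hψ, hline⟩ := H.exists_omega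
  set Cb := Subgroup.centralizer ({ω} : Set ((Subgroup.centralizer ({z} : Set G)) ⧸ Q)) with hCb
  have hωN : Subgroup.zpowers ω = N.map mk := by
    refine huniq _ ⟨fun a ha γ => ?_⟩ (by rw [Nat.card_zpowers, hω])
    obtain ⟨i, rfl⟩ := Subgroup.mem_zpowers_iff.1 ha
    rw [← conj_zpow]
    refine Subgroup.zpow_mem _ ?_ i
    rcases hcases γ with h | h <;> rw [h, mul_inv_cancel_right]
    · exact Subgroup.mem_zpowers ω
    · exact inv_mem (Subgroup.mem_zpowers ω)
  -- the generator of `X`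
  have hXQ' : (X.map mk).Normal := by
    have h : (X ⊔ Q).map mk = X.map mk := by
      rw [Subgroup.map_sup, QuotientGroup.map_mk'_self, sup_bot_eq]
    rw [← h]
    exact hXQ.map mk (QuotientGroup.mk'_surjective Q)
  have hXinj : ∀ a ∈ X, mk a = 1 → a = 1 := by
    intro a ha h
    obtain ⟨n, hn⟩ := H.S.two ⟨(a : G), (H.mk_one a).1 h⟩
    have h2 : a ^ 2 ^ n = 1 := Subtype.ext (by
      have := congrArg Subtype.val hn
      simpa using this)
    have h3 : a ^ 3 = 1 := by
      have := pow_card_eq_one' (x := (⟨a, ha⟩ : X))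
      rw [hX] at this
      exact congrArg Subtype.val this
    have hco : Nat.Coprime (2 ^ n) 3 := Nat.Coprime.pow_left n (by norm_num)
    have := pow_gcd_eq_one.2 ⟨h2, h3⟩
    rwa [hco.gcd_eq_one, pow_one] at this
  have hXc : X.map mk = Subgroup.zpowers ω := by
    rw [hωN]
    refine huniq _ hXQ' ?_
    rw [← hX]
    refine (Nat.card_congr (Equiv.ofBijective (fun a : X => (⟨mk a, Subgroup.mem_map_of_mem mk a.2⟩ : X.map mk))
      ⟨fun a b hab => ?_, fun ⟨_, b, hb, rfl⟩ => ⟨⟨b, hb⟩, rfl⟩⟩)).symm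
    refine Subtype.ext (inv_mul_eq_one.1 (hXinj _ (mul_mem (inv_mem a.2) b.2) ?_))
    rw [map_mul, map_inv, show mk a.1 = mk b.1 from congrArg Subtype.val hab, inv_mul_cancel]
  obtain ⟨x, hxX, hxω⟩ := (hXc.symm ▸ Subgroup.mem_zpowers ω : ω ∈ X.map mk)
  have hx1 : x ≠ 1 := fun e1 => by rw [e1, map_one] at hxω; rw [← hxω, orderOf_one] at hω; omega
  have hXx : X = Subgroup.zpowers x := by
    refine (Subgroup.eq_of_le_of_card_ge ((Subgroup.zpowers_le).2 hxX) ?_).symm
    rw [hX, Nat.card_zpowers]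
    have h3 : x ^ 3 = 1 := by
      have := pow_card_eq_one' (x := (⟨x, hxX⟩ : X))
      rw [hX] at this
      exact congrArg Subtype.val this
    rw [orderOf_eq_prime h3 hx1]
  set Cx := Subgroup.centralizer (X : Set (Subgroup.centralizer ({z} : Set G))) with hCx
  have hCxmem : ∀ k, k ∈ Cx ↔ k * x = x * k := by
    intro k
    refine ⟨fun h => (Subgroup.mem_centralizer_iff.1 h x hxX).symm, fun h => Subgroup.mem_centralizer_iff.2 ?_⟩
    intro a ha
    rw [hXx] at ha
    obtain ⟨i, rfl⟩ := Subgroup.mem_zpowers_iff.1 ha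
    exact ((show Commute k x from h).zpow_right i).eq.symm
  have hx3 : x ^ 3 = 1 := by
    have := pow_card_eq_one' (x := (⟨x, hxX⟩ : X))
    rw [hX] at this
    exact congrArg Subtype.val this
  -- fixed points on the extraspecial subgroup
  let z' : ↥(Subgroup.centralizer ({z} : Set G)) := ⟨z, Subgroup.mem_centralizer_singleton_iff.2 rfl⟩
  have hz'c : ∀ k, k * z' = z' * k := fun k => Subtype.ext (Subgroup.mem_centralizer_singleton_iff.1 k.2)
  have hz'2 : z' * z' = 1 := Subtype.ext H.zz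
  have hCQ : ∀ k, k * x = x * k → k ∈ Q → k = 1 ∨ k = z' := by
    intro k hkx hk
    have hkQ : (k : G) ∈ big z Q := Subgroup.mem_map_of_mem _ hk
    have h := H.pact x k hkQ
    rw [show (x : G) * k * (x : G)⁻¹ = (k : G) from congrArg Subtype.val
      (show x * k * x⁻¹ = k by rw [← hkx, mul_inv_cancel_right]), show (QuotientGroup.mk x : _ ⧸ Q) = ω from hxω] at h
    rcases (H.pzero _ hkQ).1 (hfpf _ h.symm) with h' | h'
    · exact Or.inl (Subtype.ext h')
    · exact Or.inr (Subtype.ext h')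
  -- the image of the centralizer
  have hlift : ∀ γ, γ * ω = ω * γ → ∃ k : ↥(Subgroup.centralizer ({z} : Set G)), k * x = x * k ∧ mk k = γ := by
    intro γ hγ
    haveI := hXQ
    have hXle : X ≤ X ⊔ Q := le_sup_left
    have hp : IsPGroup 3 X := IsPGroup.of_card (n := 1) (by rw [hX, pow_one])
    obtain ⟨P, hP⟩ := (hp.of_equiv (Subgroup.subgroupOfEquivOfLe hXle).symm).exists_le_sylow
    have hPeq : (P : Subgroup ↥(X ⊔ Q)).map (X ⊔ Q).subtype = X := by
      refine le_antisymm ?_ ?_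
      · rintro _ ⟨a, ha, rfl⟩
        obtain ⟨n, hn⟩ := P.2 ⟨a, ha⟩
        have hn' : (a : ↥(Subgroup.centralizer ({z} : Set G))) ^ 3 ^ n = 1 := by
          have := congrArg (fun b : ↥(P : Subgroup ↥(X ⊔ Q)) => ((b : ↥(X ⊔ Q)) : ↥(Subgroup.centralizer ({z} : Set G)))) hn
          simpa using this
        have hm : mk a.1 ∈ X.map mk := by
          have h := Subgroup.mem_map_of_mem mk a.2
          rwa [Subgroup.map_sup, QuotientGroup.map_mk'_self, sup_bot_eq] at h
        obtain ⟨b, hb, hbe⟩ := hm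
        show (a : ↥(Subgroup.centralizer ({z} : Set G))) ∈ X
        -- the whole subgroup is a three-group containing `X`
        have hbP : (⟨b, hXle hb⟩ : ↥(X ⊔ Q)) ∈ (P : Subgroup ↥(X ⊔ Q)) :=
          hP (show (⟨b, hXle hb⟩ : ↥(X ⊔ Q)) ∈ X.subgroupOf (X ⊔ Q) from hb)
        obtain ⟨n', hn''⟩ := P.2 ⟨_, mul_mem (inv_mem hbP) ha⟩
        have hq : mk (b⁻¹ * a.1) = 1 := by rw [map_mul, map_inv, hbe, inv_mul_cancel]
        obtain ⟨m, hm'⟩ := H.S.two ⟨((b⁻¹ * a.1 : ↥(Subgroup.centralizer ({z} : Set G))) : G), (H.mk_one _).1 hq⟩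
        have h2 : (b⁻¹ * a.1) ^ 2 ^ m = 1 := Subtype.ext (by simpa using congrArg Subtype.val hm')
        have h3 : (b⁻¹ * a.1) ^ 3 ^ n' = 1 := by
          have := congrArg (fun c : ↥(P : Subgroup ↥(X ⊔ Q)) => ((c : ↥(X ⊔ Q)) : ↥(Subgroup.centralizer ({z} : Set G)))) hn''
          simpa using this
        have hco : Nat.Coprime (2 ^ m) (3 ^ n') := Nat.Coprime.pow m n' (by norm_num)
        have := pow_gcd_eq_one.2 ⟨h2, h3⟩
        rw [hco.gcd_eq_one, pow_one, inv_mul_eq_one] at this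
        exact this ▸ hb
      · intro a ha
        exact ⟨⟨a, hXle ha⟩, hP ha, rfl⟩
    have hsup := Sylow.normalizer_sup_eq_top P
    rw [hPeq] at hsup
    obtain ⟨c, rfl⟩ := QuotientGroup.mk'_surjective Q γ
    obtain ⟨n, hn, t, ht, rfl⟩ : ∃ n ∈ Subgroup.normalizer (X : Set (Subgroup.centralizer ({z} : Set G))),
        ∃ t ∈ X ⊔ Q, n * t = c :=
      Subgroup.mem_sup_of_normal_right.1 (hsup ▸ Subgroup.mem_top c)
    have hmt : mk t ∈ Subgroup.zpowers ω := by
      rw [← hXc]
      have h := Subgroup.mem_map_of_mem mk ht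
      rwa [Subgroup.map_sup, QuotientGroup.map_mk'_self, sup_bot_eq] at h
    obtain ⟨b, hb, hbe⟩ := (hXc.symm ▸ hmt : mk t ∈ X.map mk)
    have htω : Commute (mk t) ω := by
      obtain ⟨i, hi⟩ := Subgroup.mem_zpowers_iff.1 hmt
      rw [← hi]; exact Commute.zpow_self ω i
    have hnω : Commute (mk n) ω := by
      have h : Commute (mk n * mk t) ω := by rw [← map_mul]; exact hγ
      have := h.mul_left htω.inv_left
      rwa [mul_inv_cancel_right] at this
    have hnx : n * x = x * n := by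
      have h1 : n * x * n⁻¹ ∈ X := (Subgroup.mem_normalizer_iff.1 hn x).1 hxX
      have h2 : mk (n * x * n⁻¹ * x⁻¹) = 1 := by
        rw [map_mul, map_mul, map_mul, map_inv, map_inv, hxω, hnω.eq, mul_inv_cancel_right, mul_inv_cancel]
      exact mul_inv_eq_iff_eq_mul.1 (mul_inv_eq_one.1 (hXinj _ (mul_mem h1 (inv_mem hxX)) h2))
    have hbx : b * x = x * b := by
      rw [hXx] at hb
      obtain ⟨i, hi⟩ := Subgroup.mem_zpowers_iff.1 hb
      rw [← hi]; exact (Commute.zpow_self x i).eq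
    exact ⟨n * b, ((show Commute n x from hnx).mul_left hbx).eq, by rw [map_mul, map_mul, hbe]⟩
  have hCxmap : Cx.map mk = Cb := by
    ext γ
    rw [Subgroup.mem_centralizer_singleton_iff]
    constructor
    · rintro ⟨k, hk, rfl⟩
      rw [← hxω, ← map_mul, ← map_mul, (hCxmem k).1 hk]
    · intro hγ
      obtain ⟨k, hk, rfl⟩ := hlift γ hγ
      exact ⟨k, (hCxmem k).2 hk, rfl⟩
  -- the index two subgroup
  have hMC : M = Cb.comap mk := by
    obtain ⟨γ₀, hγ₀⟩ := hflip
    have hidx : Cb.index = 2 := by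
      refine Subgroup.index_eq_two_iff.2 ⟨γ₀, fun γ => ?_⟩
      simp only [hCb, Subgroup.mem_centralizer_singleton_iff]
      have hinv : ω⁻¹ ≠ ω := fun e1 => by
        have h2 : ω ^ 2 = 1 := by rw [pow_two]; exact eq_inv_iff_mul_eq_one.1 e1.symm
        have := orderOf_dvd_of_pow_eq_one h2
        rw [hω] at this; norm_num at this
      have h0 := (hcases γ₀).resolve_left hγ₀
      rcases hcases γ with h | h
      · refine Or.inr ⟨h, fun h' => hγ₀ ?_⟩
        have := ((show Commute γ ω from h).inv_left.mul_left (show Commute (γ * γ₀) ω from h')).eq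
        rwa [inv_mul_cancel_left] at this
      · refine Or.inl ⟨?_, fun h' => hinv ?_⟩
        · rw [mul_assoc, h0, ← mul_assoc, show γ * ω⁻¹ = ω * γ by
            rw [mul_inv_eq_iff_eq_mul, mul_assoc, h, mul_inv_cancel_left], mul_assoc]
        · exact mul_right_cancel (h.symm.trans h')
    have hidx' : (Cb.comap mk).index = 2 := by
      rw [Subgroup.index_comap_of_surjective _ (QuotientGroup.mk'_surjective Q), hidx]
    haveI : (Cb.comap mk).Normal := Subgroup.normal_of_index_eq_two hidx'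
    have hNC : N ≤ Cb.comap mk := fun n hn => by
      have h : mk n ∈ Subgroup.zpowers ω := hωN ▸ Subgroup.mem_map_of_mem mk hn
      obtain ⟨i, hi⟩ := Subgroup.mem_zpowers_iff.1 h
      exact Subgroup.mem_centralizer_singleton_iff.2 (hi ▸ (Commute.zpow_self ω i).eq)
    have hle : M ≤ Cb.comap mk := by
      rcases ((inferInstance : ((Cb.comap mk).subgroupOf M).Normal).map ψM hψs).eq_bot_or_eq_top with h | h
      · exfalso
        have hT : Cb.comap mk ⊓ M ≤ N := fun t ht => (hψk ⟨t, ht.2⟩).1 (Subgroup.mem_bot.1 (h ▸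
          Subgroup.mem_map_of_mem ψM (show (⟨t, ht.2⟩ : M) ∈ (Cb.comap mk).subgroupOf M from ht.1)))
        have h1 := Subgroup.card_le_of_le hT
        have h2 : (Cb.comap mk ⊓ M).index ≤ 4 := by
          refine Subgroup.index_inf_le.trans ?_
          rw [hidx', hMidx]
        have h3 := Subgroup.card_mul_index (Cb.comap mk ⊓ M)
        rw [Subgroup.card_eq_card_quotient_mul_card_subgroup Q, H.cardΓ] at h3
        rw [hNcard] at h1
        have h4 := Nat.mul_le_mul h1 h2
        have : 0 < Nat.card Q := Nat.card_pos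
        nlinarith
      · intro m hm
        obtain ⟨t, ht, hte⟩ := (h ▸ Subgroup.mem_top (ψM ⟨m, hm⟩) :
          ψM ⟨m, hm⟩ ∈ ((Cb.comap mk).subgroupOf M).map ψM)
        have h' : ((t⁻¹ * ⟨m, hm⟩ : M) : ↥(Subgroup.centralizer ({z} : Set G))) ∈ N :=
          (hψk _).1 (by rw [map_mul, map_inv, hte, inv_mul_cancel])
        have := mul_mem (show (t : ↥(Subgroup.centralizer ({z} : Set G))) ∈ Cb.comap mk from ht) (hNC h')
        simpa using this
    refine Subgroup.eq_of_le_of_card_ge hle (le_of_eq ?_)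
    have a := Subgroup.card_mul_index M
    have b := Subgroup.card_mul_index (Cb.comap mk)
    rw [hMidx] at a; rw [hidx'] at b
    omega
  have hCxM : Cx ≤ M := fun k hk => by
    rw [hMC, Subgroup.mem_comap, ← hCxmap]; exact Subgroup.mem_map_of_mem mk hk
  let θ : Cx →* Cfsg.PSU 4 K 3 := ψM.comp (Subgroup.inclusion hCxM)
  have hθs : Function.Surjective θ := by
    intro v
    obtain ⟨m, rfl⟩ := hψs v
    have hm : mk m.1 ∈ Cx.map mk := by rw [hCxmap]; exact (SetLike.ext_iff.1 hMC m.1).1 m.2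
    obtain ⟨k, hk, hke⟩ := hm
    refine ⟨⟨k, hk⟩, ?_⟩
    show ψM ⟨k, hCxM hk⟩ = ψM m
    rw [← inv_mul_eq_one, ← map_inv, ← map_mul, hψk]
    refine hQN ((hmk _).1 ?_)
    show mk (k⁻¹ * m.1) = 1
    rw [map_mul, map_inv, hke, inv_mul_cancel]
  have hxC : x ∈ Cx := (hCxmem x).2 rfl
  have hzC : z' ∈ Cx := (hCxmem z').2 (hz'c x).symm
  let X₀ : Cx := ⟨x, hxC⟩
  let Z₀ : Cx := ⟨z', hzC⟩
  have hcXZ : Commute X₀ Z₀ := Subtype.ext (hz'c x)
  have hX3 : orderOf X₀ = 3 := orderOf_eq_prime (Subtype.ext hx3) fun e1 => hx1 (congrArg Subtype.val e1)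
  have hZ2 : orderOf Z₀ = 2 := orderOf_eq_prime (by rw [pow_two]; exact Subtype.ext hz'2) fun e1 =>
    H.S.ne_one (congrArg Subtype.val (congrArg Subtype.val e1))
  have hord : orderOf (X₀ * Z₀) = 6 := by
    rw [hcXZ.orderOf_mul_eq_mul_orderOf_of_coprime (by rw [hX3, hZ2]; norm_num), hX3, hZ2]
  have hpow : X₀ ∈ Subgroup.zpowers (X₀ * Z₀) ∧ Z₀ ∈ Subgroup.zpowers (X₀ * Z₀) := by
    constructor
    · refine Subgroup.mem_zpowers_iff.2 ⟨(4 : ℕ), ?_⟩
      rw [zpow_natCast, hcXZ.mul_pow, pow_succ X₀ 3, ← hX3, pow_orderOf_eq_one, one_mul,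
        show (4 : ℕ) = orderOf Z₀ * 2 by rw [hZ2], pow_mul, pow_orderOf_eq_one, one_pow, mul_one]
    · refine Subgroup.mem_zpowers_iff.2 ⟨(3 : ℕ), ?_⟩
      rw [zpow_natCast, hcXZ.mul_pow, ← hX3, pow_orderOf_eq_one, one_mul, hX3, pow_succ Z₀ 2, ← hZ2,
        pow_orderOf_eq_one, one_mul]
  have hkerle : ∀ k : Cx, θ k = 1 → k ∈ Subgroup.zpowers (X₀ * Z₀) := by
    intro k hk
    have hkN : (k : ↥(Subgroup.centralizer ({z} : Set G))) ∈ N := (hψk _).1 hk
    have h : mk k.1 ∈ Subgroup.zpowers ω := hωN ▸ Subgroup.mem_map_of_mem mk hkN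
    obtain ⟨i, hi⟩ := Subgroup.mem_zpowers_iff.1 h
    have hq : (x ^ i)⁻¹ * k.1 ∈ Q := (hmk _).1 (by
      rw [map_mul, map_inv, map_zpow, hxω, hi, inv_mul_cancel])
    have hcomm : (x ^ i)⁻¹ * k.1 * x = x * ((x ^ i)⁻¹ * k.1) :=
      ((Commute.zpow_self x i).inv_left.mul_left ((hCxmem _).1 k.2)).eq
    rcases hCQ _ hcomm hq with e1 | e1
    · have : k = X₀ ^ i := Subtype.ext (by rw [Subgroup.coe_zpow]; exact (inv_mul_eq_one.1 e1).symm)
      rw [this]; exact Subgroup.zpow_mem _ hpow.1 i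
    · have : k = X₀ ^ i * Z₀ := Subtype.ext (by
        rw [Subgroup.coe_mul, Subgroup.coe_zpow]; exact inv_mul_eq_iff_eq_mul.1 e1)
      rw [this]; exact mul_mem (Subgroup.zpow_mem _ hpow.1 i) hpow.2
  have hcent : Subgroup.center Cx = θ.ker := by
    refine le_antisymm (fun k hk => ?_) fun k hk => ?_
    · rw [MonoidHom.mem_ker]
      rcases (inferInstance : (Subgroup.center (Cfsg.PSU 4 K 3)).Normal).eq_bot_or_eq_top with h | h
      · refine Subgroup.mem_bot.1 (h ▸ Subgroup.mem_center_iff.2 fun v => ?_)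
        obtain ⟨k', rfl⟩ := hθs v
        rw [← map_mul, ← map_mul, Subgroup.mem_center_iff.1 hk k']
      · exact absurd (fun a b => (Subgroup.mem_center_iff.1 (h ▸ Subgroup.mem_top b) a)) hnc
    · obtain ⟨i, rfl⟩ := Subgroup.mem_zpowers_iff.1 (hkerle k (MonoidHom.mem_ker.1 hk))
      refine Subgroup.zpow_mem _ (Subgroup.mem_center_iff.2 fun c => Subtype.ext ?_) i
      show c.1 * (x * z') = x * z' * c.1
      exact ((show Commute c.1 x from (hCxmem _).1 c.2).mul_right (hz'c c.1)).eq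
  have hθXZ : θ (X₀ * Z₀) = 1 := by
    show ψM _ = 1
    rw [hψk]
    refine mul_mem (?_ : x ∈ N) (hQN ?_)
    · obtain ⟨n, hn, hne⟩ := (hωN ▸ (hxω.symm ▸ Subgroup.mem_zpowers ω) : mk x ∈ N.map mk)
      have hq : n⁻¹ * x ∈ Q := (hmk _).1 (by rw [map_mul, map_inv, hne, inv_mul_cancel])
      simpa using mul_mem hn (hQN hq)
    · exact (Subgroup.mem_map_iff_mem (Subgroup.centralizer ({z} : Set G)).subtype_injective).1 H.S.mem
  have hker : θ.ker = Subgroup.zpowers (X₀ * Z₀) :=
    le_antisymm (fun k hk => hkerle k (MonoidHom.mem_ker.1 hk)) ((Subgroup.zpowers_le).2 hθXZ)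
  -- perfectness
  let D := ⁅Cx, Cx⁆
  have hDle : D ≤ Cx := Subgroup.commutator_le_self Cx
  have hDmap : (commutator ↥Cx).map Cx.subtype = D := Subgroup.map_subtype_commutator Cx
  have hxD : x ∈ D ∨ x * z' ∈ D := by
    rw [← hCxmap, ← Subgroup.map_commutator] at hωc
    obtain ⟨c, hc, hce⟩ := hωc
    have hcC : c ∈ Cx := hDle hc
    have hq : c⁻¹ * x ∈ Q := (hmk _).1 (by rw [map_mul, map_inv, hce, hxω, inv_mul_cancel])
    rcases hCQ _ ((show Commute c x from (hCxmem c).1 hcC).inv_left.mul_left (Commute.refl x)).eq hq with e1 | e1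
    · exact Or.inl (inv_mul_eq_one.1 e1 ▸ hc)
    · refine Or.inr ?_
      rw [inv_mul_eq_iff_eq_mul.1 e1, mul_assoc, hz'2, mul_one]
      exact hc
  let S : Subgroup ↥(Subgroup.centralizer ({z} : Set G)) :=
    { carrier := {k | k ∈ D ∨ k * z' ∈ D}
      one_mem' := Or.inl (one_mem _)
      mul_mem' := by
        rintro a b (ha | ha) (hb | hb)
        · exact Or.inl (mul_mem ha hb)
        · exact Or.inr (by rw [mul_assoc]; exact mul_mem ha hb)
        · refine Or.inr ?_
          rw [mul_assoc, hz'c b, ← mul_assoc]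
          exact mul_mem ha hb
        · refine Or.inl ?_
          have h := mul_mem ha hb
          rwa [show a * z' * (b * z') = a * (z' * b) * z' by group, ← hz'c b, ← mul_assoc, mul_assoc (a * b), hz'2,
            mul_one] at h
      inv_mem' := by
        rintro a (ha | ha)
        · exact Or.inl (inv_mem ha)
        · refine Or.inr ?_
          have h := inv_mem ha
          rwa [mul_inv_rev, inv_eq_of_mul_eq_one_right hz'2, ← hz'c] at h }
  have hCxS : ∀ k ∈ Cx, k ∈ S := by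
    intro k hk
    have htop : (commutator ↥Cx).map θ = ⊤ := by
      rcases ((inferInstance : (commutator ↥Cx).Normal).map θ hθs).eq_bot_or_eq_top with h | h
      · exfalso
        refine hnc fun a b => ?_
        obtain ⟨a', rfl⟩ := hθs a
        obtain ⟨b', rfl⟩ := hθs b
        have h' : θ ⁅a', b'⁆ ∈ (commutator ↥Cx).map θ :=
          Subgroup.mem_map_of_mem θ (Subgroup.commutator_mem_commutator (Subgroup.mem_top _) (Subgroup.mem_top _))
        rw [h, Subgroup.mem_bot, map_commutatorElement, commutatorElement_eq_one_iff_mul_comm] at h'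
        exact h'
      · exact h
    obtain ⟨c, hc, hce⟩ := (htop ▸ Subgroup.mem_top (θ ⟨k, hk⟩) : θ ⟨k, hk⟩ ∈ (commutator ↥Cx).map θ)
    have hm : c⁻¹ * ⟨k, hk⟩ ∈ θ.ker := by rw [MonoidHom.mem_ker, map_mul, map_inv, hce, inv_mul_cancel]
    have hcD : (c : ↥(Subgroup.centralizer ({z} : Set G))) ∈ D := hDmap ▸ Subgroup.mem_map_of_mem _ hc
    have hzS : z' ∈ S := Or.inr (by rw [hz'2]; exact one_mem _)
    have hxzS : ((X₀ * Z₀ : Cx) : ↥(Subgroup.centralizer ({z} : Set G))) ∈ S := mul_mem (hxD : x ∈ S) hzS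
    rw [hker] at hm
    obtain ⟨i, hi⟩ := Subgroup.mem_zpowers_iff.1 hm
    have hi' := congrArg Subtype.val hi
    rw [Subgroup.coe_zpow] at hi'
    have := mul_mem (Or.inl hcD : (c : ↥(Subgroup.centralizer ({z} : Set G))) ∈ S) (hi' ▸ Subgroup.zpow_mem S hxzS i)
    simpa using this
  have hzD : z' ∈ D := by
    let K₀ : Subgroup G := Cx.map (Subgroup.centralizer ({z} : Set G)).subtype
    have hK₀ : ∀ k, k ∈ K₀ ↔ k * z = z * k ∧ k * (x : G) = (x : G) * k := by
      intro k
      constructor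
      · rintro ⟨k, hk, rfl⟩
        exact ⟨Subgroup.mem_centralizer_singleton_iff.1 k.2, congrArg Subtype.val ((hCxmem k).1 hk)⟩
      · rintro ⟨h1, h2⟩
        exact ⟨⟨k, Subgroup.mem_centralizer_singleton_iff.2 h1⟩, (hCxmem _).2 (Subtype.ext h2), rfl⟩
    have hD : ⁅K₀, K₀⁆ = D.map (Subgroup.centralizer ({z} : Set G)).subtype := (Subgroup.map_commutator _ _ _).symm
    have hz := H.z_mem_commutator (x := (x : G)) x.2 (by
        have := congrArg Subtype.val hx3
        simpa [pow_succ] using this) (ω := ω) hxω hω hfpf hψ hline K₀ hK₀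
      (fun γ hγ => by
        obtain ⟨k, hk, hkm⟩ := hlift γ hγ
        exact ⟨k, congrArg Subtype.val hk, hkm⟩)
      (by
        rintro _ ⟨k, hk, rfl⟩
        rw [hD]
        rcases hCxS k hk with h | h
        · exact Or.inl (Subgroup.mem_map_of_mem _ h)
        · exact Or.inr ⟨k * z', h, rfl⟩)
    rw [hD] at hz
    exact (Subgroup.mem_map_iff_mem (Subgroup.centralizer ({z} : Set G)).subtype_injective).1 hz
  have hperf : Group.IsPerfect ↥Cx := ⟨by
    rw [eq_top_iff]
    intro k _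
    have hk : (k : ↥(Subgroup.centralizer ({z} : Set G))) ∈ D := by
      rcases hCxS k k.2 with h | h
      · exact h
      · have := mul_mem h hzD
        rwa [mul_assoc, hz'2, mul_one] at this
    rw [← hDmap] at hk
    exact (Subgroup.mem_map_iff_mem Cx.subtype_injective).1 hk⟩
  let eq : (↥Cx ⧸ Subgroup.center ↥Cx) ≃* Cfsg.PSU 4 K 3 :=
    (QuotientGroup.quotientMulEquivOfEq hcent).trans (QuotientGroup.quotientKerEquivOfSurjective θ hθs)
  haveI : Nontrivial (↥Cx ⧸ Subgroup.center ↥Cx) := eq.toEquiv.nontrivial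
  refine ⟨⟨hperf, IsSimpleGroup.isSimpleGroup_of_surjective eq.symm.toMonoidHom eq.symm.surjective⟩, ?_, ?_,
    K, inferInstance, inferInstance, hK, ⟨eq⟩⟩
  · rw [hcent, hker]; infer_instance
  · rw [hcent, hker, Nat.card_zpowers, hord]

end CfsgLib.LargeFischer
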