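import Cfsg.Agent.Lib.LargeFischer.Fusion
import Cfsg.Agent.Lib.LargeFischer.UStab

/-!
The stabilizer of the image of a noncentral involution outside the class of the centre.
-/

set_option autoImplicit false
set_option linter.unusedSectionVars false
set_option linter.style.haveILetI false

namespace CfsgLib.LargeFischer

open Cfsg
open CfsgLib.F2Quad (Vec)
open CfsgLib.Recog.GF4

variable {G : Type*} [Group G] [Finite G]

namespace Hyp

variable {z : G} {Q : Subgroup (Subgroup.centralizer ({z} : Set G))} [Q.Normal]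
  {ρ : (Subgroup.centralizer ({z} : Set G)) ⧸ Q →* (Vec 6 ≃ₗ[ZMod 2] Vec 6)} {qf : Vec 6 → ZMod 2}
  {p : G → Vec 6} {u w : Vec 6} (H : Hyp z Q ρ qf p u w)
include H

theorem ustab_equiv (t : ↥(Subgroup.centralizer ({z} : Set G))) (htQ : t ∈ Q) (ht2 : orderOf t = 2)
    (ht : ¬ IsConj z (t : G)) (S : Subgroup (Subgroup.centralizer ({z} : Set G)))
    (hS : ∀ h : ↥(Subgroup.centralizer ({z} : Set G)), h ∈ S ↔
      (h * t * h⁻¹ = t ∨ ((h * t * h⁻¹ : ↥(Subgroup.centralizer ({z} : Set G))) : G) = t * z)) :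
    Nonempty (↥(S.map (QuotientGroup.mk' Q)) ≃*
      Cfsg.isometryGroup (ZMod 2) (Cfsg.quadFormMinus 2 (ZMod 2) 1 1)) := by
  classical
  have htm : (t : G) ∈ big z Q := ⟨t, htQ, rfl⟩
  have ht1 : (t : G) ≠ 1 := fun e => by rw [show t = 1 from Subtype.ext e, orderOf_one] at ht2; omega
  have htz : (t : G) ≠ z := fun e => ht (by rw [e])
  have htt : (t : G) * t = 1 := by
    have := pow_orderOf_eq_one t
    rw [ht2, pow_two] at this
    exact congrArg Subtype.val this
  obtain ⟨hq, h0⟩ := H.singular htm htt ht1 htz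
  obtain ⟨g, hgQ, hgne⟩ := H.nwc
  obtain ⟨γw, hγw⟩ := H.class_of_conj hgQ hgne
  obtain ⟨-, -, hEX, hEn, -, hE32, -⟩ := H.stab_structure hgQ hgne
  obtain ⟨γu, hγu⟩ : ∃ γ, ρ γ u = p (t : G) := by
    refine (H.cover _ hq h0).resolve_right fun ⟨γ, hγ⟩ => ?_
    obtain ⟨c, hc, -⟩ := H.conj_of_eq hgQ htm h0 (γ := γ * γw⁻¹) (by
      rw [← hγw, map_mul, map_inv]
      simpa [LinearEquiv.mul_apply] using hγ)
    exact ht (isConj_iff.2 ⟨(c : G) * g, by rw [← hc]; group⟩)
  obtain ⟨L, _, _, A, T, ω, π, R, C, c, hu, hw⟩ := H.raw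
  letI : DistribMulAction ((Subgroup.centralizer ({z} : Set G)) ⧸ Q) (Vec 6) := DistribMulAction.compHom _ ρ
  have hs0 : p (g * z * g⁻¹) ≠ 0 := by rw [← hγw]; exact fun e => H.w0 ((ρ γw).map_eq_zero_iff.1 e)
  have hXmem : ∀ δ, δ ∈ MulAction.stabilizer _ (C.Φ (fullRep c)) ↔ γw * δ * γw⁻¹ ∈ xImg z Q (g * z * g⁻¹) := by
    intro δ
    rw [H.mem_xImg hgQ hs0, MulAction.mem_stabilizer_iff, ← hw, ← hγw, map_mul, map_mul, map_inv]
    simp only [LinearEquiv.mul_apply]
    refine ⟨fun h => ?_, fun h => ?_⟩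
    · simp [show ρ δ w = w from h]
    · have h' := congrArg (ρ γw).symm h
      show ρ δ w = w
      simpa using h'
  have hX : Nat.card (MulAction.stabilizer ((Subgroup.centralizer ({z} : Set G)) ⧸ Q) (C.Φ (fullRep c))) = 11520 := by
    rw [← H.wstab, ← Nat.card_coe_set_eq, ← hw]
    rfl
  obtain ⟨f⟩ := C.ustab R hX ((rImg z Q g).map (MulAut.conj γw⁻¹).toMonoidHom) (by
      rintro _ ⟨e, he, rfl⟩
      rw [hXmem]
      simpa [mul_assoc] using hEX he)
    (by rw [Subgroup.card_map_of_injective (MulAut.conj γw⁻¹).injective, hE32])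
    (by
      rintro δ hδ _ ⟨e, he, rfl⟩
      refine ⟨γw * δ * γw⁻¹ * e * (γw * δ * γw⁻¹)⁻¹, hEn _ ((hXmem δ).1 hδ) e he, ?_⟩
      simp [MulAut.conj_apply, mul_assoc])
  obtain ⟨o⟩ := o6_mulAut
  have hmem : ∀ δ, δ ∈ MulAction.stabilizer _ (C.Φ pairVec) ↔ γu * δ * γu⁻¹ ∈ S.map (QuotientGroup.mk' Q) := by
    intro δ
    rw [MulAction.mem_stabilizer_iff, ← hu]
    constructor
    · intro h
      obtain ⟨k, hk, hkm⟩ := H.conj_of_eq htm htm h0 (γ := γu * δ * γu⁻¹) (by
        rw [← hγu, map_mul, map_mul, map_inv]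
        simp [LinearEquiv.mul_apply, show ρ δ u = u from h])
      exact ⟨k, (hS k).2 (Or.inl (Subtype.ext hk)), hkm⟩
    · rintro ⟨k, hk, hkm⟩
      have hpk : p ((k : G) * t * (k : G)⁻¹) = p (t : G) := by
        rcases (hS k).1 hk with e | e
        · exact congrArg p (congrArg Subtype.val e)
        · rw [show (k : G) * t * (k : G)⁻¹ = (t : G) * z from e, H.pmul _ htm _ H.S.mem, H.pz, add_zero]
      rw [H.pact k _ htm, show (QuotientGroup.mk k : _ ⧸ Q) = γu * δ * γu⁻¹ from hkm, ← hγu, map_mul, map_mul,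
        map_inv] at hpk
      simp only [LinearEquiv.mul_apply] at hpk
      have h' := congrArg (ρ γu).symm hpk
      show ρ δ u = u
      simpa using h'
  have hmap : (MulAction.stabilizer ((Subgroup.centralizer ({z} : Set G)) ⧸ Q) (C.Φ pairVec)).map
      (MulAut.conj γu).toMonoidHom = S.map (QuotientGroup.mk' Q) := by
    ext x
    rw [Subgroup.mem_map_equiv, MulAut.conj_symm_apply, hmem]
    rw [show γu * (γu⁻¹ * x * γu) * γu⁻¹ = x by group]
  exact ⟨((MulEquiv.subgroupCongr hmap).symm.trans ((Subgroup.equivMapOfInjective _ _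
    (MulAut.conj γu).injective).symm.trans f)).trans o.symm⟩

end Hyp

end CfsgLib.LargeFischer
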