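import Cfsg.Agent.Lib.LargeFischer.UStab

/-!
The stabilizer of a vector of full support: invariant subgroups of the module and linear elements.
-/

set_option autoImplicit false
set_option linter.unusedSectionVars false
set_option linter.style.haveILetI false

namespace CfsgLib.LargeFischer

open CfsgLib.Recog.GF4
open CfsgLib.LargeFischer.Frame (dvec)
open scoped Matrix

/-- The vector with ones at two places. -/
def ind (i j : Fin 6) : Fin 6 → K4 := fun n => if n = i ∨ n = j then 1 else 0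

theorem dvec_ne : ∀ c : ZMod 3, ∀ i, dvec c i ≠ 0 := by decide +kernel

theorem dvec_norm : ∀ c : ZMod 3, ∀ i, dvec c i * dvec c i ^ 2 = 1 := by decide +kernel

theorem herm_dvec (c : ZMod 3) (x y : Fin 6 → K4) :
    Cfsg.hermForm 6 K4 2 (dvec c * x) (dvec c * y) = Cfsg.hermForm 6 K4 2 x y := by
  refine Finset.sum_congr rfl fun i _ => ?_
  simp only [Pi.mul_apply]
  linear_combination (x i * y i ^ 2) * dvec_norm c i

theorem bit_inj : ∀ a b : ZMod 2, bit a = bit b → a = b := by decide +kernel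

theorem five_points : ∀ i j : Fin 6, i ≠ j → ∃ k l m : Fin 6, k ≠ i ∧ k ≠ j ∧ l ≠ i ∧ l ≠ j ∧ m ≠ i ∧ m ≠ j ∧
    k ≠ l ∧ m ≠ k ∧ m ≠ l := by decide

theorem two_traces : ∀ a : K4, a + a ^ 2 = 0 → wK ^ 2 * a + (wK ^ 2 * a) ^ 2 = 0 → a = 0 :=
  forall_K4 (by decide +kernel)

theorem trace_eq : ∀ a : K4, (1 + a) * (1 + a) ^ 2 + 5 * (a * a ^ 2) = 1 → a = 0 ∨ a = 1 :=
  forall_K4 (by decide +kernel)

theorem pair_herm : ∀ p : Fin 6, p ≠ 0 → ∀ ε φ : K4, (ε = 0 ∨ ε = 1) → (φ = 0 ∨ φ = 1) →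
    Cfsg.hermForm 6 K4 2 (Pi.single 0 1 + ε • (1 : Fin 6 → K4)) (ind 0 p + φ • (1 : Fin 6 → K4)) =
      Cfsg.hermForm 6 K4 2 (Pi.single 0 1) (ind 0 p) → φ = 0 := by
  intro p hp ε φ hε hφ
  rcases hε with rfl | rfl <;> rcases hφ with rfl | rfl <;> revert p <;> decide +kernel

theorem transvection_kinds : ∀ c : ZMod 3,
    kind (fun i => toK.symm ((dvec c * ![1, wK, 0, 0, 0, 0]) i)) = kind pairVec ∧
    kind (fun i => toK.symm ((dvec c * (![1, wK, 0, 0, 0, 0] + (1 + wK) • (1 : Fin 6 → K4))) i)) =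
      kind (fullRep c) ∧ kind pairVec ≠ 5 ∧ kind (fullRep c) ≠ 5 := by
  decide +kernel

theorem sum_ind (i j : Fin 6) (h : i ≠ j) : ∑ n, ind i j n = 0 := by
  revert h i j
  decide +kernel

theorem expand_ind (x : Fin 6 → K4) : x = x 1 • ind 0 1 + x 2 • ind 0 2 + x 3 • ind 0 3 + x 4 • ind 0 4 +
    x 5 • ind 0 5 + (∑ n, x n) • (Pi.single 0 1 : Fin 6 → K4) := by
  funext n
  simp only [Pi.add_apply, Pi.smul_apply, smul_eq_mul, Fin.sum_univ_six, Pi.single_apply, ind]
  fin_cases n <;> simp <;> linear_combination -(x 1 + x 2 + x 3 + x 4 + x 5) * two_eq_zero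

namespace Frame

variable {Γ : Type*} [Group Γ] [Finite Γ] {V : Type*} [AddCommGroup V] [Finite V] [DistribMulAction Γ V]
  {L : Type*} [Group L] [IsSimpleGroup L]
  {q : V → ZMod 2} {A T : Subgroup Γ} {ω : Γ} {π : T →* L} (C : Frame q A T ω π) (R : Raw q A T ω π)
include C R

/-- Scaled coordinates. -/
def sv (c : ZMod 3) : (Fin 6 → K4) →+ V :=
  AddMonoidHom.mk' (fun x => C.vK R (dvec c * x)) fun x y => by rw [mul_add, C.vK_add]

variable {c : ZMod 3}

theorem sv_apply (x : Fin 6 → K4) : C.sv R c x = C.vK R (dvec c * x) := rfl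

theorem sv_one : C.sv R c 1 = C.Φ (fullRep c) := by rw [sv_apply, mul_one, C.vK_dvec R]

theorem sv_inj {x y : Fin 6 → K4} (h : C.sv R c x = C.sv R c y) : x = y := by
  have h1 := (C.vK R).injective h
  funext i
  exact mul_left_cancel₀ (dvec_ne c i) (congrFun h1 i)

theorem sv_surj (v : V) : ∃ x, C.sv R c x = v := by
  obtain ⟨y, rfl⟩ := (C.vK R).surjective v
  refine ⟨fun i => (dvec c i)⁻¹ * y i, congrArg (C.vK R) (funext fun i => ?_)⟩
  rw [Pi.mul_apply, mul_inv_cancel_left₀ (dvec_ne c i)]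

theorem omega_sv (x : Fin 6 → K4) : ω • C.sv R c x = C.sv R c (wK • x) := by
  rw [sv_apply, C.smul_omega R, sv_apply, mul_smul_comm]

theorem perms_smul {γ : Γ} {σ : Equiv.Perm (Fin 6)} (h : C.Perms R c γ σ) (x : Fin 6 → K4) :
    γ • C.sv R c x = C.sv R c (x ∘ σ.symm) := by
  rw [sv_apply, ← C.vK_act, h]; rfl

theorem perms_comm {γ : Γ} {σ : Equiv.Perm (Fin 6)} (h : C.Perms R c γ σ) : γ * ω = ω * γ := by
  refine C.act_inj R fun y => (C.vK R).injective ?_
  obtain ⟨x, hx⟩ := C.sv_surj R (c := c) (C.vK R y)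
  rw [C.vK_act, C.vK_act, ← hx, mul_smul, mul_smul, C.omega_sv R, C.perms_smul R h, C.perms_smul R h, C.omega_sv R]
  rfl

theorem smul_sv_smul {γ : Γ} (hγ : γ * ω = ω * γ) {x y : Fin 6 → K4} (h : γ • C.sv R c x = C.sv R c y) (k : K4) :
    γ • C.sv R c (k • x) = C.sv R c (k • y) := by
  rw [sv_apply, sv_apply, ← C.vK_act] at h ⊢
  rw [mul_smul_comm, mul_smul_comm, C.act_smul R hγ, (C.vK R).injective h]

theorem herm_sv {γ : Γ} (hγ : γ * ω = ω * γ) {x y x' y' : Fin 6 → K4} (hx : γ • C.sv R c x = C.sv R c x')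
    (hy : γ • C.sv R c y = C.sv R c y') : Cfsg.hermForm 6 K4 2 x' y' = Cfsg.hermForm 6 K4 2 x y := by
  rw [sv_apply, sv_apply, ← C.vK_act] at hx hy
  rw [← herm_dvec c x' y', ← (C.vK R).injective hx, ← (C.vK R).injective hy, C.act_herm R hγ, herm_dvec]

theorem bil_sv (x y : Fin 6 → K4) : bit (R.bil (C.sv R c x) (C.sv R c y)) =
    Cfsg.hermForm 6 K4 2 x y + Cfsg.hermForm 6 K4 2 x y ^ 2 := by
  rw [sv_apply, sv_apply, C.bil_vK R, herm_dvec]

/-- No element acts as a transvection at a vector of full support. -/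
theorem no_transvection (hne : ¬ ∃ γ : Γ, γ • C.Φ pairVec = C.Φ (fullRep c)) (γ : Γ) :
    ¬ ∀ x : Fin 6 → K4, γ • C.sv R c x = C.sv R c (x + (∑ i, x i) • 1) := by
  intro h
  obtain ⟨k2, k6, n2, n6⟩ := transvection_kinds c
  obtain ⟨δ, hδ⟩ := C.same_orbit R k2.symm n2
  obtain ⟨ε, hε⟩ := C.same_orbit R k6 (by rw [k6]; exact n6)
  refine hne ⟨ε * γ * δ, ?_⟩
  rw [mul_smul, mul_smul, hδ, ← hε, ← C.vK_apply R, ← C.vK_apply R, ← sv_apply, ← sv_apply, h]
  have hs : ∑ i, (![1, wK, 0, 0, 0, 0] : Fin 6 → K4) i = 1 + wK := by simp [Fin.sum_univ_six]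
  rw [hs]

theorem eq_one_of_fix (hne : ¬ ∃ γ : Γ, γ • C.Φ pairVec = C.Φ (fullRep c)) {γ : Γ} (hγ : γ * ω = ω * γ)
    (hfix : ∀ p : Fin 6, p ≠ 0 → γ • C.sv R c (ind 0 p) = C.sv R c (ind 0 p)) {ε : K4} (hε : ε = 0 ∨ ε = 1)
    (h0 : γ • C.sv R c (Pi.single 0 1) = C.sv R c (Pi.single 0 1 + ε • (1 : Fin 6 → K4))) : γ = 1 := by
  have hall : ∀ x : Fin 6 → K4, γ • C.sv R c x = C.sv R c (x + (ε * ∑ i, x i) • 1) := by
    intro x
    have hp : ∀ p : Fin 6, p ≠ 0 → γ • C.sv R c (x p • ind 0 p) = C.sv R c (x p • ind 0 p) := fun p hp =>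
      C.smul_sv_smul R hγ (hfix p hp) _
    conv_lhs => rw [expand_ind x]
    simp only [map_add, smul_add]
    rw [hp 1 (by decide), hp 2 (by decide), hp 3 (by decide), hp 4 (by decide), hp 5 (by decide),
      C.smul_sv_smul R hγ h0 (∑ i, x i), smul_add, map_add, smul_smul, mul_comm ε]
    rw [congrArg (C.sv R c) (expand_ind x)]
    simp only [map_add]
    abel
  rcases hε with rfl | rfl
  · refine C.act_inj R fun y => (C.vK R).injective ?_
    rw [C.vK_act, C.vK_act, one_smul]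
    obtain ⟨x, hx⟩ := C.sv_surj R (c := c) (C.vK R y)
    rw [← hx, hall, zero_mul, zero_smul, add_zero]
  · exfalso
    exact C.no_transvection R hne γ fun x => by rw [hall, one_mul]

theorem fix_perp (hne : ¬ ∃ γ : Γ, γ • C.Φ pairVec = C.Φ (fullRep c)) {γ : Γ} (hγ : γ * ω = ω * γ)
    (hfix : ∀ x : Fin 6 → K4, ∑ i, x i = 0 → γ • C.sv R c x = C.sv R c x) : γ = 1 := by
  obtain ⟨y, hy⟩ := C.sv_surj R (c := c) (γ • C.sv R c (Pi.single 0 1))
  have hp : ∀ p : Fin 6, p ≠ 0 → γ • C.sv R c (ind 0 p) = C.sv R c (ind 0 p) :=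
    fun p hp => hfix _ (sum_ind 0 p hp.symm)
  have hyp : y = Pi.single 0 1 + (y 0 + 1) • (1 : Fin 6 → K4) := by
    have h := fun p hp' => C.herm_sv R hγ hy.symm (hp p hp')
    have a := h 1 (by decide); have b := h 2 (by decide); have d := h 3 (by decide)
    have e := h 4 (by decide); have f := h 5 (by decide)
    simp [Cfsg.hermForm, Fin.sum_univ_six, ind, Pi.single_apply] at a b d e f
    funext n
    simp only [Pi.add_apply, Pi.smul_apply, Pi.one_apply, smul_eq_mul, mul_one, Pi.single_apply]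
    fin_cases n <;> simp
    · linear_combination -two_eq_zero
    · linear_combination a - y 0 * two_eq_zero
    · linear_combination b - y 0 * two_eq_zero
    · linear_combination d - y 0 * two_eq_zero
    · linear_combination e - y 0 * two_eq_zero
    · linear_combination f - y 0 * two_eq_zero
  have hsq := C.herm_sv R hγ hy.symm hy.symm
  refine C.eq_one_of_fix R hne hγ hp (ε := y 0 + 1) (trace_eq _ ?_) (by rw [← hy, ← hyp])
  rw [hyp] at hsq
  simp [Cfsg.hermForm, Fin.sum_univ_six, Pi.single_apply] at hsq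
  linear_combination hsq

theorem inv_of_perms (D : AddSubgroup V)
    (hD : ∀ γ σ, σ ∈ alternatingGroup (Fin 6) → C.Perms R c γ σ → ∀ v ∈ D, γ • v ∈ D)
    {σ : Equiv.Perm (Fin 6)} (hσ : σ ∈ alternatingGroup (Fin 6)) {x : Fin 6 → K4} (hx : C.sv R c x ∈ D) :
    C.sv R c (x ∘ σ) ∈ D := by
  obtain ⟨γ, hγ⟩ := C.perms_even R (c := c) (inv_mem hσ)
  have := hD γ _ (inv_mem hσ) hγ _ hx
  rwa [C.perms_smul R hγ] at this

theorem pair_mem (D : AddSubgroup V)
    (hD : ∀ γ σ, σ ∈ alternatingGroup (Fin 6) → C.Perms R c γ σ → ∀ v ∈ D, γ • v ∈ D)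
    {x : Fin 6 → K4} (hx : C.sv R c x ∈ D) (i j : Fin 6) {a b : Fin 6} (hab : a ≠ b) :
    C.sv R c ((x i + x j) • ind a b) ∈ D := by
  classical
  by_cases hij : i = j
  · subst hij; rw [CfsgLib.Recog.GF4.add_self, zero_smul, map_zero]; exact zero_mem _
  obtain ⟨k, l, m, hki, hkj, hli, hlj, hmi, hmj, hkl, hmk, hml⟩ := five_points i j hij
  have hs : ∀ {a b c d : Fin 6}, a ≠ b → c ≠ d → Equiv.swap a b * Equiv.swap c d ∈ alternatingGroup (Fin 6) :=
    fun h h' => by rw [Equiv.Perm.mem_alternatingGroup, map_mul, Equiv.Perm.sign_swap h, Equiv.Perm.sign_swap h']; rfl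
  set σ := Equiv.swap i j * Equiv.swap k l with hσ
  set σ' := Equiv.swap j m * Equiv.swap k l with hσ'
  have h1 : C.sv R c (x + x ∘ σ) ∈ D := by
    rw [map_add]; exact add_mem hx (C.inv_of_perms R D hD (hs hij hkl) hx)
  have h2 : C.sv R c ((x + x ∘ σ) + (x + x ∘ σ) ∘ σ') ∈ D := by
    rw [map_add]; exact add_mem h1 (C.inv_of_perms R D hD (hs (Ne.symm hmj) hkl) h1)
  have h3 : (x + x ∘ σ) + (x + x ∘ σ) ∘ σ' = (x i + x j) • ind j m := by
    funext n
    simp only [Pi.add_apply, Function.comp_apply, Pi.smul_apply, smul_eq_mul, ind, hσ, hσ', Equiv.Perm.mul_apply]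
    by_cases n0 : n = i
    · subst n0
      simp [Equiv.swap_apply_def, hij, Ne.symm hmi, Ne.symm hki, Ne.symm hli, CfsgLib.Recog.GF4.add_self]
    by_cases n1 : n = j
    · subst n1
      simp [Equiv.swap_apply_def, Ne.symm hij, Ne.symm hmj, Ne.symm hkj, Ne.symm hlj, hmi, hmj, hmk, hml]
      linear_combination x m * two_eq_zero
    by_cases n2 : n = k
    · subst n2
      simp [Equiv.swap_apply_def, hki, hkj, hkl, hli, hlj, Ne.symm hmk, Ne.symm hkl, Ne.symm hml]
      linear_combination (x n + x l) * two_eq_zero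
    by_cases n3 : n = l
    · subst n3
      simp [Equiv.swap_apply_def, hki, hkj, hkl, hli, hlj, Ne.symm hml, Ne.symm hkl, Ne.symm hmk]
      linear_combination (x n + x k) * two_eq_zero
    by_cases n4 : n = m
    · subst n4
      simp [Equiv.swap_apply_def, hmi, hmj, hmk, hml, Ne.symm hij, Ne.symm hkj, Ne.symm hlj, hij]
      linear_combination x n * two_eq_zero
    simp [Equiv.swap_apply_def, n0, n1, n2, n3, n4, CfsgLib.Recog.GF4.add_self]
  rw [h3] at h2
  obtain ⟨τ, hτ, hτi⟩ := exists_even_move (s := {a, b}) (s' := {j, m})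
    (by rw [Finset.card_pair hab, Finset.card_pair (Ne.symm hmj)]) (by rw [Finset.card_pair (Ne.symm hmj)])
  have h4 := C.inv_of_perms R D hD hτ h2
  have h5 : ((x i + x j) • ind j m) ∘ τ = (x i + x j) • ind a b := by
    funext n
    simp only [Function.comp_apply, Pi.smul_apply, ind]
    have : τ n ∈ ({j, m} : Finset (Fin 6)) ↔ n ∈ ({a, b} : Finset (Fin 6)) := by
      rw [← hτi, Finset.mem_image]
      exact ⟨fun ⟨r, hr, e⟩ => τ.injective e ▸ hr, fun h => ⟨n, h, rfl⟩⟩
    simp only [Finset.mem_insert, Finset.mem_singleton] at this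
    rw [if_congr this rfl rfl]
  rwa [h5] at h4

theorem const_of_omega (D : AddSubgroup V)
    (hD : ∀ γ σ, σ ∈ alternatingGroup (Fin 6) → C.Perms R c γ σ → ∀ v ∈ D, γ • v ∈ D)
    (hcard : Nat.card D ≤ 64) {x : Fin 6 → K4} (hx : C.sv R c x ∈ D) (hωx : C.sv R c (wK • x) ∈ D) :
    x = x 0 • (1 : Fin 6 → K4) := by
  classical
  by_contra hne
  obtain ⟨i, hi⟩ : ∃ i, x i ≠ x 0 := by
    by_contra h
    push Not at h
    exact hne (funext fun i => by simp [h i])
  set a := x i + x 0 with ha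
  have ha0 : a ≠ 0 := fun e => hi (by linear_combination e - x 0 * two_eq_zero)
  have hall : ∀ k : K4, ∀ l : Fin 5, C.sv R c (k • ind l.castSucc 5) ∈ D := by
    intro k l
    have hl : l.castSucc ≠ (5 : Fin 6) := Fin.ne_of_lt (Fin.castSucc_lt_last l)
    have h1 := C.pair_mem R D hD hx i 0 hl
    have h2 := C.pair_mem R D hD hωx i 0 hl
    rw [Pi.smul_apply, Pi.smul_apply, smul_eq_mul, smul_eq_mul, ← mul_add, ← ha] at h2
    rw [← ha] at h1
    obtain ⟨s, rfl⟩ : ∃ s, s * a = k := ⟨k / a, div_mul_cancel₀ _ ha0⟩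
    rcases scalar_cases s with rfl | rfl | rfl | rfl
    · rw [zero_mul, zero_smul, map_zero]; exact zero_mem _
    · rwa [one_mul]
    · exact h2
    · rw [add_mul, one_mul, add_smul, map_add]; exact add_mem h2 h1
  let g : (Fin 5 → K4) → D := fun f => ⟨C.sv R c (∑ l, f l • ind l.castSucc 5),
    by rw [map_sum]; exact sum_mem fun l _ => hall (f l) l⟩
  have hg : Function.Injective g := by
    intro f f' h
    have h1 := C.sv_inj R (congrArg Subtype.val h)
    funext m
    have h2 := congrFun h1 m.castSucc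
    rw [Finset.sum_apply, Finset.sum_apply] at h2
    have hval' : ∀ l m : Fin 5, ind l.castSucc 5 m.castSucc = if l = m then 1 else 0 := by decide +kernel
    have hval := fun l => hval' l m
    simp only [Pi.smul_apply, hval, smul_eq_mul, mul_ite, mul_one, mul_zero, Finset.sum_ite_eq',
      Finset.mem_univ, if_true] at h2
    exact h2
  have := (Nat.card_le_card_of_injective g hg).trans hcard
  rw [Nat.card_eq_fintype_card, Fintype.card_fun, card_K4, Fintype.card_fin] at this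
  omega

theorem omega_mem (hne : ¬ ∃ γ : Γ, γ • C.Φ pairVec = C.Φ (fullRep c)) (D : AddSubgroup V)
    (hD : ∀ γ σ, σ ∈ alternatingGroup (Fin 6) → C.Perms R c γ σ → ∀ v ∈ D, γ • v ∈ D)
    (hcard : Nat.card D = 64) (h1 : C.sv R c 1 ∈ D) {e : Γ} (he : e * ω = ω * e) (he1 : e ≠ 1)
    (hfix : e • C.sv R c 1 = C.sv R c 1) (hed : ∀ d ∈ D, e • d = d ∨ e • d = d + C.sv R c 1) :
    C.sv R c (wK • 1) ∈ D := by
  classical
  by_contra hω
  have hk : ∀ k : K4, C.sv R c (k • 1) ∈ D → k = 0 ∨ k = 1 := by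
    intro k hk
    rcases scalar_cases k with rfl | rfl | rfl | rfl
    · exact Or.inl rfl
    · exact Or.inr rfl
    · exact absurd hk hω
    · refine absurd ?_ hω
      rw [add_smul, one_smul, map_add] at hk
      have := sub_mem hk h1
      rwa [add_sub_cancel_right] at this
  have hdiff : ∀ x, C.sv R c x ∈ D → ∀ i j, x i + x j = 0 ∨ x i + x j = 1 := by
    intro x hx i j
    refine hk _ ?_
    have e1 : (x i + x j) • (1 : Fin 6 → K4) =
        (x i + x j) • ind 0 1 + (x i + x j) • ind 2 3 + (x i + x j) • ind 4 5 := by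
      funext n; fin_cases n <;> simp [ind]
    rw [e1, map_add, map_add]
    exact add_mem (add_mem (C.pair_mem R D hD hx i j (by decide)) (C.pair_mem R D hD hx i j (by decide)))
      (C.pair_mem R D hD hx i j (by decide))
  obtain ⟨x₀, hx₀, i₀, j₀, hd1⟩ : ∃ x, C.sv R c x ∈ D ∧ ∃ i j, x i + x j = 1 := by
    by_contra h
    push Not at h
    have hc : ∀ d : D, ∃ k : K4, C.sv R c (k • 1) = (d : V) := by
      rintro ⟨v, hv⟩
      obtain ⟨x, rfl⟩ := C.sv_surj R (c := c) v
      refine ⟨x 0, congrArg _ (funext fun i => ?_)⟩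
      have := (hdiff x hv i 0).resolve_right (h x hv i 0)
      simp only [Pi.smul_apply, Pi.one_apply, smul_eq_mul, mul_one]
      linear_combination this - x i * two_eq_zero
    choose g hg using hc
    have := Nat.card_le_card_of_injective g fun d d' e => Subtype.ext (by rw [← hg d, ← hg d', e])
    rw [hcard, Nat.card_eq_fintype_card, card_K4] at this
    omega
  have hpair : ∀ a b : Fin 6, a ≠ b → C.sv R c (ind a b) ∈ D := fun a b hab => by
    have := C.pair_mem R D hD hx₀ i₀ j₀ hab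
    rwa [hd1, one_smul] at this
  obtain ⟨k, hkD⟩ : ∃ k : K4, C.sv R c (k • (1 : Fin 6 → K4) + Pi.single 0 1) ∈ D := by
    by_contra h
    push Not at h
    have hbin : ∀ x, C.sv R c x ∈ D → (∀ i, x i = 0 ∨ x i = 1) ∧ ∑ i, x i = 0 := by
      intro x hx
      set y : Fin 6 → K4 := fun i => x i + x 5 with hy
      have hy01 : ∀ i, y i = 0 ∨ y i = 1 := fun i => hdiff x hx i 5
      have hterm : ∀ l : Fin 6, l ≠ 5 → C.sv R c (y l • ind l 5) ∈ D := fun l hl => by
        rcases hy01 l with e | e <;> rw [e]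
        · rw [zero_smul, map_zero]; exact zero_mem _
        · rw [one_smul]; exact hpair l 5 hl
      have hsum : C.sv R c (x + (y 0 • ind 0 5 + y 1 • ind 1 5 + y 2 • ind 2 5 + y 3 • ind 3 5 + y 4 • ind 4 5)) ∈ D := by
        simp only [map_add]
        exact add_mem hx (add_mem (add_mem (add_mem (add_mem (hterm 0 (by decide)) (hterm 1 (by decide)))
          (hterm 2 (by decide))) (hterm 3 (by decide))) (hterm 4 (by decide)))
      have hz : x + (y 0 • ind 0 5 + y 1 • ind 1 5 + y 2 • ind 2 5 + y 3 • ind 3 5 + y 4 • ind 4 5) =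
          x 5 • (1 : Fin 6 → K4) + (∑ i, x i) • (Pi.single 5 1 : Fin 6 → K4) := by
        funext n
        simp only [Pi.add_apply, Pi.smul_apply, Pi.one_apply, smul_eq_mul, Pi.single_apply, ind, hy, Fin.sum_univ_six]
        fin_cases n <;> simp
        · linear_combination (x 0) * two_eq_zero
        · linear_combination (x 1) * two_eq_zero
        · linear_combination (x 2) * two_eq_zero
        · linear_combination (x 3) * two_eq_zero
        · linear_combination (x 4) * two_eq_zero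
        · linear_combination (2 * x 5) * two_eq_zero
      rw [hz] at hsum
      have hsig : ∑ i, x i = 0 ∨ ∑ i, x i = 1 := by
        have e6 : ∑ i, x i = y 0 + y 1 + y 2 + y 3 + y 4 + y 5 := by
          simp only [hy, Fin.sum_univ_six]; linear_combination -(3 * x 5) * two_eq_zero
        rw [e6]
        rcases hy01 0 with a | a <;> rcases hy01 1 with b | b <;> rcases hy01 2 with d | d <;>
          rcases hy01 3 with e | e <;> rcases hy01 4 with f | f <;> rcases hy01 5 with g | g <;>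
          simp [a, b, d, e, f, g] <;> decide +kernel
      rcases hsig with e | e
      · rw [e, zero_smul, add_zero] at hsum
        refine ⟨fun i => ?_, e⟩
        have hi := hdiff x hx i 5
        rcases hk _ hsum with h5 | h5 <;> rw [h5] at hi
        · simpa using hi
        · rcases hi with hi | hi
          · right; linear_combination hi - two_eq_zero
          · left; linear_combination hi
      · exfalso
        refine h (x 5) ?_
        rw [e, one_smul] at hsum
        have h05 := hpair 0 5 (by decide)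
        have hh := add_mem hsum h05
        rw [← map_add] at hh
        convert hh using 2
        funext n
        fin_cases n <;> simp [ind, add_assoc, CfsgLib.Recog.GF4.add_self]
    let g : D → (Fin 5 → Fin 2) := fun d => fun l => if (C.sv_surj R (c := c) (d : V)).choose l.castSucc = 0 then 0 else 1
    have hg : Function.Injective g := by
      intro d d' e
      have hd := (C.sv_surj R (c := c) (d : V)).choose_spec
      have hd' := (C.sv_surj R (c := c) (d' : V)).choose_spec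
      set x := (C.sv_surj R (c := c) (d : V)).choose
      set x' := (C.sv_surj R (c := c) (d' : V)).choose
      obtain ⟨b1, s1⟩ := hbin x (by rw [hd]; exact d.2)
      obtain ⟨b2, s2⟩ := hbin x' (by rw [hd']; exact d'.2)
      have h5 : ∀ l : Fin 5, x l.castSucc = x' l.castSucc := by
        intro l
        have e1 : (if x l.castSucc = 0 then (0 : Fin 2) else 1) = (if x' l.castSucc = 0 then 0 else 1) := congrFun e l
        rcases b1 l.castSucc with a | a <;> rcases b2 l.castSucc with b | b <;> rw [a, b] at e1 ⊢ <;>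
          exact absurd e1 (by decide +kernel)
      refine Subtype.ext (hd.symm.trans ((congrArg _ ?_).trans hd'))
      have a0 : x 0 = x' 0 := h5 0
      have a1 : x 1 = x' 1 := h5 1
      have a2 : x 2 = x' 2 := h5 2
      have a3 : x 3 = x' 3 := h5 3
      have a4 : x 4 = x' 4 := h5 4
      rw [Fin.sum_univ_six] at s1 s2
      have a5 : x 5 = x' 5 := by linear_combination s1 - s2 - a0 - a1 - a2 - a3 - a4
      funext n
      fin_cases n
      exacts [a0, a1, a2, a3, a4, a5]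
    have := Nat.card_le_card_of_injective g hg
    rw [hcard, Nat.card_eq_fintype_card, Fintype.card_fun, Fintype.card_fin, Fintype.card_fin] at this
    omega
  have hcases : ∀ x, C.sv R c x ∈ D → ∃ φ : K4, (φ = 0 ∨ φ = 1) ∧ e • C.sv R c x = C.sv R c (x + φ • (1 : Fin 6 → K4)) := by
    intro x hx
    rcases hed _ hx with h | h
    · exact ⟨0, Or.inl rfl, by rw [zero_smul, add_zero, h]⟩
    · exact ⟨1, Or.inr rfl, by rw [one_smul, map_add, h]⟩
  obtain ⟨ε, hε, hx⟩ := hcases _ hkD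
  rw [map_add, smul_add, C.smul_sv_smul R he hfix k, add_assoc, map_add, add_right_inj] at hx
  refine he1 (C.eq_one_of_fix R hne he (fun p hp => ?_) hε hx)
  obtain ⟨φ, hφ, hpe⟩ := hcases _ (hpair 0 p hp.symm)
  have h0 := pair_herm p hp ε φ hε hφ (C.herm_sv R he hx hpe)
  rwa [h0, zero_smul, add_zero] at hpe

theorem perp_const {x : Fin 6 → K4}
    (h : ∀ y : Fin 6 → K4, ∑ i, y i = 0 → R.bil (C.sv R c x) (C.sv R c y) = 0) : x = x 0 • (1 : Fin 6 → K4) := by
  funext i
  simp only [Pi.smul_apply, Pi.one_apply, smul_eq_mul, mul_one]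
  by_cases hi : i = 0
  · rw [hi]
  have h1 : ∀ k : K4, k ^ 2 * (x 0 + x i) + (k ^ 2 * (x 0 + x i)) ^ 2 = 0 := by
    intro k
    have hb := C.bil_sv R (c := c) x (k • ind 0 i)
    rw [h _ (by simp only [Pi.smul_apply, smul_eq_mul, ← Finset.mul_sum, sum_ind 0 i (Ne.symm hi), mul_zero])] at hb
    have hh : Cfsg.hermForm 6 K4 2 x (k • ind 0 i) = k ^ 2 * (x 0 + x i) := by
      fin_cases i <;> simp [Cfsg.hermForm, Fin.sum_univ_six, ind] at hi ⊢ <;> ring
    rw [hh] at hb
    exact hb.symm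
  have h0 := two_traces (x 0 + x i) (by simpa using h1 1) (h1 wK)
  linear_combination h0 - x 0 * two_eq_zero

theorem perp_sum {x : Fin 6 → K4} (h1 : R.bil (C.sv R c x) (C.sv R c 1) = 0)
    (h2 : R.bil (C.sv R c x) (C.sv R c (wK • 1)) = 0) : ∑ i, x i = 0 := by
  have a := C.bil_sv R (c := c) x 1
  have b := C.bil_sv R (c := c) x (wK • 1)
  rw [h1] at a
  rw [h2] at b
  have e1 : Cfsg.hermForm 6 K4 2 x 1 = ∑ i, x i := by simp [Cfsg.hermForm]
  have e2 : Cfsg.hermForm 6 K4 2 x (wK • 1) = wK ^ 2 * ∑ i, x i := by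
    simp [Cfsg.hermForm, Finset.mul_sum, mul_comm]
  rw [e1] at a
  rw [e2] at b
  exact two_traces _ a.symm b.symm

theorem bil_const {x : Fin 6 → K4} (hx : ∑ i, x i = 0) (k : K4) :
    R.bil (C.sv R c x) (C.sv R c (k • 1)) = 0 := by
  refine bit_inj _ _ ?_
  rw [C.bil_sv R]
  have e : Cfsg.hermForm 6 K4 2 x (k • 1) = k ^ 2 * ∑ i, x i := by
    simp [Cfsg.hermForm, Finset.mul_sum, mul_comm]
  rw [e, hx]
  simp [bit]

theorem sum_eq_of_comm {γ : Γ} (hγ : γ * ω = ω * γ) (hfix : γ • C.sv R c 1 = C.sv R c 1) {x y : Fin 6 → K4}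
    (hxy : γ • C.sv R c x = C.sv R c y) : ∑ i, y i = ∑ i, x i := by
  have h := C.herm_sv R hγ hxy hfix
  simpa [Cfsg.hermForm] using h

theorem witness : R.bil (C.sv R c (Pi.single 0 1)) (C.sv R c 1) = 0 ∧
    R.bil (C.sv R c (Pi.single 0 1)) (C.sv R c (wK • 1)) = 1 ∧
    R.bil (C.sv R c (ind 0 1)) (C.sv R c (wK • ind 1 2)) = 1 := by
  refine ⟨bit_inj _ _ ?_, bit_inj _ _ ?_, bit_inj _ _ ?_⟩ <;> rw [C.bil_sv R] <;> decide +kernel

/-- The elements of the stabilizer of a vector of full support commuting with `ω`. -/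
abbrev wC (_R : Raw q A T ω π) (c : ZMod 3) : Subgroup Γ :=
  MulAction.stabilizer Γ (C.Φ (fullRep c)) ⊓ Subgroup.centralizer ({ω} : Set Γ)

theorem mem_wC {γ : Γ} : γ ∈ C.wC R c ↔ γ • C.sv R c 1 = C.sv R c 1 ∧ γ * ω = ω * γ := by
  rw [Subgroup.mem_inf, MulAction.mem_stabilizer_iff, Subgroup.mem_centralizer_singleton_iff, C.sv_one R]

theorem card_le_two_mul (S : Subgroup Γ) :
    Nat.card S ≤ 2 * Nat.card (S ⊓ Subgroup.centralizer ({ω} : Set Γ) : Subgroup Γ) := by
  classical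
  by_cases hx : ∃ x ∈ S, ¬ (x * ω = ω * x)
  swap
  · push Not at hx
    refine le_trans (Subgroup.card_le_of_le ?_) (Nat.le_mul_of_pos_left _ two_pos)
    exact fun γ hγ => ⟨hγ, Subgroup.mem_centralizer_singleton_iff.2 (hx γ hγ)⟩
  obtain ⟨x, hxS, hxω⟩ := hx
  have hxi := (C.omega_cases R x).resolve_left hxω
  have hx2 : x * ω⁻¹ = ω * x := by
    rw [mul_inv_eq_iff_eq_mul, mul_assoc, hxi, mul_inv_cancel_left]
  let g : S → Fin 2 × ↥(S ⊓ Subgroup.centralizer ({ω} : Set Γ)) := fun γ =>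
    if h : (γ : Γ) * ω = ω * γ then (0, ⟨γ, γ.2, Subgroup.mem_centralizer_singleton_iff.2 h⟩)
    else (1, ⟨x * γ, mul_mem hxS γ.2, Subgroup.mem_centralizer_singleton_iff.2 (by
      rw [mul_assoc, (C.omega_cases R γ).resolve_left h, ← mul_assoc, hx2, mul_assoc])⟩)
  have hg : Function.Injective g := by
    intro γ δ h
    simp only [g] at h
    split_ifs at h with a b b
    · exact Subtype.ext (congrArg (fun p : Fin 2 × ↥(S ⊓ Subgroup.centralizer ({ω} : Set Γ)) => (p.2 : Γ)) h)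
    · exact absurd (congrArg Prod.fst h) (show (0 : Fin 2) ≠ 1 by decide)
    · exact absurd (congrArg Prod.fst h) (show (1 : Fin 2) ≠ 0 by decide)
    · exact Subtype.ext (mul_left_cancel
        (congrArg (fun p : Fin 2 × ↥(S ⊓ Subgroup.centralizer ({ω} : Set Γ)) => (p.2 : Γ)) h))
  refine (Nat.card_le_card_of_injective g hg).trans ?_
  rw [Nat.card_prod, Nat.card_fin]

theorem card_wC (hX : Nat.card (MulAction.stabilizer Γ (C.Φ (fullRep c))) = 11520) (E : Subgroup Γ)
    (hEX : E ≤ MulAction.stabilizer Γ (C.Φ (fullRep c))) (hE : Nat.card E = 32)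
    (hEn : ∀ γ ∈ MulAction.stabilizer Γ (C.Φ (fullRep c)), ∀ e ∈ E, γ * e * γ⁻¹ ∈ E) :
    Nat.card (C.wC R c) = 5760 := by
  have hsu : Nat.card (C.stabC R) = 25920 := by
    rw [Nat.card_congr (Equiv.ofBijective _ ⟨C.toSU_inj R hX E hEX hE hEn, C.toSU_surj R⟩), card_su42.1]
  have hCω : Nat.card (Subgroup.centralizer ({ω} : Set Γ)) = 9797760 := by
    have h2 := C.card_le_two_mul R (⊤ : Subgroup Γ)
    rw [top_inf_eq, Subgroup.card_top, R.cardΓ] at h2
    have hi := Subgroup.card_mul_index (Subgroup.centralizer ({ω} : Set Γ))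
    rw [R.cardΓ] at hi
    have hne : (Subgroup.centralizer ({ω} : Set Γ)).index ≠ 1 := by
      intro h1
      have hle := Subgroup.card_le_of_le (show MulAction.stabilizer Γ (C.Φ pairVec) ≤ C.stabC R from
        le_inf le_rfl ((Subgroup.index_eq_one.1 h1).symm ▸ le_top))
      rw [C.stab_card R, hsu] at hle
      omega
    have hle2 : (Subgroup.centralizer ({ω} : Set Γ)).index ≤ 2 := by
      by_contra h
      push Not at h
      have := Nat.mul_le_mul h2 h
      nlinarith
    interval_cases hh : (Subgroup.centralizer ({ω} : Set Γ)).index <;> omega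
  have h1 := C.card_le_two_mul R (MulAction.stabilizer Γ (C.Φ (fullRep c)))
  rw [hX] at h1
  obtain ⟨k, hk⟩ := Subgroup.card_dvd_of_le (show C.wC R c ≤ MulAction.stabilizer Γ (C.Φ (fullRep c)) from inf_le_left)
  rw [hX] at hk
  have h3 := Subgroup.card_dvd_of_le (show C.wC R c ≤ Subgroup.centralizer ({ω} : Set Γ) from inf_le_right)
  rw [hCω] at h3
  have hk2 : k ≤ 2 := by
    by_contra h
    push Not at h
    have := Nat.mul_le_mul h1 h
    nlinarith
  interval_cases k
  · omega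
  · rw [show Nat.card (C.wC R c) = 11520 by omega] at h3
    norm_num at h3
  · omega

theorem card_a6 : Nat.card ↥(alternatingGroup (Fin 6)) = 360 := by
  have h := two_mul_nat_card_alternatingGroup (α := Fin 6)
  rw [Nat.card_perm, Nat.card_fin, show Nat.factorial 6 = 2 * 360 from rfl] at h
  omega

theorem exists_psi : ∃ ψ : ↥(alternatingGroup (Fin 6)) →* Γ, Function.Injective ψ ∧
    ∀ l, ψ l ∈ C.wC R c ∧ C.Perms R c (ψ l) l := by
  choose ψ₀ hψ₀ using fun l : ↥(alternatingGroup (Fin 6)) => C.perms_even R (c := c) l.2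
  let ψ : ↥(alternatingGroup (Fin 6)) →* Γ := MonoidHom.mk' ψ₀ fun σ τ =>
    C.perms_unique R (hψ₀ (σ * τ)) (C.perms_mul R (hψ₀ σ) (hψ₀ τ))
  refine ⟨ψ, ?_, fun l => ⟨(C.mem_wC R).2 ⟨?_, C.perms_comm R (hψ₀ l)⟩, hψ₀ l⟩⟩
  · rw [injective_iff_map_eq_one]
    intro σ h
    refine Subtype.ext (Equiv.ext fun i => ?_)
    have h1 := C.perms_smul R (hψ₀ σ) (Pi.single i 1)
    rw [show ψ₀ σ = 1 from h, one_smul] at h1
    have h2 := congrFun (C.sv_inj R h1) ((σ : Equiv.Perm (Fin 6)) i)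
    rw [Function.comp_apply, Equiv.symm_apply_apply, Pi.single_eq_same] at h2
    by_contra hne
    rw [Pi.single_eq_of_ne (show (σ : Equiv.Perm (Fin 6)) i ≠ i from hne)] at h2
    exact zero_ne_one h2
  · exact C.perms_smul R (hψ₀ l) 1

theorem two_sub {F : Subgroup Γ} (hF : F ≤ C.wC R c) (h2 : IsPGroup 2 F)
    (hn : ∀ γ ∈ C.wC R c, ∀ f ∈ F, γ * f * γ⁻¹ ∈ F) (hY : Nat.card (C.wC R c) = 5760) :
    Nat.card F ≤ 16 ∧ (Nat.card F = 16 → ∀ _ : (F.subgroupOf (C.wC R c)).Normal,
      Nonempty (↥(C.wC R c) ⧸ F.subgroupOf (C.wC R c) ≃* ↥(alternatingGroup (Fin 6)))) := by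
  classical
  haveI hnorm : (F.subgroupOf (C.wC R c)).Normal := ⟨fun f hf γ => by
    rw [Subgroup.mem_subgroupOf] at hf ⊢; exact hn γ γ.2 f hf⟩
  haveI : Fact (Nat.Prime 2) := ⟨Nat.prime_two⟩
  haveI : IsSimpleGroup ↥(alternatingGroup (Fin 6)) := alternatingGroup.isSimpleGroup (by simp)
  obtain ⟨ψ, hψ, hψY⟩ := C.exists_psi R (c := c)
  let ψY : ↥(alternatingGroup (Fin 6)) →* C.wC R c := ψ.codRestrict _ fun l => (hψY l).1
  let θ := (QuotientGroup.mk' (F.subgroupOf (C.wC R c))).comp ψY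
  have hθ : Function.Injective θ := by
    rw [← MonoidHom.ker_eq_bot_iff]
    refine θ.normal_ker.eq_bot_or_eq_top.resolve_right fun h => ?_
    have hle : Subgroup.map ψ ⊤ ≤ F := by
      rintro _ ⟨l, -, rfl⟩
      have : l ∈ θ.ker := h ▸ Subgroup.mem_top l
      exact Subgroup.mem_subgroupOf.1 ((QuotientGroup.eq_one_iff (ψY l)).1 (MonoidHom.mem_ker.1 this))
    obtain ⟨k, hk⟩ := IsPGroup.iff_card.1 (h2.to_le hle)
    rw [Subgroup.card_map_of_injective hψ, Subgroup.card_top, C.card_a6 R] at hk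
    exact absurd (Nat.Prime.dvd_of_dvd_pow Nat.prime_three (hk ▸ (by norm_num : 3 ∣ 360))) (by norm_num)
  have h360 := Nat.card_le_card_of_injective θ hθ
  rw [C.card_a6 R] at h360
  have hq := Subgroup.card_eq_card_quotient_mul_card_subgroup (F.subgroupOf (C.wC R c))
  rw [hY, Nat.card_congr (Subgroup.subgroupOfEquivOfLe hF).toEquiv] at hq
  refine ⟨by nlinarith, fun h16 _ =>
    ⟨(MulEquiv.ofBijective θ ((Nat.bijective_iff_injective_and_card θ).2 ⟨hθ, ?_⟩)).symm⟩⟩
  rw [C.card_a6 R]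
  rw [h16] at hq
  omega

end Frame

end CfsgLib.LargeFischer
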