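import Cfsg.Agent.Lib.LargeFischer.UFinal
import Cfsg.Agent.Lib.LargeFischer.WStab
import Cfsg.Agent.Lib.Linear.PSL2Seven
import Cfsg.Agent.Lib.Transfer.PGroup
import Cfsg.Prelude.Def_Solvable

/-!
The normalizer of the elementary abelian group of order eight.
-/

set_option autoImplicit false
set_option linter.unusedSectionVars false
set_option linter.style.haveILetI false

namespace CfsgLib.LargeFischer

open Cfsg
open CfsgLib.F2Quad (Vec)
open CfsgLib.Recog.GF4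

/-- A subgroup of order at least half of `SL 3 2` is everything. -/
theorem sl32_top (H : Subgroup (Matrix.SpecialLinearGroup (Fin 3) (ZMod 2))) (h : 84 ≤ Nat.card H) : H = ⊤ := by
  have hm := Subgroup.card_mul_index H
  rw [CfsgLib.Linear.PSL2Seven.card_SL3Two] at hm
  have h2 : H.index ≤ 2 := by
    by_contra hc
    push Not at hc
    have := Nat.mul_le_mul h hc
    omega
  have h0 : H.index ≠ 0 := Subgroup.index_ne_zero_of_finite
  rw [← Subgroup.index_eq_one]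
  by_contra h1
  have hidx : H.index = 2 := by omega
  have hle : commutator (Matrix.SpecialLinearGroup (Fin 3) (ZMod 2)) ≤ H := by
    rw [commutator_def, Subgroup.commutator_le]
    intro a _ b _
    rw [commutatorElement_def, Subgroup.mul_mem_iff_of_index_two hidx, Subgroup.mul_mem_iff_of_index_two hidx,
      Subgroup.mul_mem_iff_of_index_two hidx, inv_mem_iff, inv_mem_iff]
    tauto
  rw [CfsgLib.Linear.commutator_SL_eq_top (Or.inl (by simp))] at hle
  exact h1 (Subgroup.index_eq_one.2 (top_le_iff.1 hle))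

theorem zmod_two_cases : ∀ i : ZMod 2, i = 0 ∨ i = 1 := by decide

theorem basis_key : ∀ a b a' b' : ZMod 2, ((if a = 0 then (0 : K4) else 1) + (if b = 0 then 0 else wK)) =
    ((if a' = 0 then 0 else 1) + (if b' = 0 then 0 else wK)) → a = a' ∧ b = b' := by decide +kernel

variable {G : Type*} [Group G] [Finite G]

theorem elementary_basis {W : Subgroup G} (hel : Cfsg.IsElementaryAbelian 2 W) {a b d : W}
    (hgen : Function.Injective fun f : Fin 3 → ZMod 2 => a ^ (f 0).val * b ^ (f 1).val * d ^ (f 2).val)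
    (hcard : Nat.card W = 8) :
    ∃ M : MulAut W →* Matrix.SpecialLinearGroup (Fin 3) (ZMod 2), Function.Injective M := by
  classical
  haveI := hel.1
  have hsq : ∀ x : W, x ^ 2 = 1 := fun x => Subtype.ext (hel.2 x x.2)
  have hpow : ∀ (x : W) (i j : ZMod 2), x ^ (i + j).val = x ^ i.val * x ^ j.val := fun x i j => by
    rw [← pow_add, ZMod.val_add, ← pow_eq_pow_mod _ (hsq x)]
  let E : (Fin 3 → ZMod 2) ≃+ Additive W := AddEquiv.ofBijective
    (AddMonoidHom.mk' (fun f => Additive.ofMul (a ^ (f 0).val * b ^ (f 1).val * d ^ (f 2).val)) fun f g => by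
      rw [← ofMul_mul]
      refine congrArg _ ?_
      have hc : ∀ x y : W, x * y = y * x := fun x y => mul_comm' x y
      rw [Pi.add_apply, Pi.add_apply, Pi.add_apply, hpow, hpow, hpow]
      simp only [mul_assoc]
      rw [← mul_assoc (a ^ (g 0).val), hc (a ^ (g 0).val) (b ^ (f 1).val)]
      simp only [mul_assoc]
      rw [← mul_assoc (b ^ (g 1).val), hc (b ^ (g 1).val) (d ^ (f 2).val)]
      simp only [mul_assoc]
      rw [← mul_assoc (a ^ (g 0).val) (d ^ (f 2).val), hc (a ^ (g 0).val) (d ^ (f 2).val)]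
      simp only [mul_assoc])
    ((Nat.bijective_iff_injective_and_card _).2 ⟨fun f g h => hgen (Additive.ofMul.injective h), by
      rw [Nat.card_congr Additive.toMul, hcard]; simp⟩)
  let lin : MulAut W → ((Fin 3 → ZMod 2) →ₗ[ZMod 2] (Fin 3 → ZMod 2)) := fun α =>
    AddMonoidHom.toZModLinearMap 2
      ((E.symm.toAddMonoidHom).comp ((MonoidHom.toAdditive α.toMonoidHom).comp E.toAddMonoidHom))
  have hlin : ∀ α f, lin α f = E.symm (Additive.ofMul (α (E f).toMul)) := fun _ _ => rfl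
  have hone : lin 1 = LinearMap.id := LinearMap.ext fun f => by
    rw [hlin, MulAut.one_apply]; exact E.symm_apply_apply f
  have hmul : ∀ α β, lin (α * β) = (lin α).comp (lin β) := fun α β => LinearMap.ext fun f => by
    rw [LinearMap.comp_apply, hlin, hlin, hlin, AddEquiv.apply_symm_apply]; rfl
  have hdet : ∀ α, (LinearMap.toMatrix' (lin α)).det = 1 := fun α => by
    have h : (LinearMap.toMatrix' (lin α)).det * (LinearMap.toMatrix' (lin α⁻¹)).det = 1 := by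
      rw [← Matrix.det_mul, ← LinearMap.toMatrix'_comp, ← hmul, mul_inv_cancel, hone, LinearMap.toMatrix'_id,
        Matrix.det_one]
    exact (by decide : ∀ x y : ZMod 2, x * y = 1 → x = 1) _ _ h
  refine ⟨MonoidHom.mk' (fun α => ⟨LinearMap.toMatrix' (lin α), hdet α⟩) fun α β => Subtype.ext (by
    show LinearMap.toMatrix' (lin (α * β)) = LinearMap.toMatrix' (lin α) * LinearMap.toMatrix' (lin β)
    rw [hmul, LinearMap.toMatrix'_comp]), fun α β h => ?_⟩
  have h1 : lin α = lin β := LinearMap.toMatrix'.injective (congrArg Subtype.val h)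
  refine MulEquiv.ext fun x => ?_
  have h2 := LinearMap.congr_fun h1 (E.symm (Additive.ofMul x))
  rw [hlin, hlin, AddEquiv.apply_symm_apply] at h2
  exact Additive.ofMul.injective (E.symm.injective h2)

namespace Hyp

variable {z : G} {Q : Subgroup (Subgroup.centralizer ({z} : Set G))} [Q.Normal]
  {ρ : (Subgroup.centralizer ({z} : Set G)) ⧸ Q →* (Vec 6 ≃ₗ[ZMod 2] Vec 6)} {qf : Vec 6 → ZMod 2}
  {p : G → Vec 6} {u w : Vec 6} (H : Hyp z Q ρ qf p u w)
include H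

theorem comm_iff {x y : G} (hx : x ∈ big z Q) (hy : y ∈ big z Q) :
    x * y = y * x ↔ qf (p x + p y) + qf (p x) + qf (p y) = 0 := by
  have hz2 : ∀ a : ZMod 2, a = 0 ∨ a = 1 := by decide
  have hsq : ∀ a ∈ big z Q, a * a = if qf (p a) = 0 then 1 else z := fun a ha => by
    split_ifs with h
    · exact (H.psq a ha).2 h
    · exact (H.S.sq a ha).resolve_left fun e => h ((H.psq a ha).1 e)
  have hne : (1 : G) ≠ z := fun e => H.S.ne_one e.symm
  have hxy := hsq _ (mul_mem hx hy)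
  rw [H.pmul x hx y hy] at hxy
  rcases H.S.comm_z_left hy hx with h | h
  · refine iff_of_true h.symm ?_
    have e : x * y * (x * y) = x * x * (y * y) := by
      rw [show x * y * (x * y) = x * (y * x) * y by group, h]; group
    rw [e, hsq x hx, hsq y hy] at hxy
    rcases hz2 (qf (p x + p y)) with a | a <;> rcases hz2 (qf (p x)) with b | b <;>
      rcases hz2 (qf (p y)) with d | d <;> simp [a, b, d, H.zz, hne, H.S.ne_one] at hxy ⊢ <;> decide
  · have hd : y * x ≠ x * y := by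
      rw [h]; intro e; exact H.S.ne_one (mul_left_cancel (e.trans (mul_one _).symm))
    refine iff_of_false (fun e => hd e.symm) ?_
    have e : x * y * (x * y) = x * x * (y * y) * z := by
      rw [show x * y * (x * y) = x * (y * x) * y by group, h,
        show x * (x * y * z) * y = x * x * (y * (z * y)) by group, ← H.S.le_cent y hy]
      group
    rw [e, hsq x hx, hsq y hy] at hxy
    rcases hz2 (qf (p x + p y)) with a | a <;> rcases hz2 (qf (p x)) with b | b <;>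
      rcases hz2 (qf (p y)) with d | d <;> simp [a, b, d, H.zz, hne, H.S.ne_one] at hxy ⊢ <;> decide

theorem card_preimage (D : AddSubgroup (Vec 6)) :
    ∃ P : Subgroup G, (∀ x, x ∈ P ↔ x ∈ big z Q ∧ p x ∈ D) ∧ Nat.card P = 2 * Nat.card D := by
  let f : big z Q →* Multiplicative (Vec 6) := MonoidHom.mk' (fun x => Multiplicative.ofAdd (p x)) fun a b => by
    rw [← ofAdd_add, ← H.pmul a a.2 b b.2]; rfl
  have hf : Function.Surjective f := fun v => by
    obtain ⟨x, hx, e⟩ := H.psurj v.toAdd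
    exact ⟨⟨x, hx⟩, congrArg Multiplicative.ofAdd e⟩
  refine ⟨((AddSubgroup.toSubgroup D).comap f).map (big z Q).subtype, fun x => ?_, ?_⟩
  · constructor
    · rintro ⟨a, ha, rfl⟩; exact ⟨a.2, ha⟩
    · rintro ⟨hx, hxD⟩; exact ⟨⟨x, hx⟩, hxD, rfl⟩
  · rw [Subgroup.card_map_of_injective (Subgroup.subtype_injective _)]
    have h1 := Subgroup.card_mul_index ((AddSubgroup.toSubgroup D).comap f)
    rw [Subgroup.index_comap_of_surjective _ hf, H.card] at h1
    have h2 := Subgroup.card_mul_index (AddSubgroup.toSubgroup D)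
    rw [Nat.card_congr Multiplicative.toAdd, show Nat.card (Vec 6) = 4096 by simp [Nat.card_eq_fintype_card],
      show Nat.card (AddSubgroup.toSubgroup D) = Nat.card D from rfl] at h2
    refine Nat.eq_of_mul_eq_mul_right (Nat.pos_of_ne_zero (AddSubgroup.toSubgroup D).index_ne_zero_of_finite) ?_
    rw [h1, mul_assoc, h2]
    norm_num

theorem flip_conj {g x : G} (hx : x ∈ (big z Q).map (MulAut.conj g).toMonoidHom) (h1 : x ≠ 1)
    (hs : x ≠ g * z * g⁻¹) :
    ∃ q ∈ (big z Q).map (MulAut.conj g).toMonoidHom, q * x * q⁻¹ = x * (g * z * g⁻¹) := by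
  rw [mem_conjQ] at hx
  obtain ⟨q, hq, hqx⟩ := H.exists_flip hx (fun e => h1 (by
      calc x = g * (g⁻¹ * x * g) * g⁻¹ := by group
        _ = 1 := by rw [e]; group))
    (fun e => hs (by rw [← e]; group))
  refine ⟨g * q * g⁻¹, mem_conjQ.2 (by rw [show g⁻¹ * (g * q * g⁻¹) * g = q by group]; exact hq), ?_⟩
  calc g * q * g⁻¹ * x * (g * q * g⁻¹)⁻¹ = g * (q * (g⁻¹ * x * g) * q⁻¹) * g⁻¹ := by group
    _ = _ := by rw [hqx]; group

theorem exists_good_conj : ∃ g : G, g * z * g⁻¹ ∈ big z Q ∧ g * z * g⁻¹ ≠ z ∧ p (g * z * g⁻¹) = w := by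
  obtain ⟨g, hgQ, hgne⟩ := H.nwc
  obtain ⟨γ, hγ⟩ := H.class_of_conj hgQ hgne
  obtain ⟨c, hc⟩ := QuotientGroup.mk_surjective γ⁻¹
  have hcz := Subgroup.mem_centralizer_singleton_iff.1 c.2
  have e : (c : G) * g * z * ((c : G) * g)⁻¹ = (c : G) * (g * z * g⁻¹) * (c : G)⁻¹ := by group
  refine ⟨(c : G) * g, ?_, ?_, ?_⟩
  · rw [e]; exact H.S.normal c hcz _ hgQ
  · rw [e]; intro h
    exact hgne (by
      calc g * z * g⁻¹ = (c : G)⁻¹ * ((c : G) * (g * z * g⁻¹) * (c : G)⁻¹) * c := by group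
        _ = (c : G)⁻¹ * (z * c) := by rw [h]; group
        _ = z := by rw [← hcz]; group)
  · rw [e, H.pact c _ hgQ, hc, ← hγ, map_inv]
    exact (ρ γ).symm_apply_apply w

theorem v_structure : ∃ W : Subgroup G, Cfsg.IsElementaryAbelian 2 W ∧ Nat.card W = 8 ∧ z ∈ W ∧
    ∃ R : Subgroup G, R = (Cfsg.pCore 2 ↥(Subgroup.normalizer (W : Set G))).map (Subgroup.normalizer (W : Set G)).subtype ∧
      Cfsg.IsSpecial 2 ↥R ∧ Nat.card R = 2 ^ 15 ∧ (Subgroup.center ↥R).map R.subtype = W ∧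
      ∃ _ : (R.subgroupOf (Subgroup.normalizer (W : Set G))).Normal,
        Nonempty (↥(Subgroup.normalizer (W : Set G)) ⧸ R.subgroupOf (Subgroup.normalizer (W : Set G)) ≃*
          Matrix.SpecialLinearGroup (Fin 3) (ZMod 2) × ↥(alternatingGroup (Fin 6))) := by
  classical
  haveI : Fact (Nat.Prime 2) := ⟨Nat.prime_two⟩
  obtain ⟨g, hgQ, hgne, hps⟩ := H.exists_good_conj
  obtain ⟨L, _, _, A, T, ω, π, R₀, C, c, hu, hw⟩ := H.raw
  letI : DistribMulAction ((Subgroup.centralizer ({z} : Set G)) ⧸ Q) (Vec 6) := DistribMulAction.compHom _ ρ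
  set s := g * z * g⁻¹ with hs
  set Qg := (big z Q).map (MulAut.conj g).toMonoidHom with hQg
  have hw1 : C.sv R₀ c 1 = w := by rw [C.sv_one R₀, hw]
  have hne : ¬ ∃ γ : (Subgroup.centralizer ({z} : Set G)) ⧸ Q, γ • C.Φ pairVec = C.Φ (fullRep c) := by
    rw [← hu, ← hw]; exact H.ne
  have hs0 : p s ≠ 0 := by rw [hps]; exact H.w0
  have hpsw : p s = C.sv R₀ c 1 := by rw [hw1, hps]
  -- the stabilizer of `w` and the group `E`
  obtain ⟨helD, hD7, hEX, hEn, -, hE32, -⟩ := H.stab_structure hgQ hgne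
  have hXmem : ∀ δ, δ ∈ MulAction.stabilizer _ (C.Φ (fullRep c)) ↔ δ ∈ xImg z Q s := by
    intro δ
    rw [H.mem_xImg hgQ hs0, MulAction.mem_stabilizer_iff, ← hw, hps]
    rfl
  have hX : Nat.card (MulAction.stabilizer ((Subgroup.centralizer ({z} : Set G)) ⧸ Q) (C.Φ (fullRep c))) = 11520 := by
    rw [← H.wstab, ← Nat.card_coe_set_eq, ← hw]
    rfl
  have hEX' : rImg z Q g ≤ MulAction.stabilizer _ (C.Φ (fullRep c)) := fun e he => (hXmem e).2 (hEX he)
  have hEn' : ∀ γ ∈ MulAction.stabilizer _ (C.Φ (fullRep c)), ∀ e ∈ rImg z Q g, γ * e * γ⁻¹ ∈ rImg z Q g :=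
    fun γ hγ => hEn γ ((hXmem γ).1 hγ)
  have hY := C.card_wC R₀ hX _ hEX' hE32 hEn'
  -- the subgroup `p (Q ∩ Q^g)`
  obtain ⟨habD, hsqD⟩ := H.inter_props hgne
  have hzg : z ∈ Qg := H.z_mem hgQ hgne
  have hsg : s ∈ Qg := H.conjQ_mem_s g
  let D₀ : AddSubgroup (Vec 6) :=
    { carrier := {v | ∃ d ∈ big z Q ⊓ Qg, p d = v}
      add_mem' := by
        rintro a b ⟨d, hd, rfl⟩ ⟨d', hd', rfl⟩
        exact ⟨d * d', mul_mem hd hd', H.pmul d hd.1 d' hd'.1⟩
      zero_mem' := ⟨1, one_mem _, (H.pzero 1 (one_mem _)).2 (Or.inl rfl)⟩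
      neg_mem' := by
        rintro a ⟨d, hd, e⟩
        exact ⟨d, hd, by rw [e]; funext i; exact (CharTwo.neg_eq _).symm⟩ }
  have hpreD : ∀ x, x ∈ big z Q → p x ∈ D₀ → x ∈ big z Q ⊓ Qg := by
    rintro x hx ⟨d, hd, hdx⟩
    rcases H.p_eq hd.1 hx hdx with e | e <;> rw [e]
    · exact hd
    · exact mul_mem hd ⟨H.S.mem, hzg⟩
  have hD64 : Nat.card D₀ = 64 := by
    obtain ⟨P, hP, hPc⟩ := H.card_preimage D₀
    have hPe : P = big z Q ⊓ Qg := by
      ext x
      exact ⟨fun h => hpreD x ((hP x).1 h).1 ((hP x).1 h).2, fun h => (hP x).2 ⟨h.1, x, h, rfl⟩⟩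
    have e : Nat.card P = 2 ^ 7 := by rw [hPe]; exact hD7
    omega
  have hDinv : ∀ γ σ, σ ∈ alternatingGroup (Fin 6) → C.Perms R₀ c γ σ → ∀ v ∈ D₀, γ • v ∈ D₀ := by
    intro γ σ _ hγ v hv
    obtain ⟨d, hd, rfl⟩ := hv
    obtain ⟨k, hk, hkm⟩ := H.conj_of_eq hgQ hgQ hs0 (γ := γ) (by
      show γ • p s = p s
      rw [hpsw, C.perms_smul R₀ hγ]; rfl)
    have hkc : (k : G) ∈ Subgroup.centralizer ({s} : Set G) :=
      Subgroup.mem_centralizer_singleton_iff.2 (mul_inv_eq_iff_eq_mul.1 hk)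
    refine ⟨(k : G) * d * (k : G)⁻¹, ⟨H.S.normal k (Subgroup.mem_centralizer_singleton_iff.1 k.2) d hd.1,
      H.centralizer_le_normalizer_conjQ hkc hd.2⟩, ?_⟩
    rw [H.pact k d hd.1, show (QuotientGroup.mk k : _ ⧸ Q) = γ from hkm]
    rfl
  have hsD : C.sv R₀ c 1 ∈ D₀ := ⟨s, ⟨hgQ, hsg⟩, hpsw⟩
  obtain ⟨e₁, he₁E, he₁ω, he₁⟩ : ∃ e ∈ rImg z Q g, e * ω = ω * e ∧ e ≠ 1 := by
    by_contra h
    push Not at h
    have h2 := C.card_le_two_mul R₀ (rImg z Q g)
    rw [hE32, Subgroup.eq_bot_iff_forall _ |>.2 (fun e he => h e (Subgroup.mem_inf.1 he).1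
      (Subgroup.mem_centralizer_singleton_iff.1 (Subgroup.mem_inf.1 he).2)), Subgroup.card_bot] at h2
    omega
  have hω1 : C.sv R₀ c (wK • 1) ∈ D₀ := by
    refine C.omega_mem R₀ hne D₀ hDinv hD64 hsD he₁ω he₁ ?_ ?_
    · rw [C.sv_one R₀]; exact hEX' he₁E
    · obtain ⟨k, hk, rfl⟩ := he₁E
      rintro v ⟨d, hd, rfl⟩
      have hkz := Subgroup.mem_centralizer_singleton_iff.1 k.2
      have hpk : p ((k : G) * d * (k : G)⁻¹) = QuotientGroup.mk' Q k • p d := H.pact k d hd.1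
      rcases H.conjQ_comm (show (k : G) ∈ Qg from hk.1) hd.2 with e | e
      · left; rw [← hpk, e, mul_inv_cancel_right]
      · right
        have hcent : (k : G) * s * (k : G)⁻¹ = s := by
          rcases H.conjQ_comm (show (k : G) ∈ Qg from hk.1) hsg with e' | e'
          · rw [e', mul_inv_cancel_right]
          · exfalso
            have hc := hEX ⟨k, hk, rfl⟩
            rw [H.mem_xImg hgQ hs0] at hc
            have h1 := H.pact k s hgQ
            rw [e'] at h1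
            rw [show ρ (QuotientGroup.mk k) (p s) = p s from hc] at h1
            rw [show s * (k : G) * s * (k : G)⁻¹ = s * ((k : G) * s * (k : G)⁻¹) by group] at h1
            have hks : (k : G) * s * (k : G)⁻¹ ∈ big z Q := H.S.normal k hkz _ hgQ
            rw [H.pmul s hgQ _ hks, H.pact k s hgQ, show ρ (QuotientGroup.mk k) (p s) = p s from hc] at h1
            exact hs0 (by rw [← h1]; funext i; exact CharTwo.add_self_eq_zero _)
        have e2 : (k : G) * d * (k : G)⁻¹ = d * s := by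
          rw [e, mul_assoc, mul_assoc, show s * (k : G)⁻¹ = (k : G)⁻¹ * s from
            (show Commute (k : G) s from mul_inv_eq_iff_eq_mul.1 hcent).inv_left.eq.symm]
          group
        rw [← hpk, e2, H.pmul d hd.1 s hgQ, hpsw]
  -- the group of order eight
  let κ : K4 →+ Vec 6 := AddMonoidHom.mk' (fun k => C.sv R₀ c (k • 1)) fun a b => by rw [add_smul, map_add]
  have hκ : ∀ k, κ k = C.sv R₀ c (k • 1) := fun _ => rfl
  have hκinj : Function.Injective κ := fun a b h => by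
    simpa using congrFun (C.sv_inj R₀ h) 0
  obtain ⟨W, hW, hW8⟩ := H.card_preimage κ.range
  have hW8' : Nat.card W = 8 := by
    rw [hW8, ← Nat.card_congr (AddMonoidHom.ofInjective hκinj).toEquiv, Nat.card_eq_fintype_card, card_K4]
  have hκD : ∀ k, κ k ∈ D₀ := by
    intro k
    rcases scalar_cases k with rfl | rfl | rfl | rfl
    · rw [map_zero]; exact zero_mem _
    · rw [hκ, one_smul]; exact hsD
    · exact hω1
    · rw [map_add]; exact add_mem hω1 (by rw [hκ, one_smul]; exact hsD)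
  have hWD : W ≤ big z Q ⊓ Qg := fun x hx => by
    obtain ⟨hxQ, k, hk⟩ := (hW x).1 hx
    exact hpreD x hxQ (hk ▸ hκD k)
  have hWel : Cfsg.IsElementaryAbelian 2 W :=
    ⟨⟨⟨fun a b => Subtype.ext (habD a (hWD a.2) b (hWD b.2))⟩⟩, fun a ha => by rw [pow_two]; exact hsqD a (hWD ha)⟩
  have hzW : z ∈ W := (hW z).2 ⟨H.S.mem, 0, by rw [map_zero, H.pz]⟩
  have hsW : s ∈ W := (hW s).2 ⟨hgQ, 1, by rw [hκ, one_smul, hpsw]⟩
  obtain ⟨s', hs'Q, hps'⟩ := H.psurj (κ wK)
  have hs'W : s' ∈ W := (hW s').2 ⟨hs'Q, wK, hps'.symm⟩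
  have hWcases : ∀ x ∈ W, ∃ a ∈ ({1, s, s', s' * s} : Set G), x = a ∨ x = a * z := by
    intro x hx
    obtain ⟨hxQ, k, hk⟩ := (hW x).1 hx
    rcases scalar_cases k with rfl | rfl | rfl | rfl
    · exact ⟨1, by simp, H.p_eq (one_mem _) hxQ (by rw [← hk, map_zero, (H.pzero 1 (one_mem _)).2 (Or.inl rfl)])⟩
    · exact ⟨s, by simp, H.p_eq hgQ hxQ (by rw [← hk, hκ, one_smul, hpsw])⟩
    · exact ⟨s', by simp, H.p_eq hs'Q hxQ (by rw [← hk, hps'])⟩
    · refine ⟨s' * s, by simp, H.p_eq (mul_mem hs'Q hgQ) hxQ ?_⟩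
      rw [← hk, H.pmul s' hs'Q s hgQ, map_add, hps', hκ 1, one_smul, hpsw]
  set K := Subgroup.centralizer (W : Set G) with hKdef
  have hK : ∀ x, x ∈ K ↔ x * z = z * x ∧ x * s = s * x ∧ x * s' = s' * x := by
    intro x
    constructor
    · intro h
      exact ⟨(Subgroup.mem_centralizer_iff.1 h z hzW).symm, (Subgroup.mem_centralizer_iff.1 h s hsW).symm,
        (Subgroup.mem_centralizer_iff.1 h s' hs'W).symm⟩
    · rintro ⟨h1, h2, h3⟩
      refine Subgroup.mem_centralizer_iff.2 fun y hy => ?_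
      obtain ⟨a, ha, hya⟩ := hWcases y hy
      have hxa : Commute x a := by
        simp only [Set.mem_insert_iff, Set.mem_singleton_iff] at ha
        rcases ha with rfl | rfl | rfl | rfl
        exacts [Commute.one_right x, h2, h3, Commute.mul_right h3 h2]
      rcases hya with rfl | rfl
      · exact hxa.eq.symm
      · exact (hxa.mul_right h1).eq.symm
  have hKz : K ≤ Subgroup.centralizer ({z} : Set G) := fun x hx =>
    Subgroup.mem_centralizer_singleton_iff.2 ((hK x).1 hx).1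
  let φ : K →* (Subgroup.centralizer ({z} : Set G)) ⧸ Q := (QuotientGroup.mk' Q).comp (Subgroup.inclusion hKz)
  have hφk : ∀ (k : K), φ k = 1 ↔ (k : G) ∈ big z Q := fun k => H.mk_one ⟨k, hKz k.2⟩
  have hφp : ∀ (k : K) x, x ∈ big z Q → φ k • p x = p ((k : G) * x * (k : G)⁻¹) := fun k x hx =>
    (H.pact ⟨k, hKz k.2⟩ x hx).symm
  have hωne : C.sv R₀ c (wK • 1) ≠ ω⁻¹ • C.sv R₀ c 1 := by
    intro e
    have e' := congrArg (ω • ·) e
    simp only [smul_inv_smul] at e'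
    rw [C.omega_sv R₀] at e'
    have := congrFun (C.sv_inj R₀ e') 0
    simp only [Pi.smul_apply, Pi.one_apply, smul_eq_mul, mul_one] at this
    exact absurd this (by decide +kernel)
  obtain ⟨q₀, hq₀, hpq₀⟩ := H.psurj (C.sv R₀ c (Pi.single 0 1))
  have hcommbil : ∀ {x y}, x ∈ big z Q → y ∈ big z Q → (x * y = y * x ↔ R₀.bil (p x) (p y) = 0) := fun hx hy => by
    rw [H.comm_iff hx hy]; rfl
  obtain ⟨hwit1, hwit2, hwit3⟩ := C.witness R₀ (c := c)
  have hq₀s : q₀ * s = s * q₀ := (hcommbil hq₀ hgQ).2 (by rw [hpq₀, hpsw]; exact hwit1)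
  have hq₀s' : q₀ * s' ≠ s' * q₀ := fun e => by
    have := (hcommbil hq₀ hs'Q).1 e
    rw [hpq₀, hps', hκ, hwit2] at this
    exact one_ne_zero this
  have hrange : φ.range = C.wC R₀ c := by
    ext γ
    constructor
    · rintro ⟨k, rfl⟩
      obtain ⟨h1, h2, h3⟩ := (hK k).1 k.2
      have hfix : φ k • C.sv R₀ c 1 = C.sv R₀ c 1 := by
        rw [← hpsw, hφp k s hgQ, h2, mul_inv_cancel_right]
      have hfix' : φ k • C.sv R₀ c (wK • 1) = C.sv R₀ c (wK • 1) := by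
        rw [← hκ, ← hps', hφp k s' hs'Q, h3, mul_inv_cancel_right]
      refine (C.mem_wC R₀).2 ⟨hfix, (C.omega_cases R₀ (φ k)).resolve_right fun hinv => hωne ?_⟩
      rw [← hfix', ← C.omega_sv R₀, ← mul_smul, hinv, mul_smul, hfix]
    · intro hγ
      obtain ⟨hfix, hcω⟩ := (C.mem_wC R₀).1 hγ
      obtain ⟨k, hk, hkm⟩ := H.conj_of_eq hgQ hgQ hs0 (γ := γ) (by
        show γ • p s = p s
        rw [hpsw, hfix])
      have hks : (k : G) * s = s * k := mul_inv_eq_iff_eq_mul.1 hk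
      have hkz : (k : G) * z = z * k := Subgroup.mem_centralizer_singleton_iff.1 k.2
      have hks' : p ((k : G) * s' * (k : G)⁻¹) = p s' := by
        rw [H.pact k s' hs'Q, show (QuotientGroup.mk k : _ ⧸ Q) = γ from hkm, hps', hκ]
        show γ • C.sv R₀ c (wK • 1) = _
        rw [C.smul_sv_smul R₀ hcω hfix wK]
      have hk'Q : (k : G) * s' * (k : G)⁻¹ ∈ big z Q := H.S.normal k hkz s' hs'Q
      rcases H.p_eq hs'Q hk'Q hks'.symm with e | e
      · exact ⟨⟨k, (hK _).2 ⟨hkz, hks, mul_inv_eq_iff_eq_mul.1 e⟩⟩, hkm⟩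
      · have hq0f : q₀ * s' * q₀⁻¹ = s' * z := by
          rw [mul_inv_eq_iff_eq_mul, mul_assoc, ← H.S.le_cent q₀ hq₀, ← mul_assoc]
          exact (H.S.comm_z_left hq₀ hs'Q).resolve_left hq₀s'
        have hmem : q₀ * (k : G) ∈ K := by
          refine (hK _).2 ⟨?_, ?_, ?_⟩
          · rw [mul_assoc, hkz, ← mul_assoc, H.S.le_cent q₀ hq₀, mul_assoc]
          · rw [mul_assoc, hks, ← mul_assoc, hq₀s, mul_assoc]
          · rw [← mul_inv_eq_iff_eq_mul, show q₀ * (k : G) * s' * (q₀ * (k : G))⁻¹ =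
              q₀ * ((k : G) * s' * (k : G)⁻¹) * q₀⁻¹ by group, e,
              show q₀ * (s' * z) * q₀⁻¹ = q₀ * s' * q₀⁻¹ * (q₀ * z * q₀⁻¹) by group, hq0f, H.S.le_cent q₀ hq₀,
              mul_inv_cancel_right, mul_assoc, H.zz, mul_one]
        refine ⟨⟨q₀ * k, hmem⟩, ?_⟩
        show QuotientGroup.mk' Q (⟨q₀, H.le hq₀⟩ * k) = γ
        rw [map_mul, (H.mk_one ⟨q₀, H.le hq₀⟩).2 hq₀, one_mul]
        exact hkm
  have hQK : Nat.card ↥(big z Q ⊓ K) = 2 ^ 11 := by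
    obtain ⟨j, -, hj, hj2⟩ := H.card_inf_centralizer (U := big z Q ⊓ Subgroup.centralizer ({s} : Set G)) inf_le_left hs'Q
    have e : big z Q ⊓ K = big z Q ⊓ Subgroup.centralizer ({s} : Set G) ⊓ Subgroup.centralizer ({s'} : Set G) := by
      ext x
      simp only [Subgroup.mem_inf, hK, Subgroup.mem_centralizer_singleton_iff]
      exact ⟨fun ⟨a, _, b, d⟩ => ⟨⟨a, b⟩, d⟩, fun ⟨⟨a, b⟩, d⟩ => ⟨a, H.S.le_cent x a, b, d⟩⟩
    rw [H.card_cent hgQ hgne, hj2 ⟨q₀, ⟨hq₀, Subgroup.mem_centralizer_singleton_iff.2 hq₀s⟩, hq₀s'⟩, ← e] at hj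
    omega
  -- the image of `Q^g`
  have hKconj : ∀ x ∈ K, ∀ y ∈ Qg, x * y * x⁻¹ ∈ Qg := fun x hx y hy =>
    H.centralizer_le_normalizer_conjQ (Subgroup.mem_centralizer_singleton_iff.2 ((hK x).1 hx).2.1) hy
  set F := (Qg.subgroupOf K).map φ with hF
  have hFY : F ≤ C.wC R₀ c := hrange ▸ Subgroup.map_le_range φ _
  have hQg2 : IsPGroup 2 Qg := H.S.two.map (MulAut.conj g).toMonoidHom
  have hF2 : IsPGroup 2 F := (hQg2.comap_of_injective K.subtype K.subtype_injective).map φ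
  have hFn : ∀ γ ∈ C.wC R₀ c, ∀ f ∈ F, γ * f * γ⁻¹ ∈ F := by
    intro γ hγ f hf
    rw [← hrange] at hγ
    obtain ⟨k, rfl⟩ := hγ
    obtain ⟨y, hy, rfl⟩ := hf
    exact ⟨k * y * k⁻¹, hKconj k k.2 y hy, by simp⟩
  obtain ⟨hF16, hθ⟩ := C.two_sub R₀ hFY hF2 hFn hY
  have hcardRestrict : ∀ S : Subgroup K, Nat.card S = Nat.card ↥(big z Q ⊓ S.map K.subtype) * Nat.card (S.map φ) := by
    intro S
    have h := Subgroup.card_mul_index (φ.comp S.subtype).ker
    rw [Subgroup.index_ker, MonoidHom.range_comp, Subgroup.range_subtype] at h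
    rw [← h]
    congr 1
    exact Nat.card_congr
      { toFun := fun a => ⟨((a.1 : K) : G), (hφk a.1).1 a.2, a.1, a.1.2, rfl⟩
        invFun := fun b => ⟨⟨⟨b, by obtain ⟨k, -, e⟩ := b.2.2; rw [← e]; exact k.2⟩,
          by
            obtain ⟨k, hk, e⟩ := b.2.2
            have e' : (k : G) = (b : G) := e
            simp only [← e']
            exact hk⟩, (hφk _).2 b.2.1⟩
        left_inv := fun a => rfl
        right_inv := fun b => rfl }
  have hF16' : Nat.card F = 16 := by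
    have h := hcardRestrict (Qg.subgroupOf K)
    rw [← hF, Subgroup.subgroupOf_map_subtype,
      show big z Q ⊓ (Qg ⊓ K) = big z Q ⊓ Qg from le_antisymm (inf_le_inf_left _ inf_le_left) fun x hx =>
        ⟨hx.1, hx.2, (hK x).2 ⟨H.S.le_cent x hx.1, habD x hx s ⟨hgQ, hsg⟩, habD x hx s' (hWD hs'W)⟩⟩,
      hD7] at h
    have ha : g⁻¹ * z * g ∈ big z Q := mem_conjQ.1 hzg
    have hb : g⁻¹ * s' * g ∈ big z Q := mem_conjQ.1 (hWD hs'W).2
    obtain ⟨j1, hj1, hj1c, -⟩ := H.card_inf_centralizer le_rfl ha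
    obtain ⟨j2, hj2, hj2c, -⟩ := H.card_inf_centralizer
      (U := big z Q ⊓ Subgroup.centralizer ({g⁻¹ * z * g} : Set G)) inf_le_left hb
    rw [H.card, hj2c] at hj1c
    have hlow : Nat.card ↥(big z Q ⊓ Subgroup.centralizer ({g⁻¹ * z * g} : Set G) ⊓
        Subgroup.centralizer ({g⁻¹ * s' * g} : Set G)) ≤ Nat.card (Qg.subgroupOf K) := by
      have hm : ∀ {x y : G}, x * (g⁻¹ * y * g) = g⁻¹ * y * g * x → g * x * g⁻¹ * y = y * (g * x * g⁻¹) := by
        intro x y e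
        calc g * x * g⁻¹ * y = g * (x * (g⁻¹ * y * g)) * g⁻¹ := by group
          _ = y * (g * x * g⁻¹) := by rw [e]; group
      let f : ↥(big z Q ⊓ Subgroup.centralizer ({g⁻¹ * z * g} : Set G) ⊓
          Subgroup.centralizer ({g⁻¹ * s' * g} : Set G)) → ↥(Qg.subgroupOf K) := fun x =>
        ⟨⟨g * (x : G) * g⁻¹, (hK _).2 ⟨hm (Subgroup.mem_centralizer_singleton_iff.1 x.2.1.2), by
            calc g * (x : G) * g⁻¹ * s = g * ((x : G) * z) * g⁻¹ := by rw [hs]; group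
              _ = s * (g * (x : G) * g⁻¹) := by rw [H.S.le_cent _ x.2.1.1, hs]; group,
          hm (Subgroup.mem_centralizer_singleton_iff.1 x.2.2)⟩⟩,
          mem_conjQ.2 (by
            show g⁻¹ * (g * (x : G) * g⁻¹) * g ∈ big z Q
            rw [show g⁻¹ * (g * (x : G) * g⁻¹) * g = (x : G) by group]; exact x.2.1.1)⟩
      refine Nat.card_le_card_of_injective f fun x y e => Subtype.ext ?_
      have := congrArg (fun a : ↥(Qg.subgroupOf K) => ((a : K) : G)) e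
      simpa [f] using this
    rcases hj1 with rfl | rfl <;> rcases hj2 with rfl | rfl <;> omega
  set RK := F.comap φ with hRK
  have hRmap : RK.map φ = F := by
    refine Subgroup.map_comap_eq_self ?_
    rw [hrange]; exact hFY
  set R := RK.map K.subtype with hR
  have hQKR : big z Q ⊓ K ≤ R := fun x hx => ⟨⟨x, hx.2⟩, by
    show φ _ ∈ F
    rw [(hφk _).2 hx.1]; exact one_mem _, rfl⟩
  have hQgR : Qg ⊓ K ≤ R := fun x hx => ⟨⟨x, hx.2⟩, Subgroup.mem_map_of_mem φ hx.1, rfl⟩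
  have hRK' : R ≤ K := Subgroup.map_subtype_le _
  have hdecomp : ∀ x ∈ R, ∃ a ∈ big z Q ⊓ K, ∃ b ∈ Qg ⊓ K, x = a * b := by
    rintro _ ⟨k, hk, rfl⟩
    obtain ⟨y, hy, hky⟩ := hk
    refine ⟨(k * y⁻¹ : K), ⟨(hφk _).1 (by rw [map_mul, map_inv, hky, mul_inv_cancel]), (k * y⁻¹).2⟩, y,
      ⟨hy, y.2⟩, ?_⟩
    simp
  have hR15 : Nat.card R = 2 ^ 15 := by
    rw [hR, Subgroup.card_map_of_injective K.subtype_injective, hcardRestrict RK, hRmap, hF16', ← hR,
      show big z Q ⊓ R = big z Q ⊓ K from le_antisymm (inf_le_inf_left _ hRK') (le_inf inf_le_left hQKR), hQK]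
    norm_num
  have hR2 : IsPGroup 2 R := IsPGroup.of_card hR15
  -- `K / R` is alternating
  haveI hFnorm : (F.subgroupOf (C.wC R₀ c)).Normal := ⟨fun f hf γ => by
    rw [Subgroup.mem_subgroupOf] at hf ⊢; exact hFn γ γ.2 f hf⟩
  obtain ⟨eA⟩ := hθ hF16' hFnorm
  let φA : K →* ↥(alternatingGroup (Fin 6)) := eA.toMonoidHom.comp ((QuotientGroup.mk' _).comp
    (φ.codRestrict (C.wC R₀ c) fun k => hrange ▸ ⟨k, rfl⟩))
  have hφAs : Function.Surjective φA := by
    refine eA.surjective.comp ((QuotientGroup.mk'_surjective _).comp fun γ => ?_)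
    obtain ⟨k, hk⟩ : (γ : _ ⧸ Q) ∈ φ.range := hrange.symm ▸ γ.2
    exact ⟨k, Subtype.ext hk⟩
  have hφAk : ∀ k, φA k = 1 ↔ k ∈ RK := fun k => by
    show eA _ = 1 ↔ _
    rw [MulEquiv.map_eq_one_iff]
    exact QuotientGroup.eq_one_iff _
  haveI : IsSimpleGroup ↥(alternatingGroup (Fin 6)) := alternatingGroup.isSimpleGroup (by simp)
  have hmax : ∀ N : Subgroup K, N.Normal → IsPGroup 2 N → N ≤ RK := by
    intro N hN hN2
    rcases (hN.map φA hφAs).eq_bot_or_eq_top with h | h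
    · intro k hk
      rw [← hφAk, ← Subgroup.mem_bot, ← h]
      exact Subgroup.mem_map_of_mem _ hk
    · exfalso
      obtain ⟨n, hn⟩ := IsPGroup.iff_card.1 (hN2.map φA)
      rw [h, Subgroup.card_top, C.card_a6 R₀] at hn
      exact absurd (Nat.Prime.dvd_of_dvd_pow Nat.prime_three (hn ▸ (by norm_num : 3 ∣ 360))) (by norm_num)
  -- the normalizer
  set N := Subgroup.normalizer (W : Set G) with hN
  let ψ : N →* MulAut W := W.normalizerMonoidHom
  have hψ : ∀ (n : N) (x : W), ((ψ n x : W) : G) = (n : G) * x * (n : G)⁻¹ := fun _ _ => rfl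
  have hψker : ∀ n : N, ψ n = 1 ↔ (n : G) ∈ K := fun n => by
    rw [← MonoidHom.mem_ker, Subgroup.normalizerMonoidHom_ker, Subgroup.mem_subgroupOf]
  have hKN : K ≤ N := fun x hx => Subgroup.centralizer_le_normalizer _ hx
  have hKn : ∀ n ∈ N, ∀ x ∈ K, n * x * n⁻¹ ∈ K := fun n hn x hx =>
    (hψker ⟨n * x * n⁻¹, mul_mem (mul_mem hn (hKN hx)) (inv_mem hn)⟩).1 (by
      rw [show (⟨n * x * n⁻¹, mul_mem (mul_mem hn (hKN hx)) (inv_mem hn)⟩ : N) =
        ⟨n, hn⟩ * ⟨x, hKN hx⟩ * ⟨n, hn⟩⁻¹ from rfl, map_mul, map_mul, (hψker ⟨x, hKN hx⟩).2 hx, mul_one,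
        map_inv, mul_inv_cancel])
  have hRn : ∀ n ∈ N, ∀ x ∈ R, n * x * n⁻¹ ∈ R := by
    intro n hn x hx
    let S : Subgroup K := (R.map (MulAut.conj n).toMonoidHom).subgroupOf K
    have hS : S.Normal := ⟨fun a ha b => by
      obtain ⟨r, hr, hra⟩ := ha
      have hb : n⁻¹ * (b : G) * n ∈ K := by
        have := hKn n⁻¹ (inv_mem hn) b b.2
        rwa [inv_inv] at this
      obtain ⟨rk, hrk, rfl⟩ := hr
      refine ⟨(n⁻¹ * (b : G) * n) * (rk : G) * (n⁻¹ * (b : G) * n)⁻¹, ⟨⟨_, hb⟩ * rk * ⟨_, hb⟩⁻¹, ?_, rfl⟩, ?_⟩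
      · rw [hRK]
        show φ _ ∈ F
        rw [map_mul, map_mul, map_inv]
        exact hFn _ (hrange ▸ ⟨_, rfl⟩) _ hrk
      · simp only [MulEquiv.coe_toMonoidHom, MulAut.conj_apply, Subgroup.subtype_apply, Subgroup.coe_mul,
          InvMemClass.coe_inv] at hra ⊢
        rw [← hra]; group⟩
    have hS2 : IsPGroup 2 S := (hR2.map _).comap_of_injective K.subtype K.subtype_injective
    exact ⟨⟨n * x * n⁻¹, hKn n hn x (hRK' hx)⟩, hmax S hS hS2 ⟨x, hx, rfl⟩, rfl⟩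
  haveI hRN : (R.subgroupOf N).Normal := ⟨fun r hr n => by
    rw [Subgroup.mem_subgroupOf] at hr ⊢
    exact hRn n n.2 r hr⟩
  -- generators modulo `K`
  have hQN : ∀ x ∈ big z Q, x ∈ N := fun x hx => by
    refine Subgroup.mem_normalizer_iff.2 fun y => ?_
    have hfix : ∀ a : G, a ∈ W → ∀ b ∈ big z Q, b * a * b⁻¹ ∈ W := fun a ha b hb => by
      rcases H.S.comm_z_left hb ((hW a).1 ha).1 with h | h
      · rwa [h, mul_inv_cancel_right]
      · rw [h, mul_assoc a b z, H.S.le_cent b hb, show a * (z * b) * b⁻¹ = a * z by group]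
        exact mul_mem ha hzW
    refine ⟨fun h => hfix y h x hx, fun h => ?_⟩
    have := hfix _ h x⁻¹ (inv_mem hx)
    rwa [show x⁻¹ * (x * y * x⁻¹) * x⁻¹⁻¹ = y by group] at this
  have hQgN : ∀ x ∈ Qg, x ∈ N := fun x hx => by
    refine Subgroup.mem_normalizer_iff.2 fun y => ?_
    have hfix : ∀ a : G, a ∈ W → ∀ b ∈ Qg, b * a * b⁻¹ ∈ W := fun a ha b hb => by
      rcases H.conjQ_comm hb (hWD ha).2 with h | h
      · rwa [h, mul_inv_cancel_right]
      · rcases H.conjQ_comm hb hsg with h' | h'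
        · rw [h, mul_assoc a b s, h', show a * (s * b) * b⁻¹ = a * s by group]
          exact mul_mem ha hsW
        · exfalso
          have hb' : g⁻¹ * b * g * z = z * (g⁻¹ * b * g) := H.S.le_cent _ (mem_conjQ.1 hb)
          have h3 : b * s = s * b := by
            calc b * s = g * (g⁻¹ * b * g * z) * g⁻¹ := by rw [hs]; group
              _ = s * b := by rw [hb', hs]; group
          rw [h3] at h'
          exact (H.s_facts hgne).1 (left_eq_mul.1 h')
    refine ⟨fun h => hfix y h x hx, fun h => ?_⟩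
    have := hfix _ h x⁻¹ (inv_mem hx)
    rwa [show x⁻¹ * (x * y * x⁻¹) * x⁻¹⁻¹ = y by group] at this
  obtain ⟨ωt, hωt⟩ := QuotientGroup.mk_surjective ω
  have hωz : (ωt : G) * z = z * ωt := Subgroup.mem_centralizer_singleton_iff.1 ωt.2
  have hωp : ∀ x ∈ big z Q, p ((ωt : G) * x * (ωt : G)⁻¹) = ω • p x := fun x hx => by
    rw [H.pact ωt x hx, hωt]; rfl
  have hωN : (ωt : G) ∈ N := by
    have hfix : ∀ a ∈ W, (ωt : G) * a * (ωt : G)⁻¹ ∈ W := fun a ha => by
      obtain ⟨haQ, k, hk⟩ := (hW a).1 ha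
      refine (hW _).2 ⟨H.S.normal _ hωz a haQ, wK * k, ?_⟩
      rw [hωp a haQ, ← hk, hκ, hκ, C.omega_sv R₀, smul_smul]
    rw [Subgroup.mem_normalizer_iff]
    intro y
    refine ⟨hfix y, fun h => ?_⟩
    have hinj : Function.Injective fun a : W => (⟨_, hfix a a.2⟩ : W) := fun a b e => by
      have := congrArg Subtype.val e
      exact Subtype.ext (mul_left_cancel (mul_right_cancel this))
    obtain ⟨a, ha⟩ := Finite.surjective_of_injective hinj ⟨_, h⟩
    have := congrArg Subtype.val ha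
    rw [← mul_left_cancel (mul_right_cancel this)]
    exact a.2
  let qt := QuotientGroup.mk' (R.subgroupOf N)
  let AK : Subgroup (N ⧸ R.subgroupOf N) := (K.subgroupOf N).map qt
  let C₀ : Subgroup N := (Subgroup.centralizer (AK : Set (N ⧸ R.subgroupOf N))).comap qt
  have hC₀ : ∀ n : N, (∀ x ∈ K, (n : G) * x * (n : G)⁻¹ * x⁻¹ ∈ R) → n ∈ C₀ := fun n h => by
    rw [Subgroup.mem_comap, Subgroup.mem_centralizer_iff]
    rintro _ ⟨k, hk, rfl⟩
    rw [eq_comm, ← mul_inv_eq_one, ← map_mul, ← map_mul, ← map_inv, ← map_mul]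
    refine (QuotientGroup.eq_one_iff _).2 ?_
    rw [Subgroup.mem_subgroupOf]
    have := h k hk
    simp only [Subgroup.coe_mul, InvMemClass.coe_inv, mul_inv_rev]
    rwa [← mul_assoc]
  have hC₀Q : ∀ x (hx : x ∈ big z Q), (⟨x, hQN x hx⟩ : N) ∈ C₀ := fun x hx => hC₀ _ fun y hy => hQKR
    ⟨by
      show x * y * x⁻¹ * y⁻¹ ∈ big z Q
      rw [show x * y * x⁻¹ * y⁻¹ = x * (y * x⁻¹ * y⁻¹) by group]
      exact mul_mem hx (H.S.normal y ((hK y).1 hy).1 _ (inv_mem hx)),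
    K.mul_mem (hKn x (hQN x hx) y hy) (K.inv_mem hy)⟩
  have hC₀g : ∀ x (hx : x ∈ Qg), (⟨x, hQgN x hx⟩ : N) ∈ C₀ := fun x hx => hC₀ _ fun y hy => hQgR
    ⟨by
      show x * y * x⁻¹ * y⁻¹ ∈ Qg
      rw [show x * y * x⁻¹ * y⁻¹ = x * (y * x⁻¹ * y⁻¹) by group]
      exact mul_mem hx (hKconj y hy _ (inv_mem hx)),
    K.mul_mem (hKn x (hQgN x hx) y hy) (K.inv_mem hy)⟩
  have hC₀ω : (⟨ωt, hωN⟩ : N) ∈ C₀ := hC₀ _ fun y hy => hQKR (by
    have hmemK : (ωt : G) * y * (ωt : G)⁻¹ * y⁻¹ ∈ K := mul_mem (hKn _ hωN y hy) (inv_mem hy)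
    refine ⟨?_, hmemK⟩
    show (ωt : G) * y * (ωt : G)⁻¹ * y⁻¹ ∈ big z Q
    refine (H.mk_one ⟨_, hKz hmemK⟩).1 ?_
    have hy' : φ ⟨y, hy⟩ * ω = ω * φ ⟨y, hy⟩ :=
      ((C.mem_wC R₀).1 (hrange ▸ ⟨_, rfl⟩ : φ ⟨y, hy⟩ ∈ C.wC R₀ c)).2
    rw [show (⟨(ωt : G) * y * (ωt : G)⁻¹ * y⁻¹, hKz hmemK⟩ : ↥(Subgroup.centralizer ({z} : Set G))) =
      ωt * ⟨y, hKz hy⟩ * ωt⁻¹ * ⟨y, hKz hy⟩⁻¹ from rfl]
    simp only [map_mul, map_inv, QuotientGroup.mk'_apply, hωt]
    rw [show QuotientGroup.mk (⟨y, hKz hy⟩ : ↥(Subgroup.centralizer ({z} : Set G))) = φ ⟨y, hy⟩ from rfl,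
      ← hy', mul_inv_cancel_right, mul_inv_cancel])
  -- transitivity
  set H₀ := C₀.map ψ with hH₀
  letI : MulAction H₀ W := MulAction.compHom W H₀.subtype
  have hact : ∀ (a : H₀) (x : W), a • x = (a : MulAut W) x := fun _ _ => rfl
  let zW : W := ⟨z, hzW⟩
  have horb : ∀ x : W, x ≠ 1 → x ∈ MulAction.orbit H₀ zW := by
    have hmove : ∀ (n : N), n ∈ C₀ → ∀ x : W, x ∈ MulAction.orbit H₀ zW →
        (⟨(n : G) * x * (n : G)⁻¹, (Subgroup.mem_normalizer_iff.1 n.2 x).1 x.2⟩ : W) ∈ MulAction.orbit H₀ zW := by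
      intro n hn x hx
      have := MulAction.mem_orbit_of_mem_orbit (⟨ψ n, Subgroup.mem_map_of_mem ψ hn⟩ : H₀) hx
      exact this
    have hz0 : ∀ x : W, (x : G) = z → x ∈ MulAction.orbit H₀ zW := fun x hx => by
      rw [show x = zW from Subtype.ext hx]; exact MulAction.mem_orbit_self _
    obtain ⟨q₁, hq₁, hq₁z⟩ := H.flip_conj hzg (fun e => H.S.ne_one e) (fun e => hgne e.symm)
    have hzs : (⟨z * s, mul_mem hzW hsW⟩ : W) ∈ MulAction.orbit H₀ zW := by
      have := hmove ⟨q₁, hQgN q₁ hq₁⟩ (hC₀g q₁ hq₁) zW (MulAction.mem_orbit_self _)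
      exact (show (⟨q₁ * z * q₁⁻¹, _⟩ : W) = ⟨z * s, mul_mem hzW hsW⟩ from Subtype.ext hq₁z) ▸ this
    have hclass : ∀ x : W, p (x : G) ≠ 0 → ∀ y : W, p (y : G) = p (x : G) → x ∈ MulAction.orbit H₀ zW →
        y ∈ MulAction.orbit H₀ zW := by
      intro x hx0 y hy hx
      rcases H.p_eq ((hW x).1 x.2).1 ((hW y).1 y.2).1 hy.symm with e | e
      · rwa [show y = x from Subtype.ext e]
      · obtain ⟨q, hq, hqx⟩ := H.exists_flip ((hW x).1 x.2).1
          (fun e => hx0 ((H.pzero _ ((hW x).1 x.2).1).2 (Or.inl e)))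
          (fun e => hx0 ((H.pzero _ ((hW x).1 x.2).1).2 (Or.inr e)))
        have := hmove ⟨q, hQN q hq⟩ (hC₀Q q hq) x hx
        exact (show (⟨q * x * q⁻¹, _⟩ : W) = y from Subtype.ext (hqx.trans e.symm)) ▸ this
    have hκ0 : ∀ k, k ≠ 0 → κ k ≠ 0 := fun k hk e => hk (hκinj (e.trans (map_zero κ).symm))
    have hk1 : ∀ y : W, p (y : G) = κ 1 → y ∈ MulAction.orbit H₀ zW := fun y hy => by
      have e : p (z * s) = κ 1 := by
        rw [H.pmul z H.S.mem s hgQ, H.pz, zero_add, hκ, one_smul, hpsw]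
      exact hclass ⟨z * s, mul_mem hzW hsW⟩ (by show p (z * s) ≠ 0; rw [e]; exact hκ0 1 one_ne_zero) y
        (hy.trans e.symm) hzs
    have hstep : ∀ k, k ≠ 0 → (∀ y : W, p (y : G) = κ k → y ∈ MulAction.orbit H₀ zW) →
        ∀ y : W, p (y : G) = κ (wK * k) → y ∈ MulAction.orbit H₀ zW := by
      intro k hk hprev y hy
      obtain ⟨x, hx, hpx⟩ := H.psurj (κ k)
      have hxW : x ∈ W := (hW x).2 ⟨hx, k, hpx.symm⟩
      have h1 := hmove ⟨ωt, hωN⟩ hC₀ω ⟨x, hxW⟩ (hprev ⟨x, hxW⟩ hpx)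
      have hp1 : p ((ωt : G) * x * (ωt : G)⁻¹) = κ (wK * k) := by
        rw [hωp x hx, hpx, hκ, hκ, C.omega_sv R₀, smul_smul]
      refine hclass _ ?_ y (hy.trans hp1.symm) h1
      show p ((ωt : G) * x * (ωt : G)⁻¹) ≠ 0
      rw [hp1]
      exact hκ0 _ (mul_ne_zero (by decide +kernel) hk)
    intro x hx
    obtain ⟨hxQ, k, hk⟩ := (hW x).1 x.2
    rcases scalar_cases k with rfl | rfl | rfl | rfl
    · rw [map_zero] at hk
      rcases (H.pzero _ hxQ).1 hk.symm with e | e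
      · exact absurd (Subtype.ext e) hx
      · exact hz0 x e
    · exact hk1 x hk.symm
    · exact hstep 1 one_ne_zero hk1 x (by rw [mul_one]; exact hk.symm)
    · refine hstep wK (by decide +kernel) (fun y hy => hstep 1 one_ne_zero hk1 y (by rw [mul_one]; exact hy)) x ?_
      rw [← hk]
      exact congrArg κ (by decide +kernel)
  have hstab : 12 ≤ Nat.card (MulAction.stabilizer H₀ zW) := by
    let f : big z Q →* MulAction.stabilizer H₀ zW :=
      MonoidHom.mk' (fun x => ⟨⟨ψ ⟨x, hQN x x.2⟩, Subgroup.mem_map_of_mem ψ (hC₀Q x x.2)⟩, Subtype.ext (by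
        show (x : G) * z * (x : G)⁻¹ = z
        rw [H.S.le_cent x x.2, mul_inv_cancel_right])⟩) fun a b => Subtype.ext (Subtype.ext (by
          show ψ _ = ψ _ * ψ _
          rw [← map_mul]; rfl))
    have hker : Nat.card f.ker = 2 ^ 11 := by
      rw [← hQK]
      exact Nat.card_congr
        { toFun := fun a => ⟨((a.1 : big z Q) : G), a.1.2, (hψker ⟨_, hQN _ a.1.2⟩).1
            (congrArg (fun t : MulAction.stabilizer H₀ zW => ((t : H₀) : MulAut W)) a.2)⟩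
          invFun := fun b => ⟨⟨b, b.2.1⟩, Subtype.ext (Subtype.ext ((hψker ⟨b, hQN _ b.2.1⟩).2 b.2.2))⟩
          left_inv := fun a => rfl
          right_inv := fun b => rfl }
    have h4 := Subgroup.card_mul_index f.ker
    rw [Subgroup.index_ker, hker, H.card] at h4
    have h4' : 4 ∣ Nat.card (MulAction.stabilizer H₀ zW) :=
      (show Nat.card f.range = 4 by omega) ▸ Subgroup.card_subgroup_dvd_card f.range
    let X : MulAction.stabilizer H₀ zW := ⟨⟨ψ ⟨ωt, hωN⟩, Subgroup.mem_map_of_mem ψ hC₀ω⟩, Subtype.ext (by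
      show (ωt : G) * z * (ωt : G)⁻¹ = z
      rw [hωz, mul_inv_cancel_right])⟩
    have hX3 : X ^ 3 ∈ f.range := by
      have hm : ωt ^ 3 ∈ Q := by
        rw [← QuotientGroup.eq_one_iff, QuotientGroup.mk_pow, hωt, R₀.ω3]
      refine ⟨⟨(ωt : G) ^ 3, ⟨ωt ^ 3, hm, rfl⟩⟩, Subtype.ext (Subtype.ext ?_)⟩
      show ψ _ = _
      rw [Subgroup.coe_pow, Subgroup.coe_pow, ← map_pow]
      rfl
    have hXn : X ∉ f.range := by
      rintro ⟨b, hb⟩
      have e : ψ ⟨b, hQN b b.2⟩ = ψ ⟨ωt, hωN⟩ :=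
        congrArg (fun t : MulAction.stabilizer H₀ zW => ((t : H₀) : MulAut W)) hb
      have hk := (hψker ((⟨b, hQN b b.2⟩ : N)⁻¹ * ⟨ωt, hωN⟩)).1 (by rw [map_mul, map_inv, e, inv_mul_cancel])
      have hmem : φ ⟨_, hk⟩ ∈ C.wC R₀ c := hrange ▸ ⟨_, rfl⟩
      have he : φ ⟨_, hk⟩ = ω := by
        show QuotientGroup.mk' Q (⟨(b : G), H.le b.2⟩⁻¹ * ωt) = ω
        rw [map_mul, map_inv, (H.mk_one ⟨(b : G), H.le b.2⟩).2 b.2, inv_one, one_mul]
        exact hωt
      rw [he] at hmem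
      have h1 := ((C.mem_wC R₀).1 hmem).1
      rw [C.omega_sv R₀] at h1
      have := congrFun (C.sv_inj R₀ h1) 0
      simp only [Pi.smul_apply, Pi.one_apply, smul_eq_mul, mul_one] at this
      exact absurd this (by decide +kernel)
    have h3 : 3 ∣ orderOf X := by
      by_contra h
      obtain ⟨m, hm⟩ := exists_pow_eq_self_of_coprime ((Nat.prime_three.coprime_iff_not_dvd).2 h)
      exact hXn (hm ▸ pow_mem hX3 m)
    have h3' := h3.trans (orderOf_dvd_natCard X)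
    exact Nat.le_of_dvd Nat.card_pos (Nat.Coprime.mul_dvd_of_dvd_of_dvd (by norm_num : Nat.Coprime 4 3) h4' h3')
  have hH84 : 84 ≤ Nat.card H₀ := by
    have h1 := Subgroup.card_mul_index (MulAction.stabilizer H₀ zW)
    rw [MulAction.index_stabilizer] at h1
    have h7 : 7 ≤ (MulAction.orbit H₀ zW).ncard := by
      have h2 := Set.ncard_le_ncard (s := {x : W | x ≠ 1}) (t := MulAction.orbit H₀ zW) horb (Set.toFinite _)
      have h8 : ({x : W | x ≠ 1}).ncard = 7 := by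
        have e : {x : W | x ≠ 1} = {(1 : W)}ᶜ := rfl
        have h := Set.ncard_add_ncard_compl {(1 : W)} (Set.toFinite _) (Set.toFinite _)
        rw [← e, Set.ncard_singleton, hW8'] at h
        omega
      omega
    rw [← h1]
    calc 84 = 12 * 7 := rfl
      _ ≤ _ := Nat.mul_le_mul hstab h7
  obtain ⟨M, hM⟩ := elementary_basis hWel (a := zW) (b := ⟨s, hsW⟩) (d := ⟨s', hs'W⟩) (by
    intro f f' e
    have e' : z ^ (f 0).val * s ^ (f 1).val * s' ^ (f 2).val = z ^ (f' 0).val * s ^ (f' 1).val * s' ^ (f' 2).val :=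
      congrArg Subtype.val e
    have hval : ∀ i : ZMod 2, i = 0 ∨ i = 1 := zmod_two_cases
    have hp : ∀ (i : ZMod 2) (x : G), x ∈ big z Q → p (x ^ i.val) = if i = 0 then 0 else p x := by
      intro i x hx
      rcases hval i with rfl | rfl
      · simp [(H.pzero 1 (one_mem _)).2 (Or.inl rfl)]
      · simp [ZMod.val_one]
    have hp3 : ∀ f : Fin 3 → ZMod 2, p (z ^ (f 0).val * s ^ (f 1).val * s' ^ (f 2).val) =
        κ ((if f 1 = 0 then 0 else 1) + (if f 2 = 0 then 0 else wK)) := by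
      intro f
      rw [H.pmul _ (mul_mem (pow_mem H.S.mem _) (pow_mem hgQ _)) _ (pow_mem hs'Q _),
        H.pmul _ (pow_mem H.S.mem _) _ (pow_mem hgQ _), hp _ _ H.S.mem, hp _ _ hgQ, hp _ _ hs'Q, H.pz,
        ite_self, zero_add, map_add, hps', hpsw, ← one_smul K4 (1 : Fin 6 → K4), ← hκ]
      split_ifs <;> simp
    have h12 := hκinj (((hp3 f).symm.trans (congrArg p e')).trans (hp3 f'))
    obtain ⟨e1, e2⟩ := basis_key _ _ _ _ h12
    rw [e1, e2] at e'
    have e0 := mul_right_cancel (mul_right_cancel e')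
    funext i
    fin_cases i
    · rcases hval (f 0) with a | a <;> rcases hval (f' 0) with b | b <;>
        simp [a, b, ZMod.val_one, H.S.ne_one, Ne.symm H.S.ne_one] at e0 ⊢
    · exact e1
    · exact e2) hW8'
  let θ₀ : N →* Matrix.SpecialLinearGroup (Fin 3) (ZMod 2) := M.comp ψ
  have hθ₀k : ∀ n, θ₀ n = 1 ↔ (n : G) ∈ K := fun n => by
    rw [← hψker]
    exact ⟨fun h => hM (h.trans M.map_one.symm), fun h => by show M (ψ n) = 1; rw [h, map_one]⟩
  have htop : C₀.map θ₀ = ⊤ := sl32_top _ (by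
    rw [← Subgroup.map_map, Subgroup.card_map_of_injective hM]; exact hH84)
  let θ : N ⧸ R.subgroupOf N →* Matrix.SpecialLinearGroup (Fin 3) (ZMod 2) :=
    QuotientGroup.lift _ θ₀ fun n hn => (hθ₀k n).2 (hRK' hn)
  have hθk : ∀ x, θ x = 1 ↔ x ∈ AK := fun x => by
    obtain ⟨n, rfl⟩ := QuotientGroup.mk'_surjective _ x
    show θ₀ n = 1 ↔ _
    rw [hθ₀k]
    refine ⟨fun h => ⟨n, h, rfl⟩, fun ⟨k, hk, e⟩ => ?_⟩
    have h2 : (k : G)⁻¹ * n ∈ R := (QuotientGroup.eq (s := R.subgroupOf N) (a := k) (b := n)).1 e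
    have := mul_mem (show (k : G) ∈ K from hk) (hRK' h2)
    rwa [mul_inv_cancel_left] at this
  let jK : K →* N ⧸ R.subgroupOf N := qt.comp (Subgroup.inclusion hKN)
  have hjR : ∀ k, jK k = 1 ↔ k ∈ RK := fun k => by
    refine (QuotientGroup.eq_one_iff _).trans ?_
    rw [Subgroup.mem_subgroupOf]
    exact ⟨fun ⟨r, hr, e⟩ => (Subtype.ext e : r = k) ▸ hr, fun h => ⟨k, h, rfl⟩⟩
  have hjrange : jK.range = AK := by
    ext x
    exact ⟨fun ⟨k, hk⟩ => ⟨⟨k, hKN k.2⟩, k.2, hk⟩, fun ⟨n, hn, e⟩ => ⟨⟨n, hn⟩, e⟩⟩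
  have hjker : jK.ker = φA.ker := by
    ext k; rw [MonoidHom.mem_ker, MonoidHom.mem_ker, hjR, hφAk]
  let eAK : AK ≃* ↥(alternatingGroup (Fin 6)) :=
    (MulEquiv.subgroupCongr hjrange.symm).trans ((QuotientGroup.quotientKerEquivRange jK).symm.trans
      ((QuotientGroup.quotientMulEquivOfEq hjker).trans (QuotientGroup.quotientKerEquivOfSurjective φA hφAs)))
  set Cq := Subgroup.centralizer (AK : Set (N ⧸ R.subgroupOf N)) with hCq
  have hdisj : ∀ x ∈ AK, x ∈ Cq → x = 1 := by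
    intro x hx hxc
    have hcen : eAK ⟨x, hx⟩ ∈ Subgroup.center ↥(alternatingGroup (Fin 6)) := Subgroup.mem_center_iff.2 fun a => by
      obtain ⟨y, rfl⟩ := eAK.surjective a
      rw [← map_mul, ← map_mul]
      exact congrArg eAK (Subtype.ext (Subgroup.mem_centralizer_iff.1 hxc y y.2))
    rw [alternatingGroup.center_eq_bot (by simp), Subgroup.mem_bot, MulEquiv.map_eq_one_iff] at hcen
    exact congrArg Subtype.val hcen
  have hθs : ∀ m, ∃ x ∈ Cq, θ x = m := fun m => by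
    obtain ⟨n, hn, rfl⟩ := (htop.symm ▸ Subgroup.mem_top m : m ∈ C₀.map θ₀)
    exact ⟨qt n, hn, rfl⟩
  let eC : Cq ≃* Matrix.SpecialLinearGroup (Fin 3) (ZMod 2) := MulEquiv.ofBijective (θ.comp Cq.subtype)
    ⟨(injective_iff_map_eq_one _).2 fun x hx => Subtype.ext (hdisj x ((hθk _).1 hx) x.2), fun m => by
      obtain ⟨x, hx, e⟩ := hθs m
      exact ⟨⟨x, hx⟩, e⟩⟩
  let μ : Cq × AK →* N ⧸ R.subgroupOf N := MonoidHom.mk' (fun x => (x.1 : N ⧸ R.subgroupOf N) * x.2) fun x y => by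
    have hc : (y.1 : N ⧸ R.subgroupOf N) * x.2 = x.2 * y.1 :=
      (Subgroup.mem_centralizer_iff.1 y.1.2 _ x.2.2).symm
    show (x.1 : N ⧸ R.subgroupOf N) * y.1 * (x.2 * y.2) = x.1 * x.2 * (y.1 * y.2)
    rw [mul_assoc, ← mul_assoc (y.1 : N ⧸ R.subgroupOf N), hc, mul_assoc, ← mul_assoc]
  have hμ : Function.Bijective μ := by
    constructor
    · rw [injective_iff_map_eq_one]
      rintro ⟨x, y⟩ h
      have h' : (x : N ⧸ R.subgroupOf N) = (y : N ⧸ R.subgroupOf N)⁻¹ := eq_inv_of_mul_eq_one_left h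
      have hy : y = 1 := Subtype.ext (hdisj y y.2 (by
        have := inv_mem (show (x : N ⧸ R.subgroupOf N) ∈ Cq from x.2)
        rwa [h', inv_inv] at this))
      subst hy
      rw [Subgroup.coe_one, inv_one] at h'
      exact Prod.ext (Subtype.ext h') rfl
    · intro x
      obtain ⟨y, hy, e⟩ := hθs (θ x)
      exact ⟨(⟨y, hy⟩, ⟨y⁻¹ * x, (hθk _).1 (by rw [map_mul, map_inv, e, inv_mul_cancel])⟩), mul_inv_cancel_left y x⟩
  -- the largest normal 2-subgroup
  have hcore : R = (Cfsg.pCore 2 ↥N).map N.subtype := by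
    have h1 : Cfsg.pCore 2 ↥N = R.subgroupOf N := by
      refine le_antisymm (sSup_le ?_) (le_sSup ⟨hRN, hR2.of_equiv (Subgroup.subgroupOfEquivOfLe (hRK'.trans hKN)).symm⟩)
      rintro P ⟨hP, hP2⟩
      have hPK : ∀ n ∈ P, (n : G) ∈ K := by
        letI : MulAction P W := MulAction.compHom W (ψ.comp P.subtype)
        have hmod := hP2.card_modEq_card_fixedPoints W
        obtain ⟨v, hv, hv1⟩ : ∃ v ∈ MulAction.fixedPoints P W, v ≠ 1 := by
          by_contra hc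
          push Not at hc
          have e : MulAction.fixedPoints P W = {1} :=
            Set.eq_singleton_iff_unique_mem.2 ⟨fun a => map_one (ψ a.1), hc⟩
          rw [e, hW8', Nat.card_coe_set_eq, Set.ncard_singleton] at hmod
          exact absurd hmod (by decide)
        intro n hn
        refine (hψker n).1 (MulEquiv.ext fun x => ?_)
        by_cases hx : x = 1
        · subst hx; exact map_one (ψ n)
        obtain ⟨a, ha⟩ := horb x hx
        obtain ⟨b, hb⟩ := horb v hv1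
        obtain ⟨m, hm, hmm⟩ := mul_mem a.2 (inv_mem b.2)
        have hxv : ψ m v = x := by
          rw [hmm, MulAut.mul_apply, ← ha, ← hb]
          show (a : MulAut W) ((b : MulAut W)⁻¹ ((b : MulAut W) zW)) = (a : MulAut W) zW
          simp
        have hc := hP.conj_mem n hn m⁻¹
        rw [inv_inv] at hc
        have hfix : ψ (m⁻¹ * n * m) v = v := hv ⟨_, hc⟩
        show ψ n x = x
        rw [← hxv]
        have e : ψ n (ψ m v) = ψ m (ψ (m⁻¹ * n * m) v) := by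
          simp only [← MulAut.mul_apply, ← map_mul]
          congr 2
          group
        rw [e, hfix]
      let S : Subgroup K := (P.map N.subtype).subgroupOf K
      have hS : S.Normal := ⟨fun a ha b => by
        obtain ⟨r, hr, hra⟩ := ha
        refine ⟨⟨b, hKN b.2⟩ * r * ⟨b, hKN b.2⟩⁻¹, hP.conj_mem r hr _, ?_⟩
        have e : (r : G) = (a : G) := hra
        simp [e]⟩
      have hS2 : IsPGroup 2 S := (hP2.map _).comap_of_injective K.subtype K.subtype_injective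
      intro n hn
      rw [Subgroup.mem_subgroupOf]
      exact ⟨⟨n, hPK n hn⟩, hmax S hS hS2 ⟨n, hn, rfl⟩, rfl⟩
    rw [h1, Subgroup.subgroupOf_map_subtype, inf_eq_left.2 (hRK'.trans hKN)]
  -- the special group
  have hWR : W ≤ R := fun x hx => hQKR ⟨((hW x).1 hx).1, Subgroup.mem_centralizer_iff.2 fun y hy =>
    (habD x (hWD hx) y (hWD hy)).symm⟩
  have hbilperp : ∀ x ∈ big z Q ⊓ K, ∃ v, C.sv R₀ c v = p x ∧ ∑ i, v i = 0 := by
    intro x hx
    obtain ⟨v, hv⟩ := C.sv_surj R₀ (c := c) (p x)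
    obtain ⟨-, b, d⟩ := (hK x).1 hx.2
    refine ⟨v, hv, C.perp_sum R₀ (c := c) ?_ ?_⟩
    · rw [hv, ← hpsw]; exact (hcommbil hx.1 hgQ).1 b
    · rw [hv, ← hκ, ← hps']; exact (hcommbil hx.1 hs'Q).1 d
  have hQKmem : ∀ v : Fin 6 → K4, ∑ i, v i = 0 → ∃ x ∈ big z Q ⊓ K, p x = C.sv R₀ c v := by
    intro v hv
    obtain ⟨x, hx, hpx⟩ := H.psurj (C.sv R₀ c v)
    refine ⟨x, ⟨hx, (hK x).2 ⟨H.S.le_cent x hx, (hcommbil hx hgQ).2 ?_, (hcommbil hx hs'Q).2 ?_⟩⟩, hpx⟩
    · rw [hpx, hpsw, ← one_smul K4 (1 : Fin 6 → K4)]; exact C.bil_const R₀ hv 1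
    · rw [hpx, hps', hκ]; exact C.bil_const R₀ hv wK
  have hFfix : ∀ e ∈ F, ∀ x ∈ big z Q ⊓ K, ∀ b : K, (b : G) ∈ Qg → φ b = e →
      (b : G) * x * (b : G)⁻¹ * x⁻¹ ∈ W := by
    intro e he x hx b hb hbe
    obtain ⟨hz', hs1, hs2⟩ := (hK x).1 hx.2
    have hbz : (b : G) * z = z * b := ((hK b).1 b.2).1
    have hconjD : ∀ y ∈ big z Q ⊓ K, p ((b : G) * y * (b : G)⁻¹) + p y ∈ D₀ := by
      intro y hy
      refine ⟨(b : G) * y * (b : G)⁻¹ * y, ⟨mul_mem (H.S.normal _ hbz y hy.1) hy.1, ?_⟩,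
        H.pmul _ (H.S.normal _ hbz y hy.1) _ hy.1⟩
      have hyy : y * y ∈ Qg := by
        rcases H.S.sq y hy.1 with h | h <;> rw [h]
        exacts [one_mem _, hzg]
      have h1 : (b : G) * (y * (b : G)⁻¹ * y⁻¹) ∈ Qg := mul_mem hb (hKconj y hy.2 _ (inv_mem hb))
      have h2 := mul_mem h1 hyy
      rwa [show (b : G) * (y * (b : G)⁻¹ * y⁻¹) * (y * y) = (b : G) * y * (b : G)⁻¹ * y by group] at h2
    obtain ⟨v, hv, hv0⟩ := hbilperp x hx
    obtain ⟨v', hv'⟩ := C.sv_surj R₀ (c := c) (e • C.sv R₀ c v)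
    have heY := (C.mem_wC R₀).1 (hFY he)
    obtain ⟨y, hy, hpy⟩ := hQKmem (wK • v) (by
      simp only [Pi.smul_apply, smul_eq_mul, ← Finset.mul_sum, hv0, mul_zero])
    have hx1 := hconjD x hx
    have hy1 := hconjD y hy
    rw [← hφp b x hx.1, hbe, ← hv, ← hv', ← map_add] at hx1
    rw [← hφp b y hy.1, hbe, hpy, C.smul_sv_smul R₀ heY.2 hv'.symm wK, ← map_add, ← smul_add] at hy1
    have hcon := C.const_of_omega R₀ D₀ hDinv hD64.le hx1 hy1
    have hcx : (b : G) * x * (b : G)⁻¹ ∈ big z Q := H.S.normal _ hbz x hx.1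
    refine (hW _).2 ⟨mul_mem hcx (inv_mem hx.1), (v' + v) 0, ?_⟩
    have hinv : p x⁻¹ = p x := by
      have h2 := H.pmul x hx.1 x⁻¹ (inv_mem hx.1)
      rw [mul_inv_cancel, (H.pzero 1 (one_mem _)).2 (Or.inl rfl)] at h2
      rw [eq_neg_of_add_eq_zero_right h2.symm]
      funext i; exact CharTwo.neg_eq _
    rw [hκ, ← hcon, H.pmul _ hcx _ (inv_mem hx.1), ← hφp b x hx.1, hbe, hinv, ← hv, ← hv', map_add]
  have hnorm1 : ∀ x ∈ R, ∀ y ∈ R, x * y * x⁻¹ * y⁻¹ ∈ W := by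
    let WR : Subgroup R := W.subgroupOf R
    haveI : WR.Normal := ⟨fun a ha b => by
      rw [Subgroup.mem_subgroupOf] at ha ⊢
      show (b : G) * a * (b : G)⁻¹ ∈ W
      rw [← Subgroup.mem_centralizer_iff.1 (hRK' b.2) _ ha, mul_inv_cancel_right]
      exact ha⟩
    have hmk : ∀ a b : R, ((a : G) * b * (a : G)⁻¹ * (b : G)⁻¹ ∈ W) ↔
        Commute (QuotientGroup.mk' WR a) (QuotientGroup.mk' WR b) := fun a b => by
      rw [commute_iff_eq, ← mul_inv_eq_one, ← map_mul, ← map_mul, ← map_inv, ← map_mul]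
      refine Iff.trans ?_ (QuotientGroup.eq_one_iff _).symm
      rw [Subgroup.mem_subgroupOf]
      simp [mul_assoc]
    intro x hx y hy
    obtain ⟨a, ha, b, hb, rfl⟩ := hdecomp x hx
    obtain ⟨a', ha', b', hb', rfl⟩ := hdecomp y hy
    have hQQ : ∀ a ∈ big z Q ⊓ K, ∀ a' ∈ big z Q ⊓ K, a * a' * a⁻¹ * a'⁻¹ ∈ W := fun a ha a' ha' => by
      rcases H.S.comm_z_left ha.1 ha'.1 with h | h
      · rw [h, mul_inv_cancel_right, mul_inv_cancel]; exact one_mem _
      · rw [h, mul_assoc (a' * a) z a⁻¹, ← H.S.le_cent a⁻¹ (inv_mem ha.1),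
          show a' * a * (a⁻¹ * z) * a'⁻¹ = a' * z * a'⁻¹ by group, H.S.le_cent a' ha'.1, mul_inv_cancel_right]
        exact hzW
    have hgg : ∀ a ∈ Qg ⊓ K, ∀ a' ∈ Qg ⊓ K, a * a' * a⁻¹ * a'⁻¹ ∈ W := fun a ha a' ha' => by
      rcases H.conjQ_comm ha.1 ha'.1 with h | h
      · rw [h, mul_inv_cancel_right, mul_inv_cancel]; exact one_mem _
      · have h1 := ((hK a).1 ha.2).2.1
        have h2 := ((hK a').1 ha'.2).2.1
        rw [h, ← hs, mul_assoc (a' * a) s a⁻¹, show s * a⁻¹ = a⁻¹ * s from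
          (show Commute a s from h1).inv_left.eq.symm,
          show a' * a * (a⁻¹ * s) * a'⁻¹ = a' * s * a'⁻¹ by group, h2, mul_inv_cancel_right]
        exact hsW
    have hgQ' : ∀ b ∈ Qg ⊓ K, ∀ a ∈ big z Q ⊓ K, b * a * b⁻¹ * a⁻¹ ∈ W := fun b hb a ha =>
      hFfix _ ⟨⟨b, hb.2⟩, hb.1, rfl⟩ a ha ⟨b, hb.2⟩ hb.1 rfl
    let A1 : R := ⟨a, hQKR ha⟩
    let B1 : R := ⟨b, hQgR hb⟩
    let A2 : R := ⟨a', hQKR ha'⟩
    let B2 : R := ⟨b', hQgR hb'⟩
    refine (hmk (A1 * B1) (A2 * B2)).2 ?_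
    rw [map_mul, map_mul]
    refine Commute.mul_left (Commute.mul_right ?_ ?_) (Commute.mul_right ?_ ?_)
    · exact (hmk A1 A2).1 (hQQ a ha a' ha')
    · exact ((hmk B2 A1).1 (hgQ' b' hb' a ha)).symm
    · exact (hmk B1 A2).1 (hgQ' b hb a' ha')
    · exact (hmk B1 B2).1 (hgg b hb b' hb')
  have hsqR : ∀ x ∈ R, x * x ∈ W := by
    intro x hx
    obtain ⟨a, ha, b, hb, rfl⟩ := hdecomp x hx
    have h1 : a * a ∈ W := by
      rcases H.S.sq a ha.1 with h | h <;> rw [h]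
      exacts [one_mem _, hzW]
    have h2 : b * b ∈ W := by
      rcases H.S.sq _ (mem_conjQ.1 hb.1) with h | h
      · rw [show b * b = g * ((g⁻¹ * b * g) * (g⁻¹ * b * g)) * g⁻¹ by group, h, mul_one, mul_inv_cancel]
        exact one_mem _
      · rw [show b * b = g * ((g⁻¹ * b * g) * (g⁻¹ * b * g)) * g⁻¹ by group, h, ← hs]
        exact hsW
    have hcm := hnorm1 b (hQgR hb) a (hQKR ha)
    have hcen : ∀ y ∈ W, Commute a y := fun y hy => (Subgroup.mem_centralizer_iff.1 ha.2 y hy).symm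
    rw [show a * b * (a * b) = a * (b * a * b⁻¹ * a⁻¹) * a * (b * b) by group, (hcen _ hcm).eq,
      mul_assoc (b * a * b⁻¹ * a⁻¹) a a]
    exact mul_mem (mul_mem hcm h1) h2
  have hcenter : (Subgroup.center ↥R).map R.subtype = W := by
    refine le_antisymm ?_ fun x hx => ⟨⟨x, hWR hx⟩, Subgroup.mem_center_iff.2 fun y => Subtype.ext
      ((Subgroup.mem_centralizer_iff.1 (hRK' y.2) x hx).symm), rfl⟩
    rintro _ ⟨x, hx, rfl⟩
    have hcomm : ∀ y ∈ big z Q ⊓ K, (x : G) * y = y * (x : G) := fun y hy =>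
      (congrArg Subtype.val (Subgroup.mem_center_iff.1 hx ⟨y, hQKR hy⟩)).symm
    have hφ1 : φ ⟨x, hRK' x.2⟩ = 1 := by
      have hY' := (C.mem_wC R₀).1 (hrange ▸ ⟨_, rfl⟩ : φ ⟨x, hRK' x.2⟩ ∈ C.wC R₀ c)
      refine C.fix_perp R₀ hne hY'.2 fun v hv => ?_
      obtain ⟨y, hy, hpy⟩ := hQKmem v hv
      rw [← hpy, hφp _ y hy.1, hcomm y hy, mul_inv_cancel_right]
    have hxQ : (x : G) ∈ big z Q := (hφk ⟨x, hRK' x.2⟩).1 hφ1
    obtain ⟨v, hv⟩ := C.sv_surj R₀ (c := c) (p (x : G))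
    refine (hW _).2 ⟨hxQ, v 0, ?_⟩
    have hconst : v = v 0 • (1 : Fin 6 → K4) := C.perp_const R₀ fun y hy => by
      obtain ⟨y', hy', hpy⟩ := hQKmem y hy
      rw [hv, ← hpy]
      exact (hcommbil hxQ hy'.1).1 (hcomm y' hy')
    rw [hκ, ← hconst, hv]
    rfl
  have hderiv : W ≤ (commutator ↥R).map R.subtype := by
    obtain ⟨a, ha, hpa⟩ := hQKmem (ind 0 1) (sum_ind 0 1 (by decide))
    obtain ⟨b, hb, hpb⟩ := hQKmem (wK • ind 1 2) (by
      simp only [Pi.smul_apply, smul_eq_mul, ← Finset.mul_sum, sum_ind 1 2 (by decide), mul_zero])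
    have hzc : z ∈ (commutator ↥R).map R.subtype := by
      refine ⟨(⟨a, hQKR ha⟩ : R) * ⟨b, hQKR hb⟩ * (⟨a, hQKR ha⟩ : R)⁻¹ * (⟨b, hQKR hb⟩ : R)⁻¹,
        Subgroup.commutator_mem_commutator (Subgroup.mem_top _) (Subgroup.mem_top _), ?_⟩
      show a * b * a⁻¹ * b⁻¹ = z
      have h := (H.S.comm_z_left ha.1 hb.1).resolve_left fun e => by
        have := (hcommbil ha.1 hb.1).1 e
        rw [hpa, hpb, hwit3] at this
        exact one_ne_zero this
      rw [h, mul_assoc (b * a) z a⁻¹, ← H.S.le_cent a⁻¹ (inv_mem ha.1),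
        show b * a * (a⁻¹ * z) * b⁻¹ = b * z * b⁻¹ by group, H.S.le_cent b hb.1, mul_inv_cancel_right]
    intro x hx
    by_cases hx1 : x = 1
    · rw [hx1]; exact one_mem _
    obtain ⟨a', ha'⟩ := horb ⟨x, hx⟩ fun e => hx1 (congrArg Subtype.val e)
    obtain ⟨n, hn, hnm⟩ := a'.2
    have hxe : (n : G) * z * (n : G)⁻¹ = x := by
      have h : (((a' : MulAut W) zW : W) : G) = x := congrArg Subtype.val ha'
      rw [← hnm] at h
      exact h
    let cn : R →* R := MonoidHom.mk' (fun r => ⟨(n : G) * r * (n : G)⁻¹, hRn n n.2 r r.2⟩) fun r r' =>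
      Subtype.ext (by simp [mul_assoc])
    obtain ⟨r, hr, hrz⟩ := hzc
    refine ⟨cn r, (Subgroup.map_commutator _ _ cn).le.trans (Subgroup.commutator_mono le_top le_top)
      (Subgroup.mem_map_of_mem cn hr), ?_⟩
    show (n : G) * (r : G) * (n : G)⁻¹ = x
    rw [show (r : G) = z from hrz, hxe]
  have hcomm2 : (commutator ↥R).map R.subtype ≤ W := by
    rw [Subgroup.map_le_iff_le_comap, commutator_def, Subgroup.commutator_le]
    intro a _ b _
    exact hnorm1 a a.2 b b.2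
  have hcW : commutator ↥R = Subgroup.center ↥R := by
    apply Subgroup.map_injective R.subtype_injective
    rw [hcenter]
    exact le_antisymm hcomm2 hderiv
  refine ⟨W, hWel, hW8', hzW, R, hcore, ⟨hR2, ?_, hcW⟩, hR15, hcenter, hRN,
    ⟨(MulEquiv.ofBijective μ hμ).symm.trans (eC.prodCongr eAK)⟩⟩
  haveI : Group.IsNilpotent ↥R := hR2.isNilpotent
  refine le_antisymm ?_ (hcW ▸ CfsgLib.Transfer.commutator_le_frattini)
  refine CfsgLib.Transfer.frattini_le_of_quotient_elementary (p := 2) _ hcW.le fun x => ?_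
  rw [← Subgroup.mem_map_iff_mem R.subtype_injective, hcenter, pow_two]
  exact hsqR x x.2

end Hyp

end CfsgLib.LargeFischer
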