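import Mathlib

/-!
Weights of a group of exponent three acting on an elementary abelian 2-group: the fixed spaces of distinct
subgroups of index three are independent.
-/

set_option autoImplicit false
set_option linter.unusedSectionVars false

namespace CfsgLib.LargeFischer

variable {Γ : Type*} [Group Γ] {V : Type*} [AddCommGroup V] [DistribMulAction Γ V]

/-- The fixed points of a subgroup. -/
def fix (K : Subgroup Γ) : AddSubgroup V where
  carrier := {v | ∀ k ∈ K, k • v = v}
  add_mem' {a b} ha hb k hk := by rw [smul_add, ha k hk, hb k hk]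
  zero_mem' k _ := smul_zero k
  neg_mem' {a} ha k hk := by rw [smul_neg, ha k hk]

theorem mem_fix {K : Subgroup Γ} {v : V} : v ∈ fix K ↔ ∀ k ∈ K, k • v = v := Iff.rfl

/-- `K` has index three in `A`. -/
structure Idx (A K : Subgroup Γ) : Prop where
  le : K ≤ A
  proper : ∃ a ∈ A, a ∉ K
  three : ∀ a ∈ A, a ∉ K → ∀ b ∈ A, b ∉ K → a * b ∈ K ∨ a * b⁻¹ ∈ K

theorem Idx.eq_of_le {A K L : Subgroup Γ} (hK : Idx A K) (hL : Idx A L) (h : K ≤ L) : K = L := by
  refine le_antisymm h fun x hx => ?_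
  by_contra hxK
  obtain ⟨b, hb, hbL⟩ := hL.proper
  rcases hK.three x (hL.le hx) hxK b hb fun hbK => hbL (h hbK) with h1 | h1
  · refine hbL ?_
    have := mul_mem (inv_mem hx) (h h1)
    rwa [inv_mul_cancel_left] at this
  · refine hbL ?_
    have := mul_mem (inv_mem (h h1)) hx
    rwa [show (x * b⁻¹)⁻¹ * x = b by group] at this

theorem Idx.conj {A K : Subgroup Γ} (hK : Idx A K) {t : Γ} (ht : ∀ x, x ∈ A ↔ t * x * t⁻¹ ∈ A) :
    Idx A (K.map (MulAut.conj t).toMonoidHom) := by
  have hmem : ∀ x, x ∈ K.map (MulAut.conj t).toMonoidHom ↔ t⁻¹ * x * t ∈ K := fun x => by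
    rw [Subgroup.mem_map_equiv, MulAut.conj_symm_apply]
  have hA : ∀ x, x ∈ A → t⁻¹ * x * t ∈ A := fun x hx => by
    rw [ht, show t * (t⁻¹ * x * t) * t⁻¹ = x by group]; exact hx
  refine ⟨fun x hx => ?_, ?_, fun a ha haK b hb hbK => ?_⟩
  · have := (ht _).1 (hK.le ((hmem x).1 hx))
    rwa [show t * (t⁻¹ * x * t) * t⁻¹ = x by group] at this
  · obtain ⟨a, ha, haK⟩ := hK.proper
    refine ⟨t * a * t⁻¹, (ht a).1 ha, fun h => haK ?_⟩
    rw [hmem, show t⁻¹ * (t * a * t⁻¹) * t = a by group] at h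
    exact h
  · rw [hmem] at haK hbK
    rcases hK.three _ (hA a ha) haK _ (hA b hb) hbK with h | h
    · exact Or.inl ((hmem _).2 (by rwa [show t⁻¹ * (a * b) * t = t⁻¹ * a * t * (t⁻¹ * b * t) by group]))
    · exact Or.inr ((hmem _).2 (by rwa [show t⁻¹ * (a * b⁻¹) * t = t⁻¹ * a * t * (t⁻¹ * b * t)⁻¹ by group]))

/-- `A` acts on `W` as an elementary abelian 3-group without non-zero fixed points. -/
structure FreeAct (A : Subgroup Γ) (W : AddSubgroup V) : Prop where
  two : ∀ v : V, v + v = 0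
  inv : ∀ a ∈ A, ∀ w ∈ W, a • w ∈ W
  comm : ∀ a ∈ A, ∀ b ∈ A, ∀ w ∈ W, a • b • w = b • a • w
  cube : ∀ a ∈ A, ∀ w ∈ W, a • a • a • w = w
  free : ∀ w ∈ W, (∀ a ∈ A, a • w = w) → w = 0

namespace FreeAct

variable {A : Subgroup Γ} {W : AddSubgroup V} (F : FreeAct A W)
include F

theorem neg_eq (v : V) : -v = v := neg_eq_of_add_eq_zero_left (F.two v)

theorem fixed_of {K : Subgroup Γ} (hK : Idx A K) {a : Γ} (ha : a ∈ A) (haK : a ∉ K) {w : V} (hw : w ∈ W)
    (hf : w ∈ fix K) (hfa : a • w = w) : w = 0 := by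
  refine F.free w hw fun b hb => ?_
  by_cases hbK : b ∈ K
  · exact hf b hbK
  rcases hK.three b hb hbK a ha haK with h | h
  · have := hf _ h
    rwa [mul_smul, hfa] at this
  · have := hf _ h
    rw [mul_smul, inv_smul_eq_iff.2 hfa.symm] at this
    exact this

theorem smul_mem_fix {K : Subgroup Γ} (hK : K ≤ A) {a : Γ} (ha : a ∈ A) {w : V} (hw : w ∈ W) (hf : w ∈ fix K) :
    a • w ∈ fix K := fun k hk => by rw [F.comm k (hK hk) a ha w hw, hf k hk]

theorem line_zero {K : Subgroup Γ} (hK : Idx A K) {a : Γ} (ha : a ∈ A) (haK : a ∉ K) {w : V} (hw : w ∈ W)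
    (hf : w ∈ fix K) : w + a • w + a • a • w = 0 := by
  have h1 := F.inv a ha w hw
  refine F.fixed_of hK ha haK (add_mem (add_mem hw h1) (F.inv a ha _ h1))
    (add_mem (add_mem hf (F.smul_mem_fix hK.le ha hw hf))
      (F.smul_mem_fix hK.le ha h1 (F.smul_mem_fix hK.le ha hw hf))) ?_
  rw [smul_add, smul_add, F.cube a ha w hw]
  abel

/-- Every non-zero invariant space carries a weight. -/
theorem exists_wt [Finite Γ] {w : V} (hw : w ∈ W) (hw0 : w ≠ 0) {W' : AddSubgroup V} (hW' : W' ≤ W)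
    (hwW' : w ∈ W') (hinv' : ∀ a ∈ A, ∀ v ∈ W', a • v ∈ W') :
    ∃ K, Idx A K ∧ ∃ v ∈ W', v ≠ 0 ∧ v ∈ fix K := by
  classical
  let S : Set (Subgroup Γ) := {K | K ≤ A ∧ ∃ v ∈ W', v ≠ 0 ∧ v ∈ fix K}
  obtain ⟨K, ⟨hKA, v, hv, hv0, hvK⟩, hmax⟩ := (Set.toFinite S).exists_maximal
    ⟨⊥, bot_le, w, hwW', hw0, fun k hk => by rw [Subgroup.mem_bot.1 hk, one_smul]⟩
  have hprop : ∃ a ∈ A, a ∉ K := by
    by_contra h
    push Not at h
    exact hv0 (F.free v (hW' hv) fun a ha => hvK a (h a ha))
  have hline : ∀ a ∈ A, a ∉ K → ∀ u ∈ W', u ∈ fix K → u + a • u + a • a • u = 0 := by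
    intro a ha haK u hu huK
    by_contra hne
    have h1 := hinv' a ha u hu
    have hm : u + a • u + a • a • u ∈ W' := add_mem (add_mem hu h1) (hinv' a ha _ h1)
    have hK' : K ⊔ Subgroup.zpowers a ∈ S := by
      refine ⟨sup_le hKA ((Subgroup.zpowers_le).2 ha), _, hm, hne, fun k hk => ?_⟩
      have hle : K ⊔ Subgroup.zpowers a ≤ MulAction.stabilizer Γ (u + a • u + a • a • u) := by
        refine sup_le (fun x hx => ?_) ((Subgroup.zpowers_le).2 ?_)
        · exact MulAction.mem_stabilizer_iff.2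
            ((add_mem (add_mem huK (F.smul_mem_fix hKA ha (hW' hu) huK))
              (F.smul_mem_fix hKA ha (hW' h1) (F.smul_mem_fix hKA ha (hW' hu) huK))) x hx)
        · rw [MulAction.mem_stabilizer_iff, smul_add, smul_add, F.cube a ha u (hW' hu)]
          abel
      exact MulAction.mem_stabilizer_iff.1 (hle hk)
    exact haK ((hmax hK' le_sup_left) (Subgroup.mem_sup_right (Subgroup.mem_zpowers a)))
  refine ⟨K, ⟨hKA, hprop, fun a ha haK b hb hbK => ?_⟩, v, hv, hv0, hvK⟩
  by_contra hcon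
  push Not at hcon
  obtain ⟨hab, hab'⟩ := hcon
  have hvW := hW' hv
  have la := hline a ha haK v hv hvK
  have lb := hline b hb hbK v hv hvK
  have lab := hline (a * b) (mul_mem ha hb) hab v hv hvK
  have lab' := hline (a * b⁻¹) (mul_mem ha (inv_mem hb)) hab' v hv hvK
  have bb : b⁻¹ • v = b • b • v := by rw [inv_smul_eq_iff, F.cube b hb v hvW]
  simp only [mul_smul] at lab lab'
  have c1 : a • b • a • b • v = a • a • b • b • v := by rw [F.comm b hb a ha _ (F.inv b hb v hvW)]
  rw [c1] at lab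
  have c2 : a • b⁻¹ • a • b⁻¹ • v = a • a • b • v := by
    rw [F.comm b⁻¹ (inv_mem hb) a ha _ (F.inv _ (inv_mem hb) v hvW), bb,
      inv_smul_eq_iff.2 (rfl : b • b • v = b • b • v)]
  rw [c2, bb] at lab'
  have ga := hline a ha haK (v + b • v + b • b • v) (add_mem (add_mem hv (hinv' b hb v hv))
    (hinv' b hb _ (hinv' b hb v hv))) (by rw [lb]; exact zero_mem _)
  simp only [smul_add] at ga
  apply hv0
  calc v = (v + a • v + a • a • v) + (v + b • v + b • b • v) + (v + a • b • v + a • a • b • b • v)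
      + (v + a • b • b • v + a • a • b • v) + (v + b • v + b • b • v + (a • v + a • b • v + a • b • b • v)
        + (a • a • v + a • a • b • v + a • a • b • b • v)) := by
        symm
        rw [show ∀ x y z p r s t u y' : V, (x + p + r) + (x + y + z) + (x + s + t) + (x + u + y') +
          (x + y + z + (p + s + u) + (r + y' + t)) = x + ((x + x) + (x + x) + (p + p) + (r + r) + (y + y) + (z + z)
            + (s + s) + (t + t) + (u + u) + (y' + y')) from fun x y z p r s t u y' => by abel]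
        simp [F.two]
    _ = 0 := by rw [ga, la, lb, lab, lab']; simp

/-- Independence of the weight spaces. -/
theorem indep (Ω : Finset (Subgroup Γ)) :
    ∀ f : Subgroup Γ → V, (∀ K ∈ Ω, Idx A K ∧ f K ∈ W ∧ f K ∈ fix K) → ∑ K ∈ Ω, f K = 0 →
      ∀ K ∈ Ω, f K = 0 := by
  classical
  induction Ω using Finset.induction_on with
  | empty => simp
  | insert L Ω hL ih =>
    intro f hf hsum
    rw [Finset.sum_insert hL] at hsum
    obtain ⟨hLi, hLW, hLf⟩ := hf L (Finset.mem_insert_self L Ω)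
    have key : ∀ K ∈ Ω, f K = 0 := by
      intro K hK
      obtain ⟨hKi, hKW, hKf⟩ := hf K (Finset.mem_insert_of_mem hK)
      have hne : ¬ L ≤ K := fun h => hL (by rw [hLi.eq_of_le hKi h]; exact hK)
      obtain ⟨a, haL, haK⟩ := SetLike.not_le_iff_exists.1 hne
      have haA := hLi.le haL
      have h0 := ih (fun M => f M + a • f M) (fun M hM => by
        obtain ⟨hMi, hMW, hMf⟩ := hf M (Finset.mem_insert_of_mem hM)
        exact ⟨hMi, add_mem hMW (F.inv a haA _ hMW), add_mem hMf (F.smul_mem_fix hMi.le haA hMW hMf)⟩) (by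
        rw [Finset.sum_add_distrib, ← Finset.smul_sum, eq_neg_of_add_eq_zero_right hsum, smul_neg,
          hLf a haL, ← neg_add, F.two, neg_zero]) K hK
      refine F.fixed_of hKi haA haK hKW hKf ?_
      rw [eq_neg_of_add_eq_zero_right h0, F.neg_eq]
    intro K hK
    rcases Finset.mem_insert.1 hK with rfl | hK
    · rwa [Finset.sum_eq_zero key, add_zero] at hsum
    · exact key K hK

/-- The sum map from the weight spaces. -/
noncomputable def sumHom (W : AddSubgroup V) (Ω : Finset (Subgroup Γ)) :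
    ((K : Ω) → ↥((fix (K : Subgroup Γ) : AddSubgroup V) ⊓ W)) →+ V :=
  AddMonoidHom.mk' (fun f => ∑ K, (f K : V)) fun f g => by simp [Finset.sum_add_distrib]

theorem sumHom_injective (Ω : Finset (Subgroup Γ)) (hΩ : ∀ K ∈ Ω, Idx A K) :
    Function.Injective (sumHom W Ω) := by
  classical
  rw [injective_iff_map_eq_zero]
  intro f hf
  let g : Subgroup Γ → V := fun K => if h : K ∈ Ω then (f ⟨K, h⟩ : V) else 0
  have hg : ∀ K : Ω, g K = f K := fun K => dif_pos K.2
  have := F.indep Ω g (fun K hK => by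
    refine ⟨hΩ K hK, ?_⟩
    rw [show g K = _ from hg ⟨K, hK⟩]
    exact ⟨(f ⟨K, hK⟩).2.2, (f ⟨K, hK⟩).2.1⟩) (by
    rw [← Finset.sum_coe_sort]
    exact (Finset.sum_congr rfl fun K _ => hg K).trans hf)
  funext K
  exact Subtype.ext ((hg K).symm.trans (this K K.2))

theorem four_le [Finite V] {K : Subgroup Γ} (hK : Idx A K) (hw : ∃ v ∈ W, v ≠ 0 ∧ v ∈ fix K) :
    4 ≤ Nat.card ↥((fix K : AddSubgroup V) ⊓ W) := by
  classical
  obtain ⟨v, hv, hv0, hvK⟩ := hw
  obtain ⟨a, ha, haK⟩ := hK.proper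
  have h1 := F.inv a ha v hv
  have h2 := F.inv a ha _ h1
  have f1 := F.smul_mem_fix hK.le ha hv hvK
  have f2 := F.smul_mem_fix hK.le ha h1 f1
  have hne : a • v ≠ v := fun e => hv0 (F.fixed_of hK ha haK hv hvK e)
  have e0 : a • v ≠ 0 := fun e => hv0 (by simpa using congrArg (fun x => a⁻¹ • x) e)
  have e1 : a • a • v ≠ a • v := fun e => hne (smul_left_cancel a e)
  have e2 : a • a • v ≠ v := fun e => hne (by
    have := congrArg (a • ·) e
    simp only [F.cube a ha v hv] at this
    exact this.symm)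
  have e3 : a • a • v ≠ 0 := fun e => e0 (by simpa using congrArg (fun x => a⁻¹ • x) e)
  let m : Fin 4 → ↥((fix K : AddSubgroup V) ⊓ W) :=
    ![0, ⟨v, hvK, hv⟩, ⟨a • v, f1, h1⟩, ⟨a • a • v, f2, h2⟩]
  have hm : Function.Injective m := by
    intro i j h
    have h' := congrArg Subtype.val h
    fin_cases i <;> fin_cases j <;> first
      | rfl
      | (simp [m] at h'; first
          | exact absurd h' hv0
          | exact absurd h'.symm hv0
          | exact absurd h' e0
          | exact absurd h'.symm e0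
          | exact absurd h' e3
          | exact absurd h'.symm e3
          | exact absurd h' hne
          | exact absurd h'.symm hne
          | exact absurd h' e1
          | exact absurd h'.symm e1
          | exact absurd h' e2
          | exact absurd h'.symm e2)
  simpa using Nat.card_le_card_of_injective m hm

theorem card_bound [Finite Γ] [Finite V] (Ω : Finset (Subgroup Γ))
    (hΩ : ∀ K ∈ Ω, Idx A K ∧ ∃ v ∈ W, v ≠ 0 ∧ v ∈ fix K) : 4 ^ Ω.card ≤ Nat.card W := by
  classical
  have hinj := F.sumHom_injective Ω fun K hK => (hΩ K hK).1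
  have hmem : ∀ f, sumHom W Ω f ∈ W := fun f => sum_mem fun K _ => (f K).2.2
  refine le_trans ?_ (Nat.card_le_card_of_injective (fun f => (⟨_, hmem f⟩ : W))
    fun f g h => hinj (congrArg Subtype.val h))
  rw [Nat.card_pi, ← Fintype.card_coe, ← Finset.card_univ, ← Finset.prod_const]
  exact Finset.prod_le_prod' fun K _ => F.four_le (hΩ K K.2).1 (hΩ K K.2).2

end FreeAct

/-- A simple group of order 360 acts trivially on at most five points. -/
theorem small_action_trivial {L : Type*} [Group L] [IsSimpleGroup L] (hL : Nat.card L = 360) {α : Type*}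
    [Finite α] (hα : Nat.card α ≤ 5) (f : L →* Equiv.Perm α) (l : L) : f l = 1 := by
  rcases f.normal_ker.eq_bot_or_eq_top with h | h
  · have h1 : Nat.card L ≤ Nat.card (Equiv.Perm α) :=
      Nat.card_le_card_of_injective _ ((MonoidHom.ker_eq_bot_iff f).1 h)
    rw [hL, Nat.card_perm] at h1
    have := Nat.factorial_le hα
    norm_num [Nat.factorial] at this
    omega
  · exact MonoidHom.mem_ker.1 (h ▸ Subgroup.mem_top l)

end CfsgLib.LargeFischer
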